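import Cfsg.Agent.Lib.ThreeTransp.Width1

/-!
# Solvability helpers: mutually normalising families, bounded derived series
-/

set_option autoImplicit false

open scoped Pointwise

namespace CfsgLib.ThreeTransp

variable {G : Type*} [Group G]

theorem isSolvable_mono {H K : Subgroup G} (h : H ≤ K) (hK : Group.IsSolvable K) :
    Group.IsSolvable H :=
  haveI := hK
  Group.isSolvable_of_isSolvable_injective (Subgroup.inclusion_injective h)

theorem isSolvable_sup_of_le_normalizer {H K : Subgroup G} (hH : Group.IsSolvable H)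
    (hK : Group.IsSolvable K) (hn : H ≤ Subgroup.normalizer (K : Set G)) :
    Group.IsSolvable (H ⊔ K : Subgroup G) := by
  haveI : (K.subgroupOf (H ⊔ K)).Normal :=
    Subgroup.normal_subgroupOf_of_le_normalizer (sup_le hn Subgroup.le_normalizer)
  refine (Group.isSolvable_iff_subgroup_quotient (K.subgroupOf (H ⊔ K))).mpr ⟨?_, ?_⟩
  · haveI := hK
    exact Group.isSolvable_of_isSolvable_injective
      (f := (Subgroup.subgroupOfEquivOfLe (le_sup_right : K ≤ H ⊔ K)).toMonoidHom)
      (Subgroup.subgroupOfEquivOfLe _).injective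
  · haveI := hH
    refine Group.isSolvable_of_surjective
      (f := (QuotientGroup.mk' (K.subgroupOf (H ⊔ K))).comp
        (Subgroup.inclusion (le_sup_left : H ≤ H ⊔ K))) ?_
    intro z
    obtain ⟨⟨x, hx⟩, rfl⟩ := QuotientGroup.mk'_surjective _ z
    have hx' : x ∈ (H : Set G) * (K : Set G) := by
      rw [← Subgroup.coe_mul_of_left_le_normalizer_right H K hn]
      exact hx
    obtain ⟨h, hh, k, hk, rfl⟩ := hx'
    refine ⟨⟨h, hh⟩, ?_⟩
    simp only [MonoidHom.comp_apply, QuotientGroup.mk'_apply, QuotientGroup.eq]
    rw [Subgroup.mem_subgroupOf]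
    simpa [Subgroup.inclusion] using hk

theorem isSolvable_iSup_finset {ι : Type*} (Q : ι → Subgroup G) (F : Finset ι)
    (hs : ∀ i ∈ F, Group.IsSolvable (Q i))
    (hn : ∀ i ∈ F, ∀ j ∈ F, Q i ≤ Subgroup.normalizer (Q j : Set G)) :
    Group.IsSolvable (⨆ i ∈ F, Q i : Subgroup G) := by
  classical
  induction F using Finset.induction_on with
  | empty =>
    have : (⨆ i ∈ (∅ : Finset ι), Q i : Subgroup G) = ⊥ := by simp
    rw [this]
    infer_instance
  | insert a s ha ih =>
    rw [Finset.iSup_insert, sup_comm]
    refine isSolvable_sup_of_le_normalizer (ih (fun i hi => hs i (Finset.mem_insert_of_mem hi))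
      fun i hi j hj => hn i (Finset.mem_insert_of_mem hi) j (Finset.mem_insert_of_mem hj))
      (hs a (Finset.mem_insert_self a s)) (iSup₂_le fun i hi => ?_)
    exact hn i (Finset.mem_insert_of_mem hi) a (Finset.mem_insert_self a s)

/-- Finitely many normal subgroups with solvable quotient contain a common derived subgroup. -/
theorem exists_derivedSeries_le {ι : Type*} (F : Finset ι) (N : ι → Subgroup G)
    [∀ i, (N i).Normal] (h : ∀ i ∈ F, Group.IsSolvable (G ⧸ N i)) :
    ∃ n : ℕ, ∀ i ∈ F, derivedSeries G n ≤ N i := by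
  classical
  induction F using Finset.induction_on with
  | empty => exact ⟨0, by simp⟩
  | insert a s ha ih =>
    obtain ⟨n, hn⟩ := ih fun i hi => h i (Finset.mem_insert_of_mem hi)
    obtain ⟨⟨m, hm⟩⟩ := h a (Finset.mem_insert_self a s)
    refine ⟨max n m, fun i hi => ?_⟩
    rcases Finset.mem_insert.mp hi with rfl | hi
    · refine (derivedSeries_antitone G (le_max_right n m)).trans fun x hx => ?_
      have := map_derivedSeries_le_derivedSeries (QuotientGroup.mk' (N i)) m ⟨x, hx, rfl⟩
      rw [hm, Subgroup.mem_bot] at this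
      exact (QuotientGroup.eq_one_iff x).mp this
    · exact (derivedSeries_antitone G (le_max_left n m)).trans (hn i hi)

/-- An involution-stable closure: closure of a conjugation-invariant set is normal. -/
theorem normal_closure_of_invariant {T : Set G} (h : ∀ g : G, ∀ t ∈ T, g * t * g⁻¹ ∈ T) :
    (Subgroup.closure T).Normal := by
  constructor
  intro x hx g
  have : Subgroup.closure T ≤ (Subgroup.closure T).comap (MulAut.conj g).toMonoidHom := by
    rw [Subgroup.closure_le]
    exact fun t ht => Subgroup.subset_closure (h g t ht)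
  exact this hx

theorem eq_bot_of_solvable_normal (hsol : ∀ N : Subgroup G, N.Normal → Group.IsSolvable N → N = ⊥)
    {N : Subgroup G} (hN : N.Normal) (hs : Group.IsSolvable N) {x : G} (hx : x ∈ N) : x = 1 := by
  rw [hsol N hN hs, Subgroup.mem_bot] at hx
  exact hx

end CfsgLib.ThreeTransp
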