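import Mathlib
import Cfsg.Agent.Lib.SporMisc.S4Hom
import Cfsg.Agent.Lib.Classical.SmallIso.SUThreeTwo

/-!
Three involutions with pairwise products of order dividing 3 and `(d efe)³ = 1` generate a group of
order at most 54; the derived group of `SU₃(2)` is such a group of order 54.
-/

set_option linter.style.haveILetI false
set_option linter.unusedSectionVars false

namespace CfsgLib.ThreeTransp.Affine54

open Subgroup Cfsg

variable {M : Type*} [Group M]

/-- The relations. -/
structure Rels (d e f : M) : Prop where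
  sd : d * d = 1
  se : e * e = 1
  sf : f * f = 1
  de : (d * e) ^ 3 = 1
  df : (d * f) ^ 3 = 1
  ef : (e * f) ^ 3 = 1
  cross : (d * (e * f * e)) ^ 3 = 1

theorem braid_of_cube {a b : M} (ha : a * a = 1) (hb : b * b = 1) (h : (a * b) ^ 3 = 1) :
    a * b * a = b * a * b := by
  have hai := inv_eq_of_mul_eq_one_right ha
  have hbi := inv_eq_of_mul_eq_one_right hb
  have h' : (a * b * a) * (b * a * b) = 1 := by
    rw [← h, pow_succ, pow_two]; group
  rw [mul_eq_one_iff_eq_inv] at h'
  rw [h', mul_inv_rev, mul_inv_rev, hai, hbi, mul_assoc]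

/-- The first translation. -/
def tr (d e f : M) : M := d * (e * f * e)

/-- The second translation. -/
def tr' (d e f : M) : M := e * tr d e f * e

theorem closure_le_54 {d e f : M} (h : Rels d e f) :
    ((closure ({d, e, f} : Set M) : Subgroup M) : Set M).Finite ∧
      ((closure ({d, e, f} : Set M) : Subgroup M) : Set M).ncard ≤ 54 := by
  obtain ⟨sd, se, sf, cde, cdf, cef, ccr⟩ := h
  have bde := braid_of_cube sd se cde
  have bdf := braid_of_cube sd sf cdf
  have bef := braid_of_cube se sf cef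
  have hdi := inv_eq_of_mul_eq_one_right sd
  have hei := inv_eq_of_mul_eq_one_right se
  have hfi := inv_eq_of_mul_eq_one_right sf
  obtain ⟨g, hg⟩ : ∃ g, g = e * f * e := ⟨_, rfl⟩
  have sg : g * g = 1 := by
    rw [hg, show e * f * e * (e * f * e) = e * f * (e * e) * f * e by group, se, mul_one,
      show e * f * f * e = e * (f * f) * e by group, sf, mul_one, se]
  have hgi := inv_eq_of_mul_eq_one_right sg
  obtain ⟨t, ht⟩ : ∃ t, t = d * g := ⟨_, rfl⟩
  obtain ⟨u, hu⟩ : ∃ u, u = e * t * e := ⟨_, rfl⟩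
  have t3 : t ^ 3 = 1 := by rw [ht, hg]; exact ccr
  have u3 : u ^ 3 = 1 := by
    rw [hu]
    calc (e * t * e) ^ 3 = (e * t * e⁻¹) ^ 3 := by rw [hei]
      _ = 1 := by rw [conj_pow, t3, mul_one, mul_inv_cancel]
  have hgtg : g * t * g = t⁻¹ := by
    calc g * t * g = g * d * (g * g) := by rw [ht]; group
      _ = g⁻¹ * d⁻¹ := by rw [sg, mul_one, hgi, hdi]
      _ = t⁻¹ := by rw [ht]; group
  have hu1 : u = e * d * e * f := by
    calc u = e * d * e * f * (e * e) := by rw [hu, ht, hg]; group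
      _ = e * d * e * f := by rw [se, mul_one]
  have hgug : g * u * g = t⁻¹ * u := by
    have key : d * u * g = u := by
      calc d * u * g = (d * e * d) * e * f * g := by rw [hu1]; group
        _ = e * d * (e * e) * f * g := by rw [← braid_of_cube se sd (by
              rw [← hei, ← hdi, ← mul_inv_rev, inv_pow, cde, inv_one])]; group
        _ = e * d * f * g := by rw [se, mul_one]
        _ = e * d * (f * f) * e * f := by
          rw [show g = f * e * f by rw [hg, bef]]; group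
        _ = u := by rw [sf, mul_one, hu1]
    calc g * u * g = (g * d) * (d * u * g) := by
          rw [show (g * d) * (d * u * g) = g * (d * d) * u * g by group, sd, mul_one]
      _ = t⁻¹ * u := by
          rw [key, ht, mul_inv_rev, hgi, hdi]
  have hcomm : t * u = u * t := by
    have e1 : u * t = d * e * f * d * e * f := by
      calc u * t = e * d * e * f * d * e * f * e := by rw [hu1, ht, hg]; group
        _ = (e * d * e) * f * d * e * f * e := rfl
        _ = d * e * (d * f * d) * e * f * e := by rw [← bde]; group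
        _ = d * e * f * d * (f * e * f) * e := by rw [bdf]; group
        _ = d * e * f * d * e * f * (e * e) := by rw [← bef]; group
        _ = _ := by rw [se, mul_one]
    have e2 : t * u = d * e * f * d * e * f := by
      calc t * u = d * e * f * (e * e) * d * e * f := by rw [hu1, ht, hg]; group
        _ = _ := by rw [se, mul_one]
    rw [e1, e2]
  have hete : e * t * e = u := hu.symm
  have heue : e * u * e = t := by
    calc e * u * e = (e * e) * t * (e * e) := by rw [hu]; group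
      _ = t := by rw [se]; simp
  have hfe : f = e * g * e := by
    calc f = (e * e) * f * (e * e) := by rw [se]; simp
      _ = e * g * e := by rw [hg]; group
  have hftf : f * t * f = u⁻¹ * t := by
    calc f * t * f = e * (g * (e * t * e) * g) * e := by rw [hfe]; group
      _ = e * (t⁻¹ * u) * e := by rw [hete, hgug]
      _ = (e * t * e)⁻¹ * (e * u * e) := by
        rw [mul_inv_rev, mul_inv_rev, hei,
          show e * (t⁻¹ * e) * (e * u * e) = e * t⁻¹ * (e * e) * u * e by group, se, mul_one]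
        group
      _ = u⁻¹ * t := by rw [hete, heue]
  have hfuf : f * u * f = u⁻¹ := by
    calc f * u * f = e * (g * (e * u * e) * g) * e := by rw [hfe]; group
      _ = e * t⁻¹ * e := by rw [heue, hgtg]
      _ = (e * t * e)⁻¹ := by rw [mul_inv_rev, mul_inv_rev, hei, mul_assoc]
      _ = u⁻¹ := by rw [hete]
  -- the translation subgroup
  obtain ⟨T, hT⟩ : ∃ T, T = closure ({t, u} : Set M) := ⟨_, rfl⟩
  obtain ⟨K, hK⟩ : ∃ K, K = closure ({e, f} : Set M) := ⟨_, rfl⟩
  have htT : t ∈ T := hT ▸ subset_closure (by simp)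
  have huT : u ∈ T := hT ▸ subset_closure (by simp)
  have hTS : (T : Set M) ⊆ Set.range fun p : Fin 3 × Fin 3 => t ^ p.1.val * u ^ p.2.val := by
    intro x hx
    have hx' : x ∈ closure ({t, u} : Set M) := hT ▸ hx
    suffices ∃ i j : ℕ, x = t ^ i * u ^ j by
      obtain ⟨i, j, rfl⟩ := this
      exact ⟨(⟨i % 3, Nat.mod_lt _ (by norm_num)⟩, ⟨j % 3, Nat.mod_lt _ (by norm_num)⟩), by
        show t ^ (i % 3) * u ^ (j % 3) = _
        rw [← pow_eq_pow_mod i t3, ← pow_eq_pow_mod j u3]⟩
    have hc : Commute t u := hcomm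
    induction hx' using closure_induction with
    | mem y hy =>
      rcases hy with rfl | rfl
      exacts [⟨1, 0, by simp⟩, ⟨0, 1, by simp⟩]
    | one => exact ⟨0, 0, by simp⟩
    | mul a b ha hb iha ihb =>
      obtain ⟨i, j, rfl⟩ := iha (hT ▸ ha)
      obtain ⟨k, l, rfl⟩ := ihb (hT ▸ hb)
      refine ⟨i + k, j + l, ?_⟩
      rw [pow_add, pow_add, mul_assoc (t ^ i), ← mul_assoc (u ^ j), ← (hc.pow_pow k j).eq]
      group
    | inv a ha iha =>
      obtain ⟨i, j, rfl⟩ := iha (hT ▸ ha)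
      refine ⟨2 * i, 2 * j, inv_eq_of_mul_eq_one_right ?_⟩
      rw [mul_assoc (t ^ i), ← mul_assoc (u ^ j), ← (hc.pow_pow (2 * i) j).eq,
        show t ^ i * (t ^ (2 * i) * u ^ j * u ^ (2 * j)) = (t ^ i * t ^ (2 * i)) * (u ^ j * u ^ (2 * j)) by group,
        ← pow_add, ← pow_add, show i + 2 * i = 3 * i by ring, show j + 2 * j = 3 * j by ring, pow_mul,
        pow_mul, t3, u3, one_pow, one_pow, one_mul]
  have hKS : (K : Set M) ⊆ Set.range (CfsgLib.SporMisc.wordK e f) := by
    intro x hx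
    have hx' : x ∈ closure ({e, f} : Set M) := hK ▸ hx
    have hinv : ∀ v ∈ ({e, f} : Set M), v⁻¹ = v := by
      rintro v (rfl | rfl)
      exacts [hei, hfi]
    have hstep : ∀ w ∈ Set.range (CfsgLib.SporMisc.wordK e f), ∀ v ∈ ({e, f} : Set M),
        w * v ∈ Set.range (CfsgLib.SporMisc.wordK e f) := by
      rintro _ ⟨i, rfl⟩ v hv
      obtain ⟨⟨j, hj⟩, ⟨j', hj'⟩⟩ := CfsgLib.SporMisc.wordK_mul_gen se sf bef i
      rcases hv with rfl | rfl
      exacts [⟨j, hj⟩, ⟨j', hj'⟩]
    induction hx' using Subgroup.closure_induction_right with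
    | one => exact ⟨0, by simp [CfsgLib.SporMisc.wordK]⟩
    | mul_right v hv w hw ih => exact hstep _ (ih (hK ▸ hv)) _ hw
    | mul_inv_cancel v hv w hw ih => rw [hinv w hw]; exact hstep _ (ih (hK ▸ hv)) _ hw
  have hmapT : ∀ s ∈ ({e, f} : Set M), ∀ x ∈ T, s * x * s ∈ T := by
    intro s hs x hx
    have hsi : s⁻¹ = s := by
      rcases hs with rfl | rfl
      exacts [hei, hfi]
    have hle : T.map (MulAut.conj s).toMonoidHom ≤ T := by
      rw [hT, MonoidHom.map_closure, closure_le]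
      rintro _ ⟨y, hy, rfl⟩
      show s * y * s⁻¹ ∈ closure ({t, u} : Set M)
      rw [hsi, ← hT]
      rcases hs with rfl | rfl <;> rcases hy with rfl | rfl
      · rw [hete]; exact huT
      · rw [heue]; exact htT
      · rw [hftf]; exact mul_mem (inv_mem huT) htT
      · rw [hfuf]; exact inv_mem huT
    have := hle ⟨x, hx, rfl⟩
    change s * x * s⁻¹ ∈ T at this
    rwa [hsi] at this
  have hKN : K ≤ normalizer (T : Set M) := by
    rw [hK, closure_le]
    intro s hs
    rw [SetLike.mem_coe, mem_normalizer_iff]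
    have hss : s * s = 1 := by
      rcases hs with rfl | rfl
      exacts [se, sf]
    intro x
    rw [inv_eq_of_mul_eq_one_right hss]
    refine ⟨hmapT s hs x, fun hx => ?_⟩
    have := hmapT s hs _ hx
    rwa [show s * (s * x * s) * s = (s * s) * x * (s * s) by group, hss, one_mul, mul_one] at this
  have hle : closure ({d, e, f} : Set M) ≤ T ⊔ K := by
    rw [closure_le]
    have hgK : g ∈ K := hg ▸ hK ▸ mul_mem (mul_mem (subset_closure (by simp)) (subset_closure (by simp)))
      (subset_closure (by simp))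
    rintro x (rfl | rfl | rfl)
    · have : t * g = x := by rw [ht, mul_assoc, sg, mul_one]
      exact this ▸ mul_mem (mem_sup_left htT) (mem_sup_right hgK)
    · exact mem_sup_right (hK ▸ subset_closure (by simp))
    · exact mem_sup_right (hK ▸ subset_closure (by simp))
  have hsub : ((closure ({d, e, f} : Set M) : Subgroup M) : Set M) ⊆
      Set.range fun p : (Fin 3 × Fin 3) × Fin 6 =>
        t ^ p.1.1.val * u ^ p.1.2.val * CfsgLib.SporMisc.wordK e f p.2 := by
    intro x hx
    have hx' := hle hx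
    rw [← SetLike.mem_coe, coe_mul_of_right_le_normalizer_left T K hKN, Set.mem_mul] at hx'
    obtain ⟨a, ha, b, hb, rfl⟩ := hx'
    obtain ⟨p, rfl⟩ := hTS ha
    obtain ⟨i, rfl⟩ := hKS hb
    exact ⟨(p, i), rfl⟩
  refine ⟨(Set.finite_range _).subset hsub, ?_⟩
  refine (Set.ncard_le_ncard hsub (Set.finite_range _)).trans ?_
  rw [← Set.image_univ]
  exact (Set.ncard_image_le Set.finite_univ).trans (by rw [Set.ncard_univ]; simp)

theorem card_le {d e f : M} (h : Rels d e f) (htop : closure ({d, e, f} : Set M) = ⊤) :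
    Nat.card M ≤ 54 := by
  have := (closure_le_54 h).2
  rwa [htop, coe_top, Set.ncard_univ] at this

theorem bij_of_surj {A C : Type*} [Group A] [Group C] (π : A →* C) {Γ : Subgroup A} [Finite Γ]
    {R : Set A} (hΓ : Γ = closure R) (hcard : (Γ : Set A).ncard ≤ 54) {S : Set C} (hS : closure S = ⊤)
    (hsub : S ⊆ π '' R) (hC : Nat.card C = 54) : Function.Bijective (π.comp Γ.subtype) := by
  have hsurj : Function.Surjective (π.comp Γ.subtype) := by
    rw [← MonoidHom.range_eq_top, MonoidHom.range_comp, range_subtype, hΓ, MonoidHom.map_closure,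
      eq_top_iff, ← hS]
    exact closure_mono hsub
  refine (Nat.bijective_iff_surjective_and_card _).2 ⟨hsurj, le_antisymm ?_
    (Nat.card_le_card_of_surjective _ hsurj)⟩
  rw [hC]
  exact le_of_eq_of_le (Nat.card_coe_set_eq _) hcard

/-- Two groups of order 54 generated by such triples are isomorphic. -/
theorem iso_of_triples {A B : Type*} [Group A] [Group B] {d e f : A} (h : Rels d e f)
    (htop : closure ({d, e, f} : Set A) = ⊤) (hA : Nat.card A = 54) {d' e' f' : B} (h' : Rels d' e' f')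
    (htop' : closure ({d', e', f'} : Set B) = ⊤) (hB : Nat.card B = 54) : Nonempty (A ≃* B) := by
  obtain ⟨Γ, hΓ⟩ : ∃ Γ, Γ = closure ({(d, d'), (e, e'), (f, f')} : Set (A × B)) := ⟨_, rfl⟩
  obtain ⟨hfin, hcard⟩ := closure_le_54 (d := (d, d')) (e := (e, e')) (f := (f, f'))
    ⟨Prod.ext h.sd h'.sd, Prod.ext h.se h'.se, Prod.ext h.sf h'.sf, Prod.ext h.de h'.de,
      Prod.ext h.df h'.df, Prod.ext h.ef h'.ef, Prod.ext h.cross h'.cross⟩
  rw [← hΓ] at hfin hcard
  haveI : Finite Γ := hfin.to_subtype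
  have h1 := bij_of_surj (MonoidHom.fst A B) hΓ hcard htop (by rintro x (rfl | rfl | rfl) <;> simp) hA
  have h2 := bij_of_surj (MonoidHom.snd A B) hΓ hcard htop' (by rintro x (rfl | rfl | rfl) <;> simp) hB
  exact ⟨(MulEquiv.ofBijective _ h1).symm.trans (MulEquiv.ofBijective _ h2)⟩

/-- A group of order 6 with two distinct involutions is symmetric of degree 3. -/
theorem iso_perm_three {A : Type*} [Group A] (hA : Nat.card A = 6) {a b : A} (ha : a * a = 1)
    (ha1 : a ≠ 1) (hab : (a * b) ^ 3 = 1) (hb : b * b = 1) (hne : a ≠ b) :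
    Nonempty (A ≃* Equiv.Perm (Fin 3)) := by
  haveI : Finite A := Nat.finite_of_card_ne_zero (by omega)
  have hcard2 : Nat.card (zpowers a) = 2 := by
    rw [Nat.card_zpowers]; exact orderOf_eq_prime (by rw [pow_two, ha]) ha1
  have hidx : Nat.card (A ⧸ zpowers a) = 3 := by
    have := (zpowers a).card_eq_card_quotient_mul_card_subgroup
    rw [hA, hcard2] at this
    omega
  have hker : (MulAction.toPermHom A (A ⧸ zpowers a)).ker = ⊥ := by
    rw [← normalCore_eq_ker, eq_bot_iff]
    intro x hx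
    have hxa : x ∈ zpowers a := normalCore_le _ hx
    rw [mem_zpowers_iff] at hxa
    obtain ⟨k, rfl⟩ := hxa
    rcases Int.even_or_odd k with ⟨j, rfl⟩ | ⟨j, rfl⟩
    · rw [← two_mul, zpow_mul, zpow_two, ha, one_zpow]; exact one_mem _
    · exfalso
      rw [zpow_add, zpow_mul, zpow_two, ha, one_zpow, one_mul, zpow_one] at hx
      have hbb : b * a * b⁻¹ ∈ zpowers a :=
        normalCore_le _ ((normalCore_normal (zpowers a)).conj_mem a hx b)
      rw [mem_zpowers_iff] at hbb
      obtain ⟨i, hi⟩ := hbb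
      rcases Int.even_or_odd i with ⟨j, rfl⟩ | ⟨j, rfl⟩
      · rw [← two_mul, zpow_mul, zpow_two, ha, one_zpow] at hi
        exact ha1 (conj_eq_one_iff.1 hi.symm)
      · rw [zpow_add, zpow_mul, zpow_two, ha, one_zpow, one_mul, zpow_one] at hi
        have hc : a * b = b * a := eq_mul_inv_iff_mul_eq.1 hi
        have h2 : (a * b) * (a * b) = 1 := by
          nth_rewrite 2 [hc]
          rw [show a * b * (b * a) = a * (b * b) * a by group, hb, mul_one, ha]
        rw [pow_succ, pow_two, h2, one_mul] at hab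
        exact hne ((mul_eq_one_iff_eq_inv.1 hab).trans (inv_eq_of_mul_eq_one_right hb))
  haveI : Fintype (A ⧸ zpowers a) := Fintype.ofFinite _
  obtain ⟨e⟩ : Nonempty (A ⧸ zpowers a ≃ Fin 3) :=
    ⟨Fintype.equivFinOfCardEq (by rw [← Nat.card_eq_fintype_card, hidx])⟩
  let φ : A →* Equiv.Perm (Fin 3) := e.permCongrHom.toMonoidHom.comp (MulAction.toPermHom A (A ⧸ zpowers a))
  have hinj : Function.Injective φ :=
    e.permCongrHom.injective.comp ((MonoidHom.ker_eq_bot_iff _).1 hker)
  exact ⟨MulEquiv.ofBijective φ ((Nat.bijective_iff_injective_and_card φ).2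
    ⟨hinj, by rw [hA, Nat.card_eq_fintype_card]; rfl⟩)⟩

/-! ### The model -/

open Matrix CfsgLib.Classical CfsgLib.Classical.SmallIso

/-- The first matrix. -/
def mD : Matrix (Fin 3) (Fin 3) W4 := !![0, 1, 0; 1, 0, 0; 0, 0, 1]

/-- The second matrix. -/
def mE : Matrix (Fin 3) (Fin 3) W4 := !![1, 0, 0; 0, 0, 1; 0, 1, 0]

/-- The third matrix. -/
def mF : Matrix (Fin 3) (Fin 3) W4 := !![0, W4.w, 0; W4.w * W4.w, 0, 0; 0, 0, 1]

theorem mats_mem : mD ∈ unitW4 ∧ mE ∈ unitW4 ∧ mF ∈ unitW4 := by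
  refine ⟨⟨?_, ?_⟩, ⟨?_, ?_⟩, ⟨?_, ?_⟩⟩
  all_goals first
    | (rw [Matrix.det_fin_three]; decide +kernel)
    | decide +kernel

theorem mats_rels : mD * mD = 1 ∧ mE * mE = 1 ∧ mF * mF = 1 ∧ (mD * mE) ^ 3 = 1 ∧ (mD * mF) ^ 3 = 1 ∧
    (mE * mF) ^ 3 = 1 ∧ (mD * (mE * mF * mE)) ^ 3 = 1 := by decide +kernel

/-- The words. -/
def wordM (p : (Fin 3 × Fin 3) × Fin 6) : Matrix (Fin 3) (Fin 3) W4 :=
  (mD * (mE * mF * mE)) ^ p.1.1.val * (mE * (mD * (mE * mF * mE)) * mE) ^ p.1.2.val *
    ![1, mE, mF, mE * mF, mF * mE, mE * mF * mE] p.2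

theorem wordM_injective : Function.Injective wordM := by
  unfold Function.Injective
  decide +kernel

theorem quat_invol : ∀ q : QuaternionGroup 2, q * q = 1 → q = 1 ∨ q = .a 2 := by decide

theorem quat_comm : ∀ a b : QuaternionGroup 2, a * b * a⁻¹ * b⁻¹ = 1 ∨ a * b * a⁻¹ * b⁻¹ = .a 2 := by decide

theorem quat_noncomm : ∃ a b : QuaternionGroup 2, a * b ≠ b * a := by decide

set_option maxHeartbeats 1600000 in
theorem model {F : Type*} [Field F] [Fintype F] (hF : Fintype.card F = 4) :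
    Nat.card ↥(_root_.commutator ↥(SU 3 F 2)) = 54 ∧
    ∃ d e f : ↥(_root_.commutator ↥(SU 3 F 2)), Rels d e f ∧ Subgroup.closure {d, e, f} = ⊤ := by
  classical
  obtain ⟨φ, hφinj, hφsq⟩ := W4.exists_hom hF
  have hF' : Fintype.card F = 2 ^ 2 := hF
  have hform : ∀ X : unitW4, ∀ u v, hermForm 3 F 2 ((X.1.map φ) *ᵥ u) ((X.1.map φ) *ᵥ v) = hermForm 3 F 2 u v := by
    intro X u v
    have hX : (X.1.map φ)ᵀ * (X.1.map φ).map (· ^ 2) = 1 := by
      have h := congrArg (fun Y : Matrix (Fin 3) (Fin 3) W4 => Y.map φ) X.2.2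
      simp only [Matrix.map_mul, Matrix.map_one, map_zero, map_one, Matrix.transpose_map, Matrix.map_map] at h
      rw [← h]
      congr 1
      ext i j
      simp [hφsq]
    obtain ⟨σ, hσ, -, -⟩ := exists_qPow hF'
    have e1 : ∀ (u v : Fin 3 → F), hermForm 3 F 2 u v = u ⬝ᵥ (σ ∘ v) := fun u v => by
      simp [hermForm, dotProduct, hσ]
    have e2 : σ ∘ ((X.1.map φ) *ᵥ v) = (X.1.map φ).map σ *ᵥ (σ ∘ v) := funext fun i => RingHom.map_mulVec σ _ v i
    rw [e1, e1, e2, Matrix.dotProduct_mulVec, ← Matrix.vecMul_transpose, Matrix.vecMul_vecMul,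
      show ((X.1.map φ).map σ : Matrix (Fin 3) (Fin 3) F) = (X.1.map φ).map (· ^ 2) from congrArg _ (funext hσ), hX,
      Matrix.vecMul_one]
  let Φ : unitW4 →* SU 3 F 2 := MonoidHom.mk'
    (fun X => suMk (X.1.map φ) (by rw [← RingHom.mapMatrix_apply, ← RingHom.map_det, X.2.1, map_one]) (hform X))
    fun X Y => Subtype.ext (Subtype.ext Matrix.map_mul)
  have hΦinj : Function.Injective Φ := fun X Y h =>
    Subtype.ext (Matrix.map_injective hφinj (congrArg (fun g : SU 3 F 2 => g.1.1) h))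
  obtain ⟨hmD, hmE, hmF⟩ := mats_mem
  obtain ⟨r1, r2, r3, r4, r5, r6, r7⟩ := mats_rels
  obtain ⟨d, hd⟩ : ∃ d, d = Φ ⟨mD, hmD⟩ := ⟨_, rfl⟩
  obtain ⟨e, he⟩ : ∃ e, e = Φ ⟨mE, hmE⟩ := ⟨_, rfl⟩
  obtain ⟨f, hf⟩ : ∃ f, f = Φ ⟨mF, hmF⟩ := ⟨_, rfl⟩
  have hrels : Rels d e f := by
    subst hd he hf
    refine ⟨?_, ?_, ?_, ?_, ?_, ?_, ?_⟩ <;>
      (simp only [← map_mul, ← map_pow]; refine (congrArg Φ (Subtype.ext ?_)).trans (map_one Φ))
    exacts [r1, r2, r3, r4, r5, r6, r7]
  obtain ⟨K, hK⟩ : ∃ K, K = Subgroup.closure ({d, e, f} : Set (SU 3 F 2)) := ⟨_, rfl⟩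
  have hdK : d ∈ K := hK ▸ Subgroup.subset_closure (by simp)
  have heK : e ∈ K := hK ▸ Subgroup.subset_closure (by simp)
  have hfK : f ∈ K := hK ▸ Subgroup.subset_closure (by simp)
  -- words
  obtain ⟨w, hw⟩ : ∃ w : (Fin 3 × Fin 3) × Fin 6 → SU 3 F 2, w = fun p =>
      (d * (e * f * e)) ^ p.1.1.val * (e * (d * (e * f * e)) * e) ^ p.1.2.val *
        ![1, e, f, e * f, f * e, e * f * e] p.2 := ⟨_, rfl⟩
  have hΦv : ∀ X : unitW4, ((Φ X).1.1 : Matrix (Fin 3) (Fin 3) F) = X.1.map φ := fun X => rfl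
  have hwv : ∀ p, ((w p).1.1 : Matrix (Fin 3) (Fin 3) F) = (wordM p).map φ := by
    intro p
    have key : w p = Φ ((⟨mD, hmD⟩ * (⟨mE, hmE⟩ * ⟨mF, hmF⟩ * ⟨mE, hmE⟩)) ^ p.1.1.val *
        (⟨mE, hmE⟩ * (⟨mD, hmD⟩ * (⟨mE, hmE⟩ * ⟨mF, hmF⟩ * ⟨mE, hmE⟩)) * ⟨mE, hmE⟩) ^ p.1.2.val *
        ![1, ⟨mE, hmE⟩, ⟨mF, hmF⟩, ⟨mE, hmE⟩ * ⟨mF, hmF⟩, ⟨mF, hmF⟩ * ⟨mE, hmE⟩,
          ⟨mE, hmE⟩ * ⟨mF, hmF⟩ * ⟨mE, hmE⟩] p.2) := by
      rw [hw, hd, he, hf]
      simp only [map_mul, map_pow]
      congr 1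
      obtain ⟨q, i⟩ := p
      fin_cases i
      exacts [(map_one Φ).symm, rfl, rfl, (map_mul Φ _ _).symm, (map_mul Φ _ _).symm,
        ((map_mul Φ _ _).trans (congrArg (· * _) (map_mul Φ _ _))).symm]
    rw [key, hΦv]
    refine congrArg (fun Y : Matrix (Fin 3) (Fin 3) W4 => Y.map φ) ?_
    obtain ⟨q, i⟩ := p
    simp only [wordM, Submonoid.coe_mul, SubmonoidClass.coe_pow]
    congr 1
    fin_cases i <;> rfl
  have hwinj : Function.Injective w := fun p p' h =>
    wordM_injective (Matrix.map_injective hφinj ((hwv p).symm.trans ((congrArg (fun g : SU 3 F 2 => (g.1.1 : Matrix (Fin 3) (Fin 3) F)) h).trans (hwv p'))))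
  have hefK : ∀ i, ![1, e, f, e * f, f * e, e * f * e] i ∈ K := by
    intro i
    fin_cases i
    exacts [one_mem _, heK, hfK, mul_mem heK hfK, mul_mem hfK heK, mul_mem (mul_mem heK hfK) heK]
  have htK : d * (e * f * e) ∈ K := mul_mem hdK (mul_mem (mul_mem heK hfK) heK)
  have hwK : ∀ p, w p ∈ K := fun p => by
    rw [hw]
    exact mul_mem (mul_mem (pow_mem htK _) (pow_mem (mul_mem (mul_mem heK htK) heK) _)) (hefK _)
  obtain ⟨hfin, hle54⟩ := closure_le_54 hrels
  rw [← hK] at hfin hle54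
  haveI : Finite K := hfin.to_subtype
  have hK54 : Nat.card K = 54 := by
    refine le_antisymm (le_of_eq_of_le (Nat.card_coe_set_eq _) hle54) ?_
    have := Nat.card_le_card_of_injective (fun p => (⟨w p, hwK p⟩ : K))
      fun p p' h => hwinj (congrArg Subtype.val h)
    simpa using this
  -- the map to the quaternion group
  obtain ⟨N, hNn, hN9, -, ⟨eQ⟩⟩ := su_three_two (F := F) hF
  haveI := hNn
  let ψ : SU 3 F 2 →* QuaternionGroup 2 :=
    eQ.toMonoidHom.comp ((QuotientGroup.mk' N).comp (QuotientGroup.mk' (Subgroup.center (SU 3 F 2))))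
  have hψ : Function.Surjective ψ :=
    eQ.surjective.comp ((QuotientGroup.mk'_surjective _).comp (QuotientGroup.mk'_surjective _))
  have hSU : Nat.card (SU 3 F 2) = 216 := by
    have h1 := card_su hF' (by norm_num : 1 ≤ 3)
    simp [unitaryOrder, Finset.prod_range_succ, Nat.even_iff, -Nat.card_eq_fintype_card] at h1
    omega
  haveI : Finite (SU 3 F 2) := Nat.finite_of_card_ne_zero (by omega)
  have hker : Nat.card ψ.ker = 27 := by
    have := ψ.ker.card_mul_index
    rw [Subgroup.index_ker, MonoidHom.range_eq_top.2 hψ, Subgroup.card_top, hSU, Nat.card_eq_fintype_card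
      (α := QuaternionGroup 2), QuaternionGroup.card] at this
    omega
  obtain ⟨Z, hZ⟩ : ∃ Z, Z = Subgroup.zpowers (QuaternionGroup.a 2 : QuaternionGroup 2) := ⟨_, rfl⟩
  have hmemZ : ∀ q : QuaternionGroup 2, q = 1 ∨ q = .a 2 → q ∈ Z := by
    rintro q (rfl | rfl)
    exacts [one_mem _, hZ ▸ Subgroup.mem_zpowers _]
  have hKZ : K ≤ Z.comap ψ := by
    rw [hK, Subgroup.closure_le]
    rintro x (rfl | rfl | rfl) <;> refine hmemZ _ (quat_invol _ ?_) <;> rw [← map_mul]
    exacts [by rw [hrels.sd, map_one], by rw [hrels.se, map_one], by rw [hrels.sf, map_one]]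
  have hcomapcard : Nat.card ↥(Z.comap ψ) ≤ 54 := by
    have h := (ψ.comp (Z.comap ψ).subtype).ker.card_mul_index
    rw [Subgroup.index_ker, MonoidHom.range_comp, Subgroup.range_subtype] at h
    rw [← h]
    have h1 : Nat.card (ψ.comp (Z.comap ψ).subtype).ker ≤ 27 := by
      rw [← hker, ← Subgroup.card_map_of_injective (Z.comap ψ).subtype_injective]
      refine Subgroup.card_le_of_le ?_
      rintro _ ⟨x, hx, rfl⟩
      exact hx
    have h2 : Nat.card ((Z.comap ψ).map ψ) ≤ 2 := by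
      refine (Subgroup.card_le_of_le (Subgroup.map_comap_le _ _)).trans ?_
      rw [hZ, Nat.card_zpowers]
      exact (orderOf_eq_prime (p := 2) (by decide) (by decide)).le
    exact Nat.mul_le_mul h1 h2
  have hKeq : K = Z.comap ψ := Subgroup.eq_of_le_of_card_ge hKZ (hcomapcard.trans hK54.ge)
  have hCK : _root_.commutator (SU 3 F 2) ≤ K := by
    rw [hKeq, _root_.commutator, Subgroup.commutator_le]
    intro a _ b _
    refine hmemZ _ ?_
    rw [commutatorElement_def, map_mul, map_mul, map_mul, map_inv, map_inv]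
    exact quat_comm _ _
  -- the derived group contains the rotations
  have hcm : ∀ a b : SU 3 F 2, a * a = 1 → b * b = 1 → (a * b) ^ 3 = 1 →
      a * b ∈ _root_.commutator (SU 3 F 2) := by
    intro a b ha hb hab
    have h : (b * a * b⁻¹ * a⁻¹) = a * b := by
      rw [inv_eq_of_mul_eq_one_right ha, inv_eq_of_mul_eq_one_right hb, ← braid_of_cube ha hb hab,
        show a * b * a * a = a * b * (a * a) by group, ha, mul_one]
    rw [← h, ← commutatorElement_def]
    exact Subgroup.commutator_mem_commutator (Subgroup.mem_top _) (Subgroup.mem_top _)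
  have hg2 : (e * f * e) * (e * f * e) = 1 := by
    rw [show e * f * e * (e * f * e) = e * f * (e * e) * f * e by group, hrels.se, mul_one,
      show e * f * f * e = e * (f * f) * e by group, hrels.sf, mul_one, hrels.se]
  have htC := hcm d (e * f * e) hrels.sd hg2 hrels.cross
  have hefC : e * f ∈ _root_.commutator (SU 3 F 2) := hcm e f hrels.se hrels.sf hrels.ef
  have hfeC : f * e ∈ _root_.commutator (SU 3 F 2) := hcm f e hrels.sf hrels.se (by
    rw [show f * e = e⁻¹ * (e * f) * e by group]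
    calc (e⁻¹ * (e * f) * e) ^ 3 = (e⁻¹ * (e * f) * e⁻¹⁻¹) ^ 3 := by rw [inv_inv]
      _ = 1 := by rw [conj_pow, hrels.ef]; group)
  have huC : e * (d * (e * f * e)) * e ∈ _root_.commutator (SU 3 F 2) := by
    have := (inferInstance : (_root_.commutator (SU 3 F 2)).Normal).conj_mem _ htC e
    rwa [inv_eq_of_mul_eq_one_right hrels.se] at this
  have h27 : 27 ≤ Nat.card ↥(_root_.commutator (SU 3 F 2)) := by
    let s : Fin 3 → Fin 6 := ![0, 3, 4]
    have hs : Function.Injective s := by decide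
    have hmem : ∀ p : (Fin 3 × Fin 3) × Fin 3, w (p.1, s p.2) ∈ _root_.commutator (SU 3 F 2) := by
      intro p
      rw [hw]
      refine mul_mem (mul_mem (pow_mem htC _) (pow_mem huC _)) ?_
      obtain ⟨q, i⟩ := p
      fin_cases i
      exacts [one_mem _, hefC, hfeC]
    have := Nat.card_le_card_of_injective
      (fun p => (⟨w (p.1, s p.2), hmem p⟩ : ↥(_root_.commutator (SU 3 F 2))))
      fun p p' h => by
        have := hwinj (congrArg Subtype.val h)
        simp only [Prod.mk.injEq] at this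
        exact Prod.ext this.1 (hs this.2)
    simpa using this
  have hCcard : Nat.card ↥(_root_.commutator (SU 3 F 2)) = 54 := by
    obtain ⟨m, hm⟩ := hK54 ▸ Subgroup.card_dvd_of_le hCK
    have hm2 : m = 1 ∨ m = 2 := by
      rcases m with _ | _ | _ | m
      · omega
      · exact .inl rfl
      · exact .inr rfl
      · nlinarith
    rcases hm2 with rfl | rfl
    · omega
    exfalso
    obtain ⟨a, b, hab⟩ := quat_noncomm
    obtain ⟨x, rfl⟩ := hψ a
    obtain ⟨y, rfl⟩ := hψ b
    refine hab ?_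
    have hxy : x * y * x⁻¹ * y⁻¹ ∈ _root_.commutator (SU 3 F 2) := by
      rw [← commutatorElement_def]
      exact Subgroup.commutator_mem_commutator (Subgroup.mem_top _) (Subgroup.mem_top _)
    have h1 : orderOf (ψ (x * y * x⁻¹ * y⁻¹)) ∣ 27 := by
      refine (orderOf_map_dvd ψ _).trans ((Subgroup.orderOf_dvd_natCard _ hxy).trans ?_)
      exact dvd_of_eq (by omega)
    have h2 : orderOf (ψ (x * y * x⁻¹ * y⁻¹)) ∣ 2 := by
      refine orderOf_dvd_of_pow_eq_one ?_
      rw [map_mul, map_mul, map_mul, map_inv, map_inv]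
      rcases quat_comm (ψ x) (ψ y) with e' | e' <;> rw [e'] <;> decide
    have h3 := Nat.dvd_gcd h1 h2
    have h4 := orderOf_eq_one_iff.1 (Nat.dvd_one.1 h3)
    rw [map_mul, map_mul, map_mul, map_inv, map_inv, mul_inv_eq_one, mul_inv_eq_iff_eq_mul] at h4
    exact h4
  have heq : _root_.commutator (SU 3 F 2) = K :=
    Subgroup.eq_of_le_of_card_ge hCK (by omega)
  refine ⟨hCcard, ⟨d, heq ▸ hdK⟩, ⟨e, heq ▸ heK⟩, ⟨f, heq ▸ hfK⟩,
    ⟨Subtype.ext hrels.sd, Subtype.ext hrels.se, Subtype.ext hrels.sf, Subtype.ext hrels.de,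
      Subtype.ext hrels.df, Subtype.ext hrels.ef, Subtype.ext hrels.cross⟩, ?_⟩
  refine Subgroup.map_injective (_root_.commutator (SU 3 F 2)).subtype_injective ?_
  rw [MonoidHom.map_closure, ← MonoidHom.range_eq_map, Subgroup.range_subtype]
  simp only [Set.image_insert_eq, Set.image_singleton, Subgroup.coe_subtype]
  exact hK.symm.trans heq.symm

end CfsgLib.ThreeTransp.Affine54
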