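import Cfsg.Agent.Lib.ThreeTransp.U6Perp
import Cfsg.Agent.Lib.Classical.HermSplit
import Cfsg.Agent.Lib.Classical.UnitaryPSU

/-!
# The stabiliser of a point in `PSU₆(2)`

The stabiliser of an isotropic point is generated by the points orthogonal to it.
-/

set_option autoImplicit false

namespace CfsgLib.U6

open Matrix Cfsg
open CfsgLib.PSUAut
open CfsgLib.UnitarySpec (sigma_sigma sigma_ne psuMk)

variable {F : Type} [Field F] [Fintype F]

local notation "V6" => Fin 6 → F
local notation "H6" => Cfsg.hermForm 6 F 2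
local notation "SU6" => (Cfsg.SU 6 F 2)
local notation "PSU6" => (Cfsg.PSU 6 F 2)

variable (hF : Fintype.card F = 2 ^ 2)
include hF

/-- Scaling an element so that it fixes a vector which it multiplies by a scalar. -/
theorem exists_fix_adjust {u : V6} (hu : u ≠ 0) {g : SU6} {lam : F} (hg : act g u = lam • u) :
    ∃ g' : SU6, psuMk g' = psuMk g ∧ act g' u = u := by
  obtain ⟨σ, hσ⟩ := exists_sigma hF
  have hl : lam ≠ 0 := fun h => act_ne_zero g hu (by rw [hg, h, zero_smul])
  set c := lam⁻¹ with hc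
  have hc3 := cube_eq_one hF (inv_ne_zero hl)
  let z : SU6 := CfsgLib.Classical.suMk (c • (1 : Matrix (Fin 6) (Fin 6) F))
    (by rw [det_smul, det_one, mul_one, Fintype.card_fin, show (6 : ℕ) = 3 * 2 from rfl, pow_mul, ← hc] at *
        rw [hc3, one_pow])
    (fun v w => by
      rw [smul_mulVec, smul_mulVec, one_mulVec, one_mulVec, smul_left hF, smul_right hF, ← mul_assoc,
        show c * c ^ 2 = 1 by rw [← pow_succ']; exact hc3, one_mul])
  have hz : ∀ y, act z y = c • y := fun y => by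
    show (c • (1 : Matrix (Fin 6) (Fin 6) F)) *ᵥ y = _
    rw [smul_mulVec, one_mulVec]
  refine ⟨z * g, (psuMk_eq_of_scalar hF hσ (c := c) fun y => by rw [act_mul, hz]).symm, ?_⟩
  rw [act_mul, hz, hg, smul_smul, inv_mul_cancel₀ hl, one_smul]

omit hF in
theorem four_act (B : Cfsg.SU 4 F 2) (r : Fin 4 → F) :
    act B r = ((B : SpecialLinearGroup (Fin 4) F) : Matrix (Fin 4) (Fin 4) F) *ᵥ r := rfl

theorem four_transvection {B : Cfsg.SU 4 F 2} {v : Fin 4 → F} {c : F}
    (hv : Cfsg.hermForm 4 F 2 v v = 0)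
    (hB : ((B : SpecialLinearGroup (Fin 4) F) : Matrix (Fin 4) (Fin 4) F) = unitaryTransvection 4 2 v c) :
    (∀ r, act B r = r) ∨ v ≠ 0 ∧ ∀ r, act B r = r + Cfsg.hermForm 4 F 2 r v • v := by
  obtain ⟨σ, hσ⟩ := exists_sigma hF
  have hform : ∀ r, act B r = r + (c * Cfsg.hermForm 4 F 2 r v) • v := by
    intro r
    rw [four_act, hB, unitaryTransvection, add_mulVec, one_mulVec, smul_mulVec, vecMulVec_mulVec, op_smul_eq_smul,
      smul_smul]
    congr 3
    simp [dotProduct, Cfsg.hermForm, mul_comm]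
  by_cases h0 : v = 0
  · exact Or.inl fun r => by rw [hform, h0, smul_zero, add_zero]
  by_cases hc : c = 0
  · exact Or.inl fun r => by rw [hform, hc, zero_mul, zero_smul, add_zero]
  refine Or.inr ⟨h0, fun r => ?_⟩
  obtain ⟨y, hy⟩ := exists_partner hF hσ h0
  have h1 := act_form B y y
  rw [hform, hy, mul_one, hadd_left hF hσ, hadd_right hF hσ, hadd_right hF hσ, hsmul_left hF hσ,
    hsmul_left hF hσ, hsmul_right hF hσ, hsmul_right hF hσ, hy, hconj hF hσ y v, hy, map_one, hv, hσ] at h1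
  have h2 : c * (c + 1) = 0 := by linear_combination h1
  have := charTwo hF
  rw [hform, CharTwo.add_eq_zero.1 ((mul_eq_zero.1 h2).resolve_left hc), one_mul]

/-- An element fixing an isotropic point lies in every subgroup containing all points orthogonal to it. -/
theorem stab_mem {N : Subgroup PSU6} {u : V6} (hu : Isot 2 u) (hN : ∀ x d, IsPt x d → H6 d u = 0 → x ∈ N)
    {g : SU6} {lam : F} (hg : act g u = lam • u) : psuMk g ∈ N := by
  obtain ⟨σ, hσ⟩ := exists_sigma hF
  obtain ⟨g₁, hgg, hg₁⟩ := exists_fix_adjust hF hu.1 hg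
  rw [← hgg]
  -- an isotropic partner, fixed after multiplying by transvections
  obtain ⟨y₀, hy₀, -, hy₀u⟩ := exists_iso_pairing hF (![] : Fin 0 → V6) hu.2 (fun i => i.elim0)
    (by simp [hu.1])
  obtain ⟨n, hn, hnu, hny⟩ : ∃ n : SU6, psuMk n ∈ N ∧ act n u = u ∧ act n y₀ = act g₁ y₀ := by
    refine orbit hF (![] : Fin 0 → V6) (by norm_num) (fun z hz _ => by simpa using hz) hu.2 hy₀.2
      (by rw [act_form]; exact hy₀.2) hy₀u
      (by conv_lhs => rw [← hg₁, act_form, hy₀u])
      (fun i => i.elim0) (fun i => i.elim0) (fun i => i.elim0)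
      (fun z => ∃ n : SU6, psuMk n ∈ N ∧ act n u = u ∧ act n y₀ = z) ?_
      ⟨1, by rw [map_one]; exact one_mem N, act_one u, act_one y₀⟩
    rintro d z hd - hdu ⟨n, hn, hnu, hnz⟩
    obtain ⟨x, -, t, ht, htx⟩ := exists_pt hF hd
    refine ⟨t * n, ?_, ?_, by rw [act_mul, hnz, ht]⟩
    · rw [map_mul]
      exact mul_mem (hN _ d ⟨hd, t, ht, rfl⟩ hdu) hn
    · rw [act_mul, hnu, ht, (comm_zero hF).1 hdu, zero_smul, add_zero]
  set g₂ := n⁻¹ * g₁ with hg₂
  have fu : act g₂ u = u := by rw [hg₂, act_mul, hg₁]; conv_lhs => rw [← hnu, act_inv_apply]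
  have fy : act g₂ y₀ = y₀ := by rw [hg₂, act_mul, ← hny, act_inv_apply]
  suffices h : psuMk g₂ ∈ N by
    have : psuMk g₁ = psuMk n * psuMk g₂ := by rw [← map_mul, hg₂, mul_inv_cancel_left]
    rw [this]
    exact mul_mem hn h
  -- split off the hyperbolic plane
  set W : Submodule F (Fin (2 + 4) → F) := Submodule.span F {u, y₀} with hW
  have huy : H6 u y₀ = 1 := comm_one hF hy₀u
  have hWk : Module.finrank F W = 2 := by
    have hli : LinearIndependent F ![u, y₀] := by
      rw [LinearIndependent.pair_iff' hu.1]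
      intro a ha
      rw [← ha, smul_left hF, hu.2, mul_zero] at hy₀u
      exact zero_ne_one hy₀u
    have := finrank_span_eq_card hli
    rwa [Matrix.range_cons, Matrix.range_cons, Matrix.range_empty, Set.union_empty, Set.singleton_union,
      Fintype.card_fin] at this
  have hWnd : ∀ z ∈ W, (∀ v ∈ W, Cfsg.hermForm (2 + 4) F 2 z v = 0) → z = 0 := by
    intro z hz hz'
    obtain ⟨a, b, rfl⟩ := Submodule.mem_span_pair.1 hz
    have e1 := hz' u (Submodule.subset_span (Set.mem_insert _ _))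
    have e2 := hz' y₀ (Submodule.subset_span (Set.mem_insert_of_mem _ rfl))
    change H6 (a • u + b • y₀) u = 0 at e1
    change H6 (a • u + b • y₀) y₀ = 0 at e2
    rw [add_left hF, smul_left hF, smul_left hF, hu.2, hy₀u, mul_zero, zero_add, mul_one] at e1
    rw [add_left hF, smul_left hF, smul_left hF, hy₀.2, huy, mul_zero, add_zero, mul_one] at e2
    rw [e1, e2, zero_smul, zero_smul, add_zero]
  obtain ⟨T, hT, hTW⟩ := CfsgLib.Classical.exists_split (k := 2) (m := 4) hF W hWk hWnd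
  have hfixW : ∀ z ∈ W, act g₂ z = z := by
    intro z hz
    obtain ⟨a, b, rfl⟩ := Submodule.mem_span_pair.1 hz
    rw [act_add, act_smul, act_smul, fu, fy]
  have hp : ∀ p, act g₂ (T (p, 0)) = T (p, 0) := fun p => hfixW _ ((hTW _).2 rfl)
  let g₂l : V6 →ₗ[F] V6 := Matrix.toLin' ((g₂.1 : Matrix.SpecialLinearGroup (Fin 6) F) : Matrix (Fin 6) (Fin 6) F)
  have hg₂l : ∀ y, g₂l y = act g₂ y := fun y => Matrix.toLin'_apply _ _
  let L : ((Fin 2 → F) × (Fin 4 → F)) →ₗ[F] ((Fin 2 → F) × (Fin 4 → F)) :=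
    T.symm.toLinearMap ∘ₗ g₂l ∘ₗ T.toLinearMap
  have hL : ∀ x, T (L x) = act g₂ (T x) := fun x => by
    rw [show L x = T.symm (g₂l (T x)) from rfl, T.apply_symm_apply, hg₂l]
  let A : (Fin 4 → F) →ₗ[F] (Fin 4 → F) := LinearMap.snd F _ _ ∘ₗ L ∘ₗ LinearMap.inr F _ _
  have hfst : ∀ r, (L (0, r)).1 = 0 := by
    intro r
    refine eq_zero_of_perp (n := 2) hF hσ fun p => ?_
    have h1 : H6 (act g₂ (T (p, 0))) (act g₂ (T (0, r))) = H6 (T (p, 0)) (T (0, r)) := act_form _ _ _
    rw [hp, ← hL] at h1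
    rw [show H6 (T (p, 0)) (T (L (0, r))) = _ from hT (p, 0) (L (0, r)),
      show H6 (T (p, 0)) (T (0, r)) = _ from hT (p, 0) (0, r)] at h1
    simpa [hzero_left hF hσ, hzero_right hF hσ] using h1
  have hL2 : L = LinearMap.prodMap LinearMap.id A := by
    refine LinearMap.ext fun x => ?_
    obtain ⟨p, r⟩ := x
    have h1 : L (p, 0) = (p, 0) := T.injective (by rw [hL, hp])
    rw [show ((p, r) : (Fin 2 → F) × (Fin 4 → F)) = (p, 0) + (0, r) by simp, map_add, h1]
    refine Prod.ext ?_ ?_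
    · simp [hfst]
    · simp [A]
  have hdetA : LinearMap.det A = 1 := by
    have h1 : LinearMap.det L = 1 := by
      rw [show L = (T.symm : V6 →ₗ[F] _) ∘ₗ g₂l ∘ₗ (T.symm.symm : _ →ₗ[F] V6) from rfl, LinearMap.det_conj,
        LinearMap.det_toLin']
      exact g₂.1.2
    rwa [hL2, LinearMap.det_prodMap, LinearMap.det_id, one_mul] at h1
  have hformA : ∀ r s, Cfsg.hermForm 4 F 2 (A r) (A s) = Cfsg.hermForm 4 F 2 r s := by
    intro r s
    have h1 : H6 (act g₂ (T (0, r))) (act g₂ (T (0, s))) = H6 (T (0, r)) (T (0, s)) := act_form _ _ _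
    rw [← hL, ← hL] at h1
    rw [show H6 (T (L (0, r))) (T (L (0, s))) = _ from hT (L (0, r)) (L (0, s)),
      show H6 (T (0, r)) (T (0, s)) = _ from hT (0, r) (0, s)] at h1
    simpa [A, hfst, hzero_left hF hσ] using h1
  let B : Cfsg.SU 4 F 2 := CfsgLib.Classical.suMk (LinearMap.toMatrix' A)
    (by rw [LinearMap.det_toMatrix', hdetA]) (fun r s => by
      rw [LinearMap.toMatrix'_mulVec, LinearMap.toMatrix'_mulVec, hformA])
  have hB : ∀ r, act B r = A r := fun r => LinearMap.toMatrix'_mulVec _ _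
  obtain ⟨n₂, hn₂, hn₂B⟩ : ∃ m : SU6, psuMk m ∈ N ∧ ∀ p r, act m (T (p, r)) = T (p, act B r) := by
    have hBmem : B ∈ Subgroup.closure {A : Cfsg.SU 4 F 2 | ∃ (v : Fin 4 → F) (c : F), hermForm 4 F 2 v v = 0 ∧
        ((A : SpecialLinearGroup (Fin 4) F) : Matrix (Fin 4) (Fin 4) F) = unitaryTransvection 4 2 v c} := by
      rw [CfsgLib.Classical.Unitary.su_closure_transvections hF (by norm_num) (by norm_num)]
      exact Subgroup.mem_top B
    clear_value B
    clear hB
    induction hBmem using Subgroup.closure_induction with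
    | mem B hB =>
      obtain ⟨v, c, hv, hc⟩ := hB
      rcases four_transvection hF hv hc with h | ⟨hv0, h⟩
      · exact ⟨1, by rw [map_one]; exact one_mem N, fun p r => by rw [act_one, h]⟩
      have hd : Isot 2 (T (0, v)) := by
        refine ⟨fun e => hv0 ?_, ?_⟩
        · have := T.map_eq_zero_iff.1 e
          exact congrArg Prod.snd this
        · rw [show H6 (T (0, v)) (T (0, v)) = _ from hT (0, v) (0, v)]
          simp [hv, hzero_left hF hσ]
      obtain ⟨x, -, t, ht, -⟩ := exists_pt hF hd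
      refine ⟨t, hN _ _ ⟨hd, t, ht, rfl⟩ ?_, fun p r => ?_⟩
      · obtain ⟨⟨p, r⟩, hpr⟩ := T.surjective u
        have hr : r = 0 := (hTW (p, r)).1 (hpr ▸ Submodule.subset_span (Set.mem_insert _ _))
        subst hr
        rw [← hpr, show H6 (T (0, v)) (T (p, 0)) = _ from hT (0, v) (p, 0)]
        simp [hzero_left hF hσ, hzero_right hF hσ]
      · rw [ht, show H6 (T (p, r)) (T (0, v)) = _ from hT (p, r) (0, v), h,
          ← map_smul, ← map_add]
        congr 1
        simp [hzero_right hF hσ, Prod.ext_iff]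
    | one => exact ⟨1, by rw [map_one]; exact one_mem N, fun p r => by rw [act_one, act_one]⟩
    | mul B C _ _ h1 h2 =>
      obtain ⟨m, hm, hmB⟩ := h1
      obtain ⟨k, hk, hkC⟩ := h2
      exact ⟨m * k, by rw [map_mul]; exact mul_mem hm hk, fun p r => by rw [act_mul, hkC, hmB, act_mul]⟩
    | inv B _ h1 =>
      obtain ⟨m, hm, hmB⟩ := h1
      refine ⟨m⁻¹, by rw [map_inv]; exact inv_mem hm, fun p r => ?_⟩
      have := hmB p (act B⁻¹ r)
      rw [act_apply_inv] at this
      rw [← this, act_inv_apply]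
  rwa [show g₂ = n₂ from act_ext fun y => by
    obtain ⟨⟨p, r⟩, rfl⟩ := T.surjective y
    rw [hn₂B, hB, ← hL, hL2]
    rfl]

end CfsgLib.U6
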