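import Cfsg.Agent.Lib.ThreeTransp.M22Common
import Cfsg.Agent.Lib.ThreeTransp.U6Stab

/-!
# Groups of type `M(22)`: the centraliser of a member is generated by its link

The set of products of an element of the group of the link of a neighbour of `a` with an element of the group
of the link of `a` is the whole group.
-/

set_option autoImplicit false

namespace CfsgLib.M22

open CfsgLib.ThreeTransp CfsgLib.SporMisc
open CfsgLib.U6 (IsPt)
open CfsgLib.PSUAut (Isot act)
open CfsgLib.UnitarySpec (psuMk)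

variable {G : Type*} [Group G] {D : Set G}
variable [Finite G] (S : Setup D) {F : Type} [Field F] [Fintype F] (hF : Fintype.card F = 2 ^ 2)
  (hM : ∀ a ∈ D, Nonempty (Model D a F))
include S hF hM

/-- An element of the group of the link of `x` fixing a neighbour `a` of `x` is in the group of the link
of `a`. -/
theorem mem_of_fix {a x k : G} (ha : a ∈ D) (hx : x ∈ link D a)
    (hk : k ∈ Subgroup.closure (link D x)) (hka : Commute k a) : k ∈ Subgroup.closure (link D a) := by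
  obtain ⟨X⟩ := hM x hx.1
  have lax := link_swap ha hx
  obtain ⟨u, hu⟩ := X.exists_pt_of_link S hF hx.1 lax
  obtain ⟨g, hg⟩ := QuotientGroup.mk'_surjective (Subgroup.center (Cfsg.SU 6 F 2)) (X.ψ ⟨k, hk⟩)
  have hg' : psuMk g = X.ψ ⟨k, hk⟩ := hg
  have h1 := hu.conj hF g
  rw [hg'] at h1
  have hfix : X.img (Model.conj_mem S lax ⟨k, hk⟩) = X.img lax :=
    congrArg X.ψ (Subtype.ext (show k * a * k⁻¹ = a by rw [hka.eq, mul_inv_cancel_right]))
  rw [← X.img_conj S lax ⟨k, hk⟩, hfix] at h1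
  obtain ⟨lam, -, hlam⟩ := IsPt.span_eq hF hu h1
  have hN := U6.stab_mem hF hu.1 (N := ((Subgroup.closure (link D a)).subgroupOf _).map X.ψ)
    (fun z d hz hd => by
      obtain ⟨f, lf, rfl⟩ := X.exists_link_of_pt S hF hx.1 hz
      refine Subgroup.mem_map.2 ⟨⟨f, Subgroup.subset_closure lf⟩, Subgroup.mem_subgroupOf.2 ?_, rfl⟩
      by_cases hfa : f = a
      · exact (show f ∈ Subgroup.closure (link D a) by rw [hfa]; exact self_mem_link_closure S hF hM ha)
      · exact Subgroup.subset_closure ⟨lf.1, hfa, ((X.comm_iff S hF hx.1 lf lax hz hu).2 hd).symm⟩)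
    hlam
  rw [hg'] at hN
  obtain ⟨⟨m, hm⟩, hmH, hmk⟩ := Subgroup.mem_map.1 hN
  have hmH' : m ∈ Subgroup.closure (link D a) := Subgroup.mem_subgroupOf.1 hmH
  have hmem : m⁻¹ * k ∈ Subgroup.closure (link D x) := mul_mem (inv_mem hm) hk
  have hker : X.ψ ⟨m⁻¹ * k, hmem⟩ = 1 := by
    rw [show (⟨m⁻¹ * k, hmem⟩ : ↥(Subgroup.closure (link D x))) =
      (⟨m, hm⟩ : ↥(Subgroup.closure (link D x)))⁻¹ * ⟨k, hk⟩ from rfl, map_mul, map_inv, hmk, inv_mul_cancel]
  have : m⁻¹ * k ∈ Subgroup.closure (link D a) := by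
    rcases central_cases S hF hM hx.1 X hmem hker with h | h
    · rw [h]; exact one_mem _
    · rw [h]; exact Subgroup.subset_closure hx
  have := mul_mem hmH' this
  rwa [mul_inv_cancel_left] at this

/-- Two neighbours of a commuting pair are linked by a chain of common neighbours of the pair. -/
theorem exists_link_step {a b f f' : G} (ha : a ∈ D) (hb : b ∈ link D a) (hf : f ∈ link D a ∩ link D b)
    (hf' : f' ∈ link D a ∩ link D b) (hnc : ¬ Commute f f') :
    ∃ m, m ∈ link D a ∩ link D b ∧ f ∈ link D m ∧ f' ∈ link D m := by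
  obtain ⟨A⟩ := hM a ha
  obtain ⟨u, hu⟩ := A.exists_pt_of_link S hF ha hb
  obtain ⟨v, hv⟩ := A.exists_pt_of_link S hF ha hf.1
  obtain ⟨v', hv'⟩ := A.exists_pt_of_link S hF ha hf'.1
  obtain ⟨z, hz, hzu⟩ := U6.exists_iso_off hF hu.1.1
  obtain ⟨w, hw, pw⟩ := U6.exists_iso_perp_of hF ![u, v, v', z] le_rfl
  obtain ⟨W, hW⟩ := U6.exists_pt hF hw
  obtain ⟨m, lm, rfl⟩ := A.exists_link_of_pt S hF ha hW
  have cmb : Commute m b := (A.comm_iff S hF ha lm hb hW hu).2 (pw 0)
  have cmf : Commute m f := (A.comm_iff S hF ha lm hf.1 hW hv).2 (pw 1)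
  have cmf' : Commute m f' := (A.comm_iff S hF ha lm hf'.1 hW hv').2 (pw 2)
  have hmb : m ≠ b := by
    rintro rfl
    obtain ⟨s, hs, hsw⟩ := IsPt.span_eq hF hu hW
    have h3 : Cfsg.hermForm 6 F 2 w z = 0 := pw 3
    rw [hsw, U6.smul_left hF, mul_eq_zero] at h3
    exact hzu ((U6.comm_zero hF).1 (h3.resolve_left hs))
  exact ⟨m, ⟨lm, lm.1, hmb, cmb.symm⟩, ⟨hf.1.1, fun h => hnc (h ▸ cmf'), cmf⟩,
    hf'.1.1, fun h => hnc (h ▸ cmf).symm, cmf'⟩

/-- For commuting `a`, `b` and any `y` some common neighbour of `a`, `b` is a neighbour of `y`. -/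
theorem exists_three {a b y : G} (ha : a ∈ D) (hb : b ∈ link D a) (hy : y ∈ D) :
    ∃ f, f ∈ link D a ∧ f ∈ link D b ∧ Commute f y ∧ f ≠ y := by
  obtain ⟨A⟩ := hM a ha
  by_cases hay : Commute a y
  · by_cases hya : y = a
    · obtain ⟨f, hfa, hfb⟩ := A.exists_third S hF ha hb
      exact ⟨f, hfa, hfb, hya ▸ hfa.2.2.symm, hya ▸ hfa.2.1⟩
    by_cases hyb : y = b
    · obtain ⟨f, hfa, hfb⟩ := A.exists_third S hF ha hb
      exact ⟨f, hfa, hfb, hyb ▸ hfb.2.2.symm, hyb ▸ hfb.2.1⟩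
    have ly : y ∈ link D a := ⟨hy, hya, hay⟩
    obtain ⟨u, hu⟩ := A.exists_pt_of_link S hF ha hb
    obtain ⟨v, hv⟩ := A.exists_pt_of_link S hF ha ly
    obtain ⟨w, hw, hwu, hwv, hws⟩ : ∃ w, Isot 2 w ∧ Cfsg.hermForm 6 F 2 w u = 0 ∧
        Cfsg.hermForm 6 F 2 w v = 0 ∧ w ∉ Submodule.span F {u, v} :=
      U6.exists_plane hF hu.1 (A.notMem S hF ha hb ly hu hv (Ne.symm hyb))
    obtain ⟨W, hW⟩ := U6.exists_pt hF hw
    obtain ⟨f, lf, rfl⟩ := A.exists_link_of_pt S hF ha hW
    have nf : ∀ {e : G} (le : e ∈ link D a) {t : Fin 6 → F}, IsPt (A.img le) t →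
        t ∈ Submodule.span F {u, v} → f ≠ e := by
      intro e le t ht hts h
      subst h
      obtain ⟨s, -, hs⟩ := IsPt.span_eq hF ht hW
      exact hws (hs ▸ Submodule.smul_mem _ s hts)
    exact ⟨f, lf, ⟨lf.1, nf hb hu (Submodule.subset_span (Set.mem_insert _ _)),
      ((A.comm_iff S hF ha lf hb hW hu).2 hwu).symm⟩, (A.comm_iff S hF ha lf ly hW hv).2 hwv,
      nf ly hv (Submodule.subset_span (Set.mem_insert_of_mem _ rfl))⟩
  · obtain ⟨m, hma, hmy, hmb⟩ := exists_commuting' S hF hM ha hy hay hb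
    by_cases hmb' : m = b
    · obtain ⟨B⟩ := hM b hb.1
      have lab := link_swap ha hb
      have lyb : y ∈ link D b := link_swap hy (hmb' ▸ hmy)
      obtain ⟨u, hu⟩ := B.exists_pt_of_link S hF hb.1 lab
      obtain ⟨v, hv⟩ := B.exists_pt_of_link S hF hb.1 lyb
      obtain ⟨w, hw, pw⟩ := U6.exists_iso_perp_of hF ![u, v] (by norm_num)
      obtain ⟨W, hW⟩ := U6.exists_pt hF hw
      obtain ⟨f, lf, rfl⟩ := B.exists_link_of_pt S hF hb.1 hW
      have cfa : Commute f a := (B.comm_iff S hF hb.1 lf lab hW hu).2 (pw 0)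
      have cfy : Commute f y := (B.comm_iff S hF hb.1 lf lyb hW hv).2 (pw 1)
      exact ⟨f, ⟨lf.1, fun h => hay (h ▸ cfy), cfa.symm⟩, lf, cfy, fun h => hay (h ▸ cfa).symm⟩
    · exact ⟨m, hma, ⟨hma.1, hmb', hmb.symm⟩, hmy.2.2.symm, hmy.2.1⟩

/-- The coset of the group of the link of `a` of an element of the group of the link of a neighbour depends
only on the image of `a`. -/
theorem coset_eq {a x x' k k' : G} (ha : a ∈ D) (hx : x ∈ link D a) (hx' : x' ∈ link D a)
    (hk : k ∈ Subgroup.closure (link D x)) (hk' : k' ∈ Subgroup.closure (link D x'))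
    (he : k * a * k⁻¹ = k' * a * k'⁻¹) : k⁻¹ * k' ∈ Subgroup.closure (link D a) := by
  have hfix : ∀ {g : G}, g * a * g⁻¹ = a → Commute g a := fun {g} h => mul_inv_eq_iff_eq_mul.1 h
  have same : ∀ {x k m : G}, x ∈ link D a → k ∈ Subgroup.closure (link D x) → m ∈ Subgroup.closure (link D x) →
      k * a * k⁻¹ = m * a * m⁻¹ → k⁻¹ * m ∈ Subgroup.closure (link D a) := by
    intro x k m hx hk hm h
    refine mem_of_fix S hF hM ha hx (mul_mem (inv_mem hk) hm) (hfix ?_)
    calc k⁻¹ * m * a * (k⁻¹ * m)⁻¹ = k⁻¹ * (m * a * m⁻¹) * k := by group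
      _ = a := by rw [← h]; group
  set y := k * a * k⁻¹ with hy
  have hyD : y ∈ D := S.tt.conj k a ha
  have hyx : ∀ {x k : G}, x ∈ link D a → k ∈ Subgroup.closure (link D x) → k * a * k⁻¹ ∈ link D x :=
    fun hx hk => Model.conj_mem S (link_swap ha hx) ⟨_, hk⟩
  have lyx : y ∈ link D x := hyx hx hk
  have lyx' : y ∈ link D x' := he ▸ hyx hx' hk'
  by_cases hya : y = a
  · refine mul_mem (inv_mem (mem_of_fix S hF hM ha hx hk (hfix hya))) (mem_of_fix S hF hM ha hx' hk' (hfix ?_))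
    rw [← he]; exact hya
  by_cases hay : Commute a y
  swap
  · -- the transposition `a * y * a`
    have hg : a * y * a * a * (a * y * a)⁻¹ = y := by
      rw [S.tt.inv_eq (S.tt.cj_mem ha hyD)]
      exact S.tt.cj_conj_self ha hyD hay
    have hmem : ∀ {x : G}, x ∈ link D a → y ∈ link D x → a * y * a ∈ Subgroup.closure (link D x) :=
      fun {x} hx hy => mul_mem (mul_mem (Subgroup.subset_closure (link_swap ha hx)) (Subgroup.subset_closure hy))
        (Subgroup.subset_closure (link_swap ha hx))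
    have e1 := same hx hk (hmem hx lyx) (hy ▸ hg.symm)
    have e2 := same hx' (hmem hx' lyx') hk' (hg.trans he)
    have := mul_mem e1 e2
    rwa [mul_assoc, mul_inv_cancel_left] at this
  -- `y` commutes with `a`
  have lya : y ∈ link D a := ⟨hyD, hya, hay⟩
  have lxy : x ∈ link D a ∩ link D y := ⟨hx, link_swap hx.1 lyx⟩
  have lxy' : x' ∈ link D a ∩ link D y := ⟨hx', link_swap hx'.1 lyx'⟩
  -- two commuting common neighbours of `a`, `y` agree
  have step : ∀ f ∈ link D a ∩ link D y, ∀ f' ∈ link D a ∩ link D y, Commute f f' →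
      ∀ g ∈ Subgroup.closure (link D f), ∀ g' ∈ Subgroup.closure (link D f'), g * a * g⁻¹ = y →
      g' * a * g'⁻¹ = y → g⁻¹ * g' ∈ Subgroup.closure (link D a) := by
    intro f hf f' hf' hff g hg g' hg' e e'
    by_cases hne : f' = f
    · subst hne
      exact same hf.1 hg hg' (e.trans e'.symm)
    obtain ⟨Fm⟩ := hM f hf.1.1
    have la := link_swap ha hf.1
    have ly := link_swap hyD hf.2
    have lf' : f' ∈ link D f := ⟨hf'.1.1, hne, hff⟩
    obtain ⟨u, hu⟩ := Fm.exists_pt_of_link S hF hf.1.1 la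
    obtain ⟨v, hv⟩ := Fm.exists_pt_of_link S hF hf.1.1 ly
    obtain ⟨q, hq⟩ := Fm.exists_pt_of_link S hF hf.1.1 lf'
    have huv : Cfsg.hermForm 6 F 2 u v = 0 := (Fm.comm_iff S hF hf.1.1 la ly hu hv).1 hay
    have huq : Cfsg.hermForm 6 F 2 u q = 0 := (Fm.comm_iff S hF hf.1.1 la lf' hu hq).1 hf'.1.2.2
    have hvq : Cfsg.hermForm 6 F 2 v q = 0 := (Fm.comm_iff S hF hf.1.1 ly lf' hv hq).1 hf'.2.2.2
    have avoid : ∀ {t : Fin 6 → F}, t ∉ Submodule.span F {q} →
        ∃ g₁, Cfsg.hermForm 6 F 2 g₁ q = 0 ∧ Cfsg.hermForm 6 F 2 g₁ t ≠ 0 := by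
      intro t ht
      obtain ⟨g₁, h1, h2⟩ := U6.exists_perp_ne hF ![q] (z := t) (by simpa using ht)
      exact ⟨g₁, h1 0, by rw [h2]; exact one_ne_zero⟩
    obtain ⟨g₁, g₁q, g₁u⟩ := avoid (Fm.notMem S hF hf.1.1 lf' la hq hu hf'.1.2.1)
    obtain ⟨g₂, g₂q, g₂v⟩ := avoid (Fm.notMem S hF hf.1.1 lf' ly hq hv hf'.2.2.1)
    obtain ⟨g₃, g₃q, g₃u, g₃v⟩ : ∃ g₃, Cfsg.hermForm 6 F 2 g₃ q = 0 ∧ Cfsg.hermForm 6 F 2 g₃ u ≠ 0 ∧
        Cfsg.hermForm 6 F 2 g₃ v ≠ 0 := by
      by_cases h1 : Cfsg.hermForm 6 F 2 g₁ v = 0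
      · by_cases h2 : Cfsg.hermForm 6 F 2 g₂ u = 0
        · exact ⟨g₁ + g₂, by rw [U6.add_left hF, g₁q, g₂q, add_zero],
            by rwa [U6.add_left hF, h2, add_zero], by rwa [U6.add_left hF, h1, zero_add]⟩
        · exact ⟨g₂, g₂q, h2, g₂v⟩
      · exact ⟨g₁, g₁q, g₁u, h1⟩
    set g₄ := (Cfsg.hermForm 6 F 2 g₃ u)⁻¹ • g₃ with hg₄
    obtain ⟨σ, hσ⟩ := U6.exists_sigma hF
    obtain ⟨t, ht1, ht2, ht3⟩ := PSUAut.exists_iso_shift hF hσ hu.1.2 (y := g₄)
      (by rw [hg₄, U6.smul_left hF, inv_mul_cancel₀ g₃u])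
    obtain ⟨W, hW⟩ := U6.exists_pt hF (v := g₄ + t • u) ⟨ht3, ht1⟩
    obtain ⟨w, lw, rfl⟩ := Fm.exists_link_of_pt S hF hf.1.1 hW
    have cwq : Commute w f' := (Fm.comm_iff S hF hf.1.1 lw lf' hW hq).2 (by
      rw [hg₄, U6.add_left hF, U6.smul_left hF, U6.smul_left hF, g₃q, huq, mul_zero, mul_zero, add_zero])
    have ncwa : ¬ Commute w a := fun h => by
      rw [(Fm.comm_iff S hF hf.1.1 lw la hW hu).1 h] at ht2
      exact zero_ne_one ht2
    have ncwy : ¬ Commute w y := fun h => by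
      have := (Fm.comm_iff S hF hf.1.1 lw ly hW hv).1 h
      rw [hg₄, U6.add_left hF, U6.smul_left hF, U6.smul_left hF, huv, mul_zero, add_zero, mul_eq_zero] at this
      exact this.elim (inv_ne_zero g₃u) g₃v
    have lw' : w ∈ link D f' := ⟨lw.1, fun h => ncwa (h ▸ hf'.1.2.2.symm), cwq.symm⟩
    let g₀ := y * w * y * (a * w * a)
    have hg₀ : g₀ * a * g₀⁻¹ = y := by
      have e1 : a * w * a * a * (a * w * a)⁻¹ = w := by
        rw [S.tt.inv_eq (S.tt.cj_mem ha lw.1)]
        exact S.tt.cj_conj_self ha lw.1 fun h => ncwa h.symm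
      have e2 : y * w * y * w * (y * w * y)⁻¹ = y := by
        rw [S.tt.inv_eq (S.tt.cj_mem hyD lw.1), S.tt.braid hyD lw.1 fun h => ncwy h.symm]
        exact cj_cj (S.sqd lw.1) (S.sqd hyD) (S.tt.braid lw.1 hyD ncwy)
      calc g₀ * a * g₀⁻¹ = y * w * y * (a * w * a * a * (a * w * a)⁻¹) * (y * w * y)⁻¹ := by
            simp only [g₀]; group
        _ = y := by rw [e1, e2]
    have hg₀mem : ∀ {f : G}, f ∈ link D a ∩ link D y → w ∈ link D f → g₀ ∈ Subgroup.closure (link D f) := by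
      intro f hf hw
      have l1 := Subgroup.subset_closure (link_swap ha hf.1)
      have l2 := Subgroup.subset_closure (link_swap hyD hf.2)
      have l3 := Subgroup.subset_closure hw
      exact mul_mem (mul_mem (mul_mem l2 l3) l2) (mul_mem (mul_mem l1 l3) l1)
    have e1 := same hf.1 hg (hg₀mem hf lw) (e.trans hg₀.symm)
    have e2 := same hf'.1 (hg₀mem hf' lw') hg' (hg₀.trans e'.symm)
    have := mul_mem e1 e2
    rwa [mul_assoc, mul_inv_cancel_left] at this
  by_cases hxx : Commute x x'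
  · exact step x lxy x' lxy' hxx k hk k' hk' rfl he.symm
  obtain ⟨m, hm, lxm, lxm'⟩ := exists_link_step S hF hM ha lya lxy lxy' hxx
  obtain ⟨Mm⟩ := hM m hm.1.1
  obtain ⟨g, hg, hga⟩ := Mm.link_conj_of_mem S hF hm.1.1 (link_swap ha hm.1) (link_swap hyD hm.2)
  have e1 := step x lxy m hm lxm.2.2.symm k hk g hg rfl hga
  have e2 := step m hm x' lxy' lxm'.2.2 g hg k' hk' hga he.symm
  have := mul_mem e1 e2
  rwa [mul_assoc, mul_inv_cancel_left] at this

/-- The centraliser of a member is generated by its link. -/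
theorem centralizer_eq {a : G} (ha : a ∈ D) :
    Subgroup.centralizer ({a} : Set G) = Subgroup.closure (link D a) := by
  refine le_antisymm (fun g hg => ?_) fun g hg => Subgroup.mem_centralizer_singleton_iff.2 (commute_link_closure hg).symm.eq
  obtain ⟨A⟩ := hM a ha
  set H := Subgroup.closure (link D a) with hH
  obtain ⟨b, hb⟩ := A.link_nonempty hF
  -- the exchange of `a` and `b`
  obtain ⟨f₀, hf₀a, hf₀b⟩ := A.exists_third S hF ha hb
  have swapper : ∀ {f : G}, f ∈ link D a → f ∈ link D b → ∃ s ∈ Subgroup.closure (link D f),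
      s * a * s⁻¹ = b ∧ s * b * s⁻¹ = a := by
    intro f hfa hfb
    obtain ⟨Fm⟩ := hM f hfa.1
    have la := link_swap ha hfa
    have lb := link_swap hb.1 hfb
    obtain ⟨u, hu⟩ := Fm.exists_pt_of_link S hF hfa.1 la
    obtain ⟨v, hv⟩ := Fm.exists_pt_of_link S hF hfa.1 lb
    obtain ⟨σ, hσ⟩ := U6.exists_sigma hF
    obtain ⟨z, hz, hzu, hzv⟩ := CfsgLib.Transvec.Unitary.exists_iso_avoid (PSUAut.hU (n := 6) hF hσ)
      (by simp) hu.1.1 hv.1.1
    obtain ⟨W, hW⟩ := U6.exists_pt hF (v := z) ⟨fun e => hzu (by rw [e, U6.zero_left hF]), hz⟩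
    obtain ⟨w, lw, rfl⟩ := Fm.exists_link_of_pt S hF hfa.1 hW
    have nwa : ¬ Commute w a := fun h => hzu ((Fm.comm_iff S hF hfa.1 lw la hW hu).1 h)
    have nwb : ¬ Commute w b := fun h => hzv ((Fm.comm_iff S hF hfa.1 lw lb hW hv).1 h)
    have hab : a * b = b * a := hb.2.2.eq
    have bra := S.tt.braid ha lw.1 fun h => nwa h.symm
    have brb := S.tt.braid hb.1 lw.1 fun h => nwb h.symm
    have e1 : a * w * a * a * (a * w * a) = w := S.tt.cj_conj_self ha lw.1 fun h => nwa h.symm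
    have e2 : b * w * b * w * (b * w * b) = b := by
      rw [brb]; exact cj_cj (S.sqd lw.1) (S.sqd hb.1) brb.symm
    have e3 : a * w * a * b * (a * w * a) = b * (a * w * a) * b := by
      calc a * w * a * b * (a * w * a) = a * (w * b * w) * a := by
            simp only [mul_assoc, cancel₂ (S.sqd ha)]
            rw [← mul_assoc b a, ← hab, mul_assoc a b, cancel₂ (S.sqd ha)]
        _ = a * (b * w * b) * a := by rw [brb]
        _ = b * (a * w * a) * b := by
            simp only [← mul_assoc, hab]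
            simp only [mul_assoc, hab]
    have l1 := Subgroup.subset_closure la
    have l2 := Subgroup.subset_closure lb
    have l3 := Subgroup.subset_closure lw
    refine ⟨b * w * b * (a * w * a), mul_mem (mul_mem (mul_mem l2 l3) l2) (mul_mem (mul_mem l1 l3) l1), ?_, ?_⟩
    · rw [mul_inv_rev, S.tt.inv_eq (S.tt.cj_mem ha lw.1), S.tt.inv_eq (S.tt.cj_mem hb.1 lw.1)]
      calc b * w * b * (a * w * a) * a * (a * w * a * (b * w * b))
          = b * w * b * (a * w * a * a * (a * w * a)) * (b * w * b) := by group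
        _ = b := by rw [e1, e2]
    · rw [mul_inv_rev, S.tt.inv_eq (S.tt.cj_mem ha lw.1), S.tt.inv_eq (S.tt.cj_mem hb.1 lw.1)]
      calc b * w * b * (a * w * a) * b * (a * w * a * (b * w * b))
          = b * w * b * (a * w * a * b * (a * w * a)) * (b * w * b) := by group
        _ = b * w * (b * b) * (a * w * a) * (b * b) * (w * b) := by rw [e3]; group
        _ = b * (w * (a * w * a) * w) * b := by rw [S.sqd hb.1, mul_one, mul_one]; group
        _ = b * a * b := by
            rw [bra]; simp only [mul_assoc, cancel₂ (S.sqd lw.1), S.sqd lw.1, mul_one]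
        _ = a := by rw [← hab, mul_assoc, S.sqd hb.1, mul_one]
  obtain ⟨t, ht, hta, htb⟩ := swapper hf₀a hf₀b
  let Ω : Set G := {g | ∃ x k h, x ∈ link D a ∧ k ∈ Subgroup.closure (link D x) ∧ h ∈ H ∧ g = k * h}
  have h1 : ∀ h ∈ H, ∀ g ∈ Ω, h * g ∈ Ω := by
    rintro h hh _ ⟨x, k, h', hx, hk, hh', rfl⟩
    refine ⟨h * x * h⁻¹, h * k * h⁻¹, h * h', Model.conj_mem S hx ⟨h, hh⟩, ?_, mul_mem hh hh', by group⟩
    induction hk using Subgroup.closure_induction with
    | mem e he => exact Subgroup.subset_closure (link_conj S.tt h he)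
    | one => rw [mul_one, mul_inv_cancel]; exact one_mem _
    | mul u v _ _ i1 i2 =>
      rw [show h * (u * v) * h⁻¹ = h * u * h⁻¹ * (h * v * h⁻¹) by group]
      exact mul_mem i1 i2
    | inv u _ i1 =>
      rw [show h * u⁻¹ * h⁻¹ = (h * u * h⁻¹)⁻¹ by group]
      exact inv_mem i1
  have h2 : ∀ g ∈ Ω, t * g ∈ Ω := by
    rintro _ ⟨x, k, h', hx, hk, hh', rfl⟩
    set y := k * a * k⁻¹ with hy
    have hyD : y ∈ D := S.tt.conj k a ha
    obtain ⟨f, hfa, hfb, hfy, hfne⟩ := exists_three S hF hM ha hb hyD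
    obtain ⟨Fm⟩ := hM f hfa.1
    obtain ⟨kf, hkf, hkfa⟩ := Fm.link_conj_of_mem S hF hfa.1 (link_swap ha hfa)
      (⟨hyD, hfne.symm, hfy⟩ : y ∈ link D f)
    obtain ⟨tf, htf, htfa, htfb⟩ := swapper hfa hfb
    -- `t` and `tf` differ by an element of `H`
    have hk₀ : t * tf⁻¹ ∈ H := by
      have hinv : ∀ {s : G}, s * b * s⁻¹ = a → s⁻¹ * a * s⁻¹⁻¹ = b := fun {s} h => by rw [← h]; group
      have := coset_eq S hF hM ha hf₀a hfa (inv_mem ht) (inv_mem htf) ((hinv htb).trans (hinv htfb).symm)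
      rwa [inv_inv] at this
    have hkk : kf⁻¹ * k ∈ H := coset_eq S hF hM ha hfa hx hkf hk hkfa
    have : t * (k * h') = t * tf⁻¹ * (tf * kf * (kf⁻¹ * k * h')) := by group
    rw [this]
    exact h1 _ hk₀ _ ⟨f, tf * kf, _, hfa, mul_mem htf hkf, mul_mem hkk hh', rfl⟩
  have hgen : Subgroup.closure ((H : Set G) ∪ {t}) = ⊤ := by
    set M := Subgroup.closure ((H : Set G) ∪ {t}) with hMdef
    have hHM : H ≤ M := fun h hh => Subgroup.subset_closure (Or.inl hh)
    have htM : t ∈ M := Subgroup.subset_closure (Or.inr rfl)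
    have hbM : ∀ e ∈ link D b, e ∈ M := by
      intro e he
      have h := link_conj S.tt t⁻¹ he
      rw [inv_inv, show t⁻¹ * b * t = a by rw [← hta]; group] at h
      have := mul_mem (mul_mem htM (hHM (Subgroup.subset_closure h))) (inv_mem htM)
      rwa [show t * (t⁻¹ * e * t) * t⁻¹ = e by group] at this
    let K : Set G := {x | ∃ m ∈ M, m * a * m⁻¹ = x}
    have lab := link_swap ha hb
    obtain ⟨B⟩ := hM b hb.1
    have hKb : link D b ⊆ K := fun x hx => by
      obtain ⟨m, hm, rfl⟩ := B.link_conj_of_mem S hF hb.1 lab hx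
      exact ⟨m, (Subgroup.closure_le M).2 hbM hm, rfl⟩
    have hKa : link D a ⊆ K := fun x hx => by
      obtain ⟨m, hm, rfl⟩ := A.link_conj_of_mem S hF ha hf₀a hx
      obtain ⟨m', hm', hm'f⟩ := hKb hf₀b
      exact ⟨m * m', mul_mem (hHM hm) hm', by rw [← hm'f]; group⟩
    have hKD : ∀ y ∈ D, y ∈ K := by
      intro y hy
      have hy' : y ∈ comp D Commute a := by
        rw [S.comp_eq ⟨a, ha, b, hb⟩ ha hy]
        exact mem_comp_self _ _ _
      change Relation.ReflTransGen _ a y at hy'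
      clear hy
      induction hy' with
      | refl => exact ⟨1, one_mem _, by group⟩
      | @tail p q _ h ih =>
        obtain ⟨m, hm, rfl⟩ := ih
        by_cases hpq : q = m * a * m⁻¹
        · exact ⟨m, hm, hpq.symm⟩
        have hl : m⁻¹ * q * m ∈ link D a := by
          have := link_conj S.tt m⁻¹ (show q ∈ link D (m * a * m⁻¹) from ⟨h.2.1, hpq, h.2.2⟩)
          simpa [mul_assoc] using this
        obtain ⟨n, hn, hne⟩ := hKa hl
        exact ⟨m * n, mul_mem hm hn, by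
          rw [show m * n * a * (m * n)⁻¹ = m * (n * a * n⁻¹) * m⁻¹ by group, hne]; group⟩
    rw [eq_top_iff, ← S.gen, Subgroup.closure_le]
    intro x hx
    obtain ⟨m, hm, rfl⟩ := hKD x hx
    exact mul_mem (mul_mem hm (hHM (self_mem_link_closure S hF hM ha))) (inv_mem hm)
  have hall : g ∈ Ω := by
    have hgM : g ∈ Subgroup.closure ((H : Set G) ∪ {t}) := hgen ▸ Subgroup.mem_top g
    rw [← Subgroup.mem_toSubmonoid, Subgroup.closure_toSubmonoid_of_finite] at hgM
    suffices ∀ s, s ∈ Submonoid.closure ((H : Set G) ∪ {t}) → ∀ e ∈ Ω, s * e ∈ Ω by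
      simpa using this g hgM 1 ⟨b, 1, 1, hb, one_mem _, one_mem _, by rw [mul_one]⟩
    intro s hs
    induction hs using Submonoid.closure_induction with
    | mem s hs =>
      rcases hs with hs | hs
      · exact h1 s hs
      · rw [Set.mem_singleton_iff] at hs; subst hs; exact h2
    | one => intro e he; rwa [one_mul]
    | mul u v _ _ i1 i2 => intro e he; rw [mul_assoc]; exact i1 _ (i2 e he)
  obtain ⟨x, k, h, hx, hk, hh, rfl⟩ := hall
  have hka : Commute (k * h) a := Subgroup.mem_centralizer_singleton_iff.1 hg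
  refine mul_mem (mem_of_fix S hF hM ha hx hk ?_) hh
  have := hka.mul_left (commute_link_closure hh).symm.inv_left
  rwa [mul_inv_cancel_right] at this

end CfsgLib.M22
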