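import Cfsg.Agent.Lib.ThreeTransp.M22Count
import Cfsg.Agent.Lib.ThreeTransp.M22Centralizer
import Cfsg.Prelude.Def_FischerSpaces

/-!
# Groups of type `M(22)`: order and width
-/

set_option autoImplicit false

namespace CfsgLib.M22

open CfsgLib.ThreeTransp CfsgLib.SporMisc
open CfsgLib.U6 (IsPt IsPlane)
open CfsgLib.PSUAut (Isot)

variable {G : Type*} [Group G] {D : Set G}
variable [Finite G] (S : Setup D) {F : Type} [Field F] [Fintype F] (hF : Fintype.card F = 2 ^ 2)
  (hM : ∀ a ∈ D, Nonempty (Model D a F))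
include S hF hM

omit S hM [Finite G] in
theorem card_psu : Nat.card (Cfsg.PSU 6 F 2) = 9196830720 := by
  have hsu := CfsgLib.Classical.card_su (n := 6) (F := F) (q := 2) hF (by norm_num)
  have hz := CfsgLib.Classical.card_center_su (n := 6) (F := F) (q := 2) hF (by norm_num)
  have h := Subgroup.card_eq_card_quotient_mul_card_subgroup (Subgroup.center (Cfsg.SU 6 F 2))
  rw [hz] at h
  norm_num [CfsgLib.Classical.unitaryOrder, Finset.prod_range_succ] at hsu
  rw [h] at hsu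
  norm_num [Nat.even_iff] at hsu
  show Nat.card (Cfsg.SU 6 F 2 ⧸ Subgroup.center (Cfsg.SU 6 F 2)) = _
  omega

theorem card_link_closure {a : G} (ha : a ∈ D) :
    Nat.card ↥(Subgroup.closure (link D a)) = 18393661440 := by
  obtain ⟨A⟩ := hM a ha
  have hker : A.ψ.ker = Subgroup.center _ := Subgroup.ext fun x => A.ker x
  rw [Subgroup.card_eq_card_quotient_mul_card_subgroup A.ψ.ker,
    Nat.card_congr (QuotientGroup.quotientKerEquivOfSurjective A.ψ A.surj).toEquiv, card_psu hF]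
  have h2 : Nat.card A.ψ.ker = 2 := by
    rw [hker, center_link S hF hM ha,
      Nat.card_congr (Subgroup.subgroupOfEquivOfLe
        (Subgroup.zpowers_le.2 (self_mem_link_closure S hF hM ha))).toEquiv, Nat.card_zpowers]
    exact orderOf_eq_prime (by rw [pow_two]; exact S.sqd ha) (S.tt.ne_one a ha)
  rw [h2]

theorem card_eq : Nat.card G = 2 ^ 17 * 3 ^ 9 * 5 ^ 2 * 7 * 11 * 13 := by
  obtain ⟨a, ha, -⟩ := S.exists_noncommuting
  have horb : MulAction.orbit (ConjAct G) a = D := by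
    ext x
    rw [MulAction.mem_orbit_iff]
    constructor
    · rintro ⟨g, rfl⟩
      exact S.tt.conj (ConjAct.ofConjAct g) a ha
    · intro hx
      obtain ⟨g, rfl⟩ := S.cls ha hx
      exact ⟨ConjAct.toConjAct g, rfl⟩
  have h := MulAction.index_stabilizer (G := ConjAct G) a
  rw [horb, ncard_eq S hF hM] at h
  have h' := Subgroup.index_mul_card (MulAction.stabilizer (ConjAct G) a)
  rw [h] at h'
  have hst : Nat.card (MulAction.stabilizer (ConjAct G) a) = Nat.card ↥(Subgroup.centralizer ({a} : Set G)) := by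
    refine Nat.card_congr ⟨fun g => ⟨ConjAct.ofConjAct g.1, Subgroup.mem_centralizer_singleton_iff.2 ?_⟩,
      fun g => ⟨ConjAct.toConjAct g.1, ?_⟩, fun g => rfl, fun g => rfl⟩
    · exact mul_inv_eq_iff_eq_mul.1 (MulAction.mem_stabilizer_iff.1 g.2)
    · refine MulAction.mem_stabilizer_iff.2 ?_
      show g.1 * a * g.1⁻¹ = a
      rw [Subgroup.mem_centralizer_singleton_iff.1 g.2, mul_inv_cancel_right]
  rw [hst, centralizer_eq S hF hM ha, card_link_closure S hF hM ha,
    Nat.card_congr (ConjAct.ofConjAct (G := G)).toEquiv] at h'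
  rw [← h']
  norm_num

theorem width_le {E : Set G} (hE : E ⊆ D) (hc : ∀ x ∈ E, ∀ y ∈ E, Commute x y) : E.ncard ≤ 22 := by
  rcases E.eq_empty_or_nonempty with rfl | ⟨a, haE⟩
  · simp
  have ha := hE haE
  obtain ⟨A⟩ := hM a ha
  set E' := E \ {a} with hE'
  have hsub : E' ⊆ link D a := fun e he => ⟨hE he.1, he.2, hc a haE e he.1⟩
  set V := {v : Fin 6 → F | ∃ (e : G) (le : e ∈ link D a), e ∈ E' ∧ IsPt (A.img le) v} with hV
  have hperp : ∀ v ∈ Submodule.span F V, ∀ w ∈ Submodule.span F V, Cfsg.hermForm 6 F 2 v w = 0 := by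
    intro v hv w hw
    induction hv using Submodule.span_induction with
    | mem v hv =>
      induction hw using Submodule.span_induction with
      | mem w hw =>
        obtain ⟨e, le, he, hv⟩ := hv
        obtain ⟨f, lf, hf, hw⟩ := hw
        exact (A.comm_iff S hF ha le lf hv hw).1 (hc e he.1 f hf.1)
      | zero => exact U6.zero_right hF v
      | add x y _ _ i1 i2 => rw [U6.add_right hF, i1, i2, add_zero]
      | smul r x _ i1 => rw [U6.smul_right hF, i1, mul_zero]
    | zero => exact U6.zero_left hF w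
    | add x y _ _ i1 i2 => rw [U6.add_left hF, i1, i2, add_zero]
    | smul r x _ i1 => rw [U6.smul_left hF, i1, mul_zero]
  set W := Submodule.span F V with hW
  have hdim : Module.finrank F W ≤ 3 := by
    by_contra hlt
    obtain ⟨f, hf⟩ := exists_linearIndependent_of_le_finrank (R := F) (M := W) (n := 4) (by omega)
    have hf' : LinearIndependent F fun i => (f i : Fin 6 → F) := hf.map' W.subtype W.ker_subtype
    have hi₂ : (f 1 : Fin 6 → F) ∉ Submodule.span F {(f 0 : Fin 6 → F)} := by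
      intro h
      obtain ⟨r, hr⟩ := Submodule.mem_span_singleton.1 h
      have := Fintype.linearIndependent_iff.1 hf' ![r, -1, 0, 0] (by
        rw [Fin.sum_univ_four]; simp [hr]) 1
      simp at this
    have hi₃ : (f 2 : Fin 6 → F) ∉ Submodule.span F {(f 0 : Fin 6 → F), (f 1 : Fin 6 → F)} := by
      intro h
      obtain ⟨r, s, hr⟩ := Submodule.mem_span_pair.1 h
      have := Fintype.linearIndependent_iff.1 hf' ![r, s, -1, 0] (by
        rw [Fin.sum_univ_four]; simp [← hr]; abel) 2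
      simp at this
    have P : IsPlane (f 0 : Fin 6 → F) (f 1) (f 2) := ⟨hperp _ (f 0).2 _ (f 0).2, hperp _ (f 1).2 _ (f 1).2,
      hperp _ (f 2).2 _ (f 2).2, hperp _ (f 0).2 _ (f 1).2, hperp _ (f 0).2 _ (f 2).2, hperp _ (f 1).2 _ (f 2).2,
      hf'.ne_zero 0, hi₂, hi₃⟩
    obtain ⟨p, q, r, hpqr⟩ := P.mem_of_perp hF (hperp _ (f 3).2 _ (f 0).2) (hperp _ (f 3).2 _ (f 1).2)
      (hperp _ (f 3).2 _ (f 2).2)
    have := Fintype.linearIndependent_iff.1 hf' ![p, q, r, -1] (by
      rw [Fin.sum_univ_four]; simp [hpqr]; abel) 3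
    simp at this
  have hcard : Nat.card W ≤ 64 := by
    rw [Module.natCard_eq_pow_finrank (K := F) (V := W), U6.card_field hF]
    calc 4 ^ Module.finrank F W ≤ 4 ^ 3 := Nat.pow_le_pow_right (by norm_num) hdim
      _ = 64 := by norm_num
  have h3 : 3 * E'.ncard ≤ 63 := by
    have h := A.card_link_filter S hF ha (fun e => e ∈ E') (fun v => v ∈ V) fun e le v hv =>
      ⟨fun he => ⟨e, le, he, hv⟩, fun ⟨f, lf, hf, hv'⟩ => by
        rwa [A.img_inj S ha le lf (IsPt.unique hF hv hv')]⟩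
    rw [show {e | e ∈ link D a ∧ e ∈ E'} = E' from Set.ext fun e => ⟨fun h => h.2, fun h => ⟨hsub h, h⟩⟩] at h
    rw [h]
    have hinj : Nat.card {v : Fin 6 → F // Isot 2 v ∧ v ∈ V} + 1 ≤ Nat.card W := by
      rw [← Finite.card_option]
      refine Nat.card_le_card_of_injective
        (fun o => o.elim (0 : W) fun v => ⟨v.1, Submodule.subset_span v.2.2⟩) ?_
      rintro (_ | v) (_ | w) h
      · rfl
      · exact absurd (congrArg Subtype.val h).symm w.2.1.1
      · exact absurd (congrArg Subtype.val h) v.2.1.1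
      · exact congrArg some (Subtype.ext (congrArg Subtype.val h :))
    omega
  have : E.ncard = E'.ncard + 1 := (Set.ncard_sdiff_singleton_add_one haE (Set.toFinite _)).symm
  omega

theorem exists_width : ∃ E : Set G, E ⊆ D ∧ (∀ x ∈ E, ∀ y ∈ E, Commute x y) ∧ E.ncard = 22 := by
  classical
  obtain ⟨a, ha, -⟩ := S.exists_noncommuting
  obtain ⟨A⟩ := hM a ha
  obtain ⟨b, hb⟩ := A.link_nonempty hF
  obtain ⟨u₁, hu₁⟩ := A.exists_pt_of_link S hF ha hb
  obtain ⟨u₂, hu₂, h12, h12'⟩ := U6.exists_perp_point hF hu₁.1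
  have hi₂ : u₂ ∉ Submodule.span F {u₁} := fun h => by
    obtain ⟨c, hc⟩ := Submodule.mem_span_singleton.1 h
    exact h12' c hc.symm
  obtain ⟨u₃, hu₃, h31, h32, hi₃⟩ := U6.exists_plane hF hu₁.1 hi₂
  have P : IsPlane u₁ u₂ u₃ := ⟨hu₁.1.2, hu₂.2, hu₃.2, h12, (U6.comm_zero hF).1 h31,
    (U6.comm_zero hF).1 h32, hu₁.1.1, hi₂, hi₃⟩
  let Q : (Fin 6 → F) → Prop := fun v => ∃ p : F × F × F, v = p.1 • u₁ + p.2.1 • u₂ + p.2.2 • u₃
  let E' : Set G := {e | e ∈ link D a ∧ ∃ (le : e ∈ link D a) (v : Fin 6 → F), IsPt (A.img le) v ∧ Q v}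
  have h := A.card_link_filter S hF ha
    (fun e => ∃ (le : e ∈ link D a) (v : Fin 6 → F), IsPt (A.img le) v ∧ Q v) Q fun e le v hv => by
    refine ⟨?_, fun hQ => ⟨le, v, hv, hQ⟩⟩
    rintro ⟨le', w, hw, p, rfl⟩
    obtain ⟨s, -, rfl⟩ := IsPt.span_eq hF hw hv
    exact ⟨(s * p.1, s * p.2.1, s * p.2.2), by module⟩
  have h63 : Nat.card {v : Fin 6 → F // Isot 2 v ∧ Q v} = 63 := by
    have e : {p : F × F × F // p ≠ 0} ≃ {v : Fin 6 → F // Isot 2 v ∧ Q v} :=
      Equiv.ofBijective (fun p => ⟨p.1.1 • u₁ + p.1.2.1 • u₂ + p.1.2.2 • u₃, ⟨fun h => p.2 (by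
          obtain ⟨h1, h2, h3⟩ := U6.coord_eq_zero hF P h
          exact Prod.ext h1 (Prod.ext h2 h3)), U6.perp_comb hF P _ _ _ _ _ _⟩, p.1, rfl⟩)
        ⟨fun p q h => by
          have h' : p.1.1 • u₁ + p.1.2.1 • u₂ + p.1.2.2 • u₃ = q.1.1 • u₁ + q.1.2.1 • u₂ + q.1.2.2 • u₃ :=
            congrArg Subtype.val h
          obtain ⟨h1, h2, h3⟩ := U6.coord_eq_zero hF P (p := p.1.1 - q.1.1) (q := p.1.2.1 - q.1.2.1)
            (r := p.1.2.2 - q.1.2.2) (by linear_combination (norm := module) h')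
          exact Subtype.ext (Prod.ext (sub_eq_zero.1 h1) (Prod.ext (sub_eq_zero.1 h2) (sub_eq_zero.1 h3))),
        fun ⟨v, hv, p, hp⟩ => ⟨⟨p, fun h0 => hv.1 (by rw [hp, h0]; simp)⟩, Subtype.ext hp.symm⟩⟩
    rw [← Nat.card_congr e, Nat.card_eq_fintype_card, Fintype.card_subtype_compl, Fintype.card_prod,
      Fintype.card_prod, Fintype.card_subtype_eq, hF]
    norm_num
  rw [h63] at h
  refine ⟨insert a E', Set.insert_subset ha fun e he => he.1.1, ?_, ?_⟩
  · have hE' : ∀ e ∈ E', ∀ f ∈ E', Commute e f := by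
      rintro e ⟨-, le, v, hv, p, rfl⟩ f ⟨-, lf, w, hw, q, rfl⟩
      exact (A.comm_iff S hF ha le lf hv hw).2 (U6.perp_comb hF P _ _ _ _ _ _)
    rintro x (rfl | hx) y (rfl | hy)
    · exact Commute.refl _
    · exact hy.1.2.2
    · exact hx.1.2.2.symm
    · exact hE' x hx y hy
  · rw [Set.ncard_insert_of_notMem (fun h => h.1.2.1 rfl) (Set.toFinite _)]
    have h' : 3 * E'.ncard = 63 := h
    omega

theorem width_eq : Cfsg.commutingWidth D = 22 := by
  obtain ⟨E, hE, hc, hn⟩ := exists_width S hF hM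
  refine le_antisymm (csSup_le ⟨_, E, hE, Set.toFinite _, hc, hn⟩ ?_)
    (le_csSup ⟨22, ?_⟩ ⟨E, hE, Set.toFinite _, hc, hn⟩) <;>
  · rintro n ⟨E', hE', -, hc', rfl⟩
    exact width_le S hF hM hE' hc'

end CfsgLib.M22
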