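import Cfsg.Agent.Lib.ThreeTransp.M22Triples

/-!
# Groups of type `M(22)`: involutions

Every involution fixes a member, since it would otherwise be an odd permutation of the `3510` members, and is
then a product of at most three commuting members.
-/

set_option autoImplicit false

namespace CfsgLib.M22

open CfsgLib.ThreeTransp CfsgLib.SporMisc
open CfsgLib.U6 (IsPt IsPlane vec3)
open CfsgLib.PSUAut (Isot act)
open CfsgLib.UnitarySpec (psuMk)

variable {G : Type*} [Group G] {D : Set G}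
variable [Finite G] (S : Setup D) {F : Type} [Field F] [Fintype F] (hF : Fintype.card F = 2 ^ 2)
  (hM : ∀ a ∈ D, Nonempty (Model D a F))
include S hF hM

/-- An involution commutes with a member. -/
theorem exists_fixed {t : G} (ht : orderOf t = 2) : ∃ a ∈ D, Commute t a := by
  classical
  by_contra hcon
  push Not at hcon
  have := Fintype.ofFinite G
  let φ : G →* Equiv.Perm D :=
    { toFun := fun g => (MulAut.conj g).toEquiv.subtypeEquiv fun x =>
        ⟨fun hx => S.tt.conj g x hx, fun hx => by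
          have := S.tt.conj g⁻¹ _ hx
          simpa [mul_assoc] using this⟩
      map_one' := by ext x; simp
      map_mul' := fun g h => by ext x; simp [mul_assoc] }
  have hfix : ∀ x : D, φ t x ≠ x := fun x h => hcon x.1 x.2
    (mul_inv_eq_iff_eq_mul.1 (congrArg Subtype.val h : t * x.1 * t⁻¹ = x.1))
  have hsupp : (φ t).support = Finset.univ :=
    Finset.eq_univ_of_forall fun x => Equiv.Perm.mem_support.2 (hfix x)
  have hcard : Fintype.card D = 3510 := by
    rw [← Nat.card_eq_fintype_card, Nat.card_coe_set_eq, ncard_eq S hF hM]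
  have hne : φ t ≠ 1 := fun h => by
    rw [h, Equiv.Perm.support_one] at hsupp
    have := congrArg Finset.card hsupp
    rw [Finset.card_empty, Finset.card_univ, hcard] at this
    norm_num at this
  have hord : orderOf (φ t) = 2 := orderOf_eq_prime (by rw [← map_pow, ← ht, pow_orderOf_eq_one, map_one]) hne
  obtain ⟨m, hm⟩ := Equiv.Perm.cycleType_prime_order (σ := φ t) (by rw [hord]; exact Nat.prime_two)
  rw [hord] at hm
  have hsum := (φ t).sum_cycleType
  rw [hm, Multiset.sum_replicate, hsupp, Finset.card_univ, hcard, smul_eq_mul] at hsum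
  have hsign : Equiv.Perm.sign (φ t) = -1 := by
    rw [Equiv.Perm.sign_of_cycleType, hm, Multiset.sum_replicate, Multiset.card_replicate, smul_eq_mul,
      hsum, show m + 1 = 1755 by omega]
    exact Odd.neg_one_pow (by decide)
  haveI := isSimple S hF hM
  set ψ := Equiv.Perm.sign.comp φ with hψ
  rcases IsSimpleGroup.eq_bot_or_eq_top_of_normal ψ.ker inferInstance with h | h
  · have hle := Nat.card_le_card_of_injective ψ ((MonoidHom.ker_eq_bot_iff ψ).1 h)
    rw [card_eq S hF hM, Nat.card_eq_fintype_card, Fintype.card_units_int] at hle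
    norm_num at hle
  · have hmem : t ∈ ψ.ker := h ▸ Subgroup.mem_top t
    rw [MonoidHom.mem_ker, hψ, MonoidHom.comp_apply, hsign] at hmem
    exact absurd hmem (by decide)

/-- The member times the product of a triangle of its link is the product of another triangle. -/
theorem four_to_three {a b c g : G} (ha : a ∈ D) (A : Model D a F) (hb : b ∈ link D a) (hc : c ∈ link D a)
    (hg : g ∈ link D a) {u₁ u₂ u₃ : Fin 6 → F} (hu₁ : IsPt (A.img hb) u₁) (hu₂ : IsPt (A.img hc) u₂)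
    (hu₃ : IsPt (A.img hg) u₃) (P : IsPlane u₁ u₂ u₃) (Tx : Tri D b c g) :
    ∃ p q r : G, Tri D p q r ∧ p * q * r = a * (b * c * g) := by
  obtain ⟨ω, h0, h1, hω, -⟩ := U6.exists_omega hF
  have := U6.charTwo hF
  have ptm : ∀ s t : F, ∃ (e : G) (he : e ∈ link D a), IsPt (A.img he) (vec3 u₁ u₂ u₃ s t) := by
    intro s t
    obtain ⟨X, hX⟩ := U6.exists_pt hF (U6.isot_vec3 hF P s t)
    obtain ⟨e, he, rfl⟩ := A.exists_link_of_pt S hF ha hX
    exact ⟨e, he, hX⟩
  have cm : ∀ {x y : G} (lx : x ∈ link D a) (ly : y ∈ link D a) {s t s' t' : F},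
      IsPt (A.img lx) (vec3 u₁ u₂ u₃ s t) → IsPt (A.img ly) (vec3 u₁ u₂ u₃ s' t') → Commute x y := by
    intro x y lx ly s t s' t' hx hy
    refine A.commute_of_img S ha lx ly ((IsPt.commute_iff hF hx hy).2 ?_)
    have := U6.perp_comb hF P 1 s t 1 s' t'
    rwa [one_smul] at this
  have vne : ∀ {x y : G} (lx : x ∈ link D a) (ly : y ∈ link D a) {s t s' t' : F},
      IsPt (A.img lx) (vec3 u₁ u₂ u₃ s t) → IsPt (A.img ly) (vec3 u₁ u₂ u₃ s' t') → (s ≠ s' ∨ t ≠ t') →
        x ≠ y := by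
    rintro x y lx ly s t s' t' hx hy h rfl
    obtain ⟨e1, e2⟩ := IsPt.vec3_inj hF P hx hy
    exact h.elim (fun h => h e1) fun h => h e2
  have hw1 : ω ^ 2 ≠ 1 := fun h => h0 (by
    linear_combination hω - h - CharTwo.two_eq_zero (R := F))
  have hw12 : ω ≠ ω ^ 2 := fun h => by
    have : ω * (ω - 1) = 0 := by linear_combination -h
    exact h1 (sub_eq_zero.1 ((mul_eq_zero.1 this).resolve_left h0))
  have attempt : ∀ {κ : F}, κ ≠ 0 → ∀ {p q r : G} (lp : p ∈ link D a) (lq : q ∈ link D a) (lr : r ∈ link D a),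
      IsPt (A.img lp) (vec3 u₁ u₂ u₃ 1 κ) → IsPt (A.img lq) (vec3 u₁ u₂ u₃ ω (κ * ω ^ 2)) →
      IsPt (A.img lr) (vec3 u₁ u₂ u₃ (ω ^ 2) (κ * ω)) →
      Tri D p q r ∧ p ∉ [b, c, g] ∧ (p * q * r = a * (b * c * g) ∨ p * q * r = b * c * g) := by
    intro κ hκ p q r lp lq lr hp hq hr
    have T : Tri D p q r := ⟨lp.1, lq.1, lr.1, vne lp lq hp hq (Or.inl h1.symm),
      vne lp lr hp hr (Or.inl hw1.symm), vne lq lr hq hr (Or.inl hw12), cm lp lq hp hq, cm lp lr hp hr,
      cm lq lr hq hr⟩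
    refine ⟨T, ?_, ?_⟩
    · intro hmem
      simp only [List.mem_cons, List.not_mem_nil, or_false] at hmem
      rcases hmem with e | e | e <;> subst e
      · exact IsPt.vec3_ne hF P hp one_ne_zero hu₁ (Or.inl rfl) rfl
      · exact IsPt.vec3_ne hF P hp one_ne_zero hu₂ (Or.inr (Or.inl rfl)) rfl
      · exact IsPt.vec3_ne hF P hp one_ne_zero hu₃ (Or.inr (Or.inr rfl)) rfl
    · have hmem : b * c * g * (p * q * r) ∈ Subgroup.closure (link D a) :=
        mul_mem (mul_mem (mul_mem (Subgroup.subset_closure hb) (Subgroup.subset_closure hc))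
          (Subgroup.subset_closure hg)) (mul_mem (mul_mem (Subgroup.subset_closure lp)
            (Subgroup.subset_closure lq)) (Subgroup.subset_closure lr))
      have hψ : A.ψ ⟨_, hmem⟩ = 1 := by
        rw [← U6.oval_prod hF P h0 hω hκ hu₁ hu₂ hu₃ hp hq hr]
        simp only [Model.img, ← map_mul]
        rfl
      have hsq := Tx.sq S
      rcases central_cases S hF hM ha A hmem hψ with h | h
      · right
        rw [mul_eq_one_iff_inv_eq, inv_eq_self hsq] at h
        exact h.symm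
      · left
        rw [← inv_mul_cancel_left (b * c * g) (p * q * r), h, inv_eq_self hsq]
        exact (((hb.2.2.mul_right hc.2.2).mul_right hg.2.2).symm).eq
  obtain ⟨p, lp, hp⟩ := ptm 1 1
  obtain ⟨q, lq, hq⟩ := ptm ω (1 * ω ^ 2)
  obtain ⟨r, lr, hr⟩ := ptm (ω ^ 2) (1 * ω)
  obtain ⟨p', lp', hp'⟩ := ptm 1 ω
  obtain ⟨q', lq', hq'⟩ := ptm ω (ω * ω ^ 2)
  obtain ⟨r', lr', hr'⟩ := ptm (ω ^ 2) (ω * ω)
  obtain ⟨T1, n1, e1⟩ := attempt one_ne_zero lp lq lr hp hq hr
  obtain ⟨T2, n2, e2⟩ := attempt h0 lp' lq' lr' hp' hq' hr'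
  rcases e1 with e1 | e1
  · exact ⟨p, q, r, T1, e1⟩
  rcases e2 with e2 | e2
  · exact ⟨p', q', r', T2, e2⟩
  exfalso
  obtain ⟨x, y, z, -, -, -, hall⟩ := exists_partner_triple S hF hM Tx
  have s1 := (hall p q r T1 e1).resolve_left fun h => n1 ((h p).1 List.mem_cons_self)
  have s2 := (hall p' q' r' T2 e2).resolve_left fun h => n2 ((h p').1 List.mem_cons_self)
  have hmem : p ∈ [p', q', r'] := (s2 p).2 ((s1 p).1 List.mem_cons_self)
  simp only [List.mem_cons, List.not_mem_nil, or_false] at hmem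
  rcases hmem with e | e | e
  · exact vne lp lp' hp hp' (Or.inr h1.symm) e
  · exact vne lp lq' hp hq' (Or.inl h1.symm) e
  · exact vne lp lr' hp hr' (Or.inl hw1.symm) e

/-- Every involution is a product of at most three commuting members. -/
theorem invol_cases {t : G} (ht : orderOf t = 2) :
    t ∈ D ∨ (∃ a b, a ∈ D ∧ b ∈ link D a ∧ a * b = t) ∨ ∃ a b c, Tri D a b c ∧ a * b * c = t := by
  obtain ⟨a, ha, hta⟩ := exists_fixed S hF hM ht
  have htH : t ∈ Subgroup.closure (link D a) := by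
    rw [← centralizer_eq S hF hM ha]; exact Subgroup.mem_centralizer_singleton_iff.2 hta
  have htt : t * t = 1 := by rw [← pow_two, ← ht, pow_orderOf_eq_one]
  obtain ⟨A⟩ := hM a ha
  obtain ⟨σ, hσ⟩ := U6.exists_sigma hF
  obtain ⟨T, hT, hTT⟩ := U6.exists_invol_lift hF (x := A.ψ ⟨t, htH⟩) (by
    rw [← map_mul, show (⟨t, htH⟩ : ↥(Subgroup.closure (link D a))) * ⟨t, htH⟩ = 1 from Subtype.ext htt, map_one])
  let M : Matrix (Fin 6) (Fin 6) F := T.1
  let N : (Fin 6 → F) →ₗ[F] (Fin 6 → F) := (M - 1).mulVecLin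
  have hNy : ∀ y, N y = act T y + y := by
    intro y
    show Matrix.mulVec (M - 1) y = _
    rw [Matrix.sub_mulVec, Matrix.one_mulVec, sub_eq_iff_eq_add, add_assoc, U6.vadd_self hF, add_zero]
    rfl
  have hTy : ∀ y, act T y = y + N y := fun y => by
    rw [hNy, ← add_assoc, add_comm y (act T y), add_assoc, U6.vadd_self hF, add_zero]
  have hTT' : ∀ y, act T (act T y) = y := fun y => by rw [← PSUAut.act_mul, hTT, PSUAut.act_one]
  have hN : ∀ y, N (N y) = 0 := fun y => by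
    rw [hNy, hNy, PSUAut.act_add, hTT', add_comm y (act T y)]
    exact U6.vadd_self hF _
  have hadj : ∀ u v, Cfsg.hermForm 6 F 2 v (N u) = Cfsg.hermForm 6 F 2 (N v) u := by
    intro u v
    rw [hNy, hNy, U6.add_right hF, U6.add_left hF]
    congr 1
    rw [← PSUAut.act_form T, hTT']
  obtain ⟨k, f, -, hfl, hff, hNf, -⟩ := CfsgLib.Known.UnitaryInvolution.exists_frame hF N hN hadj
  -- the members attached to the frame
  have lift : ∀ i : Fin k, ∃ (e : G) (le : e ∈ link D a) (s : Cfsg.SU 6 F 2),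
      IsPt (A.img le) (f i) ∧ (∀ y, act s y = y + Cfsg.hermForm 6 F 2 y (f i) • f i) ∧ psuMk s = A.img le := by
    intro i
    obtain ⟨X, hX⟩ := U6.exists_pt hF (v := f i) ⟨hfl.ne_zero i, hff i i⟩
    obtain ⟨e, le, rfl⟩ := A.exists_link_of_pt S hF ha hX
    obtain ⟨hv, s, hs, hsx⟩ := hX
    exact ⟨e, le, s, ⟨hv, s, hs, hsx⟩, hs, hsx⟩
  choose e le s hpt hs hsx using lift
  have hcomm : ∀ i j, Commute (e i) (e j) := fun i j =>
    (A.comm_iff S hF ha (le i) (le j) (hpt i) (hpt j)).2 (hff i j)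
  have hne : ∀ i j, i ≠ j → e i ≠ e j := by
    intro i j hij h
    have h1 := hpt i
    have h2 : IsPt (A.img (le i)) (f j) := by
      have : A.img (le j) = A.img (le i) := by simp only [Model.img, h]
      exact this ▸ hpt j
    obtain ⟨r, -, hr⟩ := IsPt.span_eq hF h1 h2
    have h0 := hfl.notMem_span_image (s := {i}) (x := j) (by simpa using Ne.symm hij)
    rw [Set.image_singleton] at h0
    exact h0 (Submodule.mem_span_singleton.2 ⟨r, hr.symm⟩)
  have finish : ∀ w : G, ∀ hw : w ∈ Subgroup.closure (link D a), A.ψ ⟨w, hw⟩ = psuMk T → t = w ∨ t = w * a := by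
    intro w hw hψ
    have hmem : w⁻¹ * t ∈ Subgroup.closure (link D a) := mul_mem (inv_mem hw) htH
    have hker : A.ψ ⟨w⁻¹ * t, hmem⟩ = 1 := by
      rw [show (⟨w⁻¹ * t, hmem⟩ : ↥(Subgroup.closure (link D a))) =
        (⟨w, hw⟩ : ↥(Subgroup.closure (link D a)))⁻¹ * ⟨t, htH⟩ from rfl, map_mul, map_inv, hψ, ← hT, inv_mul_cancel]
    rcases central_cases S hF hM ha A hmem hker with h | h
    · exact Or.inl (inv_mul_eq_one.1 h).symm
    · exact Or.inr (inv_mul_eq_iff_eq_mul.1 h)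
  match k, f, hfl, hff, hNf, e, le, s, hpt, hs, hsx, hcomm, hne with
  | 0, f, _, _, hNf, _, _, _, _, _, _, _, _ =>
    have hT1 : T = 1 := PSUAut.act_ext fun y => by rw [hTy, hNf, PSUAut.act_one]; simp
    rcases finish 1 (one_mem _) (by rw [hT1, map_one]; exact map_one A.ψ) with h | h
    · rw [h, orderOf_one] at ht; norm_num at ht
    · exact Or.inl (by rw [h, one_mul]; exact ha)
  | 1, f, _, _, hNf, e, le, s, hpt, hs, hsx, _, _ =>
    have hTs : T = s 0 := PSUAut.act_ext fun y => by rw [hTy, hNf, hs, Fin.sum_univ_one]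
    rcases finish (e 0) (Subgroup.subset_closure (le 0)) (by rw [hTs, hsx]; rfl) with h | h
    · exact Or.inl (h ▸ (le 0).1)
    · exact Or.inr (Or.inl ⟨e 0, a, (le 0).1, link_swap ha (le 0), h.symm⟩)
  | 2, f, _, hff, hNf, e, le, s, hpt, hs, hsx, hcomm, hne =>
    have hTs : T = s 0 * s 1 := PSUAut.act_ext fun y => by
      rw [hTy, hNf, PSUAut.act_mul, hs, hs, Fin.sum_univ_two]
      simp only [U6.add_left hF, U6.smul_left hF, hff, mul_zero, add_zero]
      abel
    have lab : e 1 ∈ link D (e 0) := ⟨(le 1).1, hne 1 0 (by decide), hcomm 0 1⟩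
    rcases finish (e 0 * e 1) (mul_mem (Subgroup.subset_closure (le 0)) (Subgroup.subset_closure (le 1))) (by
        rw [hTs, map_mul, hsx, hsx]; simp only [Model.img, ← map_mul]; rfl) with h | h
    · exact Or.inr (Or.inl ⟨e 0, e 1, (le 0).1, lab, h.symm⟩)
    · exact Or.inr (Or.inr ⟨e 0, e 1, a, ⟨(le 0).1, (le 1).1, ha, hne 0 1 (by decide), (le 0).2.1, (le 1).2.1,
        hcomm 0 1, (le 0).2.2.symm, (le 1).2.2.symm⟩, h.symm⟩)
  | 3, f, hfl, hff, hNf, e, le, s, hpt, hs, hsx, hcomm, hne =>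
    have hTs : T = s 0 * s 1 * s 2 := PSUAut.act_ext fun y => by
      rw [hTy, hNf, U6.act_mul3 hF (hs 0) (hs 1) (hs 2) (hff 1 0) (hff 2 0) (hff 2 1), Fin.sum_univ_three]
    have Tx : Tri D (e 0) (e 1) (e 2) := ⟨(le 0).1, (le 1).1, (le 2).1, hne 0 1 (by decide), hne 0 2 (by decide),
      hne 1 2 (by decide), hcomm 0 1, hcomm 0 2, hcomm 1 2⟩
    rcases finish (e 0 * e 1 * e 2) (mul_mem (mul_mem (Subgroup.subset_closure (le 0))
        (Subgroup.subset_closure (le 1))) (Subgroup.subset_closure (le 2))) (by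
        rw [hTs, map_mul, map_mul, hsx, hsx, hsx]; simp only [Model.img, ← map_mul]; rfl) with h | h
    · exact Or.inr (Or.inr ⟨_, _, _, Tx, h.symm⟩)
    · have hi₂ : f 1 ∉ Submodule.span F {f 0} := by
        have := hfl.notMem_span_image (s := {0}) (x := 1) (by simp)
        rwa [Set.image_singleton] at this
      have hi₃ : f 2 ∉ Submodule.span F {f 0, f 1} := by
        have := hfl.notMem_span_image (s := {0, 1}) (x := 2) (by simp)
        rwa [Set.image_pair] at this
      obtain ⟨p, q, r, Tp, hp⟩ := four_to_three S hF hM ha A (le 0) (le 1) (le 2) (hpt 0) (hpt 1) (hpt 2)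
        ⟨hff 0 0, hff 1 1, hff 2 2, hff 0 1, hff 0 2, hff 1 2, hfl.ne_zero 0, hi₂, hi₃⟩ Tx
      refine Or.inr (Or.inr ⟨p, q, r, Tp, ?_⟩)
      rw [hp, h]
      exact (((le 0).2.2.mul_right (le 1).2.2).mul_right (le 2).2.2).eq
  | k + 4, f, hfl, hff, _, _, _, _, _, _, _, _, _ =>
    exfalso
    have hi₂ : f 1 ∉ Submodule.span F {f 0} := by
      have := hfl.notMem_span_image (s := {0}) (x := 1) (by simp [Fin.ext_iff])
      rwa [Set.image_singleton] at this
    have hi₃ : f 2 ∉ Submodule.span F {f 0, f 1} := by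
      have := hfl.notMem_span_image (s := {0, 1}) (x := 2) (by simp [Fin.ext_iff, Nat.mod_eq_of_lt])
      rwa [Set.image_pair] at this
    have P : IsPlane (f 0) (f 1) (f 2) :=
      ⟨hff 0 0, hff 1 1, hff 2 2, hff 0 1, hff 0 2, hff 1 2, hfl.ne_zero 0, hi₂, hi₃⟩
    obtain ⟨p, q, r, h⟩ := P.mem_of_perp hF (hff 3 0) (hff 3 1) (hff 3 2)
    have h3 := hfl.notMem_span_image (s := {0, 1, 2}) (x := 3) (by simp [Fin.ext_iff, Nat.mod_eq_of_lt])
    rw [Set.image_insert_eq, Set.image_pair] at h3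
    refine h3 (h ▸ add_mem (add_mem ?_ ?_) ?_) <;>
      exact Submodule.smul_mem _ _ (Submodule.subset_span (by simp))

omit S hM [Finite G] in
/-- Four pairwise commuting distinct points do not have product one. -/
theorem four_ne_one {x y z w : Cfsg.PSU 6 F 2} {a b c d : Fin 6 → F} (hx : IsPt x a) (hy : IsPt y b)
    (hz : IsPt z c) (hw : IsPt w d) (hab : Cfsg.hermForm 6 F 2 a b = 0) (hac : Cfsg.hermForm 6 F 2 a c = 0)
    (had : Cfsg.hermForm 6 F 2 a d = 0) (hbc : Cfsg.hermForm 6 F 2 b c = 0)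
    (hbd : Cfsg.hermForm 6 F 2 b d = 0) (hcd : Cfsg.hermForm 6 F 2 c d = 0)
    (hnd : [x, y, z, w].Nodup) : x * y * z * w ≠ 1 := by
  intro h
  have hxy : x ≠ y := fun e => by simp [e] at hnd
  have hba := U6.IsPt.notMem_span hF hx hy hxy
  have hS : ∀ v : Fin 6 → F, Cfsg.hermForm 6 F 2 v a • a + Cfsg.hermForm 6 F 2 v b • b +
      Cfsg.hermForm 6 F 2 v c • c + Cfsg.hermForm 6 F 2 v d • d = 0 := by
    obtain ⟨-, t₀, k₀, hk₀⟩ := id hx
    obtain ⟨-, t₁, k₁, hk₁⟩ := id hy
    obtain ⟨-, t₂, k₂, hk₂⟩ := id hz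
    obtain ⟨-, t₃, k₃, hk₃⟩ := id hw
    rw [← hk₀, ← hk₁, ← hk₂, ← hk₃, ← map_mul, ← map_mul, ← map_mul] at h
    intro v
    have hact : ∀ v, act (t₀ * t₁ * t₂ * t₃) v = v + (Cfsg.hermForm 6 F 2 v a • a + Cfsg.hermForm 6 F 2 v b • b +
        Cfsg.hermForm 6 F 2 v c • c + Cfsg.hermForm 6 F 2 v d • d) := by
      intro v
      rw [PSUAut.act_mul, k₃, U6.act_mul3 hF k₀ k₁ k₂ ((U6.comm_zero hF).1 hab) ((U6.comm_zero hF).1 hac)
        ((U6.comm_zero hF).1 hbc)]
      simp only [U6.add_left hF, U6.smul_left hF, (U6.comm_zero hF).1 had, (U6.comm_zero hF).1 hbd,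
        (U6.comm_zero hF).1 hcd, mul_zero, add_zero]
      abel
    have h1 := U6.act_eq_self hF h hx.1.1 (by rw [hact, hx.1.2, hab, hac, had]; simp) v
    rwa [hact, add_eq_left] at h1
  have m1 : c ∈ Submodule.span F {a, b} := U6.span_aux hF hba hx.1.1 (c := c) (d := d) (e := 0)
    fun v => by rw [smul_zero, add_zero]; exact hS v
  have m2 : d ∈ Submodule.span F {a, b} := U6.span_aux hF hba hx.1.1 (c := d) (d := c) (e := 0)
    fun v => by rw [smul_zero, add_zero, ← hS v]; abel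
  obtain ⟨X₂, X₃, X₄, w₂, w₃, w₄, h₂, h₃, h₄, s₂, s₃, s₄, hnd', hprod, hall⟩ := U6.exists_line hF hx hy hab hxy
  have hz5 := hall z c hz m1
  have hw5 := hall w d hw m2
  simp only [List.nodup_cons, List.mem_cons, List.not_mem_nil, or_false, not_or, List.nodup_nil,
    not_false_eq_true, and_true] at hnd hnd'
  obtain ⟨⟨-, nxz, nxw⟩, ⟨nyz, nyw⟩, nzw⟩ := hnd
  obtain ⟨⟨-, n02, n03, n04⟩, ⟨n12, n13, n14⟩, ⟨n23, n24⟩, n34⟩ := hnd'
  simp only [List.mem_cons, List.not_mem_nil, or_false] at hz5 hw5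
  have hs2 := h₂
  have one_ne : ∀ {X : Cfsg.PSU 6 F 2} {v : Fin 6 → F}, IsPt X v → X ≠ 1 := by
    rintro X v ⟨hv, t, ht, hX⟩ h1
    obtain ⟨σ, hσ⟩ := U6.exists_sigma hF
    obtain ⟨e, he0, he⟩ := PSUAut.exists_perp hF hσ ![v] (by norm_num)
    have he' : Cfsg.hermForm 6 F 2 e v = 0 := he 0
    have hid := U6.act_eq_self hF (hX.trans h1) he0 (by rw [ht, he', zero_smul, add_zero])
    obtain ⟨y, hy⟩ := PSUAut.exists_partner hF hσ hv.1
    have := hid y
    rw [ht, hy, one_smul, add_eq_left] at this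
    exact hv.1 this
  have hperp : ∀ {X Y : Cfsg.PSU 6 F 2} {p q : Fin 6 → F}, IsPt X p → IsPt Y q → p ∈ Submodule.span F {a, b} →
      q ∈ Submodule.span F {a, b} → Commute X Y := fun hX hY hp hq =>
    (IsPt.commute_iff hF hX hY).2 (U6.perp_of_mem_span hF hx.1.2 hy.1.2 hab hp hq)
  have key : ∀ {P : Cfsg.PSU 6 F 2}, x * y * z * w * P = 1 → P = 1 := fun hP => by rwa [h, one_mul] at hP
  have czw : z * w = w * z := (hperp hz hw m1 m2).eq
  have sw : ∀ {u A B : Cfsg.PSU 6 F 2}, A * B = B * A → u * A * B = u * B * A := fun hAB => by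
    rw [mul_assoc, hAB, ← mul_assoc]
  rcases hz5 with e | e | e | e | e
  · exact nxz e.symm
  · exact nyz e.symm
  all_goals rcases hw5 with e' | e' | e' | e' | e'
  all_goals first
    | exact nxw e'.symm
    | exact nyw e'.symm
    | exact nzw (e.trans e'.symm)
    | skip
  · subst e e'
    exact one_ne h₄ (key hprod)
  · subst e e'
    exact one_ne h₃ (key (by rw [sw (hperp hw h₃ m2 s₃).eq]; exact hprod))
  · subst e e'
    exact one_ne h₄ (key (by rw [sw czw]; exact hprod))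
  · subst e e'
    exact one_ne h₂ (key (by rw [sw (hperp hw h₂ m2 s₂).eq, sw (hperp hz h₂ m1 s₂).eq]; exact hprod))
  · subst e e'
    exact one_ne h₃ (key (by rw [sw czw, sw (hperp hz h₃ m1 s₃).eq]; exact hprod))
  · subst e e'
    exact one_ne h₂ (key (by
      rw [sw czw, sw (hperp hz h₂ m1 s₂).eq, sw (hperp hw h₂ m2 s₂).eq]; exact hprod))

end CfsgLib.M22
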