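import Cfsg.Agent.Lib.ThreeTransp.M22PairQuot
import Cfsg.Agent.Lib.Local.CharP
import Cfsg.Agent.Lib.MonsterType.Perp
import Cfsg.Agent.Lib.LargeExtra.SubExtra
import Cfsg.Agent.Lib.Classical.SmallIso.OmegaSixMinus
import Cfsg.Agent.Lib.Classical.QuadCentre

/-!
# Groups of type `M(22)`: the generalised Fitting subgroup of the centraliser of a product of two members

It is the kernel on lines, the product of a group of order two and an extraspecial group; the quotient is the
full isometry group of the elliptic form in dimension six.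
-/

set_option autoImplicit false

namespace CfsgLib.M22

open CfsgLib.ThreeTransp CfsgLib.SporMisc
open CfsgLib.U6 (IsPt PtFrame)
open CfsgLib.UnitarySpec (psuMk)

theorem normal_two_mulAut_eq_bot {T : Type*} [Group T] [Finite T] [IsSimpleGroup T]
    (hc : Subgroup.center T = ⊥) (hT : ¬ IsPGroup 2 T) (N : Subgroup (MulAut T)) [N.Normal]
    (hN : IsPGroup 2 N) : N = ⊥ := by
  have hinj : Function.Injective (MulAut.conj : T →* MulAut T) := by
    rw [← MonoidHom.ker_eq_bot_iff, eq_bot_iff, ← hc]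
    intro s hs
    refine Subgroup.mem_center_iff.2 fun t => ?_
    have h := DFunLike.congr_fun (show MulAut.conj s = 1 from hs) t
    rw [MulAut.conj_apply, MulAut.one_apply, mul_inv_eq_iff_eq_mul] at h
    exact h.symm
  have hM : N.comap (MulAut.conj : T →* MulAut T) = ⊥ := by
    rcases IsSimpleGroup.eq_bot_or_eq_top_of_normal (N.comap (MulAut.conj : T →* MulAut T)) inferInstance
      with h | h
    · exact h
    · exact absurd (((hN.comap_of_injective _ hinj).of_equiv
        ((MulEquiv.subgroupCongr h).trans Subgroup.topEquiv))) hT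
  rw [eq_bot_iff]
  intro σ hσ
  rw [Subgroup.mem_bot]
  refine MulEquiv.ext fun s => ?_
  have h1 : MulAut.conj (σ s * s⁻¹) ∈ N := by
    rw [map_mul, map_inv, show MulAut.conj (σ s) = σ * MulAut.conj s * σ⁻¹ from MulEquiv.ext fun t => by
      simp [MulAut.conj_apply]]
    rw [show σ * MulAut.conj s * σ⁻¹ * (MulAut.conj s)⁻¹ =
      σ * (MulAut.conj s * σ⁻¹ * (MulAut.conj s)⁻¹) by group]
    exact mul_mem hσ (Subgroup.Normal.conj_mem inferInstance _ (inv_mem hσ) _)
  have h2 : σ s * s⁻¹ ∈ N.comap (MulAut.conj : T →* MulAut T) := h1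
  rw [hM, Subgroup.mem_bot, mul_inv_eq_one] at h2
  exact h2

variable {F : Type} [Field F] [Fintype F]

/-- The full isometry group of the elliptic form in dimension six over `GF(2)` is `Aut PSU₄(2)`. -/
theorem exists_minus_six_iso (hF : Fintype.card F = 2 ^ 2) :
    Nonempty (MulAut (Cfsg.PSU 4 F 2) ≃* Cfsg.isometryGroup (ZMod 2) (Cfsg.quadFormMinus 2 (ZMod 2) 1 1)) := by
  classical
  have hab : CfsgLib.Classical.BinAniso (1 : ZMod 2) 1 := by
    unfold CfsgLib.Classical.BinAniso
    decide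
  set Q := CfsgLib.Classical.qExt 2 (CfsgLib.Classical.qBin (1 : ZMod 2) 1) with hQdef
  have hnd : CfsgLib.Classical.PolarNondeg Q :=
    CfsgLib.Classical.polarNondeg_qExt (CfsgLib.Classical.polarNondeg_qBin hab) 2
  rw [← CfsgLib.Classical.coe_qExt_qBin 2 (1 : ZMod 2) 1, ← hQdef]
  obtain ⟨e⟩ := CfsgLib.Classical.SmallIso.pomega_six_minus (F := ZMod 2) (K := F) (q := 2) (a := 1) (b := 1)
    (ZMod.card 2) hF hab
  rw [← CfsgLib.Classical.coe_qExt_qBin 2 (1 : ZMod 2) 1, ← hQdef] at e
  let O := Cfsg.isometryGroup (ZMod 2) ⇑Q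
  let W := Cfsg.Omega (ZMod 2) ⇑Q
  let ψ : ↥O →* MulAut ↥W := MulAut.conjNormal
  have hinj : Function.Injective ψ := by
    rw [← MonoidHom.ker_eq_bot_iff, eq_bot_iff]
    intro z hz
    have hcomm : ∀ x ∈ commutator ↥O, z * x = x * z := by
      intro x hx
      have h := congrArg Subtype.val (DFunLike.congr_fun (show ψ z = 1 from hz) ⟨x, hx⟩)
      rw [show ((ψ z ⟨x, hx⟩ : ↥W) : ↥O) = z * x * z⁻¹ from MulAut.conjNormal_apply _ _] at h
      exact mul_inv_eq_iff_eq_mul.1 h
    rw [Subgroup.mem_bot]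
    refine (CfsgLib.Classical.isoEquiv Q).injective ?_
    rw [map_one]
    have hzq : ∀ y ∈ commutator (CfsgLib.Classical.qAut Q),
        CfsgLib.Classical.isoEquiv Q z * y = y * CfsgLib.Classical.isoEquiv Q z := by
      intro y hy
      have hy' : (CfsgLib.Classical.isoEquiv Q).symm y ∈ commutator ↥O := by
        have hle : (commutator (CfsgLib.Classical.qAut Q)).map (CfsgLib.Classical.isoEquiv Q).symm.toMonoidHom ≤
            commutator ↥O := by
          rw [commutator_def, Subgroup.map_commutator, commutator_def]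
          exact Subgroup.commutator_mono le_top le_top
        exact hle ⟨y, hy, rfl⟩
      have := congrArg (CfsgLib.Classical.isoEquiv Q) (hcomm _ hy')
      simpa using this
    refine Subtype.ext (LinearEquiv.ext fun x => ?_)
    have h6 : 6 ≤ Module.finrank (ZMod 2) ((Fin 2 ⊕ Fin 2) ⊕ Fin 2 → ZMod 2) := by simp
    rcases CfsgLib.Classical.centralizer_commutator Q hnd h6 hzq with h | h
    · exact h x
    · rw [h x]
      show -x = x
      funext i
      exact ZMod.neg_eq_self_mod_two _
  have hcW : Subgroup.center ↥W = ⊥ := by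
    rw [eq_bot_iff]
    intro x hx
    rw [Subgroup.mem_bot]
    refine Subtype.ext (hinj (MulEquiv.ext fun y => Subtype.ext ?_))
    rw [OneMemClass.coe_one, map_one, MulAut.one_apply, show ((ψ (x : ↥O) y : ↥W) : ↥O) = x * y * (x : ↥O)⁻¹ from
      MulAut.conjNormal_apply _ _]
    have h := congrArg Subtype.val (Subgroup.mem_center_iff.1 hx y)
    rw [Subgroup.coe_mul, Subgroup.coe_mul] at h
    rw [← h, mul_inv_cancel_right]
  let e' : ↥W ≃* Cfsg.PSU 4 F 2 :=
    (QuotientGroup.quotientBot (G := ↥W)).symm.trans ((QuotientGroup.quotientMulEquivOfEq hcW.symm).trans e)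
  have hcO : Nat.card ↥O = 51840 := by
    rw [Nat.card_congr (CfsgLib.Classical.isoEquiv Q).toEquiv, hQdef,
      CfsgLib.Classical.card_qAut_minus hab 2, ZMod.card]
    simp [Finset.prod_range_succ]
  have hcA : Nat.card (MulAut ↥W) = 51840 := by
    rw [Nat.card_congr (MulAut.congr e').toEquiv,
      CfsgLib.Classical.AutOrder.card_mulaut_psu (K := F) 2 1 le_rfl (pow_one 2).symm hF 4 (by norm_num)
        (by norm_num),
      ← Nat.card_congr (Equiv.ofBijective _ (psuMk_four_bijective (F := F) hF)), card_su_four hF]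
    norm_num
  haveI : Finite ↥O := Nat.finite_of_card_ne_zero (by rw [hcO]; norm_num)
  haveI : Finite (MulAut ↥W) := Nat.finite_of_card_ne_zero (by rw [hcA]; norm_num)
  have hbij : Function.Bijective ψ := (Nat.bijective_iff_injective_and_card ψ).2 ⟨hinj, hcO.trans hcA.symm⟩
  exact ⟨(MulAut.congr e').symm.trans (MulEquiv.ofBijective ψ hbij).symm⟩

variable {G : Type*} [Group G] {D : Set G} [Finite G] {a b : G}
variable (S : Setup D) (hF : Fintype.card F = 2 ^ 2) (hM : ∀ a ∈ D, Nonempty (Model D a F))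
  (ha : a ∈ D) (hb : b ∈ link D a)
include S hF hM ha hb

theorem lineKer_isPGroup : IsPGroup 2 ↥(lineKer D S a b) :=
  IsPGroup.of_card (n := 10) (by rw [card_lineKer S hF hM ha hb]; norm_num)

theorem fitting_cent_pair :
    Cfsg.generalizedFittingSubgroup ↥(Subgroup.centralizer ({a * b} : Set G)) =
      (lineKer D S a b).subgroupOf (Subgroup.centralizer ({a * b} : Set G)) := by
  haveI : Fact (Nat.Prime 2) := ⟨Nat.prime_two⟩
  set C := Subgroup.centralizer ({a * b} : Set G) with hC
  set E := lineKer D S a b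
  obtain ⟨θ, hθ, hker⟩ := exists_theta S hF hM ha hb
  haveI hn : (E.subgroupOf C).Normal := hker ▸ θ.normal_ker
  have hEp : IsPGroup 2 ↥(E.subgroupOf C) :=
    (lineKer_isPGroup S hF hM ha hb).of_equiv
      (Subgroup.subgroupOfEquivOfLe (lineKer_le_cent S hF hM ha hb)).symm
  have hle : E.subgroupOf C ≤ Cfsg.pCore 2 ↥C := CfsgLib.Cores.le_pCore hEp
  have hcore : Cfsg.pCore 2 ↥C = E.subgroupOf C := by
    refine le_antisymm ?_ hle
    haveI : IsSimpleGroup (Cfsg.PSU 4 F 2) :=
      CfsgLib.Classical.Unitary.isSimpleGroup_PSU hF (by norm_num) (by norm_num)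
    haveI : Finite (MulAut (Cfsg.PSU 4 F 2)) := Finite.of_surjective θ hθ
    haveI : ((Cfsg.pCore 2 ↥C).map θ).Normal := by
      exact Subgroup.Normal.map inferInstance θ hθ
    have hc : Subgroup.center (Cfsg.PSU 4 F 2) = ⊥ := by
      haveI := psuMk_four_bijective (F := F) hF
      rw [eq_bot_iff]
      intro x hx
      obtain ⟨y, rfl⟩ := (psuMk_four_bijective (F := F) hF).2 x
      have hy : y ∈ Subgroup.center (Cfsg.SU 4 F 2) := Subgroup.mem_center_iff.2 fun z =>
        (psuMk_four_bijective (F := F) hF).1 (by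
          rw [map_mul, map_mul]; exact Subgroup.mem_center_iff.1 hx (psuMk z))
      rw [Subgroup.mem_bot]
      exact (QuotientGroup.eq_one_iff _).2 hy
    have hnp : ¬ IsPGroup 2 (Cfsg.PSU 4 F 2) := by
      intro h
      obtain ⟨n, hn⟩ := IsPGroup.iff_card.1 h
      rw [← Nat.card_congr (Equiv.ofBijective _ (psuMk_four_bijective (F := F) hF)), card_su_four hF] at hn
      have h3 : 3 ∣ 2 ^ n := hn ▸ (by norm_num)
      have := Nat.Prime.dvd_of_dvd_pow (by norm_num : Nat.Prime 3) h3
      norm_num at this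
    have := normal_two_mulAut_eq_bot hc hnp _ ((CfsgLib.Cores.isPGroup_pCore 2).map θ)
    rw [Subgroup.map_eq_bot_iff, hker] at this
    exact this
  have hchar : CfsgLib.Local.HasCharP 2 ↥C := by
    show Subgroup.centralizer (Cfsg.pCore 2 ↥C : Set ↥C) ≤ Cfsg.pCore 2 ↥C
    rw [hcore]
    intro x hx
    rw [Subgroup.mem_subgroupOf]
    have hxE : ∀ y ∈ E, Commute (x : G) y := fun y hy =>
      (congrArg Subtype.val (Subgroup.mem_centralizer_iff.1 hx ⟨y, lineKer_le_cent S hF hM ha hb hy⟩
        (Subgroup.mem_subgroupOf.2 hy))).symm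
    have hxK : (x : G) ∈ pairCent a b := by
      refine mem_pairCent.2 ⟨hxE a (self_mem_lineKer S hF hM ha hb).1, hxE b (self_mem_lineKer S hF hM ha hb).2⟩
    refine pair_le_lineKer S hF hM ha hb ?_
    rw [← centralizer_lineKer_inf S hF hM ha hb]
    exact ⟨hxK, Subgroup.mem_centralizer_iff.2 fun y hy => (hxE y hy).symm.eq⟩
  rw [hchar.generalizedFittingSubgroup_eq, hcore]

/-- The kernel on lines splits off a group of order two over an extraspecial group. -/
theorem lineKer_split : ∃ E₀ : Subgroup G, E₀ ≤ lineKer D S a b ∧ Nat.card ↥E₀ = 512 ∧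
    Cfsg.IsExtraspecial 2 ↥E₀ ∧ Nonempty (↥(lineKer D S a b) ≃* Multiplicative (ZMod 2) × ↥E₀) := by
  classical
  set E := lineKer D S a b
  set q := a * b with hq
  have haa := S.sqd ha
  have hab : Commute a b := hb.2.2
  have hqq : q * q = 1 := by rw [hq, hab.symm.mul_mul_mul_comm, haa, S.sqd hb.1, one_mul]
  have hq1 : q ≠ 1 := (pair_notMem S hF hM ha hb).1
  have hqa : q ≠ a := fun h => S.tt.ne_one b hb.1 (mul_eq_left.1 h)
  have ha1 : a ≠ 1 := S.tt.ne_one a ha
  have hZ : ∀ x, x ∈ Subgroup.zpowers q ↔ x = 1 ∨ x = q := by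
    intro x
    constructor
    · intro hx
      obtain ⟨n, rfl⟩ := Subgroup.mem_zpowers_iff.1 hx
      rcases Int.even_or_odd' n with ⟨m, rfl | rfl⟩
      · exact Or.inl (by rw [zpow_mul, zpow_two, hqq, one_zpow])
      · exact Or.inr (by rw [zpow_add, zpow_mul, zpow_two, hqq, one_zpow, one_mul, zpow_one])
    · rintro (rfl | rfl)
      · exact one_mem _
      · exact Subgroup.mem_zpowers _
  have haE := (self_mem_lineKer S hF hM ha hb).1
  have hqE : q ∈ E := mul_mem haE (self_mem_lineKer S hF hM ha hb).2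
  obtain ⟨E₀, ⟨hE₀E, hqE₀, haE₀⟩, hmax⟩ := Set.Finite.exists_maximal
    (s := {H : Subgroup G | H ≤ E ∧ q ∈ H ∧ a ∉ H}) (Set.toFinite _)
    ⟨Subgroup.zpowers q, Subgroup.zpowers_le.2 hqE, Subgroup.mem_zpowers q, fun h => by
      rcases (hZ a).1 h with h | h
      exacts [ha1 h, hqa h.symm]⟩
  have hZle : Subgroup.zpowers q ≤ E₀ := Subgroup.zpowers_le.2 hqE₀
  have hnorm : ∀ x ∈ E, ∀ y ∈ E₀, x * y * x⁻¹ ∈ E₀ := fun x hx y hy => by
    have := mul_mem (hZle (lineKer_special S hF hM ha hb hx (hE₀E hy)).1) hy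
    rwa [inv_mul_cancel_right] at this
  have hcases : ∀ x ∈ E, x ∈ E₀ ∨ a * x ∈ E₀ := by
    intro x hx
    by_cases hx0 : x ∈ E₀
    · exact Or.inl hx0
    right
    let M : Subgroup G :=
      { carrier := {y | y ∈ E₀ ∨ ∃ z ∈ E₀, y = z * x}
        one_mem' := Or.inl (one_mem _)
        mul_mem' := by
          rintro y y' (hy | ⟨z, hz, rfl⟩) (hy' | ⟨z', hz', rfl⟩)
          · exact Or.inl (mul_mem hy hy')
          · exact Or.inr ⟨y * z', mul_mem hy hz', (mul_assoc _ _ _).symm⟩
          · exact Or.inr ⟨z * (x * y' * x⁻¹), mul_mem hz (hnorm x hx y' hy'), by group⟩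
          · refine Or.inl ?_
            rw [show z * x * (z' * x) = z * (x * z' * x⁻¹) * (x * x) by group]
            exact mul_mem (mul_mem hz (hnorm x hx z' hz')) (hZle (lineKer_special S hF hM ha hb hx hx).2)
        inv_mem' := by
          rintro y (hy | ⟨z, hz, rfl⟩)
          · exact Or.inl (inv_mem hy)
          · refine Or.inr ⟨x⁻¹ * z⁻¹ * x⁻¹⁻¹ * (x * x)⁻¹, mul_mem (hnorm x⁻¹ (inv_mem hx) _ (inv_mem hz))
              (inv_mem (hZle (lineKer_special S hF hM ha hb hx hx).2)), ?_⟩
            group }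
    have hEM : E₀ ≤ M := fun y hy => Or.inl hy
    have hxM : x ∈ M := Or.inr ⟨1, one_mem _, (one_mul x).symm⟩
    have hME : M ≤ E := by
      rintro y (hy | ⟨z, hz, rfl⟩)
      · exact hE₀E hy
      · exact mul_mem (hE₀E hz) hx
    have haM : a ∈ M := by
      by_contra hcon
      exact hx0 (hmax ⟨hME, hEM hqE₀, hcon⟩ hEM hxM)
    rcases haM with h | ⟨z, hz, hzx⟩
    · exact absurd h haE₀
    · have : z⁻¹ = x * a := inv_eq_of_mul_eq_one_right (by rw [← mul_assoc, ← hzx, haa])
      have hax : a * x = x * a := ((mem_pairCent.1 (lineKer_le hx)).1).symm.eq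
      rw [hax, ← this]
      exact inv_mem hz
  have hcomm : ∀ y ∈ E, Commute a y := fun y hy => ((mem_pairCent.1 (lineKer_le hy)).1).symm
  have hcyc : Nat.card ↥(Subgroup.zpowers a) = 2 := by
    rw [Nat.card_zpowers, orderOf_eq_prime (by rw [pow_two, haa]) ha1]
  let e2 : Multiplicative (ZMod 2) ≃* ↥(Subgroup.zpowers a) := mulEquivOfCyclicCardEq (by rw [hcyc]; simp)
  let f : ↥(Subgroup.zpowers a) × ↥E₀ →* ↥E :=
    MonoidHom.noncommCoprod (Subgroup.inclusion (Subgroup.zpowers_le.2 haE)) (Subgroup.inclusion hE₀E)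
      (fun m n => Subtype.ext (by
        obtain ⟨k, hk⟩ := Subgroup.mem_zpowers_iff.1 m.2
        show (m : G) * n = n * m
        rw [← hk]
        exact ((hcomm n (hE₀E n.2)).zpow_left k).eq))
  have hf : ∀ p, ((f p : ↥E) : G) = (p.1 : G) * p.2 := fun p => rfl
  have hza : ∀ y ∈ Subgroup.zpowers a, y = 1 ∨ y = a := by
    intro y hy
    obtain ⟨n, rfl⟩ := Subgroup.mem_zpowers_iff.1 hy
    rcases Int.even_or_odd' n with ⟨m, rfl | rfl⟩
    · exact Or.inl (by rw [zpow_mul, zpow_two, haa, one_zpow])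
    · exact Or.inr (by rw [zpow_add, zpow_mul, zpow_two, haa, one_zpow, one_mul, zpow_one])
  have hbij : Function.Bijective f := by
    refine ⟨(MonoidHom.ker_eq_bot_iff f).1 (eq_bot_iff.2 fun p hp => ?_), fun y => ?_⟩
    · have h : (p.1 : G) * p.2 = 1 := (hf p).symm.trans (congrArg Subtype.val (show f p = 1 from hp))
      rcases hza _ p.1.2 with h1 | h1
      · rw [h1, one_mul] at h
        exact Prod.ext (Subtype.ext h1) (Subtype.ext h)
      · refine absurd ?_ haE₀
        rw [h1, mul_eq_one_iff_eq_inv] at h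
        rw [h]
        exact inv_mem p.2.2
    · rcases hcases y y.2 with h | h
      · exact ⟨(1, ⟨y, h⟩), Subtype.ext (by rw [hf]; exact one_mul _)⟩
      · exact ⟨(⟨a, Subgroup.mem_zpowers a⟩, ⟨a * y, h⟩), Subtype.ext (by rw [hf]; exact cancel₂ haa _)⟩
  let iso : ↥E ≃* Multiplicative (ZMod 2) × ↥E₀ :=
    (MulEquiv.ofBijective f hbij).symm.trans (MulEquiv.prodCongr e2.symm (MulEquiv.refl _))
  have hcard : Nat.card ↥E₀ = 512 := by
    have := Nat.card_congr iso.toEquiv
    rw [card_lineKer S hF hM ha hb, Nat.card_prod] at this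
    simp at this
    omega
  have hp : IsPGroup 2 ↥E₀ := IsPGroup.of_card (n := 9) (by rw [hcard]; norm_num)
  have hcen : ∀ x : ↥E₀, x ∈ Subgroup.center ↥E₀ ↔ x = 1 ∨ x = ⟨q, hqE₀⟩ := by
    intro x
    constructor
    · intro hx
      have hxall : ∀ y ∈ E, (y : G) * x = x * y := by
        intro y hy
        rcases hcases y hy with h | h
        · exact congrArg Subtype.val (Subgroup.mem_center_iff.1 hx ⟨y, h⟩)
        · have h1 : Commute (a * y) (x : G) :=
            congrArg Subtype.val (Subgroup.mem_center_iff.1 hx ⟨a * y, h⟩)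
          have h2 := (hcomm x (hE₀E x.2)).mul_left h1
          rwa [cancel₂ haa] at h2
      have hxV : (x : G) ∈ Subgroup.closure ({a, b} : Set G) := by
        rw [← centralizer_lineKer_inf S hF hM ha hb]
        exact ⟨lineKer_le (hE₀E x.2), Subgroup.mem_centralizer_iff.2 fun y hy => hxall y hy⟩
      have hfour : ∀ y ∈ Subgroup.closure ({a, b} : Set G), y = 1 ∨ y = a ∨ y = b ∨ y = q := by
        intro y hy
        have hbb := S.sqd hb.1
        induction hy using Subgroup.closure_induction with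
        | mem y hy => rcases hy with rfl | rfl <;> simp
        | one => exact Or.inl rfl
        | mul y z _ _ hy hz =>
          rcases hy with rfl | rfl | rfl | rfl <;> rcases hz with rfl | rfl | rfl | rfl <;>
            simp [hq, haa, hbb, hab.eq, cancel₂ haa, cancel₂ hbb, mul_assoc]
          all_goals
            first
            | (rw [← hab.eq]; simp [cancel₂ haa, hbb])
            | (rw [← mul_assoc, ← hab.eq, mul_assoc, hbb]; simp)
        | inv y _ hy =>
          rcases hy with rfl | rfl | rfl | rfl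
          · simp
          · simp [S.tt.inv_eq ha]
          · simp [S.tt.inv_eq hb.1]
          · simp [inv_eq_of_mul_eq_one_right hqq]
      rcases hfour _ hxV with h | h | h | h
      · exact Or.inl (Subtype.ext h)
      · exact absurd (h ▸ x.2) haE₀
      · refine absurd ?_ haE₀
        rw [show a = q * b by rw [hq, mul_assoc, S.sqd hb.1, mul_one]]
        exact mul_mem hqE₀ (h ▸ x.2)
      · exact Or.inr (Subtype.ext h)
    · rintro (rfl | rfl)
      · exact one_mem _
      · refine Subgroup.mem_center_iff.2 fun y => Subtype.ext ?_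
        obtain ⟨h1, h2⟩ := mem_pairCent.1 (lineKer_le (hE₀E y.2))
        exact (h1.mul_right h2).eq
  have hna : ∃ x y : ↥E₀, x * y ≠ y * x := by
    by_contra hcon
    push Not at hcon
    have htop : Subgroup.center ↥E₀ = ⊤ :=
      eq_top_iff.2 fun x _ => Subgroup.mem_center_iff.2 fun y => hcon y x
    have hle : Nat.card ↥E₀ ≤ 2 := by
      rw [← Nat.card_univ, Nat.card_coe_set_eq]
      refine (Set.ncard_le_ncard (t := {1, ⟨q, hqE₀⟩}) (fun x _ => ?_) (Set.toFinite _)).trans
        ((Set.ncard_insert_le _ _).trans (by rw [Set.ncard_singleton]))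
      simpa using (hcen x).1 (htop ▸ Subgroup.mem_top x)
    omega
  have hext : Cfsg.IsExtraspecial 2 ↥E₀ :=
    CfsgLib.MonsterType.isExtraspecial_of_center hp ⟨q, hqE₀⟩ (fun h => hq1 (congrArg Subtype.val h)) hcen
      (fun x y => (((hZ _).1 (lineKer_special S hF hM ha hb (hE₀E x.2) (hE₀E y.2)).1)).imp
        (fun h => Subtype.ext h) (fun h => Subtype.ext h))
      (fun x => (((hZ _).1 (lineKer_special S hF hM ha hb (hE₀E x.2) (hE₀E x.2)).2)).imp
        (fun h => Subtype.ext h) (fun h => Subtype.ext h)) hna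
  exact ⟨E₀, hE₀E, hcard, hext, ⟨iso⟩⟩

end CfsgLib.M22
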