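import Cfsg.Agent.Lib.ThreeTransp.M22Extra

/-!
# Groups of type `M(22)`: bases

A base is a set of `22` pairwise commuting members.  In the link of one of its members it is a plane; a
member off a base commutes with none or six of its members; two commuting members lie in `27` bases.
-/

set_option autoImplicit false

namespace CfsgLib.M22

open CfsgLib.ThreeTransp CfsgLib.SporMisc
open CfsgLib.U6 (IsPt IsPlane)
open CfsgLib.PSUAut (Isot)

variable {G : Type*} [Group G]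

/-- `22` pairwise commuting members. -/
structure IsBase (D : Set G) (B : Set G) : Prop where
  sub : B ⊆ D
  comm : ∀ x ∈ B, ∀ y ∈ B, Commute x y
  card : B.ncard = 22

variable {D : Set G}

variable [Finite G] (S : Setup D) {F : Type} [Field F] [Fintype F] (hF : Fintype.card F = 2 ^ 2)
  (hM : ∀ a ∈ D, Nonempty (Model D a F))
include S hF hM

/-- A member commuting with a base lies in it. -/
theorem IsBase.mem_of_comm {B : Set G} (hB : IsBase D B) {z : G} (hz : z ∈ D)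
    (h : ∀ x ∈ B, Commute z x) : z ∈ B := by
  by_contra hzB
  have := width_le S hF hM (E := insert z B) (Set.insert_subset hz hB.sub) (by
    rintro x (rfl | hx) y (rfl | hy)
    · exact Commute.refl _
    · exact h y hy
    · exact (h x hx).symm
    · exact hB.comm x hx y hy)
  rw [Set.ncard_insert_of_notMem hzB (Set.toFinite _), hB.card] at this
  omega

omit hM in
/-- Counting members of a link with point in an isotropic plane. -/
theorem Model.plane_count {a : G} (A : Model D a F) (ha : a ∈ D) {u₁ u₂ u₃ : Fin 6 → F}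
    (P : IsPlane u₁ u₂ u₃) :
    {e | ∃ (le : e ∈ link D a) (v : Fin 6 → F), IsPt (A.img le) v ∧
      v ∈ Submodule.span F {u₁, u₂, u₃}}.ncard = 21 := by
  classical
  let Q : (Fin 6 → F) → Prop := fun v => v ∈ Submodule.span F {u₁, u₂, u₃}
  have h := A.card_link_filter S hF ha
    (fun e => ∃ (le : e ∈ link D a) (v : Fin 6 → F), IsPt (A.img le) v ∧ Q v) Q fun e le v hv => by
    refine ⟨?_, fun hQ => ⟨le, v, hv, hQ⟩⟩
    rintro ⟨le', w, hw, hQ⟩
    obtain ⟨s, -, rfl⟩ := IsPt.span_eq hF hw hv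
    exact Submodule.smul_mem _ s hQ
  have hQ : ∀ v, Q v ↔ ∃ p : F × F × F, p.1 • u₁ + p.2.1 • u₂ + p.2.2 • u₃ = v := by
    intro v
    show v ∈ Submodule.span F {u₁, u₂, u₃} ↔ _
    rw [Submodule.mem_span_triple]
    exact ⟨fun ⟨p, q, r, h⟩ => ⟨(p, q, r), h⟩, fun ⟨p, h⟩ => ⟨_, _, _, h⟩⟩
  have h63 : Nat.card {v : Fin 6 → F // Isot 2 v ∧ Q v} = 63 := by
    have e : {p : F × F × F // p ≠ 0} ≃ {v : Fin 6 → F // Isot 2 v ∧ Q v} :=
      Equiv.ofBijective (fun p => ⟨p.1.1 • u₁ + p.1.2.1 • u₂ + p.1.2.2 • u₃, ⟨fun h => p.2 (by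
          obtain ⟨h1, h2, h3⟩ := U6.coord_eq_zero hF P h
          exact Prod.ext h1 (Prod.ext h2 h3)), U6.perp_comb hF P _ _ _ _ _ _⟩, (hQ _).2 ⟨p.1, rfl⟩⟩)
        ⟨fun p q h => by
          have h' : p.1.1 • u₁ + p.1.2.1 • u₂ + p.1.2.2 • u₃ = q.1.1 • u₁ + q.1.2.1 • u₂ + q.1.2.2 • u₃ :=
            congrArg Subtype.val h
          obtain ⟨h1, h2, h3⟩ := U6.coord_eq_zero hF P (p := p.1.1 - q.1.1) (q := p.1.2.1 - q.1.2.1)
            (r := p.1.2.2 - q.1.2.2) (by linear_combination (norm := module) h')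
          exact Subtype.ext (Prod.ext (sub_eq_zero.1 h1) (Prod.ext (sub_eq_zero.1 h2) (sub_eq_zero.1 h3))),
        fun ⟨v, hv, hv'⟩ => by
          obtain ⟨p, hp⟩ := (hQ v).1 hv'
          exact ⟨⟨p, fun h0 => hv.1 (by rw [← hp, h0]; simp)⟩, Subtype.ext hp⟩⟩
    rw [← Nat.card_congr e, Nat.card_eq_fintype_card, Fintype.card_subtype_compl, Fintype.card_prod,
      Fintype.card_prod, Fintype.card_subtype_eq, hF]
    norm_num
  rw [h63] at h
  have hset : {e | ∃ (le : e ∈ link D a) (v : Fin 6 → F), IsPt (A.img le) v ∧ Q v} =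
      {e | e ∈ link D a ∧ ∃ (le : e ∈ link D a) (v : Fin 6 → F), IsPt (A.img le) v ∧ Q v} :=
    Set.ext fun e => ⟨fun ⟨le, h⟩ => ⟨le, le, h⟩, fun ⟨_, h⟩ => h⟩
  show {e | ∃ (le : e ∈ link D a) (v : Fin 6 → F), IsPt (A.img le) v ∧ Q v}.ncard = 21
  rw [hset]
  omega

omit hM in
/-- The member `a` together with an isotropic plane of its link. -/
theorem Model.base_of_plane {a : G} (A : Model D a F) (ha : a ∈ D) {u₁ u₂ u₃ : Fin 6 → F}
    (P : IsPlane u₁ u₂ u₃) :
    IsBase D (insert a {e | ∃ (le : e ∈ link D a) (v : Fin 6 → F), IsPt (A.img le) v ∧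
      v ∈ Submodule.span F {u₁, u₂, u₃}}) := by
  refine ⟨Set.insert_subset ha fun e ⟨le, _⟩ => le.1, ?_, ?_⟩
  · rintro x (rfl | ⟨lx, v, hv, sv⟩) y (rfl | ⟨ly, w, hw, sw⟩)
    · exact Commute.refl _
    · exact ly.2.2
    · exact lx.2.2.symm
    · obtain ⟨p, q, r, rfl⟩ := Submodule.mem_span_triple.1 sv
      obtain ⟨p', q', r', rfl⟩ := Submodule.mem_span_triple.1 sw
      exact (A.comm_iff S hF ha lx ly hv hw).2 (U6.perp_comb hF P _ _ _ _ _ _)
  · rw [Set.ncard_insert_of_notMem ?_ (Set.toFinite _), A.plane_count S hF ha P]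
    rintro ⟨le, -⟩
    exact le.2.1 rfl

omit hM in
/-- What commutes with three members spanning a plane has its point in that plane. -/
theorem Model.mem_plane {a : G} (A : Model D a F) (ha : a ∈ D) {x y z e : G} (hx : x ∈ link D a)
    (hy : y ∈ link D a) (hz : z ∈ link D a) (he : e ∈ link D a) {u₁ u₂ u₃ : Fin 6 → F}
    (h₁ : IsPt (A.img hx) u₁) (h₂ : IsPt (A.img hy) u₂) (h₃ : IsPt (A.img hz) u₃) (P : IsPlane u₁ u₂ u₃)
    (c₁ : Commute e x) (c₂ : Commute e y) (c₃ : Commute e z) {v : Fin 6 → F} (hv : IsPt (A.img he) v) :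
    v ∈ Submodule.span F {u₁, u₂, u₃} := by
  obtain ⟨p, q, r, h⟩ := P.mem_of_perp hF ((A.comm_iff S hF ha he hx hv h₁).1 c₁)
    ((A.comm_iff S hF ha he hy hv h₂).1 c₂) ((A.comm_iff S hF ha he hz hv h₃).1 c₃)
  exact Submodule.mem_span_triple.2 ⟨p, q, r, h.symm⟩

omit hM in
/-- A base is the plane through any three of its members in general position. -/
theorem Model.base_eq {a : G} (A : Model D a F) (ha : a ∈ D) {B : Set G} (hB : IsBase D B) (haB : a ∈ B)
    {x y z : G} (hx : x ∈ link D a) (hy : y ∈ link D a) (hz : z ∈ link D a) (hxB : x ∈ B) (hyB : y ∈ B)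
    (hzB : z ∈ B) {u₁ u₂ u₃ : Fin 6 → F} (h₁ : IsPt (A.img hx) u₁) (h₂ : IsPt (A.img hy) u₂)
    (h₃ : IsPt (A.img hz) u₃) (P : IsPlane u₁ u₂ u₃) :
    B = insert a {e | ∃ (le : e ∈ link D a) (v : Fin 6 → F), IsPt (A.img le) v ∧
      v ∈ Submodule.span F {u₁, u₂, u₃}} := by
  refine Set.eq_of_subset_of_ncard_le (fun e he => ?_) ?_ (Set.toFinite _)
  · by_cases hea : e = a
    · exact Or.inl hea
    have le : e ∈ link D a := ⟨hB.sub he, hea, hB.comm a haB e he⟩
    obtain ⟨v, hv⟩ := A.exists_pt_of_link S hF ha le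
    exact Or.inr ⟨le, v, hv, A.mem_plane S hF ha hx hy hz le h₁ h₂ h₃ P (hB.comm e he x hxB)
      (hB.comm e he y hyB) (hB.comm e he z hzB) hv⟩
  · rw [(A.base_of_plane S hF ha P).card, hB.card]

omit hM in
/-- At most five members of a link have their points on a given line. -/
theorem Model.line_count {a : G} (A : Model D a F) (ha : a ∈ D) {x y : G} (hx : x ∈ link D a)
    (hy : y ∈ link D a) {u v : Fin 6 → F} (hu : IsPt (A.img hx) u) (hv : IsPt (A.img hy) v)
    (hxy : Commute x y) (hne : x ≠ y) :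
    {e | ∃ (le : e ∈ link D a) (w : Fin 6 → F), IsPt (A.img le) w ∧ w ∈ Submodule.span F {u, v}}.ncard = 5 := by
  classical
  have huv := (A.comm_iff S hF ha hx hy hu hv).1 hxy
  have hneI : A.img hx ≠ A.img hy := fun e => hne (A.img_inj S ha hx hy e)
  obtain ⟨X₂, X₃, X₄, w₂, w₃, w₄, h₂, h₃, h₄, s₂, s₃, s₄, hnd, -, hall⟩ := U6.exists_line hF hu hv huv hneI
  obtain ⟨p, lp, rfl⟩ := A.exists_link_of_pt S hF ha h₂
  obtain ⟨q, lq, rfl⟩ := A.exists_link_of_pt S hF ha h₃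
  obtain ⟨r, lr, rfl⟩ := A.exists_link_of_pt S hF ha h₄
  have hset : {e | ∃ (le : e ∈ link D a) (w : Fin 6 → F), IsPt (A.img le) w ∧ w ∈ Submodule.span F {u, v}} =
      ↑([x, y, p, q, r].toFinset) := by
    ext e
    simp only [Finset.mem_coe, List.mem_toFinset, List.mem_cons, List.not_mem_nil, or_false, Set.mem_ofPred_eq]
    constructor
    · rintro ⟨le, w, hw, sw⟩
      have := hall _ _ hw sw
      simp only [List.mem_cons, List.not_mem_nil, or_false] at this
      rcases this with h | h | h | h | h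
      exacts [Or.inl (A.img_inj S ha le hx h), Or.inr (Or.inl (A.img_inj S ha le hy h)),
        Or.inr (Or.inr (Or.inl (A.img_inj S ha le lp h))),
        Or.inr (Or.inr (Or.inr (Or.inl (A.img_inj S ha le lq h)))),
        Or.inr (Or.inr (Or.inr (Or.inr (A.img_inj S ha le lr h))))]
    · rintro (rfl | rfl | rfl | rfl | rfl)
      exacts [⟨hx, u, hu, Submodule.subset_span (Set.mem_insert _ _)⟩,
        ⟨hy, v, hv, Submodule.subset_span (Set.mem_insert_of_mem _ rfl)⟩,
        ⟨lp, w₂, h₂, s₂⟩, ⟨lq, w₃, h₃, s₃⟩, ⟨lr, w₄, h₄, s₄⟩]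
  rw [hset, Set.ncard_coe_finset, List.toFinset_card_of_nodup]
  · rfl
  simp only [List.nodup_cons, List.mem_cons, List.not_mem_nil, or_false, not_or, List.nodup_nil,
    not_false_eq_true, and_true] at hnd ⊢
  obtain ⟨⟨n01, n02, n03, n04⟩, ⟨n12, n13, n14⟩, ⟨n23, n24⟩, n34⟩ := hnd
  exact ⟨⟨hne, fun e => n02 (by subst e; rfl), fun e => n03 (by subst e; rfl), fun e => n04 (by subst e; rfl)⟩,
    ⟨fun e => n12 (by subst e; rfl), fun e => n13 (by subst e; rfl), fun e => n14 (by subst e; rfl)⟩,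
    ⟨fun e => n23 (by subst e; rfl), fun e => n24 (by subst e; rfl)⟩, fun e => n34 (by subst e; rfl)⟩

omit hM in
/-- A base is a plane in the link of each of its members. -/
theorem Model.base_plane {a : G} (A : Model D a F) (ha : a ∈ D) {B : Set G} (hB : IsBase D B) (haB : a ∈ B) :
    ∃ u₁ u₂ u₃ : Fin 6 → F, IsPlane u₁ u₂ u₃ ∧ B = insert a {e | ∃ (le : e ∈ link D a) (v : Fin 6 → F),
      IsPt (A.img le) v ∧ v ∈ Submodule.span F {u₁, u₂, u₃}} := by
  classical
  have hlink : ∀ e ∈ B, e ≠ a → e ∈ link D a := fun e he hea => ⟨hB.sub he, hea, hB.comm a haB e he⟩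
  have h21 : (B \ {a}).ncard = 21 := by
    have := Set.ncard_sdiff_singleton_add_one haB (Set.toFinite _)
    rw [hB.card] at this; omega
  obtain ⟨x, hxB, hxa⟩ : (B \ {a}).Nonempty := (Set.ncard_pos (Set.toFinite _)).1 (by omega)
  have lx := hlink x hxB hxa
  obtain ⟨y, ⟨hyB, hya⟩, hyx⟩ : ((B \ {a}) \ {x}).Nonempty := by
    refine (Set.ncard_pos (Set.toFinite _)).1 ?_
    have := Set.ncard_sdiff_singleton_add_one (show x ∈ B \ {a} from ⟨hxB, hxa⟩) (Set.toFinite _)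
    omega
  have ly := hlink y hyB hya
  obtain ⟨u₁, h₁⟩ := A.exists_pt_of_link S hF ha lx
  obtain ⟨u₂, h₂⟩ := A.exists_pt_of_link S hF ha ly
  have h5 := A.line_count S hF ha lx ly h₁ h₂ (hB.comm x hxB y hyB) (Ne.symm hyx)
  obtain ⟨z, ⟨hzB, hza⟩, hz⟩ : ((B \ {a}) \
      {e | ∃ (le : e ∈ link D a) (w : Fin 6 → F), IsPt (A.img le) w ∧ w ∈ Submodule.span F {u₁, u₂}}).Nonempty := by
    refine (Set.ncard_pos (Set.toFinite _)).1 ?_
    have := Set.ncard_le_ncard_sdiff_add_ncard (B \ {a})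
      {e | ∃ (le : e ∈ link D a) (w : Fin 6 → F), IsPt (A.img le) w ∧ w ∈ Submodule.span F {u₁, u₂}} (Set.toFinite _)
    omega
  have lz := hlink z hzB hza
  obtain ⟨u₃, h₃⟩ := A.exists_pt_of_link S hF ha lz
  have hp : ∀ {s t : G} (ls : s ∈ link D a) (lt : t ∈ link D a), s ∈ B → t ∈ B → ∀ {v w : Fin 6 → F},
      IsPt (A.img ls) v → IsPt (A.img lt) w → Cfsg.hermForm 6 F 2 v w = 0 :=
    fun ls lt hs ht _ _ hv hw => (A.comm_iff S hF ha ls lt hv hw).1 (hB.comm _ hs _ ht)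
  have P : IsPlane u₁ u₂ u₃ := ⟨h₁.1.2, h₂.1.2, h₃.1.2, hp lx ly hxB hyB h₁ h₂, hp lx lz hxB hzB h₁ h₃,
    hp ly lz hyB hzB h₂ h₃, h₁.1.1, A.notMem S hF ha lx ly h₁ h₂ (Ne.symm hyx),
    fun h => hz ⟨lz, u₃, h₃, h⟩⟩
  exact ⟨u₁, u₂, u₃, P, A.base_eq S hF ha hB haB lx ly lz hxB hyB hzB h₁ h₂ h₃ P⟩

/-- A member off a base commutes with none or six of its members. -/
theorem IsBase.six {B : Set G} (hB : IsBase D B) {f b : G} (hf : f ∈ D) (hfB : f ∉ B) (hb : b ∈ B)
    (hfb : Commute f b) : {e | e ∈ B ∧ Commute f e}.ncard = 6 := by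
  classical
  have hbD := hB.sub hb
  obtain ⟨A⟩ := hM b hbD
  have lf : f ∈ link D b := ⟨hf, fun h => hfB (h ▸ hb), hfb.symm⟩
  obtain ⟨w, hw⟩ := A.exists_pt_of_link S hF hbD lf
  obtain ⟨u₁, u₂, u₃, P, hBe⟩ := A.base_plane S hF hbD hB hb
  have memB : ∀ {e : G} (le : e ∈ link D b) {v : Fin 6 → F}, IsPt (A.img le) v →
      v ∈ Submodule.span F {u₁, u₂, u₃} → e ∈ B := fun le _ hv sv => hBe ▸ Or.inr ⟨le, _, hv, sv⟩
  -- two members of the base commuting with `f`
  have hker : ∃ v₁ v₂ : Fin 6 → F, v₁ ∈ Submodule.span F {u₁, u₂, u₃} ∧ v₂ ∈ Submodule.span F {u₁, u₂, u₃} ∧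
      v₁ ≠ 0 ∧ v₂ ∉ Submodule.span F {v₁} ∧ Cfsg.hermForm 6 F 2 v₁ w = 0 ∧ Cfsg.hermForm 6 F 2 v₂ w = 0 := by
    set α := Cfsg.hermForm 6 F 2 u₁ w with hα
    set β := Cfsg.hermForm 6 F 2 u₂ w with hβ
    set γ := Cfsg.hermForm 6 F 2 u₃ w with hγ
    have m₁ : u₁ ∈ Submodule.span F {u₁, u₂, u₃} := Submodule.subset_span (by simp)
    have m₂ : u₂ ∈ Submodule.span F {u₁, u₂, u₃} := Submodule.subset_span (by simp)
    have m₃ : u₃ ∈ Submodule.span F {u₁, u₂, u₃} := Submodule.subset_span (by simp)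
    have ev : ∀ p q r : F, Cfsg.hermForm 6 F 2 (p • u₁ + q • u₂ + r • u₃) w = p * α + q * β + r * γ := by
      intro p q r
      simp only [U6.add_left hF, U6.smul_left hF, hα, hβ, hγ]
    have ms : ∀ p q r : F, p • u₁ + q • u₂ + r • u₃ ∈ Submodule.span F {u₁, u₂, u₃} := fun p q r =>
      add_mem (add_mem (Submodule.smul_mem _ p m₁) (Submodule.smul_mem _ q m₂)) (Submodule.smul_mem _ r m₃)
    have hne : ∀ p q r : F, (p ≠ 0 ∨ q ≠ 0 ∨ r ≠ 0) → p • u₁ + q • u₂ + r • u₃ ≠ 0 := fun p q r h e => by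
      obtain ⟨e1, e2, e3⟩ := U6.coord_eq_zero hF P e
      simp [e1, e2, e3] at h
    have hind : ∀ p q r p' q' r' : F, (∀ s : F, s * p = p' → s * q = q' → s * r ≠ r') →
        p' • u₁ + q' • u₂ + r' • u₃ ∉ Submodule.span F {p • u₁ + q • u₂ + r • u₃} := by
      intro p q r p' q' r' h e
      obtain ⟨s, hs⟩ := Submodule.mem_span_singleton.1 e
      obtain ⟨e1, e2, e3⟩ := U6.coord_eq_zero hF P (p := s * p - p') (q := s * q - q') (r := s * r - r')
        (by linear_combination (norm := module) hs)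
      exact h s (sub_eq_zero.1 e1) (sub_eq_zero.1 e2) (sub_eq_zero.1 e3)
    by_cases hγ0 : γ = 0
    · by_cases hβ0 : β = 0
      · exact ⟨_, _, ms 0 0 1, ms 0 1 0, hne _ _ _ (by simp), hind _ _ _ _ _ _ (by simp),
          by rw [ev, hγ0]; ring, by rw [ev, hβ0]; ring⟩
      · exact ⟨_, _, ms 0 0 1, ms β (-α) 0, hne _ _ _ (by simp), hind _ _ _ _ _ _ (fun s h1 _ _ => by
          simp [← h1] at hβ0), by rw [ev, hγ0]; ring, by rw [ev]; ring⟩
    · exact ⟨_, _, ms γ 0 (-α), ms 0 γ (-β), hne _ _ _ (Or.inl hγ0), hind _ _ _ _ _ _ (fun s _ h2 _ => by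
        simp [← h2] at hγ0), by rw [ev]; ring, by rw [ev]; ring⟩
  obtain ⟨v₁, v₂, s₁, s₂, n₁, n₂, k₁, k₂⟩ := hker
  have iso : ∀ {v : Fin 6 → F}, v ∈ Submodule.span F {u₁, u₂, u₃} → v ≠ 0 → Isot 2 v := by
    intro v hv h0
    obtain ⟨p, q, r, rfl⟩ := Submodule.mem_span_triple.1 hv
    exact ⟨h0, U6.perp_comb hF P _ _ _ _ _ _⟩
  obtain ⟨X, hX⟩ := U6.exists_pt hF (iso s₁ n₁)
  obtain ⟨Y, hY⟩ := U6.exists_pt hF (iso s₂ fun h => n₂ (h ▸ Submodule.zero_mem _))
  obtain ⟨x, lx, rfl⟩ := A.exists_link_of_pt S hF hbD hX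
  obtain ⟨y, ly, rfl⟩ := A.exists_link_of_pt S hF hbD hY
  have hxB := memB lx hX s₁
  have hyB := memB ly hY s₂
  have hxy : x ≠ y := fun h => by
    subst h
    obtain ⟨s, -, hs⟩ := IsPt.span_eq hF hX hY
    exact n₂ (hs ▸ Submodule.smul_mem _ s (Submodule.mem_span_singleton_self v₁))
  have cfx : Commute f x := ((A.comm_iff S hF hbD lx lf hX hw).2 k₁).symm
  have cfy : Commute f y := ((A.comm_iff S hF hbD ly lf hY hw).2 k₂).symm
  have hspan : Submodule.span F {v₁, v₂} ≤ Submodule.span F {u₁, u₂, u₃} :=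
    Submodule.span_le.2 (Set.insert_subset s₁ (Set.singleton_subset_iff.2 s₂))
  have hset : {e | e ∈ B ∧ Commute f e} = insert b {e | ∃ (le : e ∈ link D b) (v : Fin 6 → F),
      IsPt (A.img le) v ∧ v ∈ Submodule.span F {v₁, v₂}} := by
    ext e
    constructor
    · rintro ⟨he, hfe⟩
      by_cases heb : e = b
      · exact Or.inl heb
      have le : e ∈ link D b := ⟨hB.sub he, heb, hB.comm b hb e he⟩
      obtain ⟨v, hv⟩ := A.exists_pt_of_link S hF hbD le
      refine Or.inr ⟨le, v, hv, ?_⟩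
      by_contra hspan'
      apply hfB
      have cex : Commute e x := hB.comm e he x hxB
      have cey : Commute e y := hB.comm e he y hyB
      have P' : IsPlane v₁ v₂ v := ⟨hX.1.2, hY.1.2, hv.1.2,
        (A.comm_iff S hF hbD lx ly hX hY).1 (hB.comm x hxB y hyB),
        (A.comm_iff S hF hbD lx le hX hv).1 cex.symm, (A.comm_iff S hF hbD ly le hY hv).1 cey.symm,
        n₁, n₂, hspan'⟩
      rw [A.base_eq S hF hbD hB hb lx ly le hxB hyB he hX hY hv P']
      exact Or.inr ⟨lf, w, hw, A.mem_plane S hF hbD lx ly le lf hX hY hv P' cfx cfy hfe hw⟩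
    · rintro (rfl | ⟨le, v, hv, sv⟩)
      · exact ⟨hb, hfb⟩
      · refine ⟨memB le hv (hspan sv), ((A.comm_iff S hF hbD le lf hv hw).2 ?_).symm⟩
        obtain ⟨p, q, rfl⟩ := Submodule.mem_span_pair.1 sv
        rw [U6.add_left hF, U6.smul_left hF, U6.smul_left hF, k₁, k₂, mul_zero, mul_zero, add_zero]
  rw [hset, Set.ncard_insert_of_notMem (by rintro ⟨le, -⟩; exact le.2.1 rfl) (Set.toFinite _),
    A.line_count S hF hbD lx ly hX hY (hB.comm x hxB y hyB) hxy]

/-- Three bases contain a given triple of commuting members. -/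
theorem bases_three {a b c : G} (ha : a ∈ D) (hb : b ∈ link D a) (hc : c ∈ link D a ∩ link D b) :
    {B | IsBase D B ∧ a ∈ B ∧ b ∈ B ∧ c ∈ B}.ncard = 3 := by
  classical
  have := Fintype.ofFinite G
  obtain ⟨A⟩ := hM a ha
  obtain ⟨u, hu⟩ := A.exists_pt_of_link S hF ha hb
  obtain ⟨v, hv⟩ := A.exists_pt_of_link S hF ha hc.1
  have hbc : Commute b c := hc.2.2.2
  have hne : b ≠ c := fun h => hc.2.2.1 h.symm
  have huv := (A.comm_iff S hF ha hb hc.1 hu hv).1 hbc
  have hvu := A.notMem S hF ha hb hc.1 hu hv hne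
  -- the members perpendicular to the line, off it
  set Z := {z | z ∈ link D a ∧ ∃ (lz : z ∈ link D a) (w : Fin 6 → F), IsPt (A.img lz) w ∧
    Cfsg.hermForm 6 F 2 w u = 0 ∧ Cfsg.hermForm 6 F 2 w v = 0 ∧ w ∉ Submodule.span F {u, v}} with hZ
  have hZcard : Z.ncard = 48 := by
    have h := A.card_link_filter S hF ha (fun z => ∃ (lz : z ∈ link D a) (w : Fin 6 → F), IsPt (A.img lz) w ∧
      Cfsg.hermForm 6 F 2 w u = 0 ∧ Cfsg.hermForm 6 F 2 w v = 0 ∧ w ∉ Submodule.span F {u, v})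
      (fun w => Cfsg.hermForm 6 F 2 w u = 0 ∧ Cfsg.hermForm 6 F 2 w v = 0 ∧ w ∉ Submodule.span F {u, v})
      fun e le w hw => by
      refine ⟨?_, fun h => ⟨le, w, hw, h⟩⟩
      rintro ⟨le', w', hw', h1, h2, h3⟩
      obtain ⟨s, hs, rfl⟩ := IsPt.span_eq hF hw' hw
      exact ⟨by rw [U6.smul_left hF, h1, mul_zero], by rw [U6.smul_left hF, h2, mul_zero],
        fun h => h3 (by simpa [hs] using Submodule.smul_mem _ s⁻¹ h)⟩
    obtain ⟨y, hy, py, hyu⟩ := U6.exists_iso_pairing hF ![v] hu.1.2 (fun i => by fin_cases i; exact huv)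
      (fun h => by
        rw [Matrix.range_cons, Matrix.range_empty, Set.union_empty] at h
        obtain ⟨s, hs⟩ := Submodule.mem_span_singleton.1 h
        have hs0 : s ≠ 0 := fun e => hu.1.1 (by rw [← hs, e, zero_smul])
        exact hvu (Submodule.mem_span_singleton.2 ⟨s⁻¹, by rw [← hs, inv_smul_smul₀ hs0]⟩))
    have huy : Cfsg.hermForm 6 F 2 u y = 1 := U6.comm_one hF hyu
    have hvy : Cfsg.hermForm 6 F 2 v y = 0 := (U6.comm_zero hF).1 (py 0)
    have h36 := U6.card_iso_perp_three hF hu.1 hy (by rw [huy]; exact one_ne_zero) hv.1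
      ((U6.comm_zero hF).1 huv) hvy
    let e : {w : Fin 6 → F // Isot 2 w ∧ Cfsg.hermForm 6 F 2 w u = 0 ∧ Cfsg.hermForm 6 F 2 w v = 0 ∧
        w ∉ Submodule.span F {u, v}} ≃ F × {w : Fin 6 → F // Isot 2 w ∧ Cfsg.hermForm 6 F 2 w u = 0 ∧
        Cfsg.hermForm 6 F 2 w y = 0 ∧ Cfsg.hermForm 6 F 2 w v = 0 ∧ w ∉ Submodule.span F {v}} :=
      { toFun := fun w => ⟨Cfsg.hermForm 6 F 2 w.1 y, ⟨w.1 - Cfsg.hermForm 6 F 2 w.1 y • u, by
          obtain ⟨w, hw, h1, h2, h3⟩ := w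
          refine ⟨⟨fun h => h3 ?_, ?_⟩, ?_, ?_, ?_, fun h => h3 ?_⟩
          · have h' : w = Cfsg.hermForm 6 F 2 w y • u := sub_eq_zero.1 h
            rw [h']; exact Submodule.smul_mem _ _ (Submodule.subset_span (Set.mem_insert _ _))
          · simp only [sub_eq_add_neg, ← neg_smul, U6.add_left hF, U6.add_right hF, U6.smul_left hF,
              U6.smul_right hF, hw.2, hu.1.2, h1, (U6.comm_zero hF).1 h1, mul_zero, add_zero]
          · simp only [sub_eq_add_neg, ← neg_smul, U6.add_left hF, U6.smul_left hF, h1, hu.1.2, mul_zero, add_zero]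
          · simp only [sub_eq_add_neg, ← neg_smul, U6.add_left hF, U6.smul_left hF, huy, mul_one, add_neg_cancel]
          · simp only [sub_eq_add_neg, ← neg_smul, U6.add_left hF, U6.smul_left hF, h2, huv, mul_zero, add_zero]
          · obtain ⟨t, ht⟩ := Submodule.mem_span_singleton.1 h
            exact Submodule.mem_span_pair.2 ⟨Cfsg.hermForm 6 F 2 w y, t, by rw [ht]; abel⟩⟩⟩
        invFun := fun p => ⟨p.1 • u + p.2.1, by
          obtain ⟨t, w, hw, h1, h2, h3, h4⟩ := p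
          refine ⟨⟨fun h => ?_, ?_⟩, ?_, ?_, fun h => ?_⟩
          · have := congrArg (fun z => Cfsg.hermForm 6 F 2 z y) h
            simp only [U6.add_left hF, U6.smul_left hF, huy, h2, add_zero, mul_one, U6.zero_left hF] at this
            subst this
            rw [zero_smul, zero_add] at h
            exact hw.1 h
          · simp only [U6.add_left hF, U6.add_right hF, U6.smul_left hF, U6.smul_right hF, hw.2, hu.1.2, h1,
              (U6.comm_zero hF).1 h1, mul_zero, add_zero]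
          · simp only [U6.add_left hF, U6.smul_left hF, hu.1.2, h1, mul_zero, add_zero]
          · simp only [U6.add_left hF, U6.smul_left hF, huv, h3, mul_zero, add_zero]
          · obtain ⟨α, β, hαβ⟩ := Submodule.mem_span_pair.1 h
            change α • u + β • v = t • u + w at hαβ
            have := congrArg (fun z => Cfsg.hermForm 6 F 2 z y) hαβ
            simp only [U6.add_left hF, U6.smul_left hF, huy, hvy, h2, mul_one, mul_zero, add_zero] at this
            subst this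
            exact h4 (Submodule.mem_span_singleton.2 ⟨β, add_left_cancel hαβ⟩)⟩
        left_inv := fun w => Subtype.ext (by simp)
        right_inv := fun p => by
          obtain ⟨t, w, hw, h1, h2, h3, h4⟩ := p
          simp [U6.add_left hF, U6.smul_left hF, huy, h2] }
    rw [Nat.card_congr e, Nat.card_prod, U6.card_field hF, h36] at h
    rw [hZ]
    omega
  -- each of them lies in one of the bases, each base contains sixteen
  set T := {B | IsBase D B ∧ a ∈ B ∧ b ∈ B ∧ c ∈ B} with hT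
  have h16 : ∀ B ∈ T, {z | z ∈ Z ∧ z ∈ B}.ncard = 16 := by
    rintro B ⟨hB, haB, hbB, hcB⟩
    obtain ⟨u₁, u₂, u₃, P, hBe⟩ := A.base_plane S hF ha hB haB
    have memP : ∀ {e : G} (le : e ∈ link D a) {x : Fin 6 → F}, IsPt (A.img le) x → e ∈ B →
        x ∈ Submodule.span F {u₁, u₂, u₃} := by
      intro e le x hx he
      rw [hBe] at he
      rcases he with rfl | ⟨le', x', hx', sx'⟩
      · exact absurd rfl le.2.1
      · obtain ⟨s, -, rfl⟩ := IsPt.span_eq hF hx' hx
        exact Submodule.smul_mem _ s sx'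
    have hspan : Submodule.span F {u, v} ≤ Submodule.span F {u₁, u₂, u₃} :=
      Submodule.span_le.2 (Set.insert_subset (memP hb hu hbB) (Set.singleton_subset_iff.2 (memP hc.1 hv hcB)))
    set L := {e | ∃ (le : e ∈ link D a) (w : Fin 6 → F), IsPt (A.img le) w ∧ w ∈ Submodule.span F {u, v}}
    have hL : L.ncard = 5 := A.line_count S hF ha hb hc.1 hu hv hbc hne
    have hLB : insert a L ⊆ B := by
      rintro e (rfl | ⟨le, w, hw, sw⟩)
      · exact haB
      · rw [hBe]; exact Or.inr ⟨le, w, hw, hspan sw⟩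
    have hset : {z | z ∈ Z ∧ z ∈ B} = B \ insert a L := by
      ext z
      constructor
      · rintro ⟨⟨-, lz, w, hw, -, -, h3⟩, hzB⟩
        refine ⟨hzB, fun h => ?_⟩
        rcases h with rfl | ⟨lz', w', hw', sw'⟩
        · exact lz.2.1 rfl
        · obtain ⟨s, -, rfl⟩ := IsPt.span_eq hF hw' hw
          exact h3 (Submodule.smul_mem _ s sw')
      · rintro ⟨hzB, hz⟩
        have lz : z ∈ link D a := ⟨hB.sub hzB, fun h => hz (Or.inl h), hB.comm a haB z hzB⟩
        obtain ⟨w, hw⟩ := A.exists_pt_of_link S hF ha lz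
        exact ⟨⟨lz, lz, w, hw, (A.comm_iff S hF ha lz hb hw hu).1 (hB.comm z hzB b hbB),
          (A.comm_iff S hF ha lz hc.1 hw hv).1 (hB.comm z hzB c hcB), fun h => hz (Or.inr ⟨lz, w, hw, h⟩)⟩, hzB⟩
    rw [hset, Set.ncard_sdiff hLB, hB.card, Set.ncard_insert_of_notMem (by rintro ⟨le, -⟩; exact le.2.1 rfl) (Set.toFinite _), hL]
  have h1 : ∀ z ∈ Z, {B | B ∈ T ∧ z ∈ B}.ncard = 1 := by
    intro z hz
    obtain ⟨-, lz, w, hw, h1, h2, h3⟩ := id hz
    have P : IsPlane u v w :=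
      ⟨hu.1.2, hv.1.2, hw.1.2, huv, (U6.comm_zero hF).1 h1, (U6.comm_zero hF).1 h2, hu.1.1, hvu, h3⟩
    rw [Set.ncard_eq_one]
    refine ⟨insert a {e | ∃ (le : e ∈ link D a) (x : Fin 6 → F), IsPt (A.img le) x ∧
      x ∈ Submodule.span F {u, v, w}}, Set.ext fun B => ?_⟩
    constructor
    · rintro ⟨⟨hB, haB, hbB, hcB⟩, hzB⟩
      exact A.base_eq S hF ha hB haB hb hc.1 lz hbB hcB hzB hu hv hw P
    · rintro rfl
      exact ⟨⟨A.base_of_plane S hF ha P, Or.inl rfl, Or.inr ⟨hb, u, hu, Submodule.subset_span (by simp)⟩,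
        Or.inr ⟨hc.1, v, hv, Submodule.subset_span (by simp)⟩⟩,
        Or.inr ⟨lz, w, hw, Submodule.subset_span (by simp)⟩⟩
  have := Finset.card_mul_eq_card_mul (fun (B : Set G) (z : G) => z ∈ B) (s := T.toFinset) (t := Z.toFinset)
    (m := 16) (n := 1) (fun B hB => by
      rw [← h16 B (Set.mem_toFinset.1 hB), Set.ncard_eq_toFinset_card']
      congr 1; ext z
      simp only [Finset.bipartiteAbove, Finset.mem_filter, Set.mem_toFinset, Set.mem_ofPred_eq])
    (fun z hz => by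
      rw [← h1 z (Set.mem_toFinset.1 hz), Set.ncard_eq_toFinset_card']
      congr 1; ext B
      simp only [Finset.bipartiteBelow, Finset.mem_filter, Set.mem_toFinset, Set.mem_ofPred_eq])
  rw [← Set.ncard_eq_toFinset_card', ← Set.ncard_eq_toFinset_card', hZcard] at this
  omega

/-- A commuting pair lies in `27` bases. -/
theorem bases_two {a b : G} (ha : a ∈ D) (hb : b ∈ link D a) :
    {B | IsBase D B ∧ a ∈ B ∧ b ∈ B}.ncard = 27 := by
  classical
  have := Fintype.ofFinite G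
  set T := {B | IsBase D B ∧ a ∈ B ∧ b ∈ B} with hT
  set C := link D a ∩ link D b with hC
  have h20 : ∀ B ∈ T, {z | z ∈ C ∧ z ∈ B}.ncard = 20 := by
    rintro B ⟨hB, haB, hbB⟩
    have hset : {z | z ∈ C ∧ z ∈ B} = B \ {a, b} := by
      ext z
      constructor
      · rintro ⟨⟨la, lb⟩, hzB⟩
        exact ⟨hzB, by rintro (rfl | rfl); exacts [la.2.1 rfl, lb.2.1 rfl]⟩
      · rintro ⟨hzB, hz⟩
        exact ⟨⟨⟨hB.sub hzB, fun h => hz (Or.inl h), hB.comm a haB z hzB⟩,
          hB.sub hzB, fun h => hz (Or.inr h), hB.comm b hbB z hzB⟩, hzB⟩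
    rw [hset, Set.ncard_sdiff (Set.insert_subset haB (Set.singleton_subset_iff.2 hbB)), hB.card,
      Set.ncard_pair hb.2.1.symm]
  have h3 : ∀ c ∈ C, {B | B ∈ T ∧ c ∈ B}.ncard = 3 := fun c hc => by
    rw [← bases_three S hF hM ha hb hc]
    congr 1
    ext B
    exact ⟨fun ⟨⟨h, h1, h2⟩, h3⟩ => ⟨h, h1, h2, h3⟩, fun ⟨h, h1, h2, h3⟩ => ⟨⟨h, h1, h2⟩, h3⟩⟩
  have := Finset.card_mul_eq_card_mul (fun (B : Set G) (z : G) => z ∈ B) (s := T.toFinset) (t := C.toFinset)
    (m := 20) (n := 3) (fun B hB => by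
      rw [← h20 B (Set.mem_toFinset.1 hB), Set.ncard_eq_toFinset_card']
      congr 1; ext z
      simp only [Finset.bipartiteAbove, Finset.mem_filter, Set.mem_toFinset, Set.mem_ofPred_eq])
    (fun z hz => by
      rw [← h3 z (Set.mem_toFinset.1 hz), Set.ncard_eq_toFinset_card']
      congr 1; ext B
      simp only [Finset.bipartiteBelow, Finset.mem_filter, Set.mem_toFinset, Set.mem_ofPred_eq])
  rw [← Set.ncard_eq_toFinset_card', ← Set.ncard_eq_toFinset_card', hC,
    link_two_ncard S hF hM ha hb] at this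
  omega

/-- The members of a link off a base of which its centre is none: six times as many incidences. -/
theorem IsBase.near_link {B : Set G} (hB : IsBase D B) {d : G} (hd : d ∈ D)
    (hdB : ∀ b ∈ B, ¬ Commute d b) :
    {f | f ∈ link D d ∧ ∀ b ∈ B, ¬ Commute f b}.ncard = 231 := by
  set N := {f | f ∈ link D d ∧ ∃ b ∈ B, Commute f b} with hN
  have hNB : ∀ f ∈ N, f ∉ B := fun f hf hfB => hdB f hfB hf.1.2.2
  have h := count_pairs (s := N) (t := B) (fun f b => Commute f b) (m := 6) (n := 126)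
    (fun f hf => by
      obtain ⟨b, hb, hfb⟩ := hf.2
      exact hB.six S hF hM hf.1.1 (hNB f hf) hb hfb)
    (fun b hb => by
      rw [← (nonlink_count S hF hM hd (hB.sub hb) (hdB b hb)).2]
      congr 1
      ext f
      exact ⟨fun ⟨hf, hfb⟩ => ⟨hf.1, hf.1.1, fun h => hdB b hb (h ▸ hf.1.2.2), hfb.symm⟩,
        fun ⟨h1, h2⟩ => ⟨⟨h1, b, hb, h2.2.2.symm⟩, h2.2.2.symm⟩⟩)
  rw [hB.card] at h
  have hun : link D d = N ∪ {f | f ∈ link D d ∧ ∀ b ∈ B, ¬ Commute f b} := by
    ext f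
    constructor
    · intro hf
      by_cases h : ∃ b ∈ B, Commute f b
      · exact Or.inl ⟨hf, h⟩
      · push Not at h
        exact Or.inr ⟨hf, h⟩
    · rintro (h | h) <;> exact h.1
  have hdis : Disjoint N {f | f ∈ link D d ∧ ∀ b ∈ B, ¬ Commute f b} := by
    rw [Set.disjoint_left]
    rintro f ⟨-, b, hb, hfb⟩ ⟨-, h⟩
    exact h b hb hfb
  have hl := link_ncard_eq S hF hM hd
  rw [hun, Set.ncard_union_eq hdis (Set.toFinite _) (Set.toFinite _)] at hl
  omega

/-- Some member commutes with no member of a given base. -/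
theorem IsBase.exists_far {B : Set G} (hB : IsBase D B) : ∃ d ∈ D, ∀ b ∈ B, ¬ Commute d b := by
  by_contra hcon
  push Not at hcon
  have h := count_pairs (s := D \ B) (t := B) (fun f b => Commute f b) (m := 6) (n := 672)
    (fun f hf => by
      obtain ⟨b, hb, hfb⟩ := hcon f hf.1
      exact hB.six S hF hM hf.1 hf.2 hb hfb)
    (fun b hb => by
      have hset : {f | f ∈ D \ B ∧ Commute f b} = link D b \ (B \ {b}) := by
        ext f
        constructor
        · rintro ⟨⟨hf, hfB⟩, hfb⟩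
          exact ⟨⟨hf, fun h => hfB (h ▸ hb), hfb.symm⟩, fun h => hfB h.1⟩
        · rintro ⟨hf, hn⟩
          exact ⟨⟨hf.1, fun h => hn ⟨h, hf.2.1⟩⟩, hf.2.2.symm⟩
      have h21 := Set.ncard_sdiff_singleton_add_one hb (Set.toFinite _)
      rw [hB.card] at h21
      rw [hset, Set.ncard_sdiff (show B \ {b} ⊆ link D b from fun f hf => ⟨hB.sub hf.1, hf.2, hB.comm b hb f hf.1⟩),
        link_ncard_eq S hF hM (hB.sub hb)]
      omega)
  rw [Set.ncard_sdiff hB.sub, ncard_eq S hF hM, hB.card] at h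
  omega

end CfsgLib.M22
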