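import Cfsg.Agent.Lib.ThreeTransp.M22Base

/-!
# Groups of type `M(22)`: automorphisms of order two

An automorphism of order two preserves the members, so it fixes one of the `27` bases through a member and
its image.  A member commuting with no member of that base is moved to a conjugate under the product of two
members `x`, `y` of the base, and then `x`, or the conjugate of the member under `x`, is fixed.
-/

set_option autoImplicit false

namespace CfsgLib.M22

open CfsgLib.ThreeTransp CfsgLib.SporMisc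

variable {G : Type*} [Group G] {D : Set G}
variable [Finite G] (S : Setup D) {F : Type} [Field F] [Fintype F] (hF : Fintype.card F = 2 ^ 2)
  (hM : ∀ a ∈ D, Nonempty (Model D a F))
include S hF hM

omit hF hM [Finite G] in
/-- The members form a class of 3-transpositions in the sense of the statements. -/
theorem Setup.isClass : Cfsg.IsThreeTranspositionClass D := by
  obtain ⟨a, ha, -⟩ := S.exists_noncommuting
  refine ⟨⟨fun d hd => orderOf_eq_prime (by rw [pow_two, S.sqd hd]) (S.tt.ne_one d hd), fun d hd e he => ?_⟩,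
    ⟨a, ha, Set.ext fun x => ⟨fun hx => ?_, fun hx => ?_⟩⟩, S.gen⟩
  · rcases S.tt.cond d hd e he with h | h
    · left
      rw [pow_two, h.symm.mul_mul_mul_comm, S.sqd hd, S.sqd he, mul_one]
    · exact Or.inr (pow_three_eq_one (S.sqd hd) (S.sqd he) h)
  · exact show IsConj a x from isConj_iff.2 (S.cls ha hx)
  · obtain ⟨g, rfl⟩ := isConj_iff.1 (show IsConj a x from hx)
    exact S.tt.conj g a ha

/-- An automorphism preserves the members. -/
theorem map_mem (φ : MulAut G) {d : G} (hd : d ∈ D) : φ d ∈ D := by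
  have hE : Cfsg.IsThreeTranspositionClass (φ '' D) := by
    obtain ⟨⟨h1, h2⟩, ⟨a, ha, hcl⟩, h3⟩ := S.isClass
    refine ⟨⟨?_, ?_⟩, ⟨φ a, ⟨a, ha, rfl⟩, Set.ext fun x => ⟨?_, fun hx => ?_⟩⟩, ?_⟩
    · rintro _ ⟨e, he, rfl⟩
      rw [MulEquiv.orderOf_eq, h1 e he]
    · rintro _ ⟨e, he, rfl⟩ _ ⟨f, hf, rfl⟩
      rw [← map_mul, ← map_pow, ← map_pow]
      exact (h2 e he f hf).imp (fun h => by rw [h, map_one]) fun h => by rw [h, map_one]
    · rintro ⟨e, he, rfl⟩
      obtain ⟨g, rfl⟩ := S.cls ha he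
      exact show IsConj (φ a) (φ (g * a * g⁻¹)) from isConj_iff.2 ⟨φ g, by simp⟩
    · obtain ⟨g, rfl⟩ := isConj_iff.1 (show IsConj (φ a) x from hx)
      exact ⟨φ.symm g * a * (φ.symm g)⁻¹, S.tt.conj _ a ha, by simp⟩
    · rw [show (φ '' D) = φ.toMonoidHom '' D from rfl, ← MonoidHom.map_closure, h3]
      exact Subgroup.map_top_of_surjective _ φ.surjective
  exact class_eq S hF hM hE ▸ ⟨d, hd, rfl⟩

/-- An automorphism takes bases to bases. -/
theorem IsBase.map (φ : MulAut G) {B : Set G} (hB : IsBase D B) : IsBase D (φ '' B) := by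
  refine ⟨?_, ?_, by rw [Set.ncard_image_of_injective _ φ.injective, hB.card]⟩
  · rintro _ ⟨x, hx, rfl⟩
    exact map_mem S hF hM φ (hB.sub hx)
  · rintro _ ⟨x, hx, rfl⟩ _ ⟨y, hy, rfl⟩
    exact (hB.comm x hx y hy).map φ

/-- The translates of a member commuting with no member of a base determine the pair. -/
theorem translate_inj {B : Set G} (hB : IsBase D B) {d x y u v : G} (hdB : ∀ b ∈ B, ¬ Commute d b)
    (hd : d ∈ D) (hx : x ∈ B) (hy : y ∈ B) (hu : u ∈ B) (hv : v ∈ B) (hxy : x ≠ y) (huv : u ≠ v)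
    (h : x * y * d * (x * y) = u * v * d * (u * v)) : (x = u ∧ y = v) ∨ (x = v ∧ y = u) := by
  have sq2 : ∀ {p q : G}, p ∈ B → q ∈ B → p * q * (p * q) = 1 := fun {p q} hp hq => by
    rw [(hB.comm p hp q hq).symm.mul_mul_mul_comm, S.sqd (hB.sub hp), S.sqd (hB.sub hq), mul_one]
  have hcc : Commute (u * v) (x * y) :=
    ((hB.comm u hu x hx).mul_right (hB.comm u hu y hy)).mul_left ((hB.comm v hv x hx).mul_right (hB.comm v hv y hy))
  set g := u * v * (x * y) with hg
  have hgg : g * g = 1 := by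
    rw [hg, hcc.symm.mul_mul_mul_comm, sq2 hu hv, sq2 hx hy, mul_one]
  have hgd : Commute g d := by
    calc g * d = u * v * (x * y) * d := rfl
      _ = u * v * (x * y * d * (x * y)) * (x * y) := by simp only [mul_assoc]; rw [← mul_assoc x y (x * y), sq2 hx hy, mul_one]
      _ = u * v * (u * v * d * (u * v)) * (x * y) := by rw [h]
      _ = d * g := by rw [← mul_assoc (u * v), ← mul_assoc (u * v), sq2 hu hv, one_mul, hg, mul_assoc]
  by_cases hg1 : g = 1
  · have he : u * v = x * y := by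
      rw [hg, mul_eq_one_iff_eq_inv, inv_eq_self (sq2 hx hy)] at hg1
      exact hg1
    exact pair_unique S hF hM (hB.sub hx) (hB.sub hy) (hB.sub hu) (hB.sub hv) hxy huv (hB.comm x hx y hy)
      (hB.comm u hu v hv) he.symm
  exfalso
  have hgB : ∀ b ∈ B, Commute b g := fun b hb =>
    ((hB.comm b hb u hu).mul_right (hB.comm b hb v hv)).mul_right ((hB.comm b hb x hx).mul_right (hB.comm b hb y hy))
  rcases invol_cases S hF hM (orderOf_eq_prime (by rw [pow_two]; exact hgg) hg1) with hgD | ⟨p, q, hp, hq, hpq⟩ |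
      ⟨p, q, r, T, hpq⟩
  · exact hdB g (hB.mem_of_comm S hF hM hgD fun b hb => (hgB b hb).symm) hgd.symm
  · refine hdB p (hB.mem_of_comm S hF hM hp fun b hb => ?_) ?_
    · exact (S.commute_both hp hq.1 (hB.sub hb) hq.2.2 hq.2.1.symm (hpq ▸ hgB b hb)).1.symm
    · exact (S.commute_both hp hq.1 hd hq.2.2 hq.2.1.symm (hpq ▸ hgd.symm)).1
  · refine hdB p (hB.mem_of_comm S hF hM T.ha fun b hb => ?_) ?_
    · exact (commute_all S hF hM (hB.sub hb) T (hpq ▸ hgB b hb)).1.symm
    · exact (commute_all S hF hM hd T (hpq ▸ hgd.symm)).1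

/-- Two commuting members commuting with no member of a base differ by the product of two of its members. -/
theorem exists_translate {B : Set G} (hB : IsBase D B) {d e : G} (hd : d ∈ D)
    (hdB : ∀ b ∈ B, ¬ Commute d b) (he : e ∈ link D d) (heB : ∀ b ∈ B, ¬ Commute e b) :
    ∃ x ∈ B, ∃ y ∈ B, x ≠ y ∧ e = x * y * d * (x * y) := by
  classical
  set P : Finset (G × G) := (Set.toFinite B).toFinset.offDiag with hP
  set f : G × G → G := fun p => p.1 * p.2 * d * (p.1 * p.2) with hf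
  have hPc : P.card = 462 := by
    rw [hP, Finset.offDiag_card, ← Set.ncard_eq_toFinset_card, hB.card]
  have hmemP : ∀ p, p ∈ P ↔ p.1 ∈ B ∧ p.2 ∈ B ∧ p.1 ≠ p.2 := fun p => by
    simp [hP, Finset.mem_offDiag]
  have hfib : ∀ a ∈ P.image f, (P.filter fun p => f p = a).card ≤ 2 := by
    intro a ha
    obtain ⟨⟨x, y⟩, hp, rfl⟩ := Finset.mem_image.1 ha
    obtain ⟨hx, hy, hxy⟩ := (hmemP _).1 hp
    refine le_trans (Finset.card_le_card (t := {(x, y), (y, x)}) fun p hp' => ?_) Finset.card_le_two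
    obtain ⟨hp'', hpe⟩ := Finset.mem_filter.1 hp'
    obtain ⟨hu, hv, huv⟩ := (hmemP _).1 hp''
    rcases translate_inj S hF hM hB hdB hd hu hv hx hy huv hxy hpe with ⟨h1, h2⟩ | ⟨h1, h2⟩
    · simp [Prod.ext_iff, h1, h2]
    · simp [Prod.ext_iff, h1, h2]
  have himg : 231 ≤ (P.image f).card := by
    have := Finset.card_le_mul_card_image P 2 hfib
    omega
  have hsub : ↑(P.image f) ⊆ {g | g ∈ link D d ∧ ∀ b ∈ B, ¬ Commute g b} := by
    intro g hg
    obtain ⟨⟨x, y⟩, hp, rfl⟩ := Finset.mem_image.1 (Finset.mem_coe.1 hg)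
    obtain ⟨hx, hy, hxy⟩ := (hmemP _).1 hp
    have hxx := S.sqd (hB.sub hx)
    have hyy := S.sqd (hB.sub hy)
    have hc := hB.comm x hx y hy
    have hinv : (x * y)⁻¹ = x * y := inv_eq_self (by rw [hc.symm.mul_mul_mul_comm, hxx, hyy, mul_one])
    have hconj : x * y * d * (x * y) = x * y * d * (x * y)⁻¹ := by rw [hinv]
    refine ⟨⟨by show x * y * d * (x * y) ∈ D; rw [hconj]; exact S.tt.conj _ d hd, fun h => ?_, ?_⟩, fun b hb h => ?_⟩
    · have hcd : Commute d (x * y) := by
        change x * y * d * (x * y) = d at h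
        rw [hconj, mul_inv_eq_iff_eq_mul] at h
        exact h.symm
      exact hdB x hx (S.commute_both (hB.sub hx) (hB.sub hy) hd hc hxy hcd).1
    · show Commute d (x * y * d * (x * y))
      have h1 : x * d * x = d * x * d := S.tt.braid (hB.sub hx) hd fun h => hdB x hx h.symm
      have h2 : y * d * y = d * y * d := S.tt.braid (hB.sub hy) hd fun h => hdB y hy h.symm
      have h3 : Commute (x * d * x) (y * d * y) := by
        have := (Commute.conj_iff d).2 hc
        rwa [S.tt.inv_eq hd, ← h1, ← h2] at this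
      have h4 := (Commute.conj_iff x).2 h3
      rwa [S.tt.inv_eq (hB.sub hx), show x * (x * d * x) * x = d by simp [mul_assoc, hxx, cancel₂ hxx],
        show x * (y * d * y) * x = x * y * d * (x * y) by
          simp only [mul_assoc]; rw [hc.symm.eq]] at h4
    · refine hdB b hb ?_
      have h' : Commute ((x * y) * d * (x * y)⁻¹) ((x * y) * b * (x * y)⁻¹) := by
        rw [← hconj, show x * y * b * (x * y)⁻¹ = b by
          rw [((hB.comm x hx b hb).mul_left (hB.comm y hy b hb)).eq, mul_inv_cancel_right]]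
        exact h
      exact (Commute.conj_iff _).1 h'
  have heq := Set.eq_of_subset_of_ncard_le hsub (by
    rw [Set.ncard_coe_finset, hB.near_link S hF hM hd hdB]; exact himg) (Set.toFinite _)
  have : e ∈ (↑(P.image f) : Set G) := heq ▸ (⟨he, heB⟩ : e ∈ {g | g ∈ link D d ∧ ∀ b ∈ B, ¬ Commute g b})
  obtain ⟨⟨x, y⟩, hp, rfl⟩ := Finset.mem_image.1 (Finset.mem_coe.1 this)
  obtain ⟨hx, hy, hxy⟩ := (hmemP _).1 hp
  exact ⟨x, hx, y, hy, hxy, rfl⟩

/-- An automorphism of order two fixes a member. -/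
theorem outer_fixed (φ : MulAut G) (hφ : ∀ g, φ (φ g) = g) : ∃ d ∈ D, φ d = d := by
  classical
  have := Fintype.ofFinite G
  have hmem : ∀ {d}, d ∈ D → φ d ∈ D := fun hd => map_mem S hF hM φ hd
  by_cases hnc : ∃ d ∈ D, ¬ Commute d (φ d)
  · obtain ⟨d, hd, hd'⟩ := hnc
    refine ⟨d * φ d * d, S.tt.cj_mem hd (hmem hd), ?_⟩
    rw [map_mul, map_mul, hφ]
    exact (S.tt.braid hd (hmem hd) hd').symm
  push Not at hnc
  by_contra hfix
  push Not at hfix
  obtain ⟨a, ha, -⟩ := S.exists_noncommuting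
  have hla : φ a ∈ link D a := ⟨hmem ha, hfix a ha, hnc a ha⟩
  set T : Set (Set G) := {B | IsBase D B ∧ a ∈ B ∧ φ a ∈ B} with hT
  have hmapT : ∀ B ∈ T, φ '' B ∈ T := fun B ⟨h1, h2, h3⟩ =>
    ⟨h1.map S hF hM φ, ⟨φ a, h3, hφ a⟩, a, h2, rfl⟩
  have himg2 : ∀ B : Set G, φ '' (φ '' B) = B := fun B => by
    rw [← Set.image_comp, show (φ : G → G) ∘ φ = id from funext hφ, Set.image_id]
  let σ : Equiv.Perm T := ⟨fun B => ⟨φ '' B.1, hmapT B.1 B.2⟩, fun B => ⟨φ '' B.1, hmapT B.1 B.2⟩,
    fun B => Subtype.ext (himg2 B.1), fun B => Subtype.ext (himg2 B.1)⟩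
  haveI : Fact (Nat.Prime 2) := ⟨Nat.prime_two⟩
  have hcard : ¬ 2 ∣ Fintype.card T := by
    rw [← Nat.card_eq_fintype_card, Nat.card_coe_set_eq, bases_two S hF hM ha hla]
    norm_num
  obtain ⟨⟨B, hB, hB1, hB2⟩, hBfix⟩ := Equiv.Perm.exists_fixed_point_of_prime (n := 1) hcard
    (σ := σ) (Equiv.ext fun B => Subtype.ext (by simpa [pow_two, σ] using himg2 B.1))
  have hBφ : φ '' B = B := congrArg Subtype.val hBfix
  have hBm : ∀ {b}, b ∈ B → φ b ∈ B := fun {b} hb => hBφ ▸ ⟨b, hb, rfl⟩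
  obtain ⟨d, hd, hdB⟩ := hB.exists_far S hF hM
  have hld : φ d ∈ link D d := ⟨hmem hd, hfix d hd, hnc d hd⟩
  have hd'B : ∀ b ∈ B, ¬ Commute (φ d) b := fun b hb h => by
    refine hdB (φ b) (hBm hb) ?_
    have := h.map φ
    rwa [hφ] at this
  obtain ⟨x, hx, y, hy, hxy, he⟩ := exists_translate S hF hM hB hd hdB hld hd'B
  have hxx := S.sqd (hB.sub hx)
  have hyy := S.sqd (hB.sub hy)
  have hc := hB.comm x hx y hy
  have h2 : d = φ x * φ y * φ d * (φ x * φ y) := by
    have := congrArg φ he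
    rwa [hφ, map_mul, map_mul, map_mul] at this
  have hpp : φ x * φ y * (φ x * φ y) = 1 := by
    rw [← map_mul, ← map_mul, hc.symm.mul_mul_mul_comm, hxx, hyy, mul_one, map_one]
  have h3 : x * y * d * (x * y) = φ x * φ y * d * (φ x * φ y) := by
    rw [← he]
    conv_rhs => rw [h2]
    simp only [← mul_assoc, hpp, one_mul]
    simp only [mul_assoc]
    rw [show φ x * (φ y * (φ x * φ y)) = 1 by simpa only [mul_assoc] using hpp, mul_one]
  rcases translate_inj S hF hM hB hdB hd hx hy (hBm hx) (hBm hy) hxy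
      (fun h => hxy (φ.injective h)) h3 with ⟨h, -⟩ | ⟨hxy', -⟩
  · exact hfix x (hB.sub hx) h.symm
  · refine hfix (x * d * x) (S.tt.cj_mem (hB.sub hx) hd) ?_
    have hyx : φ x = y := by rw [hxy', hφ]
    rw [map_mul, map_mul, hyx, he]
    calc y * (x * y * d * (x * y)) * y = y * (x * y) * d * (x * y * y) := by simp only [mul_assoc]
      _ = x * d * x := by rw [hc.eq, cancel₂ hyy, hc.symm.eq]; simp only [mul_assoc, hyy, mul_one]

end CfsgLib.M22
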