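import Cfsg.Agent.Lib.ThreeTransp.U6Points

/-!
# Lines of the unitary polar space in terms of transvections of `PSU₆(2)`

The five points of an isotropic line have product one, and five pairwise commuting points with product one
form a line.
-/

set_option autoImplicit false

namespace CfsgLib.U6

open Matrix Cfsg
open CfsgLib.PSUAut
open CfsgLib.UnitarySpec (sigma_sigma sigma_ne psuMk)

variable {F : Type} [Field F] [Fintype F]

local notation "V6" => Fin 6 → F
local notation "H6" => Cfsg.hermForm 6 F 2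
local notation "SU6" => (Cfsg.SU 6 F 2)
local notation "PSU6" => (Cfsg.PSU 6 F 2)

variable (hF : Fintype.card F = 2 ^ 2)
include hF

theorem perp_of_mem_span {u v a b : V6} (hu : H6 u u = 0) (hv : H6 v v = 0) (huv : H6 u v = 0)
    (ha : a ∈ Submodule.span F {u, v}) (hb : b ∈ Submodule.span F {u, v}) : H6 a b = 0 := by
  obtain ⟨p, q, rfl⟩ := Submodule.mem_span_pair.1 ha
  obtain ⟨r, s, rfl⟩ := Submodule.mem_span_pair.1 hb
  simp only [add_left hF, add_right hF, smul_left hF, smul_right hF, hu, hv, huv, (comm_zero hF).1 huv,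
    mul_zero, add_zero]

theorem perp_span_right {u v z w : V6} (hw : w ∈ Submodule.span F {u, v}) (hu : H6 z u = 0)
    (hv : H6 z v = 0) : H6 z w = 0 := by
  obtain ⟨p, q, rfl⟩ := Submodule.mem_span_pair.1 hw
  rw [add_right hF, smul_right hF, smul_right hF, hu, hv, mul_zero, mul_zero, add_zero]

/-- The line through `u`, `v` as the double perp among isotropic vectors. -/
theorem mem_span_iff {u v z : V6} (hu : Isot 2 u) (hv : Isot 2 v) (hz : Isot 2 z) :
    z ∈ Submodule.span F {u, v} ↔ ∀ y, Isot 2 y → H6 y u = 0 → H6 y v = 0 → H6 y z = 0 := by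
  obtain ⟨σ, hσ⟩ := exists_sigma hF
  exact line_criterion hF hσ (by norm_num) hu hv hz

theorem IsPt.eq_of_smul {x y : PSU6} {u v : V6} (hx : IsPt x u) (hy : IsPt y v) {a : F}
    (h : v = a • u) : x = y := by
  by_cases ha : a = 0
  · exact absurd (by rw [h, ha, zero_smul]) hy.1.1
  · exact IsPt.unique hF (hx.smul hF ha) (h ▸ hy)

theorem IsPt.notMem_span {x y : PSU6} {u v : V6} (hx : IsPt x u) (hy : IsPt y v) (hne : x ≠ y) :
    v ∉ Submodule.span F {u} := fun h => by
  obtain ⟨a, ha⟩ := Submodule.mem_span_singleton.1 h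
  exact hne (IsPt.eq_of_smul hF hx hy ha.symm)

theorem IsPt.ne_of_notMem_span {x y : PSU6} {u v : V6} (hx : IsPt x u) (hy : IsPt y v)
    (h : v ∉ Submodule.span F {u}) : x ≠ y := by
  rintro rfl
  obtain ⟨a, -, ha⟩ := IsPt.span_eq hF hx hy
  exact h (Submodule.mem_span_singleton.2 ⟨a, ha.symm⟩)

theorem act_mul5 {t₀ t₁ t₂ t₃ t₄ : SU6} {a b c d e : V6}
    (ha : ∀ y, act t₀ y = y + H6 y a • a) (hb : ∀ y, act t₁ y = y + H6 y b • b)
    (hc : ∀ y, act t₂ y = y + H6 y c • c) (hd : ∀ y, act t₃ y = y + H6 y d • d)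
    (he : ∀ y, act t₄ y = y + H6 y e • e)
    (hba : H6 b a = 0) (hca : H6 c a = 0) (hcb : H6 c b = 0) (hda : H6 d a = 0) (hdb : H6 d b = 0)
    (hdc : H6 d c = 0) (hea : H6 e a = 0) (heb : H6 e b = 0) (hec : H6 e c = 0) (hed : H6 e d = 0) (z : V6) :
    act (t₀ * t₁ * t₂ * t₃ * t₄) z = z + (H6 z a • a + H6 z b • b + H6 z c • c + H6 z d • d + H6 z e • e) := by
  rw [act_mul, act_mul, act_mul, act_mul, he, hd, hc, hb, ha]
  simp only [add_left hF, smul_left hF, hba, hca, hcb, hda, hdb, hdc, hea, heb, hec, hed, mul_zero, add_zero]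
  abel

theorem act_mul3 {t₀ t₁ t₂ : SU6} {a b c : V6}
    (ha : ∀ y, act t₀ y = y + H6 y a • a) (hb : ∀ y, act t₁ y = y + H6 y b • b)
    (hc : ∀ y, act t₂ y = y + H6 y c • c) (hba : H6 b a = 0) (hca : H6 c a = 0) (hcb : H6 c b = 0) (z : V6) :
    act (t₀ * t₁ * t₂) z = z + (H6 z a • a + H6 z b • b + H6 z c • c) := by
  rw [act_mul, act_mul, hc, hb, ha]
  simp only [add_left hF, smul_left hF, hba, hca, hcb, mul_zero, add_zero]
  abel

/-- An element congruent to `1` modulo scalars and fixing a non-zero vector is the identity. -/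
theorem act_eq_self {g : SU6} (hg : psuMk g = 1) {w : V6} (hw : w ≠ 0) (hgw : act g w = w) (z : V6) :
    act g z = z := by
  obtain ⟨σ, hσ⟩ := exists_sigma hF
  rw [eq_of_psuMk hF hσ (by norm_num) (g := g) (g' := 1) (by rw [hg, map_one]) hw hgw (act_one w), act_one]

/-- Three pairwise commuting distinct points do not have product one. -/
theorem three_ne_one {x y z : PSU6} {a b c : V6} (hx : IsPt x a) (hy : IsPt y b) (hz : IsPt z c)
    (hab : H6 a b = 0) (hac : H6 a c = 0) (hbc : H6 b c = 0) (hxy : x ≠ y) (hxz : x ≠ z) :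
    x * y * z ≠ 1 := by
  intro h
  obtain ⟨σ, hσ⟩ := exists_sigma hF
  obtain ⟨haI, t₀, h₀, rfl⟩ := hx
  have hy' := hy
  have hz' := hz
  obtain ⟨hbI, t₁, h₁, rfl⟩ := hy
  obtain ⟨hcI, t₂, h₂, rfl⟩ := hz
  rw [← map_mul, ← map_mul] at h
  have hact := act_mul3 hF h₀ h₁ h₂ ((comm_zero hF).1 hab) ((comm_zero hF).1 hac) ((comm_zero hF).1 hbc)
  have hfix : ∀ w : V6, H6 w a • a + H6 w b • b + H6 w c • c = 0 := by
    intro w
    have h1 := act_eq_self hF h haI.1 (by
      rw [hact, haI.2, hab, hac]; simp) w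
    rwa [hact, add_eq_left] at h1
  have hx' : IsPt (psuMk t₀) a := ⟨haI, t₀, h₀, rfl⟩
  have hnab : a ∉ Submodule.span F {b} := IsPt.notMem_span hF hy' hx' hxy.symm
  obtain ⟨w, hwb, hwa⟩ : ∃ w, H6 w b = 0 ∧ H6 w a ≠ 0 := by
    by_contra hcon
    push Not at hcon
    exact hnab (mem_span_single_of_perp hF hσ hcon)
  have := hfix w
  rw [hwb, zero_smul, add_zero, add_eq_zero_iff_eq_neg, ← neg_smul] at this
  exact hxz (IsPt.eq_of_smul hF hz' hx' (a := (H6 w a)⁻¹ * -H6 w c)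
    (by rw [mul_smul, ← this, inv_smul_smul₀ hwa])).symm

theorem span_aux {a b c d e : V6} (hab : b ∉ Submodule.span F {a}) (ha : a ≠ 0)
    (hS : ∀ w : V6, H6 w a • a + H6 w b • b + H6 w c • c + H6 w d • d + H6 w e • e = 0) :
    c ∈ Submodule.span F {a, b} := by
  obtain ⟨σ, hσ⟩ := exists_sigma hF
  by_contra hc
  have hb : b ≠ 0 := fun h => hab (h ▸ Submodule.zero_mem _)
  have hli : LinearIndependent F ![a, b] := by
    rw [LinearIndependent.pair_iff' ha]
    exact fun r hr => hab (Submodule.mem_span_singleton.2 ⟨r, hr⟩)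
  -- each of the three vectors lies on the span of the last two
  have key : ∀ p q r : V6, (∀ w, H6 w p • p + H6 w q • q + H6 w r • r + H6 w d • d + H6 w e • e = 0) →
      p ∉ Submodule.span F {q, r} → p ∈ Submodule.span F {d, e} := by
    intro p q r hpqr hp
    obtain ⟨w, hwq, hwr, hwp⟩ : ∃ w, H6 w q = 0 ∧ H6 w r = 0 ∧ H6 w p ≠ 0 := by
      by_contra hcon
      push Not at hcon
      exact hp (mem_span_pair_of_perp hF hσ hcon)
    have := hpqr w
    rw [hwq, hwr, zero_smul, zero_smul, add_zero, add_zero, add_assoc, add_eq_zero_iff_eq_neg] at this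
    rw [← inv_smul_smul₀ hwp p, this]
    exact Submodule.smul_mem _ _ (Submodule.neg_mem _ (Submodule.mem_span_pair.2 ⟨_, _, rfl⟩))
  have hpa : a ∉ Submodule.span F {b, c} := by
    intro h
    obtain ⟨p, q, hpq⟩ := Submodule.mem_span_pair.1 h
    by_cases hq : q = 0
    · rw [hq, zero_smul, add_zero] at hpq
      by_cases hp : p = 0
      · exact ha (by rw [← hpq, hp, zero_smul])
      · exact hab (Submodule.mem_span_singleton.2 ⟨p⁻¹, by rw [← hpq, inv_smul_smul₀ hp]⟩)
    · refine hc (Submodule.mem_span_pair.2 ⟨q⁻¹, -(q⁻¹ * p), ?_⟩)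
      rw [← hpq, smul_add, smul_smul, inv_smul_smul₀ hq, neg_smul]
      abel
  have hpb : b ∉ Submodule.span F {a, c} := by
    intro h
    obtain ⟨p, q, hpq⟩ := Submodule.mem_span_pair.1 h
    by_cases hq : q = 0
    · rw [hq, zero_smul, add_zero] at hpq
      exact hab (Submodule.mem_span_singleton.2 ⟨p, hpq⟩)
    · refine hc (Submodule.mem_span_pair.2 ⟨-(q⁻¹ * p), q⁻¹, ?_⟩)
      rw [← hpq, smul_add, smul_smul, inv_smul_smul₀ hq, neg_smul]
      abel
  have ka : a ∈ Submodule.span F {d, e} := key a b c hS hpa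
  have kb : b ∈ Submodule.span F {d, e} := key b a c (fun w => by rw [← hS w]; abel) hpb
  have kc : c ∈ Submodule.span F {d, e} := key c a b (fun w => by rw [← hS w]; abel) hc
  have hle : Submodule.span F {a, b} ≤ Submodule.span F {d, e} :=
    Submodule.span_le.2 (Set.insert_subset ka (Set.singleton_subset_iff.2 kb))
  have h2 : Module.finrank F (Submodule.span F {a, b}) = 2 := by
    have := finrank_span_eq_card hli
    rw [Matrix.range_cons, Matrix.range_cons, Matrix.range_empty, Set.union_empty, Set.singleton_union,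
      Fintype.card_fin] at this
    exact this
  have h3 : Module.finrank F (Submodule.span F ({d, e} : Set V6)) ≤ 2 := by
    classical
    refine le_trans (finrank_span_le_card _) ?_
    rw [Set.toFinset_insert, Set.toFinset_singleton]
    exact Finset.card_le_two
  exact hc ((Submodule.eq_of_le_of_finrank_le hle (h3.trans h2.ge)) ▸ kc)

/-- Five pairwise commuting points with product one lie on the line of any two distinct ones. -/
theorem five_on_line {x₀ x₁ x₂ x₃ x₄ : PSU6} {a b c d e : V6}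
    (h₀ : IsPt x₀ a) (h₁ : IsPt x₁ b) (h₂ : IsPt x₂ c) (h₃ : IsPt x₃ d) (h₄ : IsPt x₄ e) (hne : x₀ ≠ x₁)
    (hba : H6 b a = 0) (hca : H6 c a = 0) (hcb : H6 c b = 0) (hda : H6 d a = 0) (hdb : H6 d b = 0)
    (hdc : H6 d c = 0) (hea : H6 e a = 0) (heb : H6 e b = 0) (hec : H6 e c = 0) (hed : H6 e d = 0)
    (hprod : x₀ * x₁ * x₂ * x₃ * x₄ = 1) :
    c ∈ Submodule.span F {a, b} ∧ d ∈ Submodule.span F {a, b} ∧ e ∈ Submodule.span F {a, b} := by
  have hab : b ∉ Submodule.span F {a} := IsPt.notMem_span hF h₀ h₁ hne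
  obtain ⟨haI, t₀, k₀, rfl⟩ := h₀
  obtain ⟨-, t₁, k₁, rfl⟩ := h₁
  obtain ⟨-, t₂, k₂, rfl⟩ := h₂
  obtain ⟨-, t₃, k₃, rfl⟩ := h₃
  obtain ⟨-, t₄, k₄, rfl⟩ := h₄
  rw [← map_mul, ← map_mul, ← map_mul, ← map_mul] at hprod
  have hact := act_mul5 hF k₀ k₁ k₂ k₃ k₄ hba hca hcb hda hdb hdc hea heb hec hed
  have hS : ∀ w : V6, H6 w a • a + H6 w b • b + H6 w c • c + H6 w d • d + H6 w e • e = 0 := by
    intro w
    have h1 := act_eq_self hF hprod haI.1 (by
      rw [hact, haI.2, (comm_zero hF).1 hba, (comm_zero hF).1 hca, (comm_zero hF).1 hda,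
        (comm_zero hF).1 hea]
      simp) w
    rwa [hact, add_eq_left] at h1
  exact ⟨span_aux hF hab haI.1 hS, span_aux hF hab haI.1 (c := d) (d := c) (e := e) (fun w => by rw [← hS w]; abel),
    span_aux hF hab haI.1 (c := e) (d := c) (e := d) (fun w => by rw [← hS w]; abel)⟩

/-- The third, fourth and fifth point of the line through two commuting points. -/
theorem exists_line {x y : PSU6} {u v : V6} (hx : IsPt x u) (hy : IsPt y v) (huv : H6 u v = 0)
    (hne : x ≠ y) :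
    ∃ (x₂ x₃ x₄ : PSU6) (w₂ w₃ w₄ : V6), IsPt x₂ w₂ ∧ IsPt x₃ w₃ ∧ IsPt x₄ w₄ ∧
      w₂ ∈ Submodule.span F {u, v} ∧ w₃ ∈ Submodule.span F {u, v} ∧ w₄ ∈ Submodule.span F {u, v} ∧
      [x, y, x₂, x₃, x₄].Nodup ∧ x * y * x₂ * x₃ * x₄ = 1 ∧
      ∀ (z : PSU6) (w : V6), IsPt z w → w ∈ Submodule.span F {u, v} → z ∈ [x, y, x₂, x₃, x₄] := by
  obtain ⟨σ, hσ⟩ := exists_sigma hF
  have := charTwo hF
  obtain ⟨ω, h0, h1, hw, hall⟩ := exists_omega hF
  have hvu : v ∉ Submodule.span F {u} := IsPt.notMem_span hF hx hy hne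
  have hsp : ∀ r : F, u + r • v ∈ Submodule.span F {u, v} := fun r =>
    Submodule.mem_span_pair.2 ⟨1, r, by rw [one_smul]⟩
  have hu' : u ∈ Submodule.span F {u, v} := Submodule.subset_span (Set.mem_insert _ _)
  have hv' : v ∈ Submodule.span F {u, v} := Submodule.subset_span (Set.mem_insert_of_mem _ rfl)
  have hiso : ∀ r : F, Isot 2 (u + r • v) := by
    intro r
    refine ⟨fun h => hvu ?_, perp_of_mem_span hF hx.1.2 hy.1.2 huv (hsp r) (hsp r)⟩
    by_cases hr : r = 0
    · rw [hr, zero_smul, add_zero] at h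
      exact absurd h hx.1.1
    · refine Submodule.mem_span_singleton.2 ⟨-r⁻¹, ?_⟩
      rw [eq_neg_of_add_eq_zero_left h, smul_neg, neg_smul, neg_neg, inv_smul_smul₀ hr]
  obtain ⟨x₂, hx₂⟩ := exists_pt hF (hiso 1)
  obtain ⟨x₃, hx₃⟩ := exists_pt hF (hiso ω)
  obtain ⟨x₄, hx₄⟩ := exists_pt hF (hiso (ω ^ 2))
  have hinj : ∀ {p q : PSU6} {r s : F}, IsPt p (u + r • v) → IsPt q (u + s • v) → r ≠ s → p ≠ q := by
    intro p q r s hp hq hrs
    refine IsPt.ne_of_notMem_span hF hp hq fun h => ?_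
    obtain ⟨a, ha⟩ := Submodule.mem_span_singleton.1 h
    have h' : (a - 1) • u + (a * r - s) • v = 0 := by
      rw [sub_smul, sub_smul, one_smul, mul_smul]
      linear_combination (norm := module) ha
    have hli : LinearIndependent F ![u, v] := by
      rw [LinearIndependent.pair_iff' hx.1.1]
      exact fun c hc => hvu (Submodule.mem_span_singleton.2 ⟨c, hc⟩)
    obtain ⟨h3, h4⟩ := LinearIndependent.pair_iff.1 hli _ _ h'
    rw [sub_eq_zero.1 h3, one_mul] at h4
    exact hrs (sub_eq_zero.1 h4)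
  have hxu : IsPt x (u + (0 : F) • v) := by rw [zero_smul, add_zero]; exact hx
  have hyne : ∀ {p : PSU6} {r : F}, IsPt p (u + r • v) → p ≠ y := by
    intro p r hp h
    subst h
    obtain ⟨a, -, ha⟩ := IsPt.span_eq hF hy hp
    refine hne (IsPt.eq_of_smul hF hy hx (a := a - r) ?_).symm
    rw [sub_smul, ← ha, add_sub_cancel_right]
  have hw0 : ω ^ 2 ≠ 0 := pow_ne_zero 2 h0
  have hw1 : ω ^ 2 ≠ 1 := by
    intro h
    have : (ω - 1) * (ω - 1) = 0 := by linear_combination h + (1 - ω) * CharTwo.two_eq_zero (R := F)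
    exact h1 (sub_eq_zero.1 (mul_self_eq_zero.1 this))
  have hw2 : ω ^ 2 ≠ ω := by
    intro h
    have : ω * (ω - 1) = 0 := by linear_combination h
    exact h1 (sub_eq_zero.1 ((mul_eq_zero.1 this).resolve_left h0))
  refine ⟨x₂, x₃, x₄, _, _, _, hx₂, hx₃, hx₄, hsp 1, hsp ω, hsp (ω ^ 2), ?_, ?_, ?_⟩
  · simp only [List.nodup_cons, List.mem_cons, List.not_mem_nil, or_false, not_or, List.nodup_nil,
      not_false_eq_true, and_true]
    exact ⟨⟨hne, hinj hxu hx₂ zero_ne_one, hinj hxu hx₃ h0.symm, hinj hxu hx₄ hw0.symm⟩,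
      ⟨(hyne hx₂).symm, (hyne hx₃).symm, (hyne hx₄).symm⟩,
      ⟨hinj hx₂ hx₃ h1.symm, hinj hx₂ hx₄ hw1.symm⟩, hinj hx₃ hx₄ hw2.symm⟩
  · obtain ⟨-, t₀, k₀, rfl⟩ := hx
    obtain ⟨-, t₁, k₁, rfl⟩ := hy
    obtain ⟨-, t₂, k₂, rfl⟩ := hx₂
    obtain ⟨-, t₃, k₃, rfl⟩ := hx₃
    obtain ⟨-, t₄, k₄, rfl⟩ := hx₄
    rw [← map_mul, ← map_mul, ← map_mul, ← map_mul]
    have huu : H6 u u = 0 := by
      have := hxu.1.2
      rwa [zero_smul, add_zero] at this
    have hvv : H6 v v = 0 := perp_of_mem_span hF huu (by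
      have := (hiso 1).2
      rw [one_smul, add_left hF, add_right hF, add_right hF, huu, huv, (comm_zero hF).1 huv, zero_add,
        zero_add, zero_add] at this
      exact this) huv hv' hv'
    have hp : ∀ {p q : V6}, p ∈ Submodule.span F {u, v} → q ∈ Submodule.span F {u, v} → H6 p q = 0 :=
      fun hp hq => perp_of_mem_span hF huu hvv huv hp hq
    rw [show t₀ * t₁ * t₂ * t₃ * t₄ = 1 from act_ext fun z => ?_, map_one]
    rw [act_mul5 hF k₀ k₁ k₂ k₃ k₄ (hp hv' hu') (hp (hsp 1) hu') (hp (hsp 1) hv') (hp (hsp _) hu')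
      (hp (hsp _) hv') (hp (hsp _) (hsp _)) (hp (hsp _) hu') (hp (hsp _) hv') (hp (hsp _) (hsp _))
      (hp (hsp _) (hsp _)), act_one, add_eq_left]
    simp only [add_right hF, smul_right hF]
    have two : (2 : F) = 0 := CharTwo.two_eq_zero
    match_scalars
    · linear_combination H6 z v * hw + H6 z v * (ω * cube_eq_one hF h0) + 2 * H6 z u * two
    · linear_combination H6 z u * hw + H6 z v * (2 * two) + H6 z v * (cube_eq_one hF h0 + (ω ^ 3 + 1) * cube_eq_one hF h0)
  · intro z w hz hw'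
    obtain ⟨p, q, rfl⟩ := Submodule.mem_span_pair.1 hw'
    by_cases hp0 : p = 0
    · subst hp0
      rw [zero_smul, zero_add] at hz
      rw [IsPt.eq_of_smul hF hy hz rfl]
      simp
    have h2 : IsPt z (u + (p⁻¹ * q) • v) := by
      have := hz.smul hF (inv_ne_zero hp0)
      rwa [smul_add, inv_smul_smul₀ hp0, smul_smul] at this
    rcases hall (p⁻¹ * q) with h | h | h | h <;> rw [h] at h2
    · rw [IsPt.unique hF h2 hxu]; simp
    · rw [IsPt.unique hF h2 hx₂]; simp
    · rw [IsPt.unique hF h2 hx₃]; simp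
    · rw [IsPt.unique hF h2 hx₄]; simp

end CfsgLib.U6
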