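import Cfsg.Agent.Lib.ThreeTransp.U6Perp
import Cfsg.Agent.Lib.Classical.HermLines

/-!
# Numbers of isotropic vectors of the hermitian space of `PSU₆(2)`
-/

set_option autoImplicit false

namespace CfsgLib.U6

open Matrix Cfsg
open CfsgLib.PSUAut

variable {F : Type} [Field F] [Fintype F]

local notation "V6" => Fin 6 → F
local notation "H6" => Cfsg.hermForm 6 F 2

variable (hF : Fintype.card F = 2 ^ 2)
include hF

theorem card_field : Nat.card F = 4 := by rw [Nat.card_eq_fintype_card, hF]; norm_num

theorem card_iso : Nat.card {v : V6 // Isot 2 v} = 2079 := by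
  classical
  have h := (CfsgLib.Classical.hermCount_formula hF 5).2
  have h' : CfsgLib.Classical.hermCount (5 + 1) F 2 0 = 2080 := by
    have : (CfsgLib.Classical.hermCount (5 + 1) F 2 0 : ℤ) = 2080 := by rw [h]; norm_num
    exact_mod_cast this
  have e : {v : V6 // H6 v v = 0} ≃ Option {v : V6 // Isot 2 v} :=
    { toFun := fun v => if h0 : v.1 = 0 then none else some ⟨v.1, h0, v.2⟩
      invFun := fun o => o.elim ⟨0, zero_left hF 0⟩ fun v => ⟨v.1, v.2.2⟩
      left_inv := fun v => by
        by_cases h0 : v.1 = 0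
        · simp [h0, Subtype.ext_iff]
        · simp [h0]
      right_inv := fun o => by
        cases o with
        | none => simp
        | some v => simp [v.2.1] }
  have := Nat.card_congr e
  rw [CfsgLib.Classical.hermCount] at h'
  rw [h', Finite.card_option] at this
  omega

theorem card_iso_perp_off {u : V6} (hu : Isot 2 u) :
    Nat.card {w : V6 // Isot 2 w ∧ H6 w u = 0 ∧ w ∉ Submodule.span F {u}} = 540 := by
  have h := CfsgLib.Classical.card_iso_perp hF 4 (v := u) hu.1 hu.2
  have h4 : CfsgLib.Classical.hermCount 4 F 2 0 = 136 := by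
    have : (CfsgLib.Classical.hermCount (3 + 1) F 2 0 : ℤ) = 136 := by
      rw [(CfsgLib.Classical.hermCount_formula hF 3).2]; norm_num
    exact_mod_cast this
  rw [h4] at h
  have e : {w : V6 // Isot 2 w ∧ H6 w u = 0 ∧ w ∉ Submodule.span F {u}} ≃
      {w : Fin (4 + 2) → F // w ∉ Submodule.span F {u} ∧ Cfsg.hermForm (4 + 2) F 2 w u = 0 ∧
        Cfsg.hermForm (4 + 2) F 2 w w = 0} :=
    Equiv.subtypeEquivRight fun w => ⟨fun ⟨h1, h2, h3⟩ => ⟨h3, h2, h1.2⟩,
      fun ⟨h3, h2, h1⟩ => ⟨⟨fun h0 => h3 (h0 ▸ Submodule.zero_mem _), h1⟩, h2, h3⟩⟩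
  rw [Nat.card_congr e]
  omega

/-- Isotropic vectors orthogonal to two non-orthogonal ones. -/
theorem card_iso_perp_pair {A C : V6} (hA : Isot 2 A) (hAC : H6 A C ≠ 0) :
    Nat.card {v : V6 // Isot 2 v ∧ H6 v A = 0 ∧ H6 v C = 0} = 135 := by
  have hCA : H6 C A ≠ 0 := fun h => hAC ((comm_zero hF).1 h)
  let e : {w : V6 // Isot 2 w ∧ H6 w A = 0 ∧ w ∉ Submodule.span F {A}} ≃
      F × {v : V6 // Isot 2 v ∧ H6 v A = 0 ∧ H6 v C = 0} :=
    { toFun := fun w => ⟨H6 w.1 C / H6 A C, ⟨w.1 - (H6 w.1 C / H6 A C) • A, by
        obtain ⟨w, hw, hwA, hws⟩ := w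
        refine ⟨⟨fun h => hws ?_, ?_⟩, ?_, ?_⟩
        · have h' : w = (H6 w C / H6 A C) • A := sub_eq_zero.1 h
          rw [h']; exact Submodule.smul_mem _ _ (Submodule.mem_span_singleton_self A)
        · simp only [sub_eq_add_neg, ← neg_smul, add_left hF, add_right hF, smul_left hF, smul_right hF, hw.2,
            hA.2, hwA, (comm_zero hF).1 hwA, mul_zero, add_zero]
        · simp only [sub_eq_add_neg, ← neg_smul, add_left hF, smul_left hF, hA.2, hwA, mul_zero, add_zero]
        · simp only [sub_eq_add_neg, ← neg_smul, add_left hF, smul_left hF]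
          field_simp
          ring⟩⟩
      invFun := fun p => ⟨p.1 • A + p.2.1, by
        obtain ⟨α, v, hv, hvA, hvC⟩ := p
        refine ⟨⟨fun h => ?_, ?_⟩, ?_, fun h => ?_⟩
        · have := congrArg (fun z => H6 z C) h
          simp only [add_left hF, smul_left hF, hvC, add_zero, zero_left hF, mul_eq_zero, hAC, or_false] at this
          subst this
          rw [zero_smul, zero_add] at h
          exact hv.1 h
        · simp only [add_left hF, add_right hF, smul_left hF, smul_right hF, hv.2, hA.2, hvA,
            (comm_zero hF).1 hvA, mul_zero, add_zero]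
        · simp only [add_left hF, smul_left hF, hvA, hA.2, mul_zero, add_zero]
        · obtain ⟨β, hβ⟩ := Submodule.mem_span_singleton.1 h
          apply hv.1
          change β • A = α • A + v at hβ
          have := congrArg (fun z => H6 z C) hβ
          simp only [add_left hF, smul_left hF, hvC, add_zero] at this
          rw [mul_right_cancel₀ hAC this] at hβ
          exact left_eq_add.1 hβ⟩
      left_inv := fun w => Subtype.ext (by simp)
      right_inv := fun p => by
        obtain ⟨α, v, hv, hvA, hvC⟩ := p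
        simp [add_left hF, smul_left hF, hvC, hAC] }
  have h := Nat.card_congr e
  rw [card_iso_perp_off hF hA, Nat.card_prod, card_field hF] at h
  omega

/-- Isotropic vectors orthogonal to two non-orthogonal ones and to a third, off its line. -/
theorem card_iso_perp_three {A C u : V6} (hA : Isot 2 A) (hC : Isot 2 C) (hAC : H6 A C ≠ 0) (hu : Isot 2 u)
    (hua : H6 u A = 0) (huc : H6 u C = 0) :
    Nat.card {v : V6 // Isot 2 v ∧ H6 v A = 0 ∧ H6 v C = 0 ∧ H6 v u = 0 ∧ v ∉ Submodule.span F {u}} = 36 := by
  classical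
  have hCA : H6 C A ≠ 0 := fun h => hAC ((comm_zero hF).1 h)
  have ind2 : ∀ α β : F, H6 (α • A + β • C) A = 0 → H6 (α • A + β • C) C = 0 → α = 0 ∧ β = 0 := by
    intro α β h1 h2
    rw [add_left hF, smul_left hF, smul_left hF, hA.2, mul_zero, zero_add] at h1
    rw [add_left hF, smul_left hF, smul_left hF, hC.2, mul_zero, add_zero] at h2
    exact ⟨(mul_eq_zero.1 h2).resolve_right hAC, (mul_eq_zero.1 h1).resolve_right hCA⟩
  obtain ⟨y, hy, py, hyu⟩ := exists_iso_pairing hF ![A, C] hu.2 (fun i => by fin_cases i <;> assumption)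
    (fun h => by
      rw [Matrix.range_cons, Matrix.range_cons, Matrix.range_empty, Set.union_empty, Set.singleton_union] at h
      obtain ⟨α, β, hαβ⟩ := Submodule.mem_span_pair.1 h
      obtain ⟨e1, e2⟩ := ind2 α β (hαβ ▸ hua) (hαβ ▸ huc)
      exact hu.1 (by rw [← hαβ, e1, e2, zero_smul, zero_smul, add_zero]))
  have hya : H6 y A = 0 := py 0
  have hyc : H6 y C = 0 := py 1
  have huy : H6 u y = 1 := comm_one hF hyu
  obtain ⟨f, hf, pf⟩ := exists_iso_perp_of hF ![A, C, u, y] (by norm_num)
  have hfa : H6 f A = 0 := pf 0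
  have hfc : H6 f C = 0 := pf 1
  have hfu : H6 f u = 0 := pf 2
  have hfy : H6 f y = 0 := pf 3
  obtain ⟨g, hg, pg, hgf⟩ := exists_iso_pairing hF ![A, C, u, y] hf.2 pf (fun h => by
    rw [Matrix.range_cons, Matrix.range_cons, Matrix.range_cons, Matrix.range_cons, Matrix.range_empty,
      Set.union_empty, Set.singleton_union, Set.singleton_union, Set.singleton_union,
      Submodule.mem_span_insert] at h
    obtain ⟨α, z, hz, rfl⟩ := h
    obtain ⟨β, z', hz', rfl⟩ := Submodule.mem_span_insert.1 hz
    obtain ⟨γ, δ, rfl⟩ := Submodule.mem_span_pair.1 hz'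
    simp only [add_left hF, smul_left hF, hA.2, hC.2, hu.2, hy.2, hua, huc, hya, hyc, hyu, huy,
      (comm_zero hF).1 hua, (comm_zero hF).1 huc, (comm_zero hF).1 hya, (comm_zero hF).1 hyc,
      mul_zero, mul_one, add_zero, zero_add, mul_eq_zero, hAC, hCA, or_false] at hfa hfc hfu hfy
    apply hf.1
    rw [hfa, hfc, hfu, hfy]
    simp)
  have hga : H6 g A = 0 := pg 0
  have hgc : H6 g C = 0 := pg 1
  have hgu : H6 g u = 0 := pg 2
  have hgy : H6 g y = 0 := pg 3
  have hfg : H6 f g = 1 := comm_one hF hgf
  have hP : IsPlane A u f := by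
    refine ⟨hA.2, hu.2, hf.2, (comm_zero hF).1 hua, (comm_zero hF).1 hfa, (comm_zero hF).1 hfu, hA.1, ?_, ?_⟩
    · intro h
      obtain ⟨c, rfl⟩ := Submodule.mem_span_singleton.1 h
      rw [smul_left hF] at huc
      exact hu.1 (by rw [(mul_eq_zero.1 huc).resolve_right hAC, zero_smul])
    · intro h
      obtain ⟨α, β, rfl⟩ := Submodule.mem_span_pair.1 h
      simp only [add_left hF, smul_left hF, hyu, huy, huc, (comm_zero hF).1 hya, mul_zero, mul_one,
        zero_add, add_zero, mul_eq_zero, hAC, or_false] at hfc hfy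
      exact hf.1 (by rw [hfc, hfy]; simp)
  let W : Type := {w : V6 // Isot 2 w ∧ H6 w A = 0 ∧ H6 w C = 0 ∧ H6 w u = 0 ∧ H6 w y = 0}
  let e : {v : V6 // Isot 2 v ∧ H6 v A = 0 ∧ H6 v C = 0 ∧ H6 v u = 0 ∧ v ∉ Submodule.span F {u}} ≃ F × W :=
    { toFun := fun v => ⟨H6 v.1 y, ⟨v.1 - H6 v.1 y • u, by
        obtain ⟨v, hv, h1, h2, h3, h4⟩ := v
        refine ⟨⟨fun h => h4 ?_, ?_⟩, ?_, ?_, ?_, ?_⟩
        · have h' : v = H6 v y • u := sub_eq_zero.1 h
          rw [h']; exact Submodule.smul_mem _ _ (Submodule.mem_span_singleton_self u)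
        · simp only [sub_eq_add_neg, ← neg_smul, add_left hF, add_right hF, smul_left hF, smul_right hF,
            hv.2, hu.2, h3, (comm_zero hF).1 h3, mul_zero, add_zero]
        all_goals simp only [sub_eq_add_neg, ← neg_smul, add_left hF, smul_left hF, h1, h2, h3, hu.2, hua, huc,
          huy, mul_zero, mul_one, add_zero, add_neg_cancel]⟩⟩
      invFun := fun p => ⟨p.1 • u + p.2.1, by
        obtain ⟨α, w, hw, h1, h2, h3, h4⟩ := p
        refine ⟨⟨fun h => ?_, ?_⟩, ?_, ?_, ?_, fun h => ?_⟩
        · have := congrArg (fun z => H6 z y) h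
          simp only [add_left hF, smul_left hF, huy, h4, add_zero, mul_one, zero_left hF] at this
          subst this
          rw [zero_smul, zero_add] at h
          exact hw.1 h
        · simp only [add_left hF, add_right hF, smul_left hF, smul_right hF, hw.2, hu.2, h3,
            (comm_zero hF).1 h3, mul_zero, add_zero]
        iterate 3 simp only [add_left hF, smul_left hF, h1, h2, h3, hu.2, hua, huc, mul_zero, add_zero]
        obtain ⟨β, hβ⟩ := Submodule.mem_span_singleton.1 h
        apply hw.1
        change β • u = α • u + w at hβ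
        have := congrArg (fun z => H6 z y) hβ
        simp only [add_left hF, smul_left hF, huy, h4, add_zero, mul_one] at this
        rw [this] at hβ
        exact left_eq_add.1 hβ⟩
      left_inv := fun v => Subtype.ext (by simp)
      right_inv := fun p => by
        obtain ⟨α, w, hw, h1, h2, h3, h4⟩ := p
        simp [add_left hF, smul_left hF, huy, h4] }
  have hW : Nat.card W = 9 := by
    let φ : Fin 3 × Fˣ → W := fun p => ⟨(p.2 : F) • ![f, g, f + g] p.1, by
      obtain ⟨i, s⟩ := p
      have key : ∀ z : V6, z ≠ 0 → H6 z z = 0 → H6 z A = 0 → H6 z C = 0 → H6 z u = 0 → H6 z y = 0 →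
          Isot 2 ((s : F) • z) ∧ H6 ((s : F) • z) A = 0 ∧ H6 ((s : F) • z) C = 0 ∧ H6 ((s : F) • z) u = 0 ∧
            H6 ((s : F) • z) y = 0 := by
        intro z h0 hz k1 k2 k3 k4
        refine ⟨⟨smul_ne_zero s.ne_zero h0, ?_⟩, ?_, ?_, ?_, ?_⟩ <;>
          simp only [smul_left hF, smul_right hF, hz, k1, k2, k3, k4, mul_zero]
      fin_cases i
      · exact key f hf.1 hf.2 hfa hfc hfu hfy
      · exact key g hg.1 hg.2 hga hgc hgu hgy
      · refine key (f + g) (fun h => ?_) ?_ ?_ ?_ ?_ ?_
        · have := congrArg (fun z => H6 z g) h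
          simp only [add_left hF, hfg, hg.2, add_zero, zero_left hF] at this
          exact one_ne_zero this
        · rw [add_left hF, add_right hF, add_right hF, hf.2, hg.2, hfg, hgf, zero_add, add_zero]
          exact add_self hF 1
        all_goals rw [add_left hF]; simp [hfa, hfc, hfu, hfy, hga, hgc, hgu, hgy]⟩
    have hφ : Function.Bijective φ := by
      constructor
      · have c1 : ∀ (i : Fin 3) (s : Fˣ), H6 (φ (i, s)).1 g = (s : F) * ![1, 0, 1] i := by
          intro i s
          show H6 ((s : F) • ![f, g, f + g] i) g = _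
          fin_cases i <;> simp [smul_left hF, add_left hF, hfg, hg.2]
        have c2 : ∀ (i : Fin 3) (s : Fˣ), H6 (φ (i, s)).1 f = (s : F) * ![0, 1, 1] i := by
          intro i s
          show H6 ((s : F) • ![f, g, f + g] i) f = _
          fin_cases i <;> simp [smul_left hF, add_left hF, hgf, hf.2]
        rintro ⟨i, s⟩ ⟨j, t⟩ h
        have h1 := c1 i s
        have h2 := c2 i s
        rw [h, c1] at h1
        rw [h, c2] at h2
        clear_value φ
        have hs := s.ne_zero
        have ht := t.ne_zero
        fin_cases i <;> fin_cases j <;> simp [hs, hs.symm, ht, ht.symm] at h1 h2 ⊢ <;>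
          first | exact Units.ext h1.symm | exact Units.ext h2.symm
      · rintro ⟨w, hw, h1, h2, h3, h4⟩
        set p := H6 w g with hp
        set q := H6 w f with hq
        have hwe : w = p • f + q • g := by
          obtain ⟨α, β, γ, hz⟩ := hP.mem_of_perp hF (z := w + p • f + q • g)
            (by simp only [add_left hF, smul_left hF, h1, hfa, hga, mul_zero, add_zero])
            (by simp only [add_left hF, smul_left hF, h3, hfu, hgu, mul_zero, add_zero])
            (by simp only [add_left hF, smul_left hF, hf.2, hgf, ← hq, mul_zero, mul_one, add_zero]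
                exact add_self hF q)
          have k1 := congrArg (fun z => H6 z C) hz
          have k2 := congrArg (fun z => H6 z y) hz
          have k3 := congrArg (fun z => H6 z g) hz
          have hug : H6 u g = 0 := (comm_zero hF).1 hgu
          have hAg : H6 A g = 0 := (comm_zero hF).1 hga
          have hAy : H6 A y = 0 := (comm_zero hF).1 hya
          simp only [add_left hF, smul_left hF, h2, hfc, hgc, huc, mul_zero, add_zero, zero_eq_mul, hAC,
            or_false] at k1
          simp only [add_left hF, smul_left hF, h4, hfy, hgy, hAy, huy, mul_zero, mul_one, add_zero,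
            zero_add] at k2
          simp only [add_left hF, smul_left hF, ← hp, hfg, hg.2, hAg, hug, mul_zero, mul_one, add_zero,
            zero_add, add_self hF] at k3
          rw [k1, ← k2, ← k3, zero_smul, zero_smul, zero_smul, add_zero, add_zero, add_assoc] at hz
          calc w = w + ((p • f + q • g) + (p • f + q • g)) := by rw [vadd_self hF, add_zero]
            _ = p • f + q • g := by rw [← add_assoc, hz, zero_add]
        have hiso := hw.2
        rw [hwe] at hiso
        simp only [add_left hF, add_right hF, smul_left hF, smul_right hF, hf.2, hg.2, hfg, hgf, mul_zero,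
          mul_one, add_zero, zero_add] at hiso
        have := charTwo hF
        by_cases hp0 : p = 0
        · have hq0 : q ≠ 0 := fun hq0 => hw.1 (by rw [hwe, hp0, hq0]; simp)
          exact ⟨(1, Units.mk0 q hq0), Subtype.ext (by simp [φ, hwe, hp0])⟩
        by_cases hq0 : q = 0
        · exact ⟨(0, Units.mk0 p hp0), Subtype.ext (by simp [φ, hwe, hq0])⟩
        have hpq : p * q * (p + q) = 0 := by linear_combination hiso
        have hpq' : p = q := CharTwo.add_eq_zero.1 ((mul_eq_zero.1 hpq).resolve_left (mul_ne_zero hp0 hq0))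
        exact ⟨(2, Units.mk0 p hp0), Subtype.ext (by simp [φ, hwe, hpq'])⟩
    rw [← Nat.card_eq_of_bijective φ hφ, Nat.card_prod, Nat.card_fin, Nat.card_units, card_field hF]
  rw [Nat.card_congr e, Nat.card_prod, card_field hF, hW]

end CfsgLib.U6
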