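import Cfsg.Agent.Lib.ThreeTransp.M22Common
import Cfsg.Agent.Lib.ThreeTransp.U6Count

/-!
# Groups of type `M(22)`: the number of 3-transpositions

There are `3510` members; a member commutes with `693` others, and two non-commuting members have `126`
common neighbours.
-/

set_option autoImplicit false

namespace CfsgLib.M22

open CfsgLib.ThreeTransp CfsgLib.SporMisc
open CfsgLib.U6 (IsPt)
open CfsgLib.PSUAut (Isot)

variable {G : Type*} [Group G] {D : Set G}

omit [Group G] in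
/-- Double counting a relation between two finite sets. -/
theorem count_pairs [Finite G] {s t : Set G} (r : G → G → Prop) {m n : ℕ}
    (h1 : ∀ x ∈ s, {y | y ∈ t ∧ r x y}.ncard = m) (h2 : ∀ y ∈ t, {x | x ∈ s ∧ r x y}.ncard = n) :
    s.ncard * m = t.ncard * n := by
  classical
  have := Fintype.ofFinite G
  rw [Set.ncard_eq_toFinset_card', Set.ncard_eq_toFinset_card']
  refine Finset.card_mul_eq_card_mul r (fun x hx => ?_) fun y hy => ?_
  · rw [← h1 x (Set.mem_toFinset.1 hx), Set.ncard_eq_toFinset_card']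
    congr 1
    ext y
    simp [Finset.bipartiteAbove]
  · rw [← h2 y (Set.mem_toFinset.1 hy), Set.ncard_eq_toFinset_card']
    congr 1
    ext x
    simp [Finset.bipartiteBelow]

variable [Finite G] (S : Setup D) {F : Type} [Field F] [Fintype F] (hF : Fintype.card F = 2 ^ 2)
  (hM : ∀ a ∈ D, Nonempty (Model D a F))
include S hF

/-- Counting members of a link by the vectors of their points. -/
theorem Model.card_link_filter {a : G} (A : Model D a F) (ha : a ∈ D) (P : G → Prop)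
    (Q : (Fin 6 → F) → Prop)
    (h : ∀ (e : G) (le : e ∈ link D a) (v : Fin 6 → F), IsPt (A.img le) v → (P e ↔ Q v)) :
    3 * {e | e ∈ link D a ∧ P e}.ncard = Nat.card {v : Fin 6 → F // Isot 2 v ∧ Q v} := by
  classical
  choose vec hvec using fun (e : G) (le : e ∈ link D a) => A.exists_pt_of_link S hF ha le
  let φ : {e | e ∈ link D a ∧ P e} × Fˣ → {v : Fin 6 → F // Isot 2 v ∧ Q v} := fun p =>
    ⟨(p.2 : F) • vec p.1.1 p.1.2.1,
      ⟨((hvec p.1.1 p.1.2.1).smul hF p.2.ne_zero).1,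
        (h _ _ _ ((hvec p.1.1 p.1.2.1).smul hF p.2.ne_zero)).1 p.1.2.2⟩⟩
  have hφ : Function.Bijective φ := by
    constructor
    · rintro ⟨⟨e, le, he⟩, s⟩ ⟨⟨e', le', he'⟩, t⟩ heq
      have heq' : (s : F) • vec e le = (t : F) • vec e' le' := congrArg Subtype.val heq
      have hp := (hvec e le).smul hF s.ne_zero
      rw [heq'] at hp
      obtain rfl : e = e' := A.img_inj S ha le le' (IsPt.unique hF hp ((hvec e' le').smul hF t.ne_zero))
      have : (s : F) = t := smul_left_injective F (hvec e le).1.1 heq'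
      exact Prod.ext rfl (Units.ext this)
    · rintro ⟨v, hv, hQ⟩
      obtain ⟨X, hX⟩ := U6.exists_pt hF hv
      obtain ⟨e, le, rfl⟩ := A.exists_link_of_pt S hF ha hX
      obtain ⟨s, hs, hsv⟩ := IsPt.span_eq hF (hvec e le) hX
      exact ⟨(⟨e, le, (h e le v hX).2 hQ⟩, Units.mk0 s hs), Subtype.ext hsv.symm⟩
  rw [← Nat.card_eq_of_bijective φ hφ, Nat.card_prod, Nat.card_units, U6.card_field hF,
    Nat.card_coe_set_eq, mul_comm]

include hM

theorem link_ncard_eq {a : G} (ha : a ∈ D) : (link D a).ncard = 693 := by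
  obtain ⟨A⟩ := hM a ha
  have h := A.card_link_filter S hF ha (fun _ => True) (fun _ => True) fun _ _ _ _ => Iff.rfl
  rw [Nat.card_congr (Equiv.subtypeEquivRight fun v => and_iff_left trivial), U6.card_iso hF] at h
  rw [show {e | e ∈ link D a ∧ True} = link D a from Set.ext fun e => and_iff_left trivial] at h
  omega

theorem link_two_ncard {a b : G} (ha : a ∈ D) (hb : b ∈ link D a) : (link D a ∩ link D b).ncard = 180 := by
  obtain ⟨A⟩ := hM a ha
  obtain ⟨u, hu⟩ := A.exists_pt_of_link S hF ha hb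
  have h := A.card_link_filter S hF ha (fun e => e ∈ link D b)
    (fun v => Cfsg.hermForm 6 F 2 v u = 0 ∧ v ∉ Submodule.span F {u}) fun e le v hv => by
    constructor
    · intro h
      exact ⟨(A.comm_iff S hF ha le hb hv hu).1 h.2.2.symm, A.notMem S hF ha hb le hu hv h.2.1.symm⟩
    · rintro ⟨h1, h2⟩
      refine ⟨le.1, fun heq => h2 ?_, ((A.comm_iff S hF ha le hb hv hu).2 h1).symm⟩
      subst heq
      obtain ⟨s, -, hs⟩ := IsPt.span_eq hF hu hv
      exact Submodule.mem_span_singleton.2 ⟨s, hs.symm⟩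
  rw [U6.card_iso_perp_off hF hu.1] at h
  rw [show {e | e ∈ link D a ∧ e ∈ link D b} = link D a ∩ link D b from rfl] at h
  omega

theorem link_three_ncard {a c x : G} (ha : a ∈ D) (hc : c ∈ D) (hnc : ¬ Commute a c) (hx : x ∈ link D a)
    (hxc : x ∈ link D c) : (link D a ∩ link D c ∩ link D x).ncard = 45 := by
  obtain ⟨X⟩ := hM x hx.1
  have lax := link_swap ha hx
  have lcx := link_swap hc hxc
  obtain ⟨A, hA⟩ := X.exists_pt_of_link S hF hx.1 lax
  obtain ⟨C, hC⟩ := X.exists_pt_of_link S hF hx.1 lcx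
  have hAC : Cfsg.hermForm 6 F 2 A C ≠ 0 := fun h => hnc ((X.comm_iff S hF hx.1 lax lcx hA hC).2 h)
  have h := X.card_link_filter S hF hx.1 (fun e => e ∈ link D a ∧ e ∈ link D c)
    (fun v => Cfsg.hermForm 6 F 2 v A = 0 ∧ Cfsg.hermForm 6 F 2 v C = 0) fun e le v hv => by
    constructor
    · rintro ⟨h1, h2⟩
      exact ⟨(X.comm_iff S hF hx.1 le lax hv hA).1 h1.2.2.symm, (X.comm_iff S hF hx.1 le lcx hv hC).1 h2.2.2.symm⟩
    · rintro ⟨h1, h2⟩
      have c1 := (X.comm_iff S hF hx.1 le lax hv hA).2 h1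
      have c2 := (X.comm_iff S hF hx.1 le lcx hv hC).2 h2
      exact ⟨⟨le.1, fun h => hnc (h ▸ c2), c1.symm⟩, le.1, fun h => hnc (h ▸ c1).symm, c2.symm⟩
  rw [U6.card_iso_perp_pair hF hA.1 hAC] at h
  rw [show {e | e ∈ link D x ∧ e ∈ link D a ∧ e ∈ link D c} = link D a ∩ link D c ∩ link D x from
    Set.ext fun e => ⟨fun ⟨h1, h2, h3⟩ => ⟨⟨h2, h3⟩, h1⟩, fun ⟨⟨h2, h3⟩, h1⟩ => ⟨h1, h2, h3⟩⟩] at h
  omega

theorem link_four_ncard {a c x z : G} (ha : a ∈ D) (hc : c ∈ D) (hnc : ¬ Commute a c) (hx : x ∈ link D a)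
    (hxc : x ∈ link D c) (hz : z ∈ link D a ∩ link D c ∩ link D x) :
    (link D a ∩ link D c ∩ link D x ∩ link D z).ncard = 12 := by
  obtain ⟨X⟩ := hM x hx.1
  have lax := link_swap ha hx
  have lcx := link_swap hc hxc
  obtain ⟨A, hA⟩ := X.exists_pt_of_link S hF hx.1 lax
  obtain ⟨C, hC⟩ := X.exists_pt_of_link S hF hx.1 lcx
  obtain ⟨u, hu⟩ := X.exists_pt_of_link S hF hx.1 hz.2
  have hAC : Cfsg.hermForm 6 F 2 A C ≠ 0 := fun h => hnc ((X.comm_iff S hF hx.1 lax lcx hA hC).2 h)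
  have h := X.card_link_filter S hF hx.1 (fun e => e ∈ link D a ∧ e ∈ link D c ∧ e ∈ link D z)
    (fun v => Cfsg.hermForm 6 F 2 v A = 0 ∧ Cfsg.hermForm 6 F 2 v C = 0 ∧ Cfsg.hermForm 6 F 2 v u = 0 ∧
      v ∉ Submodule.span F {u}) fun e le v hv => by
    constructor
    · rintro ⟨h1, h2, h3⟩
      exact ⟨(X.comm_iff S hF hx.1 le lax hv hA).1 h1.2.2.symm, (X.comm_iff S hF hx.1 le lcx hv hC).1 h2.2.2.symm,
        (X.comm_iff S hF hx.1 le hz.2 hv hu).1 h3.2.2.symm, X.notMem S hF hx.1 hz.2 le hu hv h3.2.1.symm⟩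
    · rintro ⟨h1, h2, h3, h4⟩
      have c1 := (X.comm_iff S hF hx.1 le lax hv hA).2 h1
      have c2 := (X.comm_iff S hF hx.1 le lcx hv hC).2 h2
      refine ⟨⟨le.1, fun h => hnc (h ▸ c2), c1.symm⟩, ⟨le.1, fun h => hnc (h ▸ c1).symm, c2.symm⟩,
        le.1, fun heq => h4 ?_, ((X.comm_iff S hF hx.1 le hz.2 hv hu).2 h3).symm⟩
      subst heq
      obtain ⟨s, -, hs⟩ := IsPt.span_eq hF hu hv
      exact Submodule.mem_span_singleton.2 ⟨s, hs.symm⟩
  have hua := (X.comm_iff S hF hx.1 hz.2 lax hu hA).1 hz.1.1.2.2.symm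
  have huc := (X.comm_iff S hF hx.1 hz.2 lcx hu hC).1 hz.1.2.2.2.symm
  rw [U6.card_iso_perp_three hF hA.1 hC.1 hAC hu.1 hua huc] at h
  rw [show {e | e ∈ link D x ∧ e ∈ link D a ∧ e ∈ link D c ∧ e ∈ link D z} =
    link D a ∩ link D c ∩ link D x ∩ link D z from
    Set.ext fun e => ⟨fun ⟨h1, h2, h3, h4⟩ => ⟨⟨⟨h2, h3⟩, h1⟩, h4⟩,
      fun ⟨⟨⟨h2, h3⟩, h1⟩, h4⟩ => ⟨h1, h2, h3, h4⟩⟩] at h
  omega

/-- For a neighbour `x` of `a`, the members of its link not commuting with `a`. -/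
theorem link_nonlink_ncard {a x : G} (ha : a ∈ D) (hx : x ∈ link D a) :
    {c | (c ∈ D ∧ ¬ Commute a c) ∧ x ∈ link D c}.ncard = 512 := by
  have h : {c | (c ∈ D ∧ ¬ Commute a c) ∧ x ∈ link D c} = link D x \ insert a (link D a ∩ link D x) := by
    ext c
    constructor
    · rintro ⟨⟨hc, hnc⟩, hxc⟩
      refine ⟨link_swap hc hxc, fun h => hnc ?_⟩
      rcases h with rfl | h
      · exact Commute.refl c
      · exact h.1.2.2
    · rintro ⟨hcx, hc'⟩
      refine ⟨⟨hcx.1, fun hac => hc' ?_⟩, link_swap hx.1 hcx⟩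
      by_cases hca : c = a
      · exact Or.inl hca
      · exact Or.inr ⟨⟨hcx.1, hca, hac⟩, hcx⟩
  have hsub : insert a (link D a ∩ link D x) ⊆ link D x :=
    Set.insert_subset (link_swap ha hx) Set.inter_subset_right
  rw [h, Set.ncard_sdiff hsub, Set.ncard_insert_of_notMem (fun h => h.1.2.1 rfl),
    link_ncard_eq S hF hM hx.1, link_two_ncard S hF hM ha hx]

/-- The number of common neighbours does not depend on the non-commuting pair at `a`. -/
theorem common_ncard_le {a c c' : G} (ha : a ∈ D) (hc : c ∈ D) (hc' : c' ∈ D) (hnc : ¬ Commute a c)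
    (hnc' : ¬ Commute a c') : (link D a ∩ link D c).ncard ≤ (link D a ∩ link D c').ncard := by
  obtain ⟨h, hh, rfl⟩ := trans_nonlink S hF hM ha hc hc' hnc hnc'
  refine Set.ncard_le_ncard_of_injOn (fun e => h * e * h⁻¹)
    (fun e he => ⟨Model.conj_mem S he.1 ⟨h, hh⟩, link_conj S.tt h he.2⟩) (fun _ _ _ _ e => by simpa using e)
    (Set.toFinite _)

/-- Two non-commuting common neighbours of `a`, `c` have equally many neighbours among the common neighbours
of `a`, `c`, `x`, whenever they share one of them. -/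
theorem far_valency_eq {a c x z y y' : G} (ha : a ∈ D) (hc : c ∈ D) (hnc : ¬ Commute a c)
    (hxa : x ∈ link D a) (hxc : x ∈ link D c) (hz : z ∈ link D a ∩ link D c ∩ link D x)
    (hy : y ∈ link D a ∩ link D c) (hyx : ¬ Commute x y) (hyz : Commute y z)
    (hy' : y' ∈ link D a ∩ link D c) (hy'x : ¬ Commute x y') (hy'z : Commute y' z) :
    {w | w ∈ link D a ∩ link D c ∩ link D x ∧ Commute y w}.ncard =
      {w | w ∈ link D a ∩ link D c ∩ link D x ∧ Commute y' w}.ncard := by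
  obtain ⟨Z⟩ := hM z hz.1.1.1
  have hzD := hz.1.1.1
  have laz := link_swap ha hz.1.1
  have lcz := link_swap hc hz.1.2
  have lxz := link_swap hxa.1 hz.2
  have lyz : y ∈ link D z := ⟨hy.1.1, fun h => hyx (h.symm ▸ hz.2.2.2), hyz.symm⟩
  have lyz' : y' ∈ link D z := ⟨hy'.1.1, fun h => hy'x (h.symm ▸ hz.2.2.2), hy'z.symm⟩
  obtain ⟨A, hA⟩ := Z.exists_pt_of_link S hF hzD laz
  obtain ⟨C, hC⟩ := Z.exists_pt_of_link S hF hzD lcz
  obtain ⟨u, hu⟩ := Z.exists_pt_of_link S hF hzD lxz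
  have hAC : Cfsg.hermForm 6 F 2 A C ≠ 0 := fun h => hnc ((Z.comm_iff S hF hzD laz lcz hA hC).2 h)
  have hCA : Cfsg.hermForm 6 F 2 C A ≠ 0 := fun h => hAC ((U6.comm_zero hF).1 h)
  have norm1 : ∀ {e : G} (le : e ∈ link D z), e ∈ link D a ∩ link D c → ¬ Commute x e →
      ∃ w, IsPt (Z.img le) w ∧ Cfsg.hermForm 6 F 2 w u = 1 ∧ Cfsg.hermForm 6 F 2 w A = 0 ∧
        Cfsg.hermForm 6 F 2 w C = 0 := by
    intro e le hac hne
    obtain ⟨w, hw⟩ := Z.exists_pt_of_link S hF hzD le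
    have h0 : Cfsg.hermForm 6 F 2 w u ≠ 0 := fun h => hne ((Z.comm_iff S hF hzD le lxz hw hu).2 h).symm
    refine ⟨(Cfsg.hermForm 6 F 2 w u)⁻¹ • w, hw.smul hF (inv_ne_zero h0), ?_, ?_, ?_⟩
    · rw [U6.smul_left hF, inv_mul_cancel₀ h0]
    · rw [U6.smul_left hF, (Z.comm_iff S hF hzD le laz hw hA).1 hac.1.2.2.symm, mul_zero]
    · rw [U6.smul_left hF, (Z.comm_iff S hF hzD le lcz hw hC).1 hac.2.2.2.symm, mul_zero]
  obtain ⟨w, hw, hwu, hwA, hwC⟩ := norm1 lyz hy hyx
  obtain ⟨w', hw', hw'u, hw'A, hw'C⟩ := norm1 lyz' hy' hy'x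
  have hua := (Z.comm_iff S hF hzD lxz laz hu hA).1 hxa.2.2.symm
  have huc := (Z.comm_iff S hF hzD lxz lcz hu hC).1 hxc.2.2.symm
  refine U6.orbit hF ![A, C] le_rfl ?_ hu.1.2 hw.1.2 hw'.1.2 hwu hw'u
    (fun i => by fin_cases i <;> assumption) (fun i => by fin_cases i <;> assumption)
    (fun i => by fin_cases i <;> assumption)
    (fun v => ∀ (e : G) (le : e ∈ link D z), IsPt (Z.img le) v →
      {w | w ∈ link D a ∩ link D c ∩ link D x ∧ Commute y w}.ncard =
        {w | w ∈ link D a ∩ link D c ∩ link D x ∧ Commute e w}.ncard) ?_ ?_ y' lyz' hw'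
  · intro v hv hvp
    rw [Matrix.range_cons, Matrix.range_cons, Matrix.range_empty, Set.union_empty, Set.singleton_union] at hv
    obtain ⟨α, β, rfl⟩ := Submodule.mem_span_pair.1 hv
    have h1 : Cfsg.hermForm 6 F 2 (α • A + β • C) A = 0 := hvp 0
    have h2 : Cfsg.hermForm 6 F 2 (α • A + β • C) C = 0 := hvp 1
    rw [U6.add_left hF, U6.smul_left hF, U6.smul_left hF, hA.1.2, mul_zero, zero_add] at h1
    rw [U6.add_left hF, U6.smul_left hF, U6.smul_left hF, hC.1.2, mul_zero, add_zero] at h2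
    rw [(mul_eq_zero.1 h2).resolve_right hAC, (mul_eq_zero.1 h1).resolve_right hCA, zero_smul, zero_smul, add_zero]
  · intro d v hd hdp hdu hQ e le he
    obtain ⟨X, hX⟩ := U6.exists_pt hF hd
    obtain ⟨f, lf, rfl⟩ := Z.exists_link_of_pt S hF hzD hX
    have cfa : Commute f a := (Z.comm_iff S hF hzD lf laz hX hA).2 (hdp 0)
    have cfc : Commute f c := (Z.comm_iff S hF hzD lf lcz hX hC).2 (hdp 1)
    have cfx : Commute f x := (Z.comm_iff S hF hzD lf lxz hX hu).2 hdu
    obtain ⟨lm, hm⟩ := Z.conj_vec S hF le lf he hX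
    rw [show v + Cfsg.hermForm 6 F 2 v d • d + Cfsg.hermForm 6 F 2 (v + Cfsg.hermForm 6 F 2 v d • d) d • d = v by
      rw [U6.add_left hF, U6.smul_left hF, hd.2, mul_zero, add_zero, add_assoc, U6.vadd_self hF, add_zero]] at hm
    rw [hQ _ lm hm]
    have hfix : ∀ {b : G}, Commute f b → f * b * f = b := fun h => by
      rw [h.eq, mul_assoc, S.sqd lf.1, mul_one]
    have hff : ∀ b : G, f * (f * b * f) * f = b := fun b => by
      simp only [mul_assoc, cancel₂ (S.sqd lf.1), S.sqd lf.1, mul_one]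
    have hcm : ∀ {b g : G}, Commute b g → Commute (f * b * f) (f * g * f) := fun {b g} h => by
      have := (Commute.conj_iff f).2 h
      rwa [S.tt.inv_eq lf.1] at this
    have hmem : ∀ {b g : G}, g ∈ link D b → Commute f b → f * g * f ∈ link D b := fun {b g} h hb => by
      have := link_conj_fix S hb h
      rwa [S.tt.inv_eq lf.1] at this
    have le' : ∀ e' : G, {w | w ∈ link D a ∩ link D c ∩ link D x ∧ Commute e' w}.ncard ≤
        {w | w ∈ link D a ∩ link D c ∩ link D x ∧ Commute (f * e' * f) w}.ncard := by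
      intro e'
      refine Set.ncard_le_ncard_of_injOn (fun g => f * g * f) ?_ (fun _ _ _ _ h => by
        have := congrArg (fun g => f * g * f) h
        simpa only [hff] using this) (Set.toFinite _)
      rintro g ⟨⟨⟨g1, g2⟩, g3⟩, g4⟩
      exact ⟨⟨⟨hmem g1 cfa, hmem g2 cfc⟩, hmem g3 cfx⟩, hcm g4⟩
    refine le_antisymm ?_ (le' e)
    have := le' (f * e * f)
    rwa [hff] at this
  · intro e le he
    rw [Z.img_inj S hzD le lyz (IsPt.unique hF he hw)]

/-- The common neighbours of a non-commuting pair. -/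
theorem common_ncard_cases {a c : G} (ha : a ∈ D) (hc : c ∈ D) (hnc : ¬ Commute a c) :
    ∃ k f : ℕ, k ≤ 45 ∧ f * k = 1440 ∧ (link D a ∩ link D c).ncard = f + 46 := by
  obtain ⟨x, hxa, hxc⟩ := exists_common S hF hM ha hc hnc
  set W := link D a ∩ link D c ∩ link D x with hW
  set Far := {y | y ∈ link D a ∩ link D c ∧ ¬ Commute x y} with hFar
  obtain ⟨X⟩ := hM x hxa.1
  have lax := link_swap ha hxa
  have lcx := link_swap hc hxc
  obtain ⟨A, hA⟩ := X.exists_pt_of_link S hF hxa.1 lax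
  obtain ⟨C, hC⟩ := X.exists_pt_of_link S hF hxa.1 lcx
  -- the neighbours in `Far` of a member of `W`
  have hdeg : ∀ z ∈ W, {y | y ∈ Far ∧ Commute y z}.ncard = 32 := by
    intro z hz
    have h45 := link_three_ncard S hF hM ha hc hnc hz.1.1 hz.1.2
    have h12 := link_four_ncard S hF hM ha hc hnc hxa hxc hz
    have hun : link D a ∩ link D c ∩ link D z =
        insert x (W ∩ link D z) ∪ {y | y ∈ Far ∧ Commute y z} := by
      ext y
      constructor
      · rintro ⟨hy, hyz⟩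
        by_cases hyx : y = x
        · exact Or.inl (Or.inl hyx)
        by_cases hc' : Commute x y
        · exact Or.inl (Or.inr ⟨⟨hy, hy.1.1, hyx, hc'⟩, hyz⟩)
        · exact Or.inr ⟨⟨hy, hc'⟩, hyz.2.2.symm⟩
      · rintro ((rfl | h) | ⟨⟨hy, hc'⟩, hyz⟩)
        · exact ⟨⟨hxa, hxc⟩, link_swap hxa.1 hz.2⟩
        · exact ⟨h.1.1, h.2⟩
        · exact ⟨hy, hy.1.1, fun h => hc' (h.symm ▸ hz.2.2.2), hyz.symm⟩
    have hdis : Disjoint (insert x (W ∩ link D z)) {y | y ∈ Far ∧ Commute y z} := by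
      rw [Set.disjoint_left]
      rintro y (rfl | h) ⟨⟨-, hc'⟩, -⟩
      · exact hc' (Commute.refl _)
      · exact hc' h.1.2.2.2
    rw [hun, Set.ncard_union_eq hdis (Set.toFinite _) (Set.toFinite _),
      Set.ncard_insert_of_notMem (fun h => h.1.2.2.1 rfl) (Set.toFinite _)] at h45
    rw [← hW] at h12
    omega
  have hWne : W.Nonempty := (Set.ncard_pos (Set.toFinite _)).1 (by rw [link_three_ncard S hF hM ha hc hnc hxa hxc]; norm_num)
  obtain ⟨z₀, hz₀⟩ := hWne
  obtain ⟨y₀, hy₀, hy₀z⟩ : {y | y ∈ Far ∧ Commute y z₀}.Nonempty :=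
    (Set.ncard_pos (Set.toFinite _)).1 (by rw [hdeg z₀ hz₀]; norm_num)
  let k : G → ℕ := fun y => {w | w ∈ W ∧ Commute y w}.ncard
  -- members of `Far` at two commuting members of `W`
  have hshare : ∀ z ∈ W, ∀ z' ∈ W, Commute z z' → ∃ y ∈ Far, Commute y z ∧ Commute y z' := by
    intro z hz z' hz' hzz'
    by_cases hne : z = z'
    · obtain ⟨y, hy, hyz⟩ : {y | y ∈ Far ∧ Commute y z}.Nonempty :=
        (Set.ncard_pos (Set.toFinite _)).1 (by rw [hdeg z hz]; norm_num)
      exact ⟨y, hy, hyz, hne ▸ hyz⟩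
    obtain ⟨Z⟩ := hM z hz.1.1.1
    have hzD := hz.1.1.1
    have laz := link_swap ha hz.1.1
    have lcz := link_swap hc hz.1.2
    have lxz := link_swap hxa.1 hz.2
    have lzz : z' ∈ link D z := ⟨hz'.1.1.1, fun h => hne h.symm, hzz'⟩
    obtain ⟨A', hA'⟩ := Z.exists_pt_of_link S hF hzD laz
    obtain ⟨C', hC'⟩ := Z.exists_pt_of_link S hF hzD lcz
    obtain ⟨u, hu⟩ := Z.exists_pt_of_link S hF hzD lxz
    obtain ⟨v, hv⟩ := Z.exists_pt_of_link S hF hzD lzz
    have hua := (Z.comm_iff S hF hzD lxz laz hu hA').1 hxa.2.2.symm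
    have huc := (Z.comm_iff S hF hzD lxz lcz hu hC').1 hxc.2.2.symm
    have hva := (Z.comm_iff S hF hzD lzz laz hv hA').1 hz'.1.1.2.2.symm
    have hvc := (Z.comm_iff S hF hzD lzz lcz hv hC').1 hz'.1.2.2.2.symm
    have huv := (Z.comm_iff S hF hzD lxz lzz hu hv).1 hz'.2.2.2
    have hAC : Cfsg.hermForm 6 F 2 A' C' ≠ 0 := fun h => hnc ((Z.comm_iff S hF hzD laz lcz hA' hC').2 h)
    have hCA : Cfsg.hermForm 6 F 2 C' A' ≠ 0 := fun h => hAC ((U6.comm_zero hF).1 h)
    obtain ⟨g, hg, pg, hgu⟩ := U6.exists_iso_pairing hF ![A', C', v] hu.1.2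
      (fun i => by fin_cases i <;> assumption) (fun h => by
        rw [Matrix.range_cons, Matrix.range_cons, Matrix.range_cons, Matrix.range_empty, Set.union_empty,
          Set.singleton_union, Set.singleton_union, Submodule.mem_span_insert] at h
        obtain ⟨α, t, ht, rfl⟩ := h
        obtain ⟨β, γ, rfl⟩ := Submodule.mem_span_pair.1 ht
        simp only [U6.add_left hF, U6.smul_left hF, hA'.1.2, hC'.1.2, hva, hvc, mul_zero, add_zero, zero_add,
          mul_eq_zero, hAC, hCA, or_false] at hua huc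
        refine Z.notMem S hF hzD lzz lxz hv hu hz'.2.2.1 (Submodule.mem_span_singleton.2 ⟨γ, ?_⟩)
        rw [hua, huc]; simp)
    obtain ⟨Y, hY⟩ := U6.exists_pt hF hg
    obtain ⟨y, ly, rfl⟩ := Z.exists_link_of_pt S hF hzD hY
    have cya : Commute y a := (Z.comm_iff S hF hzD ly laz hY hA').2 (pg 0)
    have cyc : Commute y c := (Z.comm_iff S hF hzD ly lcz hY hC').2 (pg 1)
    refine ⟨y, ⟨⟨⟨ly.1, fun h => hnc (h ▸ cyc), cya.symm⟩, ly.1, fun h => hnc (h ▸ cya).symm, cyc.symm⟩,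
      fun h => ?_⟩, ly.2.2.symm, (Z.comm_iff S hF hzD ly lzz hY hv).2 (pg 2)⟩
    rw [(Z.comm_iff S hF hzD ly lxz hY hu).1 h.symm] at hgu
    exact zero_ne_one hgu
  have hstep : ∀ z ∈ W, ∀ z' ∈ W, Commute z z' → ∀ y ∈ Far, ∀ y' ∈ Far, Commute y z → Commute y' z' →
      k y = k y' := by
    intro z hz z' hz' hzz' y hy y' hy' hyz hy'z'
    obtain ⟨y'', hy'', h1, h2⟩ := hshare z hz z' hz' hzz'
    exact (far_valency_eq S hF hM ha hc hnc hxa hxc hz hy.1 hy.2 hyz hy''.1 hy''.2 h1).trans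
      (far_valency_eq S hF hM ha hc hnc hxa hxc hz' hy''.1 hy''.2 h2 hy'.1 hy'.2 hy'z')
  have hconst : ∀ y ∈ Far, k y = k y₀ := by
    intro y hy
    obtain ⟨z, z1, z2, z3, z4⟩ := exists_commuting S hF hM ha hc hnc hxa hxc hy.1.1 hy.2
    have hzW : z ∈ W := ⟨⟨z1, z2⟩, z3⟩
    by_cases hzz : Commute z z₀
    · exact hstep z hzW z₀ hz₀ hzz y hy y₀ hy₀ z4.symm hy₀z
    obtain ⟨vz, hvz⟩ := X.exists_pt_of_link S hF hxa.1 z3
    obtain ⟨vz₀, hvz₀⟩ := X.exists_pt_of_link S hF hxa.1 hz₀.2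
    obtain ⟨w, hw, pw⟩ := U6.exists_iso_perp_of hF ![A, C, vz, vz₀] le_rfl
    obtain ⟨Wp, hWp⟩ := U6.exists_pt hF hw
    obtain ⟨m, lm, rfl⟩ := X.exists_link_of_pt S hF hxa.1 hWp
    have cma : Commute m a := (X.comm_iff S hF hxa.1 lm lax hWp hA).2 (pw 0)
    have cmc : Commute m c := (X.comm_iff S hF hxa.1 lm lcx hWp hC).2 (pw 1)
    have cmz : Commute m z := (X.comm_iff S hF hxa.1 lm z3 hWp hvz).2 (pw 2)
    have cmz₀ : Commute m z₀ := (X.comm_iff S hF hxa.1 lm hz₀.2 hWp hvz₀).2 (pw 3)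
    have hmW : m ∈ W := ⟨⟨⟨lm.1, fun h => hnc (h ▸ cmc), cma.symm⟩, lm.1, fun h => hnc (h ▸ cma).symm, cmc.symm⟩, lm⟩
    obtain ⟨y₁, hy₁, h1, h2⟩ := hshare z hzW m hmW cmz.symm
    exact (hstep z hzW z hzW (Commute.refl z) y hy y₁ hy₁ z4.symm h1).trans
      (hstep m hmW z₀ hz₀ cmz₀ y₁ hy₁ y₀ hy₀ h2 hy₀z)
  have hcount := count_pairs (s := Far) (t := W) (fun y z => Commute y z) (m := k y₀) (n := 32) hconst hdeg
  rw [link_three_ncard S hF hM ha hc hnc hxa hxc] at hcount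
  refine ⟨k y₀, Far.ncard, ?_, hcount, ?_⟩
  · exact le_trans (Set.ncard_le_ncard (fun w hw => hw.1) (Set.toFinite _))
      (link_three_ncard S hF hM ha hc hnc hxa hxc).le
  · have hun : link D a ∩ link D c = Far ∪ insert x W := by
      ext y
      constructor
      · intro hy
        by_cases hc' : Commute x y
        · by_cases hyx : y = x
          · exact Or.inr (Or.inl hyx)
          · exact Or.inr (Or.inr ⟨hy, hy.1.1, hyx, hc'⟩)
        · exact Or.inl ⟨hy, hc'⟩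
      · rintro (h | rfl | h)
        · exact h.1
        · exact ⟨hxa, hxc⟩
        · exact h.1
    have hdis : Disjoint Far (insert x W) := by
      rw [Set.disjoint_left]
      rintro y ⟨-, hc'⟩ (rfl | h)
      · exact hc' (Commute.refl _)
      · exact hc' h.2.2.2
    rw [hun, Set.ncard_union_eq hdis (Set.toFinite _) (Set.toFinite _),
      Set.ncard_insert_of_notMem (fun h => h.2.2.1 rfl) (Set.toFinite _),
      link_three_ncard S hF hM ha hc hnc hxa hxc]

/-- The counts around a member: non-commuting members and common neighbours. -/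
theorem nonlink_count {a c : G} (ha : a ∈ D) (hc : c ∈ D) (hnc : ¬ Commute a c) :
    {e | e ∈ D ∧ ¬ Commute a e}.ncard = 2816 ∧ (link D a ∩ link D c).ncard = 126 := by
  obtain ⟨k, f, hk, hfk, hμ⟩ := common_ncard_cases S hF hM ha hc hnc
  have h := count_pairs (s := {e | e ∈ D ∧ ¬ Commute a e}) (t := link D a) (fun e x => x ∈ link D e)
    (m := f + 46) (n := 512) (fun e he => by
      rw [← hμ]
      exact le_antisymm (common_ncard_le S hF hM ha he.1 hc he.2 hnc)
        (common_ncard_le S hF hM ha hc he.1 hnc he.2))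
    (fun x hx => link_nonlink_ncard S hF hM ha hx)
  rw [link_ncard_eq S hF hM ha] at h
  have hdvd : f + 46 ∣ 354816 := ⟨{e | e ∈ D ∧ ¬ Commute a e}.ncard, by rw [mul_comm, h]⟩
  have hk18 : f = 80 := by
    interval_cases k <;> first
      | omega
      | (exfalso; obtain ⟨q, hq⟩ : ∃ q, f = q := ⟨_, rfl⟩
         have : f = 1440 / _ := Nat.eq_div_of_mul_eq_left (by norm_num) hfk
         rw [this] at hdvd
         norm_num at hdvd)
  exact ⟨by rw [hk18] at h; omega, by omega⟩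

theorem ncard_eq : D.ncard = 3510 := by
  obtain ⟨a, ha, c, hc, hnc⟩ := S.exists_noncommuting
  have hun : D = insert a (link D a) ∪ {e | e ∈ D ∧ ¬ Commute a e} := by
    ext e
    constructor
    · intro he
      by_cases hc' : Commute a e
      · by_cases hea : e = a
        · exact Or.inl (Or.inl hea)
        · exact Or.inl (Or.inr ⟨he, hea, hc'⟩)
      · exact Or.inr ⟨he, hc'⟩
    · rintro ((rfl | h) | h)
      · exact ha
      · exact h.1
      · exact h.1
  have hdis : Disjoint (insert a (link D a)) {e | e ∈ D ∧ ¬ Commute a e} := by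
    rw [Set.disjoint_left]
    rintro e (rfl | h) ⟨-, hc'⟩
    · exact hc' (Commute.refl _)
    · exact hc' h.2.2
  rw [hun, Set.ncard_union_eq hdis (Set.toFinite _) (Set.toFinite _),
    Set.ncard_insert_of_notMem (fun h => h.2.1 rfl) (Set.toFinite _), link_ncard_eq S hF hM ha,
    (nonlink_count S hF hM ha hc hnc).1]

end CfsgLib.M22
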