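import Cfsg.Agent.Lib.ThreeTransp.M22Unique

/-!
# Groups of type `M(22)`: members with one common link, products on lines
-/

set_option autoImplicit false

namespace CfsgLib.M22

open CfsgLib.ThreeTransp CfsgLib.SporMisc
open CfsgLib.U6 (IsPt)
open CfsgLib.PSUAut (Isot)

variable {G : Type*} [Group G] {D : Set G}
variable [Finite G] (S : Setup D) {F : Type} [Field F] [Fintype F] (hF : Fintype.card F = 2 ^ 2)
  (hM : ∀ a ∈ D, Nonempty (Model D a F))
include S hF hM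

/-- At most two members share the common link with a member they do not commute with. -/
theorem same_common {a c c' : G} (ha : a ∈ D) (hc : c ∈ D) (hc' : c' ∈ D) (hnc : ¬ Commute a c)
    (hnc' : ¬ Commute a c') (h : link D a ∩ link D c = link D a ∩ link D c') :
    c' = c ∨ c' = a * c * a := by
  obtain ⟨x, hxa, hxc⟩ := exists_common S hF hM ha hc hnc
  have hxc' : x ∈ link D c' := (h ▸ (⟨hxa, hxc⟩ : x ∈ link D a ∩ link D c) : x ∈ link D a ∩ link D c').2
  obtain ⟨X⟩ := hM x hxa.1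
  have la := link_swap ha hxa
  have lc := link_swap hc hxc
  have lc' := link_swap hc' hxc'
  obtain ⟨u, hu⟩ := X.exists_pt_of_link S hF hxa.1 la
  obtain ⟨y, hy⟩ := X.exists_pt_of_link S hF hxa.1 lc
  obtain ⟨y', hy'⟩ := X.exists_pt_of_link S hF hxa.1 lc'
  have hyu : Cfsg.hermForm 6 F 2 y u ≠ 0 := fun h0 =>
    hnc ((X.comm_iff S hF hxa.1 lc la hy hu).2 h0).symm
  have hy'u : Cfsg.hermForm 6 F 2 y' u ≠ 0 := fun h0 =>
    hnc' ((X.comm_iff S hF hxa.1 lc' la hy' hu).2 h0).symm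
  have hspan : y' ∈ Submodule.span F {u, y} := by
    refine U6.mem_span_of_same_perp hF hu.1 hy.1 hy'.1 fun s hs hsu => ?_
    obtain ⟨Z, hZ⟩ := U6.exists_pt hF hs
    obtain ⟨f, lf, rfl⟩ := X.exists_link_of_pt S hF hxa.1 hZ
    have cfa : Commute f a := (X.comm_iff S hF hxa.1 lf la hZ hu).2 hsu
    rw [← X.comm_iff S hF hxa.1 lf lc hZ hy, ← X.comm_iff S hF hxa.1 lf lc' hZ hy']
    have key : ∀ {c c' : G}, c ∈ D → link D a ∩ link D c = link D a ∩ link D c' → ¬ Commute a c →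
        Commute f c → Commute f c' := by
      intro c c' hc h hnc hfc
      have hfa : f ≠ a := fun e => hnc (e ▸ hfc)
      have : f ∈ link D a ∩ link D c' := h ▸
        ⟨⟨lf.1, hfa, cfa.symm⟩, lf.1, fun e => hnc (e ▸ cfa.symm), hfc.symm⟩
      exact this.2.2.2.symm
    exact ⟨key hc h hnc, key hc' h.symm hnc'⟩
  obtain ⟨t, ht0, ht | ht⟩ := U6.chord_cases hF hu.1 hy.1 hy'.1 hyu hy'u hspan
  · exact Or.inl (X.img_inj S hxa.1 lc' lc (IsPt.eq_of_smul hF hy hy' ht).symm)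
  · right
    obtain ⟨-, g, hg, hgx⟩ := hu
    have h1 := hy.conj hF g
    rw [hg, hgx] at h1
    have lac : a * c * a⁻¹ ∈ link D x := link_conj_fix S hxa.2.2 lc
    have himg : X.img lac = X.img la * X.img lc * (X.img la)⁻¹ :=
      X.img_conj S lc ⟨a, Subgroup.subset_closure la⟩
    rw [← himg] at h1
    rw [← X.img_inj S hxa.1 lac lc' (IsPt.eq_of_smul hF h1 hy' ht), S.tt.inv_eq ha]

/-- Five distinct pairwise commuting members do not have product one. -/
theorem five_ne_one {b c p q r : G} (hmemD : ∀ x ∈ [b, c, p, q, r], x ∈ D) (hnd' : [b, c, p, q, r].Nodup)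
    (hcomm : ∀ x ∈ [b, c, p, q, r], ∀ y ∈ [b, c, p, q, r], Commute x y) : b * c * p * q * r ≠ 1 := by
  intro h
  have hr0 : r ∈ D := hmemD r (by simp)
  -- otherwise four points have product one in the link of the fifth
  have hr : b * c * p * q = r := by
    rw [mul_eq_one_iff_eq_inv, S.tt.inv_eq hr0] at h
    exact h
  have ml : ∀ x ∈ [b, c, p, q], x ∈ link D r := by
    intro x hx
    have hx' : x ∈ [b, c, p, q] ++ [r] := List.mem_append_left _ hx
    exact ⟨hmemD x hx',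
      (List.nodup_append.1 (show ([b, c, p, q] ++ [r]).Nodup from hnd')).2.2 x hx r (by simp),
      hcomm r (by simp) x hx'⟩
  obtain ⟨R⟩ := hM r hr0
  have lb := ml b (by simp)
  have lc := ml c (by simp)
  have lp' := ml p (by simp)
  have lq' := ml q (by simp)
  obtain ⟨u₀, hu₀⟩ := R.exists_pt_of_link S hF hr0 lb
  obtain ⟨u₁, hu₁⟩ := R.exists_pt_of_link S hF hr0 lc
  obtain ⟨u₂, hu₂⟩ := R.exists_pt_of_link S hF hr0 lp'
  obtain ⟨u₃, hu₃⟩ := R.exists_pt_of_link S hF hr0 lq'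
  have inj : ∀ {s t : G} (ls : s ∈ link D r) (lt : t ∈ link D r), s ≠ t → R.img ls ≠ R.img lt :=
    fun ls lt h e => h (R.img_inj S hr0 ls lt e)
  refine four_ne_one hF hu₀ hu₁ hu₂ hu₃
    ((R.comm_iff S hF hr0 lb lc hu₀ hu₁).1 (hcomm b (by simp) c (by simp)))
    ((R.comm_iff S hF hr0 lb lp' hu₀ hu₂).1 (hcomm b (by simp) p (by simp)))
    ((R.comm_iff S hF hr0 lb lq' hu₀ hu₃).1 (hcomm b (by simp) q (by simp)))
    ((R.comm_iff S hF hr0 lc lp' hu₁ hu₂).1 (hcomm c (by simp) p (by simp)))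
    ((R.comm_iff S hF hr0 lc lq' hu₁ hu₃).1 (hcomm c (by simp) q (by simp)))
    ((R.comm_iff S hF hr0 lp' lq' hu₂ hu₃).1 (hcomm p (by simp) q (by simp))) ?_ ?_
  · simp only [List.nodup_cons, List.mem_cons, List.not_mem_nil, or_false, not_or, List.nodup_nil,
      not_false_eq_true, and_true] at hnd' ⊢
    obtain ⟨⟨n01, n02, n03, -⟩, ⟨n12, n13, -⟩, ⟨n23, -⟩, -⟩ := hnd'
    exact ⟨⟨inj lb lc n01, inj lb lp' n02, inj lb lq' n03⟩, ⟨inj lc lp' n12, inj lc lq' n13⟩,
      inj lp' lq' n23⟩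
  have hin' : b * c * p * q ∈ Subgroup.closure (link D r) :=
    mul_mem (mul_mem (mul_mem (Subgroup.subset_closure lb) (Subgroup.subset_closure lc))
      (Subgroup.subset_closure lp')) (Subgroup.subset_closure lq')
  have hz : (⟨b * c * p * q, hin'⟩ : ↥(Subgroup.closure (link D r))) ∈ Subgroup.center _ :=
    mem_center_of_commute fun x hx => by rw [hr]; exact hx.2.2
  simp only [Model.img, ← map_mul]
  exact (R.ker _).2 hz


/-- The product of the five members of a line in the link of `a` is `a`. -/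
theorem exists_five {a b c : G} (ha : a ∈ D) (hb : b ∈ link D a) (hc : c ∈ link D a ∩ link D b) :
    ∃ p q r : G, [b, c, p, q, r].Nodup ∧ (∀ x ∈ [b, c, p, q, r], x ∈ link D a) ∧
      (∀ x ∈ [b, c, p, q, r], ∀ y ∈ [b, c, p, q, r], Commute x y) ∧ b * c * p * q * r = a := by
  obtain ⟨A⟩ := hM a ha
  obtain ⟨u, hu⟩ := A.exists_pt_of_link S hF ha hb
  obtain ⟨v, hv⟩ := A.exists_pt_of_link S hF ha hc.1
  have huv := (A.comm_iff S hF ha hb hc.1 hu hv).1 hc.2.2.2
  have hne : A.img hb ≠ A.img hc.1 := fun e => hc.2.2.1 (A.img_inj S ha hb hc.1 e).symm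
  obtain ⟨X₂, X₃, X₄, w₂, w₃, w₄, h₂, h₃, h₄, s₂, s₃, s₄, hnd, hprod, -⟩ :=
    U6.exists_line hF hu hv huv hne
  obtain ⟨p, lp, rfl⟩ := A.exists_link_of_pt S hF ha h₂
  obtain ⟨q, lq, rfl⟩ := A.exists_link_of_pt S hF ha h₃
  obtain ⟨r, lr, rfl⟩ := A.exists_link_of_pt S hF ha h₄
  have hnd' : [b, c, p, q, r].Nodup := by
    simp only [List.nodup_cons, List.mem_cons, List.not_mem_nil, or_false, not_or, List.nodup_nil,
      not_false_eq_true, and_true] at hnd ⊢
    obtain ⟨⟨n01, n02, n03, n04⟩, ⟨n12, n13, n14⟩, ⟨n23, n24⟩, n34⟩ := hnd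
    exact ⟨⟨fun e => n01 (by subst e; rfl), fun e => n02 (by subst e; rfl), fun e => n03 (by subst e; rfl),
      fun e => n04 (by subst e; rfl)⟩, ⟨fun e => n12 (by subst e; rfl), fun e => n13 (by subst e; rfl),
      fun e => n14 (by subst e; rfl)⟩, ⟨fun e => n23 (by subst e; rfl), fun e => n24 (by subst e; rfl)⟩,
      fun e => n34 (by subst e; rfl)⟩
  have hmem : ∀ x ∈ [b, c, p, q, r], ∃ (lx : x ∈ link D a) (w : Fin 6 → F),
      IsPt (A.img lx) w ∧ w ∈ Submodule.span F {u, v} := by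
    intro x hx
    simp only [List.mem_cons, List.not_mem_nil, or_false] at hx
    rcases hx with rfl | rfl | rfl | rfl | rfl
    exacts [⟨hb, u, hu, Submodule.subset_span (Set.mem_insert _ _)⟩,
      ⟨hc.1, v, hv, Submodule.subset_span (Set.mem_insert_of_mem _ rfl)⟩,
      ⟨lp, w₂, h₂, s₂⟩, ⟨lq, w₃, h₃, s₃⟩, ⟨lr, w₄, h₄, s₄⟩]
  have hcomm : ∀ x ∈ [b, c, p, q, r], ∀ y ∈ [b, c, p, q, r], Commute x y := by
    intro x hx y hy
    obtain ⟨lx, wx, hwx, sx⟩ := hmem x hx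
    obtain ⟨ly, wy, hwy, sy⟩ := hmem y hy
    exact (A.comm_iff S hF ha lx ly hwx hwy).2 (U6.perp_of_mem_span hF hu.1.2 hv.1.2 huv sx sy)
  refine ⟨p, q, r, hnd', fun x hx => (hmem x hx).1, hcomm, ?_⟩
  have hin : b * c * p * q * r ∈ Subgroup.closure (link D a) :=
    mul_mem (mul_mem (mul_mem (mul_mem (Subgroup.subset_closure hb) (Subgroup.subset_closure hc.1))
      (Subgroup.subset_closure lp)) (Subgroup.subset_closure lq)) (Subgroup.subset_closure lr)
  have hker : A.ψ ⟨_, hin⟩ = 1 := by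
    rw [← hprod]
    simp only [Model.img, ← map_mul]
    rfl
  rcases central_cases S hF hM ha A hin hker with h | h
  · exact absurd h (five_ne_one S hF hM (fun x hx => (hmem x hx).1.1) hnd' hcomm)
  · exact h

/-- Five members with product `a` in the common link of `a` and its neighbour `b`. -/
theorem exists_five_avoid {a b : G} (ha : a ∈ D) (hb : b ∈ link D a) :
    ∃ c d p q r : G, [c, d, p, q, r].Nodup ∧ (∀ x ∈ [c, d, p, q, r], x ∈ link D a ∩ link D b) ∧
      (∀ x ∈ [c, d, p, q, r], ∀ y ∈ [c, d, p, q, r], Commute x y) ∧ c * d * p * q * r = a := by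
  obtain ⟨A⟩ := hM a ha
  obtain ⟨u, hu⟩ := A.exists_pt_of_link S hF ha hb
  obtain ⟨v, hv, huv, hvu⟩ := U6.exists_perp_point hF hu.1
  have hvu' : v ∉ Submodule.span F {u} := fun h => by
    obtain ⟨c, hc⟩ := Submodule.mem_span_singleton.1 h
    exact hvu c hc.symm
  obtain ⟨w, hw, hwu, hwv, hwuv⟩ := U6.exists_plane hF hu.1 hvu'
  obtain ⟨X, hX⟩ := U6.exists_pt hF hv
  obtain ⟨Y, hY⟩ := U6.exists_pt hF hw
  obtain ⟨c, lc, rfl⟩ := A.exists_link_of_pt S hF ha hX
  obtain ⟨d, ld, rfl⟩ := A.exists_link_of_pt S hF ha hY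
  have ccd : Commute c d := (A.comm_iff S hF ha lc ld hX hY).2 ((U6.comm_zero hF).1 hwv)
  have ncd : d ≠ c := fun e => by
    subst e
    obtain ⟨s, -, hs⟩ := IsPt.span_eq hF hX hY
    exact hwuv (hs ▸ Submodule.smul_mem _ s (Submodule.subset_span (Set.mem_insert_of_mem _ rfl)))
  obtain ⟨p, q, r, hnd, hmem, hcomm, hprod⟩ :=
    exists_five S hF hM ha lc (c := d) ⟨ld, ld.1, ncd, ccd⟩
  have lp : p ∈ link D a := hmem p (by simp)
  have lq : q ∈ link D a := hmem q (by simp)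
  have lr : r ∈ link D a := hmem r (by simp)
  obtain ⟨wp, hwp⟩ := A.exists_pt_of_link S hF ha lp
  obtain ⟨wq, hwq⟩ := A.exists_pt_of_link S hF ha lq
  obtain ⟨wr, hwr⟩ := A.exists_pt_of_link S hF ha lr
  have cm : ∀ {x y : G} (lx : x ∈ link D a) (ly : y ∈ link D a) {s t : Fin 6 → F}, IsPt (A.img lx) s →
      IsPt (A.img ly) t → x ∈ [c, d, p, q, r] → y ∈ [c, d, p, q, r] → Cfsg.hermForm 6 F 2 s t = 0 :=
    fun lx ly _ _ hs ht hx hy => (A.comm_iff S hF ha lx ly hs ht).1 (hcomm _ hx _ hy)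
  have himg : A.img lc * A.img ld * A.img lp * A.img lq * A.img lr = 1 := by
    simp only [Model.img, ← map_mul]
    exact (A.ker _).2 (mem_center_of_commute (hx := mul_mem (mul_mem (mul_mem (mul_mem
      (Subgroup.subset_closure lc) (Subgroup.subset_closure ld)) (Subgroup.subset_closure lp))
      (Subgroup.subset_closure lq)) (Subgroup.subset_closure lr)) fun y hy => by rw [hprod]; exact hy.2.2)
  obtain ⟨m1, m2, m3⟩ := U6.five_on_line hF hX hY hwp hwq hwr
    (fun e => ncd (A.img_inj S ha lc ld e).symm)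
    (cm ld lc hY hX (by simp) (by simp)) (cm lp lc hwp hX (by simp) (by simp))
    (cm lp ld hwp hY (by simp) (by simp)) (cm lq lc hwq hX (by simp) (by simp))
    (cm lq ld hwq hY (by simp) (by simp)) (cm lq lp hwq hwp (by simp) (by simp))
    (cm lr lc hwr hX (by simp) (by simp)) (cm lr ld hwr hY (by simp) (by simp))
    (cm lr lp hwr hwp (by simp) (by simp)) (cm lr lq hwr hwq (by simp) (by simp)) himg
  refine ⟨c, d, p, q, r, hnd, fun x hx => ⟨hmem x hx, ?_⟩, hcomm, hprod⟩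
  obtain ⟨z, hz, hzs⟩ : ∃ z, IsPt (A.img (hmem x hx)) z ∧ z ∈ Submodule.span F {v, w} := by
    simp only [List.mem_cons, List.not_mem_nil, or_false] at hx
    rcases hx with rfl | rfl | rfl | rfl | rfl
    exacts [⟨v, hX, Submodule.subset_span (Set.mem_insert _ _)⟩,
      ⟨w, hY, Submodule.subset_span (Set.mem_insert_of_mem _ rfl)⟩,
      ⟨wp, hwp, m1⟩, ⟨wq, hwq, m2⟩, ⟨wr, hwr, m3⟩]
  refine ⟨(hmem x hx).1, fun e => ?_,
    (A.comm_iff S hF ha hb (hmem x hx) hu hz).2 (U6.perp_span_right hF hzs huv ((U6.comm_zero hF).1 hwu))⟩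
  subst e
  obtain ⟨s, hs0, hs⟩ := IsPt.span_eq hF hu hz
  have hu' : u ∈ Submodule.span F {v, w} := by
    have := Submodule.smul_mem _ s⁻¹ hzs
    rwa [hs, inv_smul_smul₀ hs0] at this
  obtain ⟨α, β, hαβ⟩ := Submodule.mem_span_pair.1 hu'
  have hβ : β ≠ 0 := by
    intro h0
    rw [h0, zero_smul, add_zero] at hαβ
    have hα : α ≠ 0 := fun h0 => hu.1.1 (by rw [← hαβ, h0, zero_smul])
    exact hvu α⁻¹ (by rw [← hαβ, inv_smul_smul₀ hα])
  refine hwuv (Submodule.mem_span_pair.2 ⟨β⁻¹, -(β⁻¹ * α), ?_⟩)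
  rw [← hαβ, smul_add, inv_smul_smul₀ hβ, smul_smul, neg_smul]
  abel

end CfsgLib.M22
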