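import Cfsg.Agent.Lib.ThreeTransp.M22Classes

/-!
# Groups of type `M(22)`: the members are the only class of 3-transpositions

The image in `PSU₆(2)` of a further class would be a class of 3-transpositions, hence consist of points.
-/

set_option autoImplicit false

namespace CfsgLib.M22

open CfsgLib.ThreeTransp CfsgLib.SporMisc
open CfsgLib.U6 (IsPt IsPlane)

variable {G : Type*} [Group G] {D : Set G}
variable [Finite G] (S : Setup D) {F : Type} [Field F] [Fintype F] (hF : Fintype.card F = 2 ^ 2)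
  (hM : ∀ a ∈ D, Nonempty (Model D a F))
include S hF hM

/-- An element of a 3-transposition class centralising `a` is `a`, a member of its link, or such a member
times `a`. -/
theorem class_cases {a x : G} (ha : a ∈ D) {E : Set G} (hE : IsTT E) (hxE : x ∈ E)
    (hx : x ∈ Subgroup.closure (link D a)) : x = a ∨ ∃ e ∈ link D a, x = e ∨ x = e * a := by
  obtain ⟨A⟩ := hM a ha
  by_cases h1 : A.ψ ⟨x, hx⟩ = 1
  · rcases central_cases S hF hM ha A hx h1 with h | h
    · exact absurd h (hE.ne_one x hxE)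
    · exact Or.inl h
  let C : Set (Cfsg.PSU 6 F 2) := {y | ∃ (z : G) (hz : z ∈ Subgroup.closure (link D a)),
    z ∈ E ∧ A.ψ ⟨z, hz⟩ = y ∧ y ≠ 1}
  obtain ⟨v, hv⟩ := U6.exists_isPt_of_class hF (C := C) (by
      rintro _ ⟨z, hz, hzE, rfl, -⟩
      rw [← map_mul, show (⟨z, hz⟩ : ↥(Subgroup.closure (link D a))) * ⟨z, hz⟩ = 1 from
        Subtype.ext (hE.sq z hzE), map_one])
    (by rintro _ ⟨z, hz, hzE, -, h⟩; exact h)
    (by
      rintro g _ ⟨z, hz, hzE, rfl, hne⟩
      obtain ⟨h, rfl⟩ := A.surj g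
      refine ⟨(h : G) * z * (h : G)⁻¹, mul_mem (mul_mem h.2 hz) (inv_mem h.2), hE.conj _ z hzE, ?_, ?_⟩
      · rw [← map_inv, ← map_mul, ← map_mul]; rfl
      · intro e
        exact hne (by simpa using e))
    (by
      rintro _ ⟨z, hz, hzE, rfl, -⟩ _ ⟨w, hw, hwE, rfl, -⟩
      rcases hE.cond z hzE w hwE with hc | hc
      · exact Or.inl ((show Commute (⟨z, hz⟩ : ↥(Subgroup.closure (link D a))) ⟨w, hw⟩ from
          Subtype.ext hc).map A.ψ)
      · refine Or.inr ?_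
        rw [← map_mul, ← map_pow, show ((⟨z, hz⟩ : ↥(Subgroup.closure (link D a))) * ⟨w, hw⟩) ^ 3 = 1 from
          Subtype.ext (pow_three_eq_one (hE.sq z hzE) (hE.sq w hwE) hc), map_one])
    (x := A.ψ ⟨x, hx⟩) ⟨x, hx, hxE, rfl, h1⟩
  obtain ⟨e, le, he⟩ := A.exists_link_of_pt S hF ha hv
  have hmem : e⁻¹ * x ∈ Subgroup.closure (link D a) := mul_mem (inv_mem (Subgroup.subset_closure le)) hx
  have hker : A.ψ ⟨e⁻¹ * x, hmem⟩ = 1 := by
    rw [show (⟨e⁻¹ * x, hmem⟩ : ↥(Subgroup.closure (link D a))) =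
      (⟨e, Subgroup.subset_closure le⟩ : ↥(Subgroup.closure (link D a)))⁻¹ * ⟨x, hx⟩ from rfl, map_mul, map_inv,
      show A.ψ ⟨e, Subgroup.subset_closure le⟩ = A.ψ ⟨x, hx⟩ from he, inv_mul_cancel]
  rcases central_cases S hF hM ha A hmem hker with h | h
  · exact Or.inr ⟨e, le, Or.inl (inv_mul_eq_one.1 h).symm⟩
  · exact Or.inr ⟨e, le, Or.inr (inv_mul_eq_iff_eq_mul.1 h)⟩

/-- A conjugation-invariant set of 3-transpositions forming one class is the given one. -/
theorem class_eq {E : Set G} (hE : Cfsg.IsThreeTranspositionClass E) : E = D := by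
  have hT := isTT_of_class hE
  obtain ⟨⟨hord, -⟩, ⟨d, hd, hcl⟩, -⟩ := hE
  have hiso : ∀ {x : G}, IsConj d x → x ∈ E := fun h => hcl ▸ h
  obtain ⟨a, ha, -⟩ := S.exists_noncommuting
  obtain ⟨A⟩ := hM a ha
  obtain ⟨b, hb⟩ := A.link_nonempty hF
  obtain ⟨u₁, hu₁⟩ := A.exists_pt_of_link S hF ha hb
  obtain ⟨u₂, hu₂, h12, h12'⟩ := U6.exists_perp_point hF hu₁.1
  have hi₂ : u₂ ∉ Submodule.span F {u₁} := fun h => by
    obtain ⟨c, hc⟩ := Submodule.mem_span_singleton.1 h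
    exact h12' c hc.symm
  obtain ⟨u₃, hu₃, h31, h32, hi₃⟩ := U6.exists_plane hF hu₁.1 hi₂
  obtain ⟨X₂, hX₂⟩ := U6.exists_pt hF hu₂
  obtain ⟨X₃, hX₃⟩ := U6.exists_pt hF hu₃
  obtain ⟨c, hc, rfl⟩ := A.exists_link_of_pt S hF ha hX₂
  obtain ⟨g, hg, rfl⟩ := A.exists_link_of_pt S hF ha hX₃
  have cbc : Commute b c := (A.comm_iff S hF ha hb hc hu₁ hX₂).2 h12
  have cbg : Commute b g := ((A.comm_iff S hF ha hg hb hX₃ hu₁).2 h31).symm
  have ccg : Commute c g := ((A.comm_iff S hF ha hg hc hX₃ hX₂).2 h32).symm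
  have nbc : b ≠ c := fun h => by
    subst h
    obtain ⟨s, -, hs⟩ := IsPt.span_eq hF hu₁ hX₂
    exact h12' s hs
  have nbg : b ≠ g := fun h => by
    subst h
    obtain ⟨s, -, hs⟩ := IsPt.span_eq hF hu₁ hX₃
    exact hi₃ (hs ▸ Submodule.smul_mem _ s (Submodule.subset_span (Set.mem_insert _ _)))
  have ncg : c ≠ g := fun h => by
    subst h
    obtain ⟨s, -, hs⟩ := IsPt.span_eq hF hX₂ hX₃
    exact hi₃ (hs ▸ Submodule.smul_mem _ s (Submodule.subset_span (Set.mem_insert_of_mem _ rfl)))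
  have lc : c ∈ link D b := ⟨hc.1, nbc.symm, cbc⟩
  have hdD : d ∈ D := by
    rcases invol_cases S hF hM (hord d hd) with h | ⟨a', b', ha', hb', rfl⟩ | ⟨a', b', c', T', rfl⟩
    · exact h
    · exfalso
      rcases class_cases S hF hM ha hT (hiso (pair_conj S hF hM ha' hb' hb.1 lc))
          (mul_mem (Subgroup.subset_closure hb) (Subgroup.subset_closure hc)) with h | ⟨e, he, h | h⟩
      · exact (pair_notMem S hF hM hb.1 lc).2 (h ▸ ha)
      · exact (pair_notMem S hF hM hb.1 lc).2 (h ▸ he.1)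
      · rcases pair_unique S hF hM hb.1 hc.1 he.1 ha nbc he.2.1 cbc he.2.2.symm h with ⟨-, h'⟩ | ⟨h', -⟩
        · exact hc.2.1 h'
        · exact hb.2.1 h'
    · exfalso
      have T : Tri D b c g := ⟨hb.1, hc.1, hg.1, nbc, nbg, ncg, cbc, cbg, ccg⟩
      obtain ⟨k, k1, k2, k3⟩ := tri_conj S hF hM T' T
      have hconj : IsConj (a' * b' * c') (b * c * g) :=
        isConj_iff.2 ⟨k, by rw [← k1, ← k2, ← k3]; group⟩
      rcases class_cases S hF hM ha hT (hiso hconj)
          (mul_mem (mul_mem (Subgroup.subset_closure hb) (Subgroup.subset_closure hc)) (Subgroup.subset_closure hg))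
        with h | ⟨e, he, h | h⟩
      · exact (tri_notMem S hF hM T).2 (h ▸ ha)
      · exact (tri_notMem S hF hM T).2 (h ▸ he.1)
      · exact pair_ne_tri S hF hM he.1 (link_swap ha he) T h.symm
  ext x
  rw [hcl]
  constructor
  · intro h
    obtain ⟨k, rfl⟩ := isConj_iff.1 (show IsConj d x from h)
    exact S.tt.conj k d hdD
  · intro h
    obtain ⟨k, rfl⟩ := S.cls hdD h
    exact isConj_iff.2 ⟨k, rfl⟩

end CfsgLib.M22
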