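import Cfsg.Agent.Lib.ThreeTransp.Radical

/-!
# Groups in which every element has order at most three are solvable
-/

set_option autoImplicit false

namespace CfsgLib.ThreeTransp

/-- A finite group in which every element satisfies `x² = 1` or `x³ = 1` is solvable. -/
theorem isSolvable_of_sq_or_cube {G : Type*} [Group G] [Finite G]
    (h : ∀ x : G, x ^ 2 = 1 ∨ x ^ 3 = 1) : Group.IsSolvable G := by
  suffices H : ∀ (n : ℕ) (K : Type _) [Group K] [Finite K], Nat.card K = n →
      (∀ x : K, x ^ 2 = 1 ∨ x ^ 3 = 1) → Group.IsSolvable K from H _ G rfl h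
  intro n
  induction n using Nat.strong_induction_on with
  | _ n ih =>
  intro K _ _ hn hK
  classical
  -- quotient by a non-trivial solvable normal subgroup
  have step : ∀ N : Subgroup K, N.Normal → Group.IsSolvable N → N ≠ ⊥ → Group.IsSolvable K := by
    intro N hN hs hne
    haveI := hN
    refine isSolvable_of_normal N hs (ih (Nat.card (K ⧸ N)) ?_ (K ⧸ N) rfl ?_)
    · rw [← hn, Subgroup.card_eq_card_quotient_mul_card_subgroup N]
      exact lt_mul_of_one_lt_right Nat.card_pos ((Subgroup.one_lt_card_iff_ne_bot _).mpr hne)
    · intro x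
      obtain ⟨x, rfl⟩ := QuotientGroup.mk_surjective x
      rcases hK x with hx | hx
      · exact Or.inl (by rw [← QuotientGroup.mk_pow, hx, QuotientGroup.mk_one])
      · exact Or.inr (by rw [← QuotientGroup.mk_pow, hx, QuotientGroup.mk_one])
  set D : Set K := {x | x ≠ 1 ∧ x * x = 1} with hDdef
  have hD : IsTT D := by
    refine ⟨fun d hd => hd.2, fun d hd => hd.1, ?_, ?_⟩
    · intro d hd e he
      rcases hK (d * e) with h2 | h3
      · refine Or.inl ?_
        have h' : (d * e)⁻¹ = d * e := inv_eq_of_mul_eq_one_right (by rw [← sq]; exact h2)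
        rw [mul_inv_rev, inv_eq_self hd.2, inv_eq_self he.2] at h'
        exact h'.symm
      · exact Or.inr (braid_of_pow_three hd.2 he.2 h3)
    · intro g d hd
      refine ⟨fun he => hd.1 ?_, ?_⟩
      · have : g⁻¹ * (g * d * g⁻¹) * g = 1 := by rw [he]; group
        simpa [mul_assoc] using this
      · rw [show g * d * g⁻¹ * (g * d * g⁻¹) = g * (d * d) * g⁻¹ by group, hd.2]
        group
  by_cases hpair : ∃ a ∈ D, ∃ b ∈ D, a ≠ b ∧ Commute a b
  · obtain ⟨a, ha, b, hb, hne, hab⟩ := hpair
    -- the centralizer of an involution consists of involutions and 1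
    have hC : ∀ c ∈ D, ∀ z : K, Commute c z → z * z = 1 := by
      intro c hc z hz
      rcases hK z with h2 | h3
      · rwa [sq] at h2
      · rcases hK (c * z) with h2 | h3'
        · have : (c * z) * (c * z) = z * z := by
            rw [show (c * z) * (c * z) = c * (z * c) * z by group, ← hz.eq,
              show c * (c * z) * z = (c * c) * (z * z) by group, hc.2, one_mul]
          rw [← this, ← sq, h2]
        · exfalso
          rw [hz.mul_pow, h3, mul_one, pow_succ, pow_two, hc.2, one_mul] at h3'
          exact hc.1 h3'
    have hcomm : ∀ c ∈ D, ∀ z w : K, Commute c z → Commute c w → Commute z w := by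
      intro c hc z w hz hw
      have h1 := hC c hc _ (hz.mul_right hw)
      have h' : (z * w)⁻¹ = z * w := inv_eq_of_mul_eq_one_right h1
      rw [mul_inv_rev, inv_eq_self (hC c hc z hz), inv_eq_self (hC c hc w hw)] at h'
      exact h'.symm
    have hperp : perp D a = perp D b := by
      ext z
      exact ⟨fun hz => ⟨hz.1, hcomm a ha b z hab hz.2⟩,
        fun hz => ⟨hz.1, hcomm b hb a z hab.symm hz.2⟩⟩
    refine step _ (hD.keyKer_normal hD.equivariant_perp) hD.perpKer_solvable fun hbot => hne ?_
    have := mul_mem_keyKer ha hb hperp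
    rw [hbot, Subgroup.mem_bot] at this
    rw [← hD.inv_eq hb]
    exact eq_inv_of_mul_eq_one_left this
  · push Not at hpair
    by_cases hne : D.Nonempty
    · obtain ⟨d, hd⟩ := hne
      have hW : IsW1 D := hD.mono_w1 subset_rfl (fun a ha b hb h => hpair a ha b hb h)
        fun a ha b hb => hD.cj_mem ha hb
      refine step _ (normal_closure_of_invariant hD.conj) hW.isSolvable_closure fun hbot => hd.1 ?_
      have := Subgroup.subset_closure (k := D) hd
      rwa [hbot] at this
    · rw [Set.not_nonempty_iff_eq_empty] at hne
      haveI : Fact (Nat.Prime 3) := ⟨Nat.prime_three⟩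
      have hp : IsPGroup 3 K := by
        intro x
        rcases hK x with h2 | h3
        · refine ⟨0, ?_⟩
          by_contra hx
          have : x ∈ D := ⟨by simpa using hx, by rw [← sq]; exact h2⟩
          rw [hne] at this
          exact this
        · exact ⟨1, by simpa using h3⟩
      haveI := hp.isNilpotent
      infer_instance

end CfsgLib.ThreeTransp
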