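import Cfsg.Agent.Lib.ThreeTransp.Classes

/-!
# Equal perps and equal links give solvable normal subgroups
-/

set_option autoImplicit false

namespace CfsgLib.ThreeTransp

variable {G : Type*} [Group G]

theorem isSolvable_closure_of_commute {T : Set G} (h : ∀ a ∈ T, ∀ b ∈ T, Commute a b) :
    Group.IsSolvable (Subgroup.closure T) := by
  apply Group.isSolvable_of_comm
  intro x y
  have h1 : ∀ t ∈ T, Commute (x : G) t := by
    intro t ht
    have : (x : G) ∈ Subgroup.centralizer ({t} : Set G) := by
      refine (Subgroup.closure_le _).mpr ?_ x.2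
      intro w hw
      rw [SetLike.mem_coe, Subgroup.mem_centralizer_singleton_iff]
      exact h w hw t ht
    exact Subgroup.mem_centralizer_singleton_iff.mp this
  have : (y : G) ∈ Subgroup.centralizer ({(x : G)} : Set G) := by
    refine (Subgroup.closure_le _).mpr ?_ y.2
    intro w hw
    rw [SetLike.mem_coe, Subgroup.mem_centralizer_singleton_iff]
    exact (h1 w hw).symm.eq
  exact Subtype.ext (Subgroup.mem_centralizer_singleton_iff.mp this).symm

variable {D : Set G}

theorem IsTT.equivariant_perp (hD : IsTT D) : Equivariant D (perp D) := by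
  intro g a _ b _ hab
  have key : ∀ u v : G, perp D u = perp D v → ∀ e ∈ perp D (g * u * g⁻¹),
      e ∈ perp D (g * v * g⁻¹) := by
    intro u v huv e he
    have h1 : g⁻¹ * e * g ∈ perp D u := by
      refine ⟨by simpa using hD.conj g⁻¹ e he.1, ?_⟩
      have := (Commute.conj_iff g⁻¹).mpr he.2
      simpa [mul_assoc] using this
    rw [huv] at h1
    refine ⟨he.1, ?_⟩
    have := (Commute.conj_iff g).mpr h1.2
    simpa [mul_assoc] using this
  exact Set.Subset.antisymm (key a b hab) (key b a hab.symm)

theorem IsTT.equivariant_link (hD : IsTT D) : Equivariant D (link D) := by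
  intro g a _ b _ hab
  have key : ∀ u v : G, link D u = link D v → ∀ e ∈ link D (g * u * g⁻¹),
      e ∈ link D (g * v * g⁻¹) := by
    intro u v huv e he
    have h1 : g⁻¹ * e * g ∈ link D u := by
      refine ⟨by simpa using hD.conj g⁻¹ e he.1, ?_, ?_⟩
      · intro h
        apply he.2.1
        rw [← h]
        group
      · have := (Commute.conj_iff g⁻¹).mpr he.2.2
        simpa [mul_assoc] using this
    rw [huv] at h1
    refine ⟨he.1, ?_, ?_⟩
    · intro h
      apply h1.2.1
      rw [h]
      group
    · have := (Commute.conj_iff g).mpr h1.2.2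
      simpa [mul_assoc] using this
  exact Set.Subset.antisymm (key a b hab) (key b a hab.symm)

theorem IsTT.commute_of_perp_eq {a b x : G} (hx : x ∈ D) (h : perp D a = perp D b)
    (hc : Commute a x) : Commute b x := by
  have : x ∈ perp D a := ⟨hx, hc⟩
  exact (h ▸ this).2

theorem IsTT.keyFixing_perp (hD : IsTT D) : KeyFixing D (perp D) := by
  refine hD.keyFixing_of hD.equivariant_perp (fun a _ b _ h x hx _ => IsTT.commute_of_perp_eq hx h)
    fun a ha b _ h x hx _ hc => Or.inr fun hp => ?_
  have := IsTT.commute_of_perp_eq (hD.cj_mem ha hx) h.symm hp.symm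
  exact hD.not_commute_cj_left ha hc this

theorem IsTT.keyFixing_link (hD : IsTT D) : KeyFixing D (link D) := by
  refine hD.keyFixing_of hD.equivariant_link ?_ ?_
  · intro a _ b _ h x hx hne hc
    have hxa : x ≠ a := fun e => hne (by rw [e])
    have : x ∈ link D a := ⟨hx, hxa, hc⟩
    exact (h ▸ this).2.2
  · intro a ha b _ h x hx _ hc
    by_cases hpb : a * x * a = b
    · exact Or.inl hpb
    · refine Or.inr fun hp => ?_
      have : a * x * a ∈ link D b := ⟨hD.cj_mem ha hx, hpb, hp.symm⟩
      exact hD.not_commute_cj_left ha hc (h ▸ this).2.2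

theorem IsTT.perp_eq_commute {a b : G} (hb : b ∈ D) (h : perp D a = perp D b) : Commute a b := by
  have : b ∈ perp D b := ⟨hb, Commute.refl b⟩
  exact (h ▸ this).2

theorem IsTT.perpKer_solvable [Finite G] (hD : IsTT D) :
    Group.IsSolvable (keyKer D (perp D)) := by
  refine hD.keyKer_solvable hD.equivariant_perp hD.keyFixing_perp fun a _ => ?_
  refine isSolvable_closure_of_commute ?_
  rintro _ ⟨b, _, c, hc, h1, h2, rfl⟩ _ ⟨d, hd, e, he, h3, h4, rfl⟩
  exact (Commute.mul_left
    ((IsTT.perp_eq_commute hd (h1.trans h3.symm)).mul_right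
      (IsTT.perp_eq_commute he (h1.trans h4.symm)))
    ((IsTT.perp_eq_commute hd (h2.trans h3.symm)).mul_right
      (IsTT.perp_eq_commute he (h2.trans h4.symm))))

theorem IsTT.linkKer_solvable [Finite G] (hD : IsTT D) :
    Group.IsSolvable (keyKer D (link D)) := by
  refine hD.keyKer_solvable hD.equivariant_link hD.keyFixing_link fun a _ => ?_
  have hS : IsW1 {b | b ∈ D ∧ link D b = link D a} := by
    refine hD.mono_w1 (fun b hb => hb.1) ?_ ?_
    · intro b hb c hc hne hcom
      have : c ∈ link D b := ⟨hc.1, Ne.symm hne, hcom⟩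
      rw [hb.2, ← hc.2] at this
      exact this.2.1 rfl
    · intro b hb c hc
      refine ⟨hD.cj_mem hb.1 hc.1, ?_⟩
      have := hD.equivariant_link b c hc.1 b hb.1 (hc.2.trans hb.2.symm)
      rw [hD.inv_eq hb.1] at this
      rw [this, ← hb.2]
      simp [mul_assoc, hD.sq b hb.1]
  refine isSolvable_mono (Subgroup.closure_le _ |>.mpr ?_) hS.isSolvable_closure
  rintro _ ⟨b, hb, c, hc, h1, h2, rfl⟩
  exact Subgroup.mul_mem _ (Subgroup.subset_closure ⟨hb, h1⟩) (Subgroup.subset_closure ⟨hc, h2⟩)

/-- Without solvable normal subgroups, equal perps force equality. -/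
theorem IsTT.perp_inj [Finite G] (hD : IsTT D)
    (hsol : ∀ N : Subgroup G, N.Normal → Group.IsSolvable N → N = ⊥)
    {a b : G} (ha : a ∈ D) (hb : b ∈ D) (h : perp D a = perp D b) : a = b := by
  have := eq_bot_of_solvable_normal hsol (hD.keyKer_normal hD.equivariant_perp)
    hD.perpKer_solvable (mul_mem_keyKer ha hb h)
  rw [← hD.inv_eq hb]
  exact eq_inv_of_mul_eq_one_left this

/-- Without solvable normal subgroups, equal links force equality. -/
theorem IsTT.link_inj [Finite G] (hD : IsTT D)
    (hsol : ∀ N : Subgroup G, N.Normal → Group.IsSolvable N → N = ⊥)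
    {a b : G} (ha : a ∈ D) (hb : b ∈ D) (h : link D a = link D b) : a = b := by
  have := eq_bot_of_solvable_normal hsol (hD.keyKer_normal hD.equivariant_link)
    hD.linkKer_solvable (mul_mem_keyKer ha hb h)
  rw [← hD.inv_eq hb]
  exact eq_inv_of_mul_eq_one_left this

end CfsgLib.ThreeTransp
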