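import Cfsg.Agent.Lib.ThreeTransp.Radical

/-!
# Connectedness of the commuting graph under Fischer's hypotheses
-/

set_option autoImplicit false

open scoped commutatorElement

namespace CfsgLib.ThreeTransp

variable {G : Type*} [Group G]

/-- The component of `a` in `E` for the relation `r`. -/
def comp (E : Set G) (r : G → G → Prop) (a : G) : Set G :=
  {b | Relation.ReflTransGen (fun u v => u ∈ E ∧ v ∈ E ∧ r u v) a b}

theorem mem_comp_self (E : Set G) (r : G → G → Prop) (a : G) : a ∈ comp E r a :=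
  Relation.ReflTransGen.refl

theorem comp_subset {E : Set G} {r : G → G → Prop} {a : G} (ha : a ∈ E) : comp E r a ⊆ E := by
  intro b hb
  induction hb with
  | refl => exact ha
  | tail _ h _ => exact h.2.1

theorem comp_eq_of_mem {E : Set G} {r : G → G → Prop} (hr : ∀ u v, r u v → r v u) {a b : G}
    (h : b ∈ comp E r a) : comp E r b = comp E r a := by
  have hsymm : Relation.ReflTransGen (fun u v => u ∈ E ∧ v ∈ E ∧ r u v) b a := by
    induction h with
    | refl => exact Relation.ReflTransGen.refl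
    | tail _ h ih => exact Relation.ReflTransGen.head ⟨h.2.1, h.1, hr _ _ h.2.2⟩ ih
  ext z
  exact ⟨fun hz => Relation.ReflTransGen.trans h hz,
    fun hz => Relation.ReflTransGen.trans hsymm hz⟩

theorem mem_comp_of_rel {E : Set G} {r : G → G → Prop} {a b : G} (ha : a ∈ E) (hb : b ∈ E)
    (h : r a b) : b ∈ comp E r a :=
  Relation.ReflTransGen.single ⟨ha, hb, h⟩

theorem mem_comp_step {E : Set G} {r : G → G → Prop} {a b c : G} (hab : b ∈ comp E r a)
    (hb : b ∈ E) (hc : c ∈ E) (h : r b c) : c ∈ comp E r a :=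
  Relation.ReflTransGen.tail hab ⟨hb, hc, h⟩

theorem conj_mem_comp {E E' : Set G} {r : G → G → Prop} (g : G)
    (hE : ∀ u ∈ E, g * u * g⁻¹ ∈ E') (hr : ∀ u v, r u v → r (g * u * g⁻¹) (g * v * g⁻¹))
    {a b : G} (h : b ∈ comp E r a) : g * b * g⁻¹ ∈ comp E' r (g * a * g⁻¹) := by
  induction h with
  | refl => exact Relation.ReflTransGen.refl
  | tail _ h ih => exact Relation.ReflTransGen.tail ih ⟨hE _ h.1, hE _ h.2.1, hr _ _ h.2.2⟩

variable {D : Set G}

theorem IsTT.equivariant_comp (hD : IsTT D) : Equivariant D (comp D Commute) := by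
  intro g a _ b _ hab
  refine (comp_eq_of_mem (fun _ _ h => h.symm) (conj_mem_comp g (fun u hu => hD.conj g u hu)
    (fun u v h => (Commute.conj_iff g).mpr h) ?_)).symm
  rw [hab]
  exact mem_comp_self _ _ _

theorem IsTT.keyFixing_comp (hD : IsTT D) : KeyFixing D (comp D Commute) := by
  refine hD.keyFixing_of hD.equivariant_comp ?_ ?_
  · intro a ha b _ _ x hx hne hc
    exact absurd (comp_eq_of_mem (fun _ _ h => h.symm) (mem_comp_of_rel ha hx hc)) hne
  · intro a ha b hb hab x hx hne hc
    refine Or.inr fun hp => hne ?_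
    have e1 : comp D Commute (a * x * a) = comp D Commute a :=
      (comp_eq_of_mem (fun _ _ h => h.symm)
        (mem_comp_of_rel hb (hD.cj_mem ha hx) hp.symm)).trans hab.symm
    have := hD.equivariant_comp a _ (hD.cj_mem ha hx) a ha e1
    simpa [hD.inv_eq ha, mul_assoc, cancel₂ (hD.sq a ha), hD.sq a ha] using this

/-- Under Fischer's hypotheses the commuting graph on `D` is connected. -/
theorem IsTT.comp_eq_comp [Finite G] (hD : IsTT D) (hgen : Subgroup.closure D = ⊤)
    (hperf : ⁅commutator G, commutator G⁆ = commutator G)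
    (hclass : ∀ a ∈ D, ∀ b ∈ D, ∃ g : G, g * a * g⁻¹ = b)
    {a b : G} (ha : a ∈ D) (hb : b ∈ D) : comp D Commute a = comp D Commute b := by
  by_contra hne
  set N := keyKer D (comp D Commute) with hN
  haveI hNn : N.Normal := hD.keyKer_normal hD.equivariant_comp
  set π := QuotientGroup.mk' N with hπ
  have hW : IsW1 (π '' D) := by
    refine ⟨?_, ?_, ?_⟩
    · rintro _ ⟨d, hd, rfl⟩
      rw [← map_mul, hD.sq d hd, map_one]
    · rintro _ ⟨d, hd, rfl⟩ _ ⟨e, he, rfl⟩
      by_cases hc : Commute d e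
      · have : π d = π e := by
          show (d : G ⧸ N) = (e : G ⧸ N)
          rw [QuotientGroup.eq, hD.inv_eq hd]
          exact mul_mem_keyKer hd he
            (comp_eq_of_mem (fun _ _ h => h.symm) (mem_comp_of_rel hd he hc)).symm
        rw [this]
      · rw [← map_mul, ← map_mul, hD.braid hd he hc, map_mul, map_mul]
    · rintro _ ⟨d, hd, rfl⟩ _ ⟨e, he, rfl⟩
      exact ⟨d * e * d, hD.cj_mem hd he, by rw [map_mul, map_mul]⟩
  have hgen' : Subgroup.closure (π '' D) = ⊤ := by
    rw [← MonoidHom.map_closure, hgen]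
    exact Subgroup.map_top_of_surjective _ (QuotientGroup.mk'_surjective _)
  obtain ⟨⟨n, hn⟩⟩ := hW.isSolvable_of_gen hgen'
  have hstab : ∀ k, 1 ≤ k → derivedSeries G k = commutator G := by
    intro k hk
    induction k, hk using Nat.le_induction with
    | base => exact derivedSeries_one G
    | succ k _ ih => rw [derivedSeries_succ, ih, hperf]
  have hGN : commutator G ≤ N := by
    intro x hx
    rw [← hstab (n + 1) (by omega)] at hx
    have h1 : x ∈ derivedSeries G n := derivedSeries_antitone G (Nat.le_succ n) hx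
    have := map_derivedSeries_le_derivedSeries π n ⟨x, h1, rfl⟩
    rw [hn, Subgroup.mem_bot] at this
    exact (QuotientGroup.eq_one_iff x).mp this
  have hprod : ∀ u ∈ D, ∀ v ∈ D, u * v ∈ N := by
    intro u hu v hv
    obtain ⟨g, rfl⟩ := hclass u hu v hv
    have : ⁅u, g⁆ ∈ N := hGN (Subgroup.commutator_mem_commutator (Subgroup.mem_top _)
      (Subgroup.mem_top _))
    have e : u * (g * u * g⁻¹) = ⁅u, g⁆ := by
      rw [commutatorElement_def, hD.inv_eq hu]; simp [mul_assoc]
    rwa [e]
  have hnc : ¬Commute a b := fun hc =>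
    hne (comp_eq_of_mem (fun _ _ h => h.symm) (mem_comp_of_rel ha hb hc)).symm
  have h1 := hD.key_conj_of_mem_keyKer hD.keyFixing_comp (hprod a ha b hb) hb
  have h2 := hD.key_conj_of_mem_keyKer hD.keyFixing_comp (hprod b hb a ha) ha
  have e1 : (a * b) * b * (a * b)⁻¹ = a * b * a := by
    rw [mul_inv_rev, hD.inv_eq ha, hD.inv_eq hb]; simp [mul_assoc, cancel₂ (hD.sq b hb)]
  have e2 : (b * a) * a * (b * a)⁻¹ = b * a * b := by
    rw [mul_inv_rev, hD.inv_eq ha, hD.inv_eq hb]; simp [mul_assoc, cancel₂ (hD.sq a ha)]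
  rw [e1, hD.braid ha hb hnc] at h1
  rw [e2] at h2
  exact hne (h2.symm.trans h1)

end CfsgLib.ThreeTransp
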