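import Cfsg.Agent.Lib.ThreeTransp.ExpSix
import Cfsg.Agent.Lib.ThreeTransp.Connected

/-!
# Fischer's transitivity lemma

With no solvable normal subgroup and a connected commuting graph, for every transposition `d` the
non-commuting graph on the other transpositions commuting with `d` is connected.
-/

set_option autoImplicit false

namespace CfsgLib.ThreeTransp

variable {G : Type*} [Group G]

/-- The non-commuting relation. -/
def NC (u v : G) : Prop := ¬Commute u v

/-- The component of `a` in the non-commuting graph on `link D e`. -/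
def lcomp (D : Set G) (e a : G) : Set G := comp (link D e) NC a

theorem NC.symm {u v : G} (h : NC u v) : NC v u := fun hc => h hc.symm

variable {D : Set G}

theorem link_conj (hD : IsTT D) (g : G) {e u : G} (hu : u ∈ link D e) :
    g * u * g⁻¹ ∈ link D (g * e * g⁻¹) := by
  refine ⟨hD.conj g u hu.1, fun h => hu.2.1 ?_, (Commute.conj_iff g).mpr hu.2.2⟩
  simpa using h

theorem lcomp_conj (hD : IsTT D) (g : G) {e a b : G} (h : b ∈ lcomp D e a) :
    g * b * g⁻¹ ∈ lcomp D (g * e * g⁻¹) (g * a * g⁻¹) :=
  conj_mem_comp g (fun _ hu => link_conj hD g hu)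
    (fun _ _ huv hc => huv ((Commute.conj_iff g).mp hc)) h

theorem lcomp_ncard [Finite G] (hD : IsTT D) (g e a : G) :
    (lcomp D (g * e * g⁻¹) (g * a * g⁻¹)).ncard = (lcomp D e a).ncard := by
  apply le_antisymm
  · refine Set.ncard_le_ncard_of_injOn (fun x => g⁻¹ * x * g) ?_ ?_ (Set.toFinite _)
    · intro b hb
      have := lcomp_conj hD g⁻¹ hb
      simpa [mul_assoc] using this
    · intro x _ y _ h
      simpa using h
  · refine Set.ncard_le_ncard_of_injOn (fun x => g * x * g⁻¹) (fun b hb => lcomp_conj hD g hb)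
      ?_ (Set.toFinite _)
    intro x _ y _ h
    simpa using h

/-- `T` is a component, of the largest possible size `m`, in the link of `g`. -/
def IsMax (D : Set G) (m : ℕ) (g : G) (T : Set G) : Prop :=
  ∃ t ∈ link D g, T = lcomp D g t ∧ T.ncard = m

/-- Members outside `T` commuting with all of `T`. -/
def cset (D : Set G) (T : Set G) : Set G := {x | x ∈ D ∧ x ∉ T ∧ ∀ t ∈ T, Commute x t}

section Max

variable [Finite G] {m : ℕ}

theorem IsMax.of_cset (hmax : ∀ g ∈ D, ∀ t ∈ link D g, (lcomp D g t).ncard ≤ m) {e g : G}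
    {T : Set G} (hT : IsMax D m e T) (hg : g ∈ cset D T) : IsMax D m g T := by
  obtain ⟨t, ht, rfl, hm⟩ := hT
  have hsub : lcomp D e t ⊆ link D g := fun x hx =>
    ⟨(comp_subset ht hx).1, fun h => hg.2.1 (h ▸ hx), hg.2.2 x hx⟩
  have ht' : t ∈ link D g := hsub (mem_comp_self _ _ _)
  have hle : lcomp D e t ⊆ lcomp D g t := by
    intro x hx
    have : ∀ y, Relation.ReflTransGen (fun u v => u ∈ link D e ∧ v ∈ link D e ∧ NC u v) t y →
        y ∈ lcomp D g t := by
      intro y hy
      induction hy with
      | refl => exact mem_comp_self _ _ _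
      | tail hab hbc ih =>
        exact mem_comp_step ih (hsub hab) (hsub (mem_comp_step hab hbc.1 hbc.2.1 hbc.2.2)) hbc.2.2
    exact this x hx
  have heq : lcomp D e t = lcomp D g t :=
    Set.eq_of_subset_of_ncard_le hle (hm ▸ hmax g hg.1 t ht') (Set.toFinite _)
  exact ⟨t, ht', heq, hm⟩

theorem IsMax.mem_cset (hD : IsTT D) {g : G} {T : Set G} (hg : g ∈ D) (hT : IsMax D m g T) :
    g ∈ cset D T := by
  obtain ⟨t, ht, rfl, -⟩ := hT
  refine ⟨hg, fun h => (comp_subset ht h).2.1 rfl, fun x hx => (comp_subset ht hx).2.2⟩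

theorem IsMax.mem_cset_of_link {g y : G} {T : Set G} (hT : IsMax D m g T) (hy : y ∈ link D g)
    (hyT : y ∉ T) : y ∈ cset D T := by
  obtain ⟨t, ht, rfl, -⟩ := hT
  refine ⟨hy.1, hyT, fun x hx => ?_⟩
  by_contra hc
  exact hyT (mem_comp_step hx (comp_subset ht hx) hy fun h => hc h.symm)

theorem not_commute_cset (hmax : ∀ g ∈ D, ∀ t ∈ link D g, (lcomp D g t).ncard ≤ m) {e x h : G}
    {T : Set G} (hT : IsMax D m e T) (hx : x ∈ D) (hxT : x ∉ T) (hxc : x ∉ cset D T)
    (hh : h ∈ cset D T) : ¬Commute x h := fun hc =>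
  hxc ((hT.of_cset hmax hh).mem_cset_of_link ⟨hx, fun e' => hxc (e' ▸ hh), hc.symm⟩ hxT)

/-- Two components of maximal size in one link are impossible. -/
theorem IsMax.unique (hD : IsTT D) (hgen : Subgroup.closure D = ⊤)
    (hclass : ∀ a ∈ D, ∀ b ∈ D, ∃ g : G, g * a * g⁻¹ = b)
    (hconn : ∀ a ∈ D, ∀ b ∈ D, comp D Commute a = comp D Commute b)
    (hmax : ∀ g ∈ D, ∀ t ∈ link D g, (lcomp D g t).ncard ≤ m)
    {g : G} (hg : g ∈ D) {T T' : Set G} (hT : IsMax D m g T) (hT' : IsMax D m g T') : T = T' := by
  by_contra hne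
  obtain ⟨t, ht, hTe, hTm⟩ := id hT
  obtain ⟨t', ht', hTe', hTm'⟩ := id hT'
  have hdisj : ∀ x ∈ T, x ∉ T' := by
    intro x hx hx'
    rw [hTe] at hx; rw [hTe'] at hx'
    apply hne
    rw [hTe, hTe']
    exact (comp_eq_of_mem (fun _ _ h => NC.symm h) hx).symm.trans
      (comp_eq_of_mem (fun _ _ h => NC.symm h) hx')
  have hTlink : T ⊆ link D g := hTe ▸ comp_subset ht
  have hTlink' : T' ⊆ link D g := hTe' ▸ comp_subset ht'
  have hsub : T' ⊆ cset D T := fun x hx =>
    hT.mem_cset_of_link (hTlink' hx) fun h => hdisj x h hx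
  have hsub' : T ⊆ cset D T' := fun x hx => hT'.mem_cset_of_link (hTlink hx) (hdisj x hx)
  -- the set `B = T ∪ C(T)` is a union of components of the commuting graph
  have htT' : t' ∈ T' := by rw [hTe']; exact mem_comp_self _ _ _
  have hclosed : ∀ u ∈ T ∪ cset D T, ∀ x ∈ D, Commute u x → x ∈ T ∪ cset D T := by
    intro u hu x hx hc
    by_contra hxB
    rw [Set.mem_union, not_or] at hxB
    have hxT' : x ∉ T' := fun h => hxB.2 (hsub h)
    have hxc' : x ∉ cset D T' := fun h =>
      not_commute_cset hmax hT hx hxB.1 hxB.2 (hsub htT') (h.2.2 _ htT')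
    rcases hu with hu | hu
    · exact not_commute_cset hmax hT' hx hxT' hxc' (hsub' hu) hc.symm
    · exact not_commute_cset hmax hT hx hxB.1 hxB.2 hu hc.symm
  have hall : ∀ x ∈ D, x ∈ T ∪ cset D T := by
    intro x hx
    have hxg : x ∈ comp D Commute g := hconn x hx g hg ▸ mem_comp_self _ _ _
    suffices ∀ y, Relation.ReflTransGen (fun u v => u ∈ D ∧ v ∈ D ∧ Commute u v) g y →
        y ∈ T ∪ cset D T from this x hxg
    intro y hy
    induction hy with
    | refl => exact Or.inr (hT.mem_cset hD hg)
    | tail _ h ih => exact hclosed _ ih _ h.2.1 h.2.2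
  -- so `T` is invariant under all of `D`, hence equal to `D`
  have hinv : ∀ d ∈ D, ∀ x ∈ T, d * x * d ∈ T := by
    intro d hd x hx
    rcases hall d hd with hdT | hdc
    · by_cases hc : Commute d x
      · rwa [hc.eq, mul_assoc, hD.sq d hd, mul_one]
      · have hl : d * x * d ∈ link D g := by
          have h1 := link_conj hD d (hTlink hx)
          rw [hD.inv_eq hd, (hTlink hdT).2.2.symm.eq, mul_assoc g d d, hD.sq d hd, mul_one] at h1
          exact h1
        rw [hTe] at hdT ⊢
        exact mem_comp_step hdT (comp_subset ht hdT) hl (hD.not_commute_cj_left hd hc)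
    · rwa [(hdc.2.2 x hx).eq, mul_assoc, hD.sq d hd, mul_one]
  have hinvG : ∀ k : G, ∀ x ∈ T, k * x * k⁻¹ ∈ T := by
    intro k
    refine (Subgroup.closure_induction (p := fun k _ =>
      (∀ x ∈ T, k * x * k⁻¹ ∈ T) ∧ ∀ x ∈ T, k⁻¹ * x * k ∈ T) ?_ ?_ ?_ ?_
      (hgen ▸ Subgroup.mem_top k : k ∈ Subgroup.closure D)).1
    · intro d hd
      rw [hD.inv_eq hd]
      exact ⟨hinv d hd, hinv d hd⟩
    · simp
    · intro u v _ _ hu hv
      exact ⟨fun x hx => by simpa [mul_assoc] using hu.1 _ (hv.1 x hx),
        fun x hx => by simpa [mul_assoc] using hv.2 _ (hu.2 x hx)⟩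
    · intro u _ hu
      rw [inv_inv]
      exact ⟨hu.2, hu.1⟩
  obtain ⟨k, hk⟩ := hclass t ht.1 g hg
  exact (hT.mem_cset hD hg).2.1 (hk ▸ hinvG k t (hTe ▸ mem_comp_self _ _ _))

end Max

/-- Fischer's transitivity lemma, graph form. -/
theorem IsTT.lcomp_eq [Finite G] (hD : IsTT D) (hgen : Subgroup.closure D = ⊤)
    (hsol : ∀ N : Subgroup G, N.Normal → Group.IsSolvable N → N = ⊥)
    (hclass : ∀ a ∈ D, ∀ b ∈ D, ∃ g : G, g * a * g⁻¹ = b)
    (hconn : ∀ a ∈ D, ∀ b ∈ D, comp D Commute a = comp D Commute b)
    {d a b : G} (hd : d ∈ D) (ha : a ∈ link D d) (hb : b ∈ link D d) : b ∈ lcomp D d a := by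
  classical
  by_contra hdisc
  haveI := Fintype.ofFinite G
  obtain ⟨m, hmax, e, t, he, ht, hm⟩ : ∃ m, (∀ g ∈ D, ∀ t ∈ link D g, (lcomp D g t).ncard ≤ m) ∧
      ∃ e t, e ∈ D ∧ t ∈ link D e ∧ (lcomp D e t).ncard = m := by
    obtain ⟨⟨e, t⟩, hmem, hle⟩ := Finset.exists_max_image
      ((Finset.univ : Finset (G × G)).filter fun p => p.1 ∈ D ∧ p.2 ∈ link D p.1)
      (fun p => (lcomp D p.1 p.2).ncard) ⟨(d, a), by simp [hd, ha]⟩
    simp only [Finset.mem_filter, Finset.mem_univ, true_and] at hmem
    exact ⟨_, fun g hg t ht => hle (g, t) (by simp [hg, ht]), e, t, hmem.1, hmem.2, rfl⟩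
  -- every `g` has exactly one component of maximal size
  have hexists : ∀ g ∈ D, ∃ T, IsMax D m g T := by
    intro g hg
    obtain ⟨k, rfl⟩ := hclass e he g hg
    exact ⟨_, k * t * k⁻¹, link_conj hD k ht, rfl, (lcomp_ncard hD k e t).trans hm⟩
  have huniq : ∀ g ∈ D, ∀ T T', IsMax D m g T → IsMax D m g T' → T = T' :=
    fun g hg T T' h h' => h.unique hD hgen hclass hconn hmax hg h'
  let key : G → Set G := fun g => {x | ∃ T, IsMax D m g T ∧ x ∈ T}
  have hkey : ∀ g ∈ D, IsMax D m g (key g) := by
    intro g hg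
    obtain ⟨T, hT⟩ := hexists g hg
    have : key g = T := Set.ext fun x => ⟨fun ⟨T', hT', hx⟩ => huniq g hg T' T hT' hT ▸ hx,
      fun hx => ⟨T, hT, hx⟩⟩
    rwa [this]
  have hkey_eq : ∀ g ∈ D, ∀ T, IsMax D m g T → key g = T :=
    fun g hg T h => huniq g hg _ T (hkey g hg) h
  have hkey_link : ∀ g ∈ D, key g ⊆ link D g := by
    intro g hg x hx
    obtain ⟨t', ht', hT, -⟩ := hkey g hg
    exact comp_subset ht' (hT ▸ hx)
  -- commuting members with different keys lie in each other's keys
  have F1 : ∀ g ∈ D, ∀ y ∈ D, Commute g y → key g ≠ key y → y ∈ key g := by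
    intro g hg y hy hc hne
    by_contra hyk
    have hyc := (hkey g hg).mem_cset_of_link
      ⟨hy, fun h => hne (by rw [h]), hc⟩ hyk
    exact hne (hkey_eq y hy _ ((hkey g hg).of_cset hmax hyc)).symm
  have F2 : ∀ g ∈ D, ∀ h ∈ D, key g = key h → ∀ y ∈ key g, Commute h y :=
    fun g _ h hh e' y hy => (hkey_link h hh (e' ▸ hy)).2.2
  have hequiv : Equivariant D key := by
    intro k u hu v hv huv
    have hsame : ∀ u ∈ D, key (k * u * k⁻¹) = (fun x => k * x * k⁻¹) '' key u := by
      intro u hu
      apply hkey_eq _ (hD.conj k u hu)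
      obtain ⟨t', ht', hT, hcard⟩ := hkey u hu
      refine ⟨k * t' * k⁻¹, link_conj hD k ht', ?_, ?_⟩
      · ext x
        rw [hT]
        constructor
        · rintro ⟨y, hy, rfl⟩
          exact lcomp_conj hD k hy
        · intro hx
          refine ⟨k⁻¹ * x * k, ?_, by group⟩
          have := lcomp_conj hD k⁻¹ hx
          simpa [mul_assoc] using this
      · rw [Set.ncard_image_of_injective _ fun x y h => by simpa using h, hcard]
    rw [hsame u hu, hsame v hv, huv]
  have hkey_ne : ∀ g ∈ D, ∀ x ∈ D, ¬Commute g x → key x ≠ key g →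
      key (g * x * g) ≠ key g := by
    intro g hg x hx _ hne h
    have := hequiv g _ (hD.cj_mem hg hx) g hg h
    exact hne (by simpa [hD.inv_eq hg, mul_assoc, cancel₂ (hD.sq g hg), hD.sq g hg] using this)
  have hadj : ∀ g ∈ D, ∀ h ∈ D, key g = key h → ∀ x ∈ D, key x ≠ key g → Commute g x →
      Commute h x :=
    fun g hg h hh e' x hx hne hc => F2 g hg h hh e' x (F1 g hg x hx hc (Ne.symm hne))
  have hpne : ∀ g ∈ D, ∀ h ∈ D, key g = key h → ∀ x ∈ D, key x ≠ key g → ¬Commute g x →
      ¬Commute (g * x * g) h := by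
    intro g hg h hh e' x hx hne hc hp
    have := hadj h hh g hg e'.symm _ (hD.cj_mem hg hx)
      (fun e'' => hkey_ne g hg x hx hc hne (e''.trans e'.symm)) hp.symm
    exact hD.not_commute_cj_left hg hc this
  have hfix : KeyFixing D key :=
    hD.keyFixing_of hequiv hadj fun g hg h hh e' x hx hne hc =>
      Or.inr (hpne g hg h hh e' x hx hne hc)
  -- products inside one class form a solvable group
  have hclassSolv : ∀ g ∈ D, Group.IsSolvable (Subgroup.closure (classProds D key (key g))) := by
    intro g hg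
    set Q := Subgroup.closure (classProds D key (key g)) with hQ
    have hQN : Q ≤ keyKer D key := by
      refine Subgroup.closure_mono ?_
      rintro _ ⟨u, hu, v, hv, h1, h2, rfl⟩
      exact ⟨u, hu, v, hv, h1.trans h2.symm, rfl⟩
    have hQkey : ∀ q : Q, ∀ y ∈ D, key ((q : G) * y * (q : G)⁻¹) = key y :=
      fun q y hy => hD.key_conj_of_mem_keyKer hfix (hQN q.2) hy
    -- `Q` commutes with members adjacent to the class
    have hQcomm : ∀ q : Q, ∀ y ∈ D, key y ≠ key g → Commute g y → Commute (q : G) y := by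
      intro q y hy hne hc
      refine Subgroup.closure_induction (p := fun z _ => Commute z y) ?_ (Commute.one_left y)
        (fun _ _ _ _ h1 h2 => h1.mul_left h2) (fun _ _ h1 => h1.inv_left) q.2
      rintro _ ⟨u, hu, v, hv, h1, h2, rfl⟩
      exact (hadj g hg u hu h1.symm y hy hne hc).mul_left (hadj g hg v hv h2.symm y hy hne hc)
    -- the pointwise stabiliser of the class of `x`
    let Fx : G → Subgroup Q := fun x =>
      { carrier := {q | ∀ z ∈ D, key z = key x → Commute (q : G) z}
        one_mem' := fun z _ _ => Commute.one_left z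
        mul_mem' := fun h1 h2 z hz e' => (h1 z hz e').mul_left (h2 z hz e')
        inv_mem' := fun h1 z hz e' => (h1 z hz e').inv_left }
    haveI hFn : ∀ x, (Fx x).Normal := fun x => ⟨fun q hq k z hz e' => by
      have hz' := hD.conj (k : G)⁻¹ z hz
      rw [inv_inv] at hz'
      have h' : key ((k : G)⁻¹ * z * k) = key x := by
        have := hQkey k⁻¹ z hz
        rw [Subgroup.coe_inv, inv_inv] at this
        rw [this, e']
      have := (Commute.conj_iff (k : G)).mpr (hq _ hz' h')
      simpa [mul_assoc] using this⟩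
    have htrans : ∀ x ∈ D, key x ≠ key g → ¬Commute g x → ∀ q : Q, Commute (q : G) x →
        q ∈ Fx x := by
      intro x hx hne hc q hqx x' hx' e'
      -- a class commuting with that of `g` but not with that of `x`
      obtain ⟨y, hy, hyx⟩ : ∃ y ∈ key g, ¬Commute x y := by
        by_contra h
        push Not at h
        have hsub : key g ⊆ key x := by
          intro y hy
          have hy' := hkey_link g hg hy
          refine F1 x hx y hy'.1 (h y hy) fun e'' => hc ?_
          have hyg : key g ≠ key y := fun e3 => by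
            exact (hkey_link y hy'.1 (e3 ▸ hy)).2.1 rfl
          exact hadj y hy'.1 x hx e''.symm g hg hyg hy'.2.2.symm |>.symm
        have hcard : ∀ u ∈ D, (key u).ncard = m := fun u hu => by
          obtain ⟨_, _, _, h'⟩ := hkey u hu; exact h'
        exact hne (Set.eq_of_subset_of_ncard_le hsub (by rw [hcard g hg, hcard x hx])
          (Set.toFinite _)).symm
      have hyD := (hkey_link g hg hy).1
      have hgy : Commute g y := (hkey_link g hg hy).2.2
      have hygne : key y ≠ key g := fun e'' => (hkey_link y hyD (e'' ▸ hy)).2.1 rfl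
      have hxyne : key x ≠ key y := fun e'' => hc ((hadj y hyD x hx e''.symm g hg
        (Ne.symm hygne) hgy.symm).symm)
      -- the member `y'` of the class of `y` with `y' y` moving `x` to `x'`
      have hyx' : ¬Commute y x := fun h => hyx h.symm
      have hp := hD.cj_mem hyD hx
      obtain ⟨y', hy'def⟩ : ∃ y', y' = (y * x * y) * x' * (y * x * y) := ⟨_, rfl⟩
      have hy' : y' ∈ D := hy'def ▸ hD.cj_mem hp hx'
      have hky : key y' = key y := by
        have := hequiv (y * x * y) x' hx' x hx e'
        rw [hD.inv_eq hp, ← hy'def] at this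
        rw [this]
        congr 1
        have h1 := hD.cj_conj_self hyD hx hyx'
        calc (y * x * y) * x * (y * x * y)
            = (y * x * y) * ((y * x * y) * y * (y * x * y)) * (y * x * y) := by rw [h1]
          _ = y := by simp [mul_assoc, cancel₂ (hD.sq y hyD), cancel₂ (hD.sq x hx), hD.sq y hyD]
      have hp' := hpne y hyD y' hy' hky.symm x hx hxyne hyx'
      obtain ⟨e1, -⟩ := hD.transport hyD hy' hx hyx' (Or.inr hp')
      have hx'eq : (y' * y) * x * (y' * y)⁻¹ = x' := by
        rw [e1, hy'def]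
        simp [mul_assoc, cancel₂ (hD.sq y hyD), cancel₂ (hD.sq x hx), hD.sq y hyD]
      have hqy : Commute (q : G) (y' * y) := by
        refine (hQcomm q y' hy' (hky ▸ hygne) ?_).mul_right (hQcomm q y hyD hygne hgy)
        exact (hadj y hyD y' hy' hky.symm g hg (Ne.symm hygne) hgy.symm).symm
      rw [← hx'eq]
      exact (hqy.mul_right hqx).mul_right hqy.inv_right
    have hquot : ∀ x ∈ D, key x ≠ key g → ¬Commute g x → Group.IsSolvable (Q ⧸ Fx x) := by
      intro x hx hne hc
      refine isSolvable_of_sq_or_cube fun z => ?_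
      obtain ⟨q, rfl⟩ := QuotientGroup.mk_surjective z
      -- `q` agrees on the class of `x` with some `h * g`
      have hx1 := hD.conj (q : G) x hx
      have hk1 := hQkey q x hx
      have hp := hD.cj_mem hg hx
      obtain ⟨h, hhdef⟩ : ∃ h, h = (g * x * g) * ((q : G) * x * (q : G)⁻¹) * (g * x * g) :=
        ⟨_, rfl⟩
      have hh : h ∈ D := hhdef ▸ hD.cj_mem hp hx1
      have hkh : key h = key g := by
        have := hequiv (g * x * g) _ hx1 x hx hk1
        rw [hD.inv_eq hp, ← hhdef] at this
        rw [this]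
        congr 1
        have h1 := hD.cj_conj_self hg hx hc
        calc (g * x * g) * x * (g * x * g)
            = (g * x * g) * ((g * x * g) * g * (g * x * g)) * (g * x * g) := by rw [h1]
          _ = g := by simp [mul_assoc, cancel₂ (hD.sq g hg), cancel₂ (hD.sq x hx), hD.sq g hg]
      have hp' := hpne g hg h hh hkh.symm x hx hne hc
      obtain ⟨e1, -⟩ := hD.transport hg hh hx hc (Or.inr hp')
      have hrQ : h * g ∈ Q := Subgroup.subset_closure ⟨h, hh, g, hg, hkh, rfl, rfl⟩
      have hmem : (⟨h * g, hrQ⟩ : Q)⁻¹ * q ∈ Fx x := by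
        refine htrans x hx hne hc _ ?_
        have hqx : (q : G) * x * (q : G)⁻¹ = (h * g) * x * (h * g)⁻¹ := by
          rw [e1, hhdef]
          simp [mul_assoc, cancel₂ (hD.sq g hg), cancel₂ (hD.sq x hx), hD.sq g hg]
        show ((h * g)⁻¹ * (q : G)) * x = x * ((h * g)⁻¹ * (q : G))
        calc ((h * g)⁻¹ * (q : G)) * x = (h * g)⁻¹ * ((q : G) * x * (q : G)⁻¹) * (q : G) := by
              group
          _ = x * ((h * g)⁻¹ * (q : G)) := by rw [hqx]; group
      have hqr : (q : Q ⧸ Fx x) = ((⟨h * g, hrQ⟩ : Q) : Q ⧸ Fx x) := by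
        rw [eq_comm, QuotientGroup.eq]; exact hmem
      rw [hqr]
      by_cases hcg : Commute h g
      · refine Or.inl ?_
        rw [← QuotientGroup.mk_pow]
        have : (⟨h * g, hrQ⟩ : Q) ^ 2 = 1 := by
          apply Subtype.ext
          rw [SubmonoidClass.coe_pow, Subgroup.coe_one]
          show (h * g) ^ 2 = 1
          rw [pow_two, show h * g * (h * g) = h * (g * h) * g by group, ← hcg.eq,
            show h * (h * g) * g = (h * h) * (g * g) by group, hD.sq h hh, hD.sq g hg, one_mul]
        rw [this, QuotientGroup.mk_one]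
      · refine Or.inr ?_
        rw [← QuotientGroup.mk_pow]
        have : (⟨h * g, hrQ⟩ : Q) ^ 3 = 1 := by
          apply Subtype.ext
          rw [SubmonoidClass.coe_pow, Subgroup.coe_one]
          exact pow_three_eq_one (hD.sq h hh) (hD.sq g hg) (hD.braid hh hg hcg)
        rw [this, QuotientGroup.mk_one]
    obtain ⟨n, hn⟩ := exists_derivedSeries_le
      ((Finset.univ : Finset G).filter fun x => x ∈ D ∧ key x ≠ key g ∧ ¬Commute g x) Fx
      (fun x hx => by simp only [Finset.mem_filter, Finset.mem_univ, true_and] at hx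
                      exact hquot x hx.1 hx.2.1 hx.2.2)
    refine ⟨⟨n, (Subgroup.eq_bot_iff_forall _).mpr fun q hq => ?_⟩⟩
    have hout : ∀ z ∈ D, key z ≠ key g → Commute (q : G) z := by
      intro z hz hne
      by_cases hc : Commute g z
      · exact hQcomm q z hz hne hc
      · exact hn z (by simp [hz, hne, hc]) hq z hz rfl
    have hallc : ∀ z ∈ D, Commute (q : G) z := by
      intro z hz
      by_cases hne : key z = key g
      · -- `z` is a conjugate of a member outside the class by another one
        obtain ⟨x, hx, hxne, hxz⟩ : ∃ x ∈ D, key x ≠ key g ∧ ¬Commute z x := by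
          by_contra hno
          push Not at hno
          -- then the members outside the class form an invariant set
          have hsub : ∀ w ∈ D, key w ≠ key g → w ∈ key g := fun w hw hw' =>
            hne ▸ F1 z hz w hw (hno w hw hw') (by rw [hne]; exact Ne.symm hw')
          have hinv : ∀ k : G, ∀ w ∈ D, key w ≠ key g → key (k * w * k⁻¹) ≠ key g := by
            intro k w hw hw'
            refine (Subgroup.closure_induction (p := fun k _ =>
              (∀ w ∈ D, key w ≠ key g → key (k * w * k⁻¹) ≠ key g) ∧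
                ∀ w ∈ D, key w ≠ key g → key (k⁻¹ * w * k) ≠ key g) ?_ ?_ ?_ ?_
              (hgen ▸ Subgroup.mem_top k : k ∈ Subgroup.closure D)).1 w hw hw'
            · intro d' hd'
              have hstep : ∀ w ∈ D, key w ≠ key g → key (d' * w * d') ≠ key g := by
                intro w hw hw'
                by_cases hc : Commute d' w
                · rwa [hc.eq, mul_assoc, hD.sq d' hd', mul_one]
                · by_cases hd'g : key d' = key g
                  · exact absurd (F2 g hg d' hd' hd'g.symm w (hsub w hw hw')) hc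
                  · intro hk
                    have h1 := F2 g hg _ (hD.cj_mem hd' hw) hk.symm d' (hsub d' hd' hd'g)
                    exact hD.not_commute_cj_left hd' hc h1.symm
              rw [hD.inv_eq hd']
              exact ⟨hstep, hstep⟩
            · simp
            · intro u v _ _ hu hv
              refine ⟨fun w hw hw' => ?_, fun w hw hw' => ?_⟩
              · simpa [mul_assoc] using hu.1 _ (hD.conj v w hw) (hv.1 w hw hw')
              · have := hD.conj u⁻¹ w hw
                rw [inv_inv] at this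
                simpa [mul_assoc] using hv.2 _ this (hu.2 w hw hw')
            · intro u _ hu
              rw [inv_inv]
              exact ⟨hu.2, hu.1⟩
          obtain ⟨t', ht', hT, -⟩ := hkey g hg
          have htk : t' ∈ key g := hT ▸ mem_comp_self _ _ _
          have hne' : key t' ≠ key g := fun e3 =>
            (hkey_link t' ht'.1 (e3 ▸ htk)).2.1 rfl
          obtain ⟨k, hk⟩ := hclass t' ht'.1 g hg
          exact hinv k t' ht'.1 hne' (by rw [hk])
        have hp := hD.cj_mem hz hx
        have hk2 : key (z * x * z) ≠ key g := hne ▸ hkey_ne z hz x hx hxz (hne ▸ hxne)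
        have hz' : z = (z * x * z) * x * (z * x * z) := by
          rw [hD.braid hz hx hxz]
          exact (hD.cj_conj_self hx hz fun h => hxz h.symm).symm
        rw [hz']
        exact ((hout _ hp hk2).mul_right (hout x hx hxne)).mul_right (hout _ hp hk2)
      · exact hout z hz hne
    have hcen : (q : G) ∈ Subgroup.center G := by
      rw [Subgroup.mem_center_iff]
      intro k
      have : k ∈ Subgroup.centralizer ({(q : G)} : Set G) :=
        (Subgroup.closure_le _).mpr (fun w hw => by
          rw [SetLike.mem_coe, Subgroup.mem_centralizer_singleton_iff]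
          exact (hallc w hw).symm.eq) (hgen ▸ Subgroup.mem_top k)
      exact Subgroup.mem_centralizer_singleton_iff.mp this
    have := eq_bot_of_solvable_normal hsol inferInstance
      (Group.isSolvable_of_comm fun u v => Subtype.ext ((Subgroup.mem_center_iff.mp v.2) u)) hcen
    exact Subtype.ext this
  -- a class with two members exists
  have hsolv := hD.keyKer_solvable hequiv hfix hclassSolv
  obtain ⟨k, hk⟩ := hclass e he d hd
  obtain ⟨w, hwl, hwk⟩ : ∃ w ∈ link D d, w ∉ key d := by
    by_contra h
    push Not at h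
    obtain ⟨t', ht', hT, -⟩ := hkey d hd
    have ha' : a ∈ lcomp D d t' := hT ▸ h a ha
    have hb' : b ∈ lcomp D d t' := hT ▸ h b hb
    refine hdisc ?_
    unfold lcomp at ha' hb' ⊢
    rwa [comp_eq_of_mem (fun _ _ h => NC.symm h) ha']
  have hwc := (hkey d hd).mem_cset_of_link hwl hwk
  have hkw := hkey_eq w hwl.1 _ ((hkey d hd).of_cset hmax hwc)
  have := eq_bot_of_solvable_normal hsol (hD.keyKer_normal hequiv) hsolv
    (mul_mem_keyKer hd hwl.1 hkw.symm)
  exact hwl.2.1 (by rw [← hD.inv_eq hd]; exact eq_inv_of_mul_eq_one_right this)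

end CfsgLib.ThreeTransp
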