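import Cfsg.Agent.Lib.ThreeTransp.Radical

/-!
# `V_d` and `W_d` as cosets of `O₂` and `O₃`
-/

set_option autoImplicit false

namespace CfsgLib.ThreeTransp

variable {G : Type*} [Group G] [Finite G] {D : Set G} {α : Type*} {key : G → α}

theorem IsTT.keyKer_isPGroup (hD : IsTT D) (p : ℕ) [Fact p.Prime] (he : Equivariant D key)
    (hk : KeyFixing D key)
    (hs : ∀ a ∈ D, IsPGroup p (Subgroup.closure (classProds D key (key a)))) :
    IsPGroup p (keyKer D key) := by
  set N := keyKer D key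
  have hle : ∀ c, Subgroup.closure (classProds D key c) ≤ N := by
    intro c
    refine Subgroup.closure_mono ?_
    rintro _ ⟨a, ha, b, hb, h1, h2, rfl⟩
    exact ⟨a, ha, b, hb, h1.trans h2.symm, rfl⟩
  have hnormal : ∀ c, ((Subgroup.closure (classProds D key c)).subgroupOf N).Normal := by
    refine fun c => ⟨fun x hx n => ?_⟩
    rw [Subgroup.mem_subgroupOf] at hx ⊢
    refine Subgroup.closure_induction (p := fun x _ =>
      (n : G) * x * (n : G)⁻¹ ∈ Subgroup.closure (classProds D key c)) ?_ ?_ ?_ ?_ hx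
    · rintro _ ⟨a, ha, b, hb, hac, hbc, rfl⟩
      refine Subgroup.subset_closure ⟨n * a * (n : G)⁻¹, hD.conj n a ha, n * b * (n : G)⁻¹,
        hD.conj n b hb, ?_, ?_, by group⟩
      · rw [hD.key_conj_of_mem_keyKer hk n.2 ha, hac]
      · rw [hD.key_conj_of_mem_keyKer hk n.2 hb, hbc]
    · simp
    · intro u v _ _ hu hv
      simpa [mul_assoc] using Subgroup.mul_mem _ hu hv
    · intro u _ hu
      simpa [mul_assoc] using Subgroup.inv_mem _ hu
  have hmain : N ≤ (Cfsg.pCore p N).map N.subtype := by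
    rw [show N = keyKer D key from rfl, keyKer, Subgroup.closure_le]
    rintro _ ⟨a, ha, b, hb, hab, rfl⟩
    have hmem : a * b ∈ Subgroup.closure (classProds D key (key a)) :=
      Subgroup.subset_closure ⟨a, ha, b, hb, rfl, hab.symm, rfl⟩
    haveI := hnormal (key a)
    exact ⟨⟨a * b, hle _ hmem⟩, CfsgLib.Cores.le_pCore
      ((hs a ha).of_equiv (Subgroup.subgroupOfEquivOfLe (hle _)).symm) hmem, rfl⟩
  exact ((CfsgLib.Cores.isPGroup_pCore p).map N.subtype).to_le hmain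

theorem IsTT.perpKer_isPGroup (hD : IsTT D) : IsPGroup 2 (keyKer D (perp D)) := by
  haveI : Fact (Nat.Prime 2) := ⟨Nat.prime_two⟩
  refine hD.keyKer_isPGroup 2 hD.equivariant_perp hD.keyFixing_perp fun a _ => ?_
  have hcomm : ∀ u ∈ {u | u ∈ D ∧ perp D u = perp D a}, ∀ v ∈ {u | u ∈ D ∧ perp D u = perp D a},
      Commute u v := fun u hu v hv => IsTT.perp_eq_commute hv.1 (hu.2.trans hv.2.symm)
  intro x
  refine ⟨1, Subtype.ext ?_⟩
  simp only [pow_one, SubmonoidClass.coe_pow, Subgroup.coe_one]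
  have hsol := x.2
  suffices h : (x : G) * x = 1 ∧ ∀ u ∈ D, perp D u = perp D a → Commute (x : G) u by
    rw [pow_two]; exact h.1
  refine Subgroup.closure_induction
    (p := fun x _ => x * x = 1 ∧ ∀ u ∈ D, perp D u = perp D a → Commute x u) ?_ ?_ ?_ ?_ hsol
  · rintro _ ⟨b, hb, c, hc, h1, h2, rfl⟩
    refine ⟨?_, fun u hu hu' => (hcomm b ⟨hb, h1⟩ u ⟨hu, hu'⟩).mul_left
      (hcomm c ⟨hc, h2⟩ u ⟨hu, hu'⟩)⟩
    rw [show b * c * (b * c) = b * (c * b) * c by group, ← (hcomm b ⟨hb, h1⟩ c ⟨hc, h2⟩).eq,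
      show b * (b * c) * c = (b * b) * (c * c) by group, hD.sq b hb, hD.sq c hc, one_mul]
  · exact ⟨by simp, fun u _ _ => Commute.one_left u⟩
  · intro u v _ hv hu' hv'
    refine ⟨?_, fun w hw hw' => (hu'.2 w hw hw').mul_left (hv'.2 w hw hw')⟩
    have huv : Commute u v := by
      refine Subgroup.closure_induction (p := fun v _ => Commute u v) ?_ (Commute.one_right u)
        (fun _ _ _ _ h1 h2 => h1.mul_right h2) (fun _ _ h1 => h1.inv_right) hv
      rintro _ ⟨b, hb, c, hc, h1, h2, rfl⟩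
      exact (hu'.2 b hb h1).mul_right (hu'.2 c hc h2)
    rw [show u * v * (u * v) = u * (v * u) * v by group, ← huv.eq,
      show u * (u * v) * v = (u * u) * (v * v) by group, hu'.1, hv'.1, one_mul]
  · intro u _ hu
    refine ⟨?_, fun w hw hw' => (hu.2 w hw hw').inv_left⟩
    rw [← mul_inv_rev, hu.1, inv_one]

theorem IsTT.linkKer_isPGroup (hD : IsTT D) : IsPGroup 3 (keyKer D (link D)) := by
  haveI : Fact (Nat.Prime 3) := ⟨Nat.prime_three⟩
  refine hD.keyKer_isPGroup 3 hD.equivariant_link hD.keyFixing_link fun a _ => ?_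
  set S := {b | b ∈ D ∧ link D b = link D a} with hSdef
  have hS : IsW1 S := by
    refine hD.mono_w1 (fun b hb => hb.1) ?_ ?_
    · intro b hb c hc hne hcom
      have : c ∈ link D b := ⟨hc.1, Ne.symm hne, hcom⟩
      rw [hb.2, ← hc.2] at this
      exact this.2.1 rfl
    · intro b hb c hc
      refine ⟨hD.cj_mem hb.1 hc.1, ?_⟩
      have := hD.equivariant_link b c hc.1 b hb.1 (hc.2.trans hb.2.symm)
      rw [hD.inv_eq hb.1] at this
      rw [this, ← hb.2]
      simp [mul_assoc, hD.sq b hb.1]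
  set T := Subgroup.closure S
  have hW : IsW1 ((↑) ⁻¹' S : Set T) := ⟨fun d hd => Subtype.ext (hS.sq _ hd),
    fun d hd e he => Subtype.ext (hS.braid _ hd _ he), fun d hd e he => hS.closed _ hd _ he⟩
  refine ((CfsgLib.Cores.isPGroup_pCore 3).map T.subtype).to_le ?_
  rw [Subgroup.closure_le]
  rintro _ ⟨b, hb, c, hc, h1, h2, rfl⟩
  have hbT : b ∈ T := Subgroup.subset_closure ⟨hb, h1⟩
  have hcT : c ∈ T := Subgroup.subset_closure ⟨hc, h2⟩
  exact ⟨⟨b, hbT⟩ * ⟨c, hcT⟩, hW.mul_mem_pCore Subgroup.closure_closure_coe_preimage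
    (a := ⟨b, hbT⟩) (b := ⟨c, hcT⟩) ⟨hb, h1⟩ ⟨hc, h2⟩, rfl⟩

/-- If `a` and `b` are in `D`, in the same coset of a normal 2-subgroup, then they commute. -/
theorem IsTT.commute_of_mem_pGroup_two (hD : IsTT D) {N : Subgroup G} (hN : IsPGroup 2 N) {a b : G}
    (ha : a ∈ D) (hb : b ∈ D) (h : a * b ∈ N) : Commute a b := by
  by_contra hc
  have h3 := pow_three_eq_one (hD.sq a ha) (hD.sq b hb) (hD.braid ha hb hc)
  obtain ⟨k, hk⟩ := hN ⟨a * b, h⟩
  have hk' : (a * b) ^ 2 ^ k = 1 := by simpa using congrArg Subtype.val hk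
  have h1 : orderOf (a * b) ∣ Nat.gcd 3 (2 ^ k) :=
    Nat.dvd_gcd (orderOf_dvd_of_pow_eq_one h3) (orderOf_dvd_of_pow_eq_one hk')
  rw [Nat.Coprime.pow_right k (by norm_num : Nat.Coprime 3 2), Nat.dvd_one, orderOf_eq_one_iff] at h1
  have hab : a = b := by rw [← hD.inv_eq hb]; exact eq_inv_of_mul_eq_one_left h1
  exact hc (hab ▸ Commute.refl a)

/-- Commuting members in the same coset of a normal 3-subgroup are equal. -/
theorem IsTT.eq_of_mem_pGroup_three (hD : IsTT D) {N : Subgroup G} (hN : IsPGroup 3 N) {a b : G}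
    (ha : a ∈ D) (hb : b ∈ D) (h : a * b ∈ N) (hc : Commute a b) : a = b := by
  have h2 : (a * b) ^ 2 = 1 := by
    rw [hc.mul_pow, pow_two, pow_two, hD.sq a ha, hD.sq b hb, one_mul]
  obtain ⟨k, hk⟩ := hN ⟨a * b, h⟩
  have hk' : (a * b) ^ 3 ^ k = 1 := by simpa using congrArg Subtype.val hk
  have h1 : orderOf (a * b) ∣ Nat.gcd 2 (3 ^ k) :=
    Nat.dvd_gcd (orderOf_dvd_of_pow_eq_one h2) (orderOf_dvd_of_pow_eq_one hk')
  rw [Nat.Coprime.pow_right k (by norm_num : Nat.Coprime 2 3), Nat.dvd_one, orderOf_eq_one_iff] at h1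
  rw [← hD.inv_eq hb]
  exact eq_inv_of_mul_eq_one_left h1

/-- Transitivity inside a class, given a member not commuting with `d`. -/
theorem IsTT.exists_conj_keyKer (hD : IsTT D) {d v x : G} (hd : d ∈ D) (hv : v ∈ D) (hx : x ∈ D)
    (hdx : ¬Commute d x) (hp : d * x * d = v ∨ ¬Commute (d * x * d) v) (hn : (keyKer D key).Normal)
    (hkey : key v = key d) : ∃ g ∈ keyKer D key, v = g * d * g⁻¹ := by
  obtain ⟨e1, e2⟩ := hD.transport hd hv hx hdx hp
  have hp2 := hD.sq _ (hD.cj_mem hd hx)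
  refine ⟨(d * x * d) * (v * d) * (d * x * d), ?_, ?_⟩
  · have := hn.conj_mem _ (mul_mem_keyKer hv hd hkey) (d * x * d)
    rwa [hD.inv_eq (hD.cj_mem hd hx)] at this
  · calc v = (d * x * d) * ((d * x * d) * v * (d * x * d)) * (d * x * d) := by
          generalize d * x * d = p at hp2
          simp [mul_assoc, cancel₂ hp2, hp2]
      _ = (d * x * d) * ((v * d) * ((d * x * d) * d * (d * x * d)) * (v * d)⁻¹) * (d * x * d) := by
          rw [← e1, e2]
      _ = _ := by
          have hpi := hD.inv_eq (hD.cj_mem hd hx)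
          generalize d * x * d = p at hpi
          simp only [mul_inv_rev, hpi, hD.inv_eq hd, hD.inv_eq hv, mul_assoc]

end CfsgLib.ThreeTransp
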