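import Cfsg.Agent.Lib.ThreeTransp.Four
import Cfsg.Agent.Lib.Invol.BaerSuzuki
import Cfsg.Agent.Lib.Cores.Basic

/-!
# Width-one sets generate solvable groups

No use of Glauberman's Z*-theorem: any product of two members generates a 3-group with each of
its conjugates (the four-point lemma), so Baer–Suzuki puts it into a normal 3-subgroup.
-/

set_option autoImplicit false

namespace CfsgLib.ThreeTransp

variable {G : Type*} [Group G] [Finite G]

/-- Solvable if solvable normal subgroup with solvable quotient. -/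
theorem isSolvable_of_normal (N : Subgroup G) [N.Normal] (hN : Group.IsSolvable N)
    (hQ : Group.IsSolvable (G ⧸ N)) : Group.IsSolvable G :=
  (Group.isSolvable_iff_subgroup_quotient N).mpr ⟨hN, hQ⟩

/-- In the group generated by a width-one set, all products of two members lie in a normal
3-subgroup. -/
theorem IsW1.mul_mem_pCore {S : Set G} (hS : IsW1 S) (hgen : Subgroup.closure S = ⊤) {a b : G}
    (ha : a ∈ S) (hb : b ∈ S) : a * b ∈ Cfsg.pCore 3 G := by
  haveI : Fact (Nat.Prime 3) := ⟨Nat.prime_three⟩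
  have hconj : ∀ g : G, ∀ s ∈ S, g * s * g⁻¹ ∈ S := by
    intro g
    have hg : g ∈ Subgroup.closure S := hgen ▸ Subgroup.mem_top g
    refine Subgroup.closure_induction (p := fun g _ =>
      (∀ s ∈ S, g * s * g⁻¹ ∈ S) ∧ ∀ s ∈ S, g⁻¹ * s * g ∈ S) ?_ ?_ ?_ ?_ hg |>.1
    · intro x hx
      rw [inv_eq_self (hS.sq x hx)]
      exact ⟨fun s hs => hS.closed x hx s hs, fun s hs => hS.closed x hx s hs⟩
    · simp
    · intro x y _ _ hx hy
      refine ⟨fun s hs => ?_, fun s hs => ?_⟩
      · simpa [mul_assoc] using hx.1 _ (hy.1 s hs)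
      · simpa [mul_assoc] using hy.2 _ (hx.2 s hs)
    · intro x _ hx
      rw [inv_inv]
      exact ⟨hx.2, hx.1⟩
  have hp3 : IsPGroup 3 (Subgroup.zpowers (a * b)) := by
    intro x
    obtain ⟨x, i, rfl⟩ := x
    refine ⟨1, Subtype.ext ?_⟩
    simp only [pow_one, SubmonoidClass.coe_pow, Subgroup.coe_one]
    rw [← zpow_natCast, ← zpow_mul, mul_comm, zpow_mul, zpow_natCast, hS.pow_three ha hb, one_zpow]
  have hpair : ∀ g : G, IsPGroup 3 ↥(Subgroup.zpowers (a * b) ⊔
      (Subgroup.zpowers (a * b)).map (MulAut.conj g).toMonoidHom) := by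
    intro g
    have hc := hconj g a ha
    have hd := hconj g b hb
    refine (hS.isPGroup_four ha hb hc hd).to_le (sup_le ?_ ?_)
    · rw [Subgroup.zpowers_le]
      exact Subgroup.subset_closure (Set.mem_insert _ _)
    · rw [MonoidHom.map_zpowers, Subgroup.zpowers_le]
      have e : (MulAut.conj g).toMonoidHom (a * b)
          = (a * (g * a * g⁻¹))⁻¹ * (a * (g * b * g⁻¹)) := by
        show g * (a * b) * g⁻¹ = _
        rw [mul_inv_rev, inv_eq_self (hS.sq a ha), inv_eq_self (hS.sq _ hc)]
        simp [mul_assoc, cancel₂ (hS.sq a ha)]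
      rw [e]
      exact Subgroup.mul_mem _
        (Subgroup.inv_mem _ (Subgroup.subset_closure (by simp)))
        (Subgroup.subset_closure (by simp))
  obtain ⟨N, hN, hNp, hle⟩ := CfsgLib.Invol.baer_suzuki _ hp3 hpair
  exact CfsgLib.Cores.le_pCore hNp (hle (Subgroup.mem_zpowers _))

/-- A finite group generated by a width-one set is solvable. -/
theorem IsW1.isSolvable_of_gen {S : Set G} (hS : IsW1 S) (hgen : Subgroup.closure S = ⊤) :
    Group.IsSolvable G := by
  haveI : Fact (Nat.Prime 3) := ⟨Nat.prime_three⟩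
  refine isSolvable_of_normal (Cfsg.pCore 3 G) ?_ ?_
  · haveI := (CfsgLib.Cores.isPGroup_pCore (G := G) 3).isNilpotent
    infer_instance
  · apply Group.isSolvable_of_comm
    have hgen' : Subgroup.closure (QuotientGroup.mk' (Cfsg.pCore 3 G) '' S) = ⊤ := by
      rw [← MonoidHom.map_closure, hgen]
      exact Subgroup.map_top_of_surjective _ (QuotientGroup.mk'_surjective _)
    have hco : ∀ x ∈ QuotientGroup.mk' (Cfsg.pCore 3 G) '' S,
        ∀ y ∈ QuotientGroup.mk' (Cfsg.pCore 3 G) '' S, x * y = y * x := by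
      rintro _ ⟨a, ha, rfl⟩ _ ⟨b, hb, rfl⟩
      have : QuotientGroup.mk' (Cfsg.pCore 3 G) a = QuotientGroup.mk' (Cfsg.pCore 3 G) b := by
        show (a : G ⧸ Cfsg.pCore 3 G) = (b : G ⧸ Cfsg.pCore 3 G)
        rw [QuotientGroup.eq, inv_eq_self (hS.sq a ha)]
        exact hS.mul_mem_pCore hgen ha hb
      rw [this]
    intro x y
    have h1 : ∀ z ∈ QuotientGroup.mk' (Cfsg.pCore 3 G) '' S, z * x = x * z := by
      intro z hz
      have : x ∈ Subgroup.centralizer ({z} : Set (G ⧸ Cfsg.pCore 3 G)) := by
        refine (Subgroup.closure_le _).mpr ?_ (hgen' ▸ Subgroup.mem_top x)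
        intro w hw
        rw [SetLike.mem_coe, Subgroup.mem_centralizer_singleton_iff]
        exact hco w hw z hz
      exact (Subgroup.mem_centralizer_singleton_iff.mp this).symm
    have : y ∈ Subgroup.centralizer ({x} : Set (G ⧸ Cfsg.pCore 3 G)) := by
      refine (Subgroup.closure_le _).mpr ?_ (hgen' ▸ Subgroup.mem_top y)
      intro w hw
      rw [SetLike.mem_coe, Subgroup.mem_centralizer_singleton_iff]
      exact h1 w hw
    exact (Subgroup.mem_centralizer_singleton_iff.mp this).symm

/-- The subgroup generated by a width-one set is solvable. -/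
theorem IsW1.isSolvable_closure {S : Set G} (hS : IsW1 S) :
    Group.IsSolvable (Subgroup.closure S) := by
  refine IsW1.isSolvable_of_gen (S := ((↑) : Subgroup.closure S → G) ⁻¹' S) ?_
    Subgroup.closure_closure_coe_preimage
  exact ⟨fun d hd => Subtype.ext (hS.sq _ hd),
    fun d hd e he => Subtype.ext (hS.braid _ hd _ he), fun d hd e he => hS.closed _ hd _ he⟩

end CfsgLib.ThreeTransp
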