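import Cfsg.Agent.Lib.ThreeTransp.PrimLink
import Cfsg.Agent.Lib.ThreeTransp.Factor.Types
import Cfsg.Agent.Lib.ThreeTransp.M22Unique

/-!
# Groups of type `M(23)`: the links as groups of type `M(22)`

For a primitive class of 3-transpositions of type `M(23)` the group of the link of every member, modulo its
centre, is with the image of the link a primitive 3-transposition group of type `M(22)`.
-/

set_option autoImplicit false

namespace CfsgLib.M23

open CfsgLib.ThreeTransp CfsgLib.SporMisc CfsgLib.ThreeTransp.Factor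

section Transport

variable {A B : Type*} [Group A] [Group B]

/-- Isomorphic groups have isomorphic quotients by their centres. -/
noncomputable def centralQuotEquiv (e : A ≃* B) : A ⧸ Subgroup.center A ≃* B ⧸ Subgroup.center B :=
  QuotientGroup.congr _ _ e (Subgroup.ext fun x => by
    simp only [Subgroup.mem_map, MonoidHom.coe_coe, Subgroup.mem_center_iff]
    refine ⟨fun ⟨y, hy, hyx⟩ g => ?_, fun h => ⟨e.symm x, fun g => ?_, by simp⟩⟩
    · subst hyx; exact e.symm.injective (by simpa using hy (e.symm g))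
    · exact e.injective (by simpa using h (e g)))

/-- Generated subgroups of corresponding sets, modulo their centres, are isomorphic. -/
theorem closureQuotEquiv (e : A ≃* B) {S : Set A} {T : Set B} (h : e '' S = T) :
    Nonempty (↥(Subgroup.closure T) ⧸ Subgroup.center ↥(Subgroup.closure T) ≃*
      ↥(Subgroup.closure S) ⧸ Subgroup.center ↥(Subgroup.closure S)) := by
  have hmap : (Subgroup.closure S).map e.toMonoidHom = Subgroup.closure T := by
    rw [MonoidHom.map_closure]; exact congrArg Subgroup.closure h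
  exact ⟨(centralQuotEquiv ((e.subgroupMap _).trans (MulEquiv.subgroupCongr hmap))).symm⟩

theorem image_link (e : A ≃* B) (E : Set A) (a : A) : e '' link E a = link (e '' E) (e a) := by
  ext x
  constructor
  · rintro ⟨y, ⟨h1, h2, h3⟩, rfl⟩
    exact ⟨⟨y, h1, rfl⟩, fun h => h2 (e.injective h), h3.map e⟩
  · rintro ⟨⟨y, hy, rfl⟩, h2, h3⟩
    exact ⟨y, ⟨hy, fun h => h2 (by rw [h]), by simpa using h3.map e.symm⟩, rfl⟩

/-- Being of type `M(22)` is invariant under isomorphism. -/
theorem isOfTypeM22_equiv (e : A ≃* B) {E : Set A} {E' : Set B} (hE : e '' E = E')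
    (h : Cfsg.IsOfTypeM22 A E) : Cfsg.IsOfTypeM22 B E' := by
  obtain ⟨hZ, d, hd, c, hc, hdc, ⟨F, iF, iF', hF, ⟨f⟩⟩, c₃, hc₃, Q, hQ, hμ, ⟨g⟩⟩ := h
  subst hE
  refine ⟨?_, e d, ⟨d, hd, rfl⟩, e c, ⟨c, hc, rfl⟩, fun hh => hdc (by simpa using hh.map e.symm),
    ⟨F, iF, iF', hF, ?_⟩, c₃, hc₃, Q, hQ, hμ, ?_⟩
  · rw [eq_bot_iff]
    intro z hz
    have : e.symm z ∈ Subgroup.center A := Subgroup.mem_center_iff.2 fun g =>
      e.injective (by simpa using Subgroup.mem_center_iff.1 hz (e g))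
    rw [hZ, Subgroup.mem_bot] at this
    exact Subgroup.mem_bot.2 (by simpa using congrArg e this)
  · obtain ⟨k⟩ := closureQuotEquiv e (image_link e E d)
    exact ⟨k.trans f⟩
  · obtain ⟨k⟩ := closureQuotEquiv e (S := link E d ∩ link E c)
      (T := link (e '' E) (e d) ∩ link (e '' E) (e c)) (by
        rw [Set.image_inter e.injective, image_link, image_link])
    exact ⟨k.trans g⟩

end Transport

variable {G : Type*} [Group G]

/-- The group of the link of `a` modulo its centre. -/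
abbrev Q (D : Set G) (a : G) : Type _ := ↥(linkSub D a) ⧸ Subgroup.center ↥(linkSub D a)

/-- The image of the link of `a` in `Q D a`. -/
abbrev E (D : Set G) (a : G) : Set (Q D a) := qSet (linkIn D a)

/-- The part of the type `M(23)` used below: trivial centre, and for some non-commuting pair the link quotient of
the first member is of type `M(22)` and the common neighbours generate an insoluble group. -/
def TypeCore (G : Type*) [Group G] (D : Set G) : Prop :=
  Subgroup.center G = ⊥ ∧ ∃ d ∈ D, ∃ c ∈ D, ¬ Commute d c ∧ Cfsg.IsOfTypeM22 (Q D d) (E D d) ∧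
    ¬ Group.IsSolvable (Subgroup.closure (link D d ∩ link D c))

theorem TypeCore.of_type [Finite G] {D : Set G} (h : Cfsg.IsOfTypeM23 G D) : TypeCore G D := by
  obtain ⟨hZ, d, hd, c, hc, hdc, hM, c₃, hc₃, hL⟩ := h
  exact ⟨hZ, d, hd, c, hc, hdc, hM,
    fun hs => not_solvable_of_proj (by norm_num) hc₃ hL (isSolvable_quot hs)⟩

/-- The hypotheses: a primitive generating class of 3-transpositions of type `M(23)`. -/
structure Setup (D : Set G) : Prop where
  tt : IsTT D
  gen : Subgroup.closure D = ⊤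
  prim : Cfsg.IsPrimitiveUnderConj D
  type : TypeCore G D
  hyp : PrimHyp D
  fisch : FischerHyp D

theorem Setup.of_group [Finite G] {D : Set G} (hD : Cfsg.IsThreeTranspositionGroup D)
    (hp : Cfsg.IsPrimitiveUnderConj D) (ht : Cfsg.IsOfTypeM23 G D) : Setup D :=
  ⟨IsTT.of_group hD, hD.2.2, hp, TypeCore.of_type ht, (m23_facts hD hp ht).1, (m23_facts hD hp ht).2.1⟩

/-- The image of a member of the link in the quotient. -/
def pj {D : Set G} {a e : G} (he : e ∈ link D a) : Q D a :=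
  ((⟨e, Subgroup.subset_closure he⟩ : ↥(linkSub D a)) : Q D a)

theorem pj_mem {D : Set G} {a e : G} (he : e ∈ link D a) : pj he ∈ E D a :=
  ⟨⟨e, Subgroup.subset_closure he⟩, he, rfl⟩

variable {D : Set G}

namespace Setup

variable (S : Setup D)
include S

theorem cls {a b : G} (ha : a ∈ D) (hb : b ∈ D) : ∃ g : G, g * a * g⁻¹ = b := S.prim.1 a ha b hb

theorem sqd {a : G} (ha : a ∈ D) : a * a = 1 := S.tt.sq a ha

theorem exists_noncommuting : ∃ a ∈ D, ∃ b ∈ D, ¬Commute a b := by
  obtain ⟨-, d, hd, c, hc, hdc, -⟩ := S.type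
  exact ⟨d, hd, c, hc, hdc⟩

theorem link_conj_fix {a z : G} (hz : Commute z a) {e : G} (he : e ∈ link D a) :
    z * e * z⁻¹ ∈ link D a := by
  have := link_conj S.tt z he
  rwa [hz.eq, mul_inv_cancel_right] at this

variable [Finite G]

omit [Finite G] in
/-- Every link quotient is of type `M(22)`. -/
theorem link_type {a : G} (ha : a ∈ D) : Cfsg.IsOfTypeM22 (Q D a) (E D a) := by
  obtain ⟨-, d, hd, c, -, -, hM, -⟩ := S.type
  obtain ⟨g, hg⟩ := S.cls hd ha
  have himg : (MulAut.conj g).toMonoidHom '' link D d = link D a := by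
    ext x
    constructor
    · rintro ⟨y, hy, rfl⟩
      exact hg ▸ link_conj S.tt g hy
    · intro hx
      exact ⟨g⁻¹ * x * g, (link_conj_iff S.tt g).1 (hg.symm ▸ hx), by simp [mul_assoc]⟩
  have hmap : (linkSub D d).map (MulAut.conj g).toMonoidHom = linkSub D a := by
    rw [MonoidHom.map_closure, himg]
  let φ : ↥(linkSub D d) ≃* ↥(linkSub D a) :=
    ((MulAut.conj g).subgroupMap _).trans (MulEquiv.subgroupCongr hmap)
  refine isOfTypeM22_equiv (centralQuotEquiv φ) ?_ hM
  ext z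
  constructor
  · rintro ⟨_, ⟨x, hx, rfl⟩, rfl⟩
    refine ⟨φ x, ?_, rfl⟩
    have := link_conj S.tt g (show (x : G) ∈ link D d from hx)
    rwa [hg] at this
  · rintro ⟨y, hy, rfl⟩
    refine ⟨(φ.symm y : Q D d), ⟨φ.symm y, ?_, rfl⟩, ?_⟩
    · show (φ.symm y : G) ∈ link D d
      have h1 : g * (φ.symm y : G) * g⁻¹ = (y : G) := congrArg Subtype.val (φ.apply_symm_apply y)
      have h0 : (y : G) ∈ link D (g * d * g⁻¹) := by rw [hg]; exact hy
      have h2 := (link_conj_iff S.tt g).1 h0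
      rw [← h1] at h2
      simpa [mul_assoc] using h2
    · show centralQuotEquiv φ ((φ.symm y : ↥(linkSub D d)) : Q D d) = (y : Q D a)
      simp [centralQuotEquiv]

theorem link_ttc {a : G} (ha : a ∈ D) : TTC (linkIn D a) := by
  obtain ⟨-, u, hu, v, hv, huv, -⟩ := S.link_type ha
  exact S.hyp.link_ttc ha (nontriv_of_qSet hu hv fun e => huv (e ▸ Commute.refl _))

theorem link_conn {a : G} (ha : a ∈ D) : ∀ x ∈ linkIn D a, ∀ y ∈ linkIn D a,
    comp (linkIn D a) Commute x = comp (linkIn D a) Commute y := by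
  obtain ⟨-, d, hd, c, hc, hdc, -, hns⟩ := S.type
  exact linkIn_connected S.tt ha fun x hx y hy hxy =>
    not_solvable_pair S.fisch hd hc hdc hns hx hy hxy

theorem link_setup {a : G} (ha : a ∈ D) : M22.Setup (E D a) := by
  have hl := S.link_ttc ha
  have hq := qSet_ttc hl
  have hM := S.link_type ha
  refine ⟨hq.tt, hq.gen, ?_, M22.TypeCore.of_type hM⟩
  obtain ⟨-, d', hd', c', -, -, ⟨F, hF₁, hF₂, hF, ⟨e⟩⟩, -⟩ := hM
  haveI : IsSimpleGroup (Cfsg.PSU 6 F 2) :=
    CfsgLib.Classical.Unitary.isSimpleGroup_PSU (by rw [hF]; norm_num) (by norm_num) (by norm_num)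
  haveI : Nontrivial (↥(linkSub (E D a) d') ⧸ Subgroup.center ↥(linkSub (E D a) d')) :=
    e.toEquiv.nontrivial
  refine primitive_of_simple_link hq hd'
    (IsSimpleGroup.isSimpleGroup_of_surjective e.symm.toMonoidHom e.symm.surjective) ?_
  rintro _ ⟨x, hx, rfl⟩ _ ⟨y, hy, rfl⟩
  refine (comp_eq_of_mem (fun _ _ hh => hh.symm) ?_).symm
  have hyx : y ∈ comp (linkIn D a) Commute x :=
    S.link_conn ha x hx y hy ▸ mem_comp_self _ _ _
  exact Relation.ReflTransGen.lift (p := fun u v => u ∈ E D a ∧ v ∈ E D a ∧ Commute u v) _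
    (fun u v huv => ⟨⟨u, huv.1, rfl⟩, ⟨v, huv.2.1, rfl⟩,
      (q_commute hl huv.1 huv.2.1).2 huv.2.2⟩) _ _ hyx

theorem pj_inj {a e f : G} (ha : a ∈ D) (he : e ∈ link D a) (hf : f ∈ link D a)
    (h : pj he = pj hf) : e = f :=
  congrArg Subtype.val (q_inj (S.link_ttc ha) (show (⟨e, _⟩ : ↥(linkSub D a)) ∈ linkIn D a from he)
    (show (⟨f, _⟩ : ↥(linkSub D a)) ∈ linkIn D a from hf) h)

theorem pj_comm {a e f : G} (ha : a ∈ D) (he : e ∈ link D a) (hf : f ∈ link D a) :
    Commute (pj he) (pj hf) ↔ Commute e f :=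
  (q_commute (S.link_ttc ha) (show (⟨e, _⟩ : ↥(linkSub D a)) ∈ linkIn D a from he)
    (show (⟨f, _⟩ : ↥(linkSub D a)) ∈ linkIn D a from hf)).trans commute_coe_iff.symm

theorem pj_link {a e f : G} (ha : a ∈ D) (he : e ∈ link D a) (hf : f ∈ link D a) :
    pj hf ∈ link (E D a) (pj he) ↔ f ∈ link D e := by
  constructor
  · rintro ⟨-, h2, h3⟩
    exact ⟨hf.1, fun h => h2 (by subst h; rfl), (S.pj_comm ha he hf).1 h3⟩
  · rintro ⟨-, h2, h3⟩
    exact ⟨pj_mem hf, fun h => h2 (S.pj_inj ha hf he h), (S.pj_comm ha he hf).2 h3⟩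

omit S [Finite G] in
theorem pj_surj {a : G} {q : Q D a} (hq : q ∈ E D a) : ∃ (e : G) (he : e ∈ link D a), pj he = q := by
  obtain ⟨x, hx, rfl⟩ := hq
  exact ⟨x, hx, rfl⟩

theorem pj_conj {a e f : G} (ha : a ∈ D) (he : e ∈ link D a) (hf : f ∈ link D a) :
    ∃ h : e * f * e ∈ link D a, pj h = pj he * pj hf * pj he := by
  have h := S.link_conj_fix he.2.2.symm hf
  rw [S.tt.inv_eq he.1] at h
  exact ⟨h, rfl⟩

/-- Counting in a link through its quotient. -/
theorem card_transfer {a : G} (ha : a ∈ D) (P : G → Prop) (P' : Q D a → Prop)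
    (h : ∀ (e : G) (he : e ∈ link D a), P e ↔ P' (pj he)) :
    {e | e ∈ link D a ∧ P e}.ncard = {q | q ∈ E D a ∧ P' q}.ncard := by
  refine Set.ncard_congr (fun e he => pj he.1) (fun e he => ⟨pj_mem he.1, (h e he.1).1 he.2⟩)
    (fun e f he hf => S.pj_inj ha he.1 hf.1) ?_
  rintro q ⟨hq, hP⟩
  obtain ⟨e, he, rfl⟩ := pj_surj hq
  exact ⟨e, ⟨he, (h e he).2 hP⟩, rfl⟩

end Setup

end CfsgLib.M23
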