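import Mathlib
import Cfsg.Prelude.Def_SporadicB

/-!
# Sets of 3-transpositions: basic identities
-/

set_option autoImplicit false

namespace CfsgLib.ThreeTransp

variable {G : Type*} [Group G]

/-- A set of involutions, invariant under conjugation, in which any two members commute or
satisfy the braid relation. -/
structure IsTT (D : Set G) : Prop where
  sq : ∀ d ∈ D, d * d = 1
  ne_one : ∀ d ∈ D, d ≠ 1
  cond : ∀ d ∈ D, ∀ e ∈ D, Commute d e ∨ d * e * d = e * d * e
  conj : ∀ (g : G), ∀ d ∈ D, g * d * g⁻¹ ∈ D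

/-- A width-one set: involutions closed under mutual conjugation, any two braided. -/
structure IsW1 (S : Set G) : Prop where
  sq : ∀ d ∈ S, d * d = 1
  braid : ∀ d ∈ S, ∀ e ∈ S, d * e * d = e * d * e
  closed : ∀ d ∈ S, ∀ e ∈ S, d * e * d ∈ S

theorem inv_eq_self {d : G} (h : d * d = 1) : d⁻¹ = d :=
  inv_eq_of_mul_eq_one_right h

theorem cancel₂ {d : G} (h : d * d = 1) (x : G) : d * (d * x) = x := by
  rw [← mul_assoc, h, one_mul]

theorem pow_three_eq_one {d e : G} (hd : d * d = 1) (he : e * e = 1)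
    (h : d * e * d = e * d * e) : (d * e) ^ 3 = 1 := by
  have : (d * e) ^ 3 = (d * e * d) * (e * d * e) := by
    rw [pow_succ, pow_succ, pow_one]; simp [mul_assoc]
  rw [this, ← h]
  simp [mul_assoc, cancel₂ hd, cancel₂ he, hd]

theorem braid_of_pow_three {d e : G} (hd : d * d = 1) (he : e * e = 1)
    (h : (d * e) ^ 3 = 1) : d * e * d = e * d * e := by
  have h1 : (d * e * d) * (e * d * e) = 1 := by
    rw [← h, pow_succ, pow_succ, pow_one]; simp [mul_assoc]
  have h2 : (e * d * e) * (e * d * e) = 1 := by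
    simp [mul_assoc, cancel₂ hd, cancel₂ he, he]
  exact mul_right_cancel (h1.trans h2.symm)

/-- For braided involutions, `d*e*d` conjugates `d` to `e`. -/
theorem cj_cj {d e : G} (hd : d * d = 1) (he : e * e = 1) (h : d * e * d = e * d * e) :
    (d * e * d) * d * (d * e * d) = e := by
  calc (d * e * d) * d * (d * e * d) = (d * e * d) * (e * d) := by
        simp [mul_assoc, cancel₂ hd]
    _ = (e * d * e) * (e * d) := by rw [h]
    _ = e := by simp [mul_assoc, cancel₂ hd, cancel₂ he, hd]

theorem isTT_of_class [Finite G] {D : Set G} (hD : Cfsg.IsThreeTranspositionClass D) :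
    IsTT D := by
  obtain ⟨⟨h2, h3⟩, ⟨d₀, hd₀, hcl⟩, -⟩ := hD
  have hsq : ∀ d ∈ D, d * d = 1 := by
    intro d hd
    rw [← sq, ← h2 d hd, pow_orderOf_eq_one]
  refine ⟨hsq, ?_, ?_, ?_⟩
  · intro d hd h1
    have := h2 d hd
    rw [h1, orderOf_one] at this
    omega
  · intro d hd e he
    rcases h3 d hd e he with h | h
    · refine Or.inl ?_
      have h' : (d * e)⁻¹ = d * e := inv_eq_of_mul_eq_one_right (by rw [← sq]; exact h)
      rw [mul_inv_rev, inv_eq_self (hsq d hd), inv_eq_self (hsq e he)] at h'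
      exact h'.symm
    · exact Or.inr (braid_of_pow_three (hsq d hd) (hsq e he) h)
  · intro g d hd
    rw [hcl] at hd ⊢
    exact (show IsConj d₀ d from hd).trans (isConj_iff.mpr ⟨g, rfl⟩)

namespace IsTT

variable {D : Set G} (hD : IsTT D)
include hD

theorem inv_eq {d : G} (hd : d ∈ D) : d⁻¹ = d := inv_eq_self (hD.sq d hd)

theorem cj_mem {d e : G} (hd : d ∈ D) (he : e ∈ D) : d * e * d ∈ D := by
  have := hD.conj d e he
  rwa [hD.inv_eq hd] at this

theorem braid {d e : G} (hd : d ∈ D) (he : e ∈ D) (h : ¬Commute d e) :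
    d * e * d = e * d * e :=
  (hD.cond d hd e he).resolve_left h

theorem commute_cj_iff {d e z : G} (hd : d ∈ D) (hz : Commute z d) :
    Commute z (d * e * d) ↔ Commute z e := by
  constructor
  · intro h
    have h' : Commute z (d * (d * e * d) * d) := (hz.mul_right h).mul_right hz
    simpa [mul_assoc, cancel₂ (hD.sq d hd), hD.sq d hd] using h'
  · intro h
    exact (hz.mul_right h).mul_right hz

theorem not_commute_cj_left {d e : G} (hd : d ∈ D) (h : ¬Commute d e) :
    ¬Commute d (d * e * d) := fun hc =>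
  h ((hD.commute_cj_iff hd (Commute.refl d)).mp hc)

theorem not_commute_cj_right {d e : G} (hd : d ∈ D) (he : e ∈ D) (h : ¬Commute d e) :
    ¬Commute e (d * e * d) := by
  rw [hD.braid hd he h]
  intro hc
  exact h ((hD.commute_cj_iff he (Commute.refl e)).mp hc).symm

theorem cj_conj_self {d e : G} (hd : d ∈ D) (he : e ∈ D) (h : ¬Commute d e) :
    (d * e * d) * d * (d * e * d) = e :=
  cj_cj (hD.sq d hd) (hD.sq e he) (hD.braid hd he h)

theorem mono_w1 {S : Set G} (hS : S ⊆ D) (hpair : ∀ d ∈ S, ∀ e ∈ S, d ≠ e → ¬Commute d e)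
    (hcl : ∀ d ∈ S, ∀ e ∈ S, d * e * d ∈ S) : IsW1 S := by
  refine ⟨fun d hd => hD.sq d (hS hd), fun d hd e he => ?_, hcl⟩
  by_cases h : d = e
  · subst h; rfl
  · exact hD.braid (hS hd) (hS he) (hpair d hd e he h)

end IsTT

end CfsgLib.ThreeTransp
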