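import Cfsg.Agent.Lib.ThreeTransp.Solv

/-!
# Equivariant partitions of a set of 3-transpositions

A `key` on `D` is equivariant when equality of keys is invariant under conjugation.  If products
of two members with equal key preserve all keys, the subgroup they generate is normal, and it is
solvable as soon as each class generates a solvable product group.
-/

set_option autoImplicit false

namespace CfsgLib.ThreeTransp

variable {G : Type*} [Group G]

/-- The members commuting with `a` (including `a`). -/
def perp (D : Set G) (a : G) : Set G := {e | e ∈ D ∧ Commute a e}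

/-- The other members commuting with `a`. -/
def link (D : Set G) (a : G) : Set G := {e | e ∈ D ∧ e ≠ a ∧ Commute a e}

/-- Products of two members in the class `c`. -/
def classProds {α : Type*} (D : Set G) (key : G → α) (c : α) : Set G :=
  {q | ∃ a ∈ D, ∃ b ∈ D, key a = c ∧ key b = c ∧ q = a * b}

/-- The subgroup generated by all products of two members with equal key. -/
def keyKer {α : Type*} (D : Set G) (key : G → α) : Subgroup G :=
  Subgroup.closure {q | ∃ a ∈ D, ∃ b ∈ D, key a = key b ∧ q = a * b}

/-- Equality of keys is invariant under conjugation. -/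
def Equivariant {α : Type*} (D : Set G) (key : G → α) : Prop :=
  ∀ (g : G), ∀ a ∈ D, ∀ b ∈ D, key a = key b → key (g * a * g⁻¹) = key (g * b * g⁻¹)

/-- Products of two members with equal key fix every key. -/
def KeyFixing {α : Type*} (D : Set G) (key : G → α) : Prop :=
  ∀ a ∈ D, ∀ b ∈ D, key a = key b → ∀ y ∈ D, key ((a * b) * y * (a * b)⁻¹) = key y

theorem mul_mem_keyKer {α : Type*} {D : Set G} {key : G → α} {a b : G} (ha : a ∈ D) (hb : b ∈ D)
    (h : key a = key b) : a * b ∈ keyKer D key :=
  Subgroup.subset_closure ⟨a, ha, b, hb, h, rfl⟩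

namespace IsTT

variable {D : Set G} (hD : IsTT D) {α : Type*} {key : G → α}
include hD

theorem keyKer_normal (he : Equivariant D key) : (keyKer D key).Normal := by
  refine normal_closure_of_invariant ?_
  rintro g _ ⟨a, ha, b, hb, hab, rfl⟩
  exact ⟨g * a * g⁻¹, hD.conj g a ha, g * b * g⁻¹, hD.conj g b hb, he g a ha b hb hab, by group⟩

theorem key_conj_of_mem_keyKer (hk : KeyFixing D key) {n : G} (hn : n ∈ keyKer D key)
    {y : G} (hy : y ∈ D) : key (n * y * n⁻¹) = key y := by
  suffices h : (∀ y ∈ D, key (n * y * n⁻¹) = key y) ∧ ∀ y ∈ D, key (n⁻¹ * y * n) = key y from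
    h.1 y hy
  refine Subgroup.closure_induction (p := fun n _ =>
    (∀ y ∈ D, key (n * y * n⁻¹) = key y) ∧ ∀ y ∈ D, key (n⁻¹ * y * n) = key y) ?_ ?_ ?_ ?_ hn
  · rintro _ ⟨a, ha, b, hb, hab, rfl⟩
    refine ⟨hk a ha b hb hab, fun y hy => ?_⟩
    have := hk b hb a ha hab.symm y hy
    rw [mul_inv_rev, hD.inv_eq ha, hD.inv_eq hb] at this ⊢
    exact this
  · simp
  · intro u v _ _ hu hv
    refine ⟨fun y hy => ?_, fun y hy => ?_⟩
    · rw [show u * v * y * (u * v)⁻¹ = u * (v * y * v⁻¹) * u⁻¹ by group,
        hu.1 _ (hD.conj v y hy), hv.1 y hy]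
    · have := hD.conj u⁻¹ y hy
      rw [inv_inv] at this
      rw [show (u * v)⁻¹ * y * (u * v) = v⁻¹ * (u⁻¹ * y * u) * v by group,
        hv.2 _ this, hu.2 y hy]
  · intro u _ hu
    rw [inv_inv]
    exact ⟨hu.2, hu.1⟩

theorem keyKer_solvable [Finite G] (he : Equivariant D key) (hk : KeyFixing D key)
    (hs : ∀ a ∈ D, Group.IsSolvable (Subgroup.closure (classProds D key (key a)))) :
    Group.IsSolvable (keyKer D key) := by
  classical
  haveI := Fintype.ofFinite G
  set F : Finset α := (Finset.univ.filter fun a : G => a ∈ D).image key with hF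
  have hnorm : ∀ c : α, keyKer D key ≤
      Subgroup.normalizer (Subgroup.closure (classProds D key c) : Set G) := by
    intro c
    have hmap : ∀ n ∈ keyKer D key, ∀ x ∈ Subgroup.closure (classProds D key c),
        n * x * n⁻¹ ∈ Subgroup.closure (classProds D key c) := by
      intro n hn x hx
      refine Subgroup.closure_induction
        (p := fun x _ => n * x * n⁻¹ ∈ Subgroup.closure (classProds D key c)) ?_ ?_ ?_ ?_ hx
      · rintro _ ⟨a, ha, b, hb, hac, hbc, rfl⟩
        refine Subgroup.subset_closure ⟨n * a * n⁻¹, hD.conj n a ha, n * b * n⁻¹,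
          hD.conj n b hb, ?_, ?_, by group⟩
        · rw [hD.key_conj_of_mem_keyKer hk hn ha, hac]
        · rw [hD.key_conj_of_mem_keyKer hk hn hb, hbc]
      · simp
      · intro u v _ _ hu hv
        simpa [mul_assoc] using Subgroup.mul_mem _ hu hv
      · intro u _ hu
        simpa [mul_assoc] using Subgroup.inv_mem _ hu
    intro n hn
    rw [Subgroup.mem_normalizer_iff]
    intro x
    refine ⟨fun hx => hmap n hn x hx, fun hx => ?_⟩
    have := hmap n⁻¹ (Subgroup.inv_mem _ hn) _ hx
    simpa [mul_assoc] using this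
  have hle : ∀ c : α, Subgroup.closure (classProds D key c) ≤ keyKer D key := by
    intro c
    refine Subgroup.closure_mono ?_
    rintro _ ⟨a, ha, b, hb, h1, h2, rfl⟩
    exact ⟨a, ha, b, hb, h1.trans h2.symm, rfl⟩
  have hsup : keyKer D key ≤ ⨆ c ∈ F, Subgroup.closure (classProds D key c) := by
    rw [keyKer, Subgroup.closure_le]
    rintro _ ⟨a, ha, b, hb, hab, rfl⟩
    have hc : key a ∈ F := Finset.mem_image.mpr ⟨a, by simp [ha], rfl⟩
    exact (le_iSup₂ (f := fun c (_ : c ∈ F) => Subgroup.closure (classProds D key c)) _ hc)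
      (Subgroup.subset_closure ⟨a, ha, b, hb, rfl, hab.symm, rfl⟩)
  refine isSolvable_mono hsup (isSolvable_iSup_finset _ F ?_ ?_)
  · intro c hc
    obtain ⟨a, ha, rfl⟩ := Finset.mem_image.mp hc
    exact hs a (by simpa using ha)
  · exact fun i _ j _ => (hle i).trans (hnorm j)

/-- The basic three-member identity: if `g` and `x` do not commute and `p = g x g` is equal to
`h` or does not commute with it, then `h g` moves `x` to `p h p`, while `p` moves `g` to `x`. -/
theorem transport {g h x : G} (hg : g ∈ D) (hh : h ∈ D) (hx : x ∈ D) (hgx : ¬Commute g x)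
    (hp : g * x * g = h ∨ ¬Commute (g * x * g) h) :
    (h * g) * x * (h * g)⁻¹ = (g * x * g) * h * (g * x * g) ∧
      (g * x * g) * g * (g * x * g) = x := by
  have hpD := hD.cj_mem hg hx
  refine ⟨?_, hD.cj_conj_self hg hx hgx⟩
  have e : (h * g) * x * (h * g)⁻¹ = h * (g * x * g) * h := by
    rw [mul_inv_rev, hD.inv_eq hg, hD.inv_eq hh]; simp [mul_assoc]
  rw [e]
  rcases hp with hp | hp
  · rw [hp]
  · exact (hD.braid hpD hh hp).symm

/-- Key fixing from a criterion on non-commuting pairs. -/
theorem keyFixing_of (he : Equivariant D key)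
    (h1 : ∀ a ∈ D, ∀ b ∈ D, key a = key b → ∀ x ∈ D, key x ≠ key a → Commute a x → Commute b x)
    (h2 : ∀ a ∈ D, ∀ b ∈ D, key a = key b → ∀ x ∈ D, key x ≠ key a → ¬Commute a x →
      a * x * a = b ∨ ¬Commute (a * x * a) b) :
    KeyFixing D key := by
  intro a ha b hb hab y hy
  by_cases hya : key y = key a
  · have e1 : key (b * y * b) = key b := by
      have := he b y hy b hb (hya.trans hab)
      simpa [hD.inv_eq hb, mul_assoc, hD.sq b hb] using this
    have e2 : key (a * (b * y * b) * a) = key a := by
      have := he a _ (hD.cj_mem hb hy) a ha (e1.trans hab.symm)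
      simpa [hD.inv_eq ha, mul_assoc, hD.sq a ha] using this
    rw [mul_inv_rev, hD.inv_eq ha, hD.inv_eq hb, hya, ← e2]
    simp [mul_assoc]
  · have hyb : key y ≠ key b := fun h => hya (h.trans hab.symm)
    by_cases hc : Commute b y
    · have hc' := h1 b hb a ha hab.symm y hy hyb hc
      have : (a * b) * y * (a * b)⁻¹ = y := by
        rw [(hc'.mul_left hc).eq]; group
      rw [this]
    · obtain ⟨e1, e2⟩ := hD.transport hb ha hy hc (h2 b hb a ha hab.symm y hy hyb hc)
      have hp := hD.cj_mem hb hy
      have := he (b * y * b) b hb a ha hab.symm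
      rw [hD.inv_eq hp, e2, ← e1] at this
      exact this.symm

end IsTT

end CfsgLib.ThreeTransp
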