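import Cfsg.Agent.Lib.ThreeTransp.M24Center

/-!
# Groups of type `M(24)`: the centraliser of a member, order and width

The products of an element of the group of the link of a neighbour of `a` with an element of the group of the
link of `a` make up the whole group.
-/

set_option autoImplicit false

namespace CfsgLib.M24

open CfsgLib.ThreeTransp CfsgLib.SporMisc CfsgLib.ThreeTransp.Factor
open CfsgLib.M23 (Q E pj pj_mem link_swap)

variable {G : Type*} [Group G] {D : Set G}
variable [Finite G] (S : Setup D)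
include S

/-- An element of the group of the link of `x` fixing its neighbour `a` is in the group of the link of `a`. -/
theorem mem_of_fix {a x k : G} (ha : a ∈ D) (hx : x ∈ link D a) (hk : k ∈ linkSub D x) (hka : Commute k a) :
    k ∈ linkSub D a := by
  have T := S.link_setup hx.1
  have la := link_swap ha hx
  set π := QuotientGroup.mk' (Subgroup.center ↥(linkSub D x)) with hπ
  let k₀ : ↥(linkSub D x) := ⟨k, hk⟩
  have hc : π k₀ ∈ Subgroup.centralizer ({pj la} : Set (Q D x)) := by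
    have : Commute k₀ ⟨a, Subgroup.subset_closure la⟩ := Subtype.ext hka
    exact Subgroup.mem_centralizer_singleton_iff.2 (this.map π).eq
  rw [M23.centralizer_eq T (pj_mem la)] at hc
  have hle : Subgroup.closure (link (E D x) (pj la)) ≤ ((linkSub D a).subgroupOf (linkSub D x)).map π := by
    rw [Subgroup.closure_le]
    intro q hq
    obtain ⟨f, lf, rfl⟩ := Setup.pj_surj hq.1
    exact ⟨⟨f, Subgroup.subset_closure lf⟩, Subgroup.subset_closure ((S.pj_link hx.1 la lf).1 hq), rfl⟩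
  obtain ⟨m, hm, hmk⟩ := Subgroup.mem_map.1 (hle hc)
  have hker : ((m⁻¹ * k₀ : ↥(linkSub D x)) : Q D x) = 1 := by
    show π (m⁻¹ * k₀) = 1
    rw [map_mul, map_inv, hmk, inv_mul_cancel]
  have hm' : (m : G) ∈ linkSub D a := hm
  rcases pj_eq_one_cases S hx.1 (m⁻¹ * k₀).2 hker with h | h
  · have : k = (m : G) := (inv_mul_eq_one.1 (show (m : G)⁻¹ * k = 1 from h)).symm
    rwa [this]
  · rw [inv_mul_eq_iff_eq_mul.1 (show (m : G)⁻¹ * k = x from h)]
    exact mul_mem hm' (Subgroup.subset_closure hx)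

/-- Two neighbours have a further one commuting with neither of two common neighbours. -/
theorem exists_avoid {a y x x' : G} (hx : x ∈ D) (hx' : x' ∈ link D x) (ha : a ∈ link D x ∩ link D x')
    (hy : y ∈ link D x ∩ link D x') :
    ∃ w, w ∈ link D x ∩ link D x' ∧ ¬ Commute w a ∧ ¬ Commute w y := by
  by_contra hcon
  push Not at hcon
  set K := link D x ∩ link D x' with hK
  have hsub : K ⊆ insert a (K ∩ link D a) ∪ insert y (K ∩ link D y) := by
    intro w hw
    by_cases hwa : Commute w a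
    · left
      by_cases e : w = a
      · exact Or.inl e
      · exact Or.inr ⟨hw, hw.1.1, e, hwa.symm⟩
    · right
      by_cases e : w = y
      · exact Or.inl e
      · exact Or.inr ⟨hw, hw.1.1, e, (hcon w hw hwa).symm⟩
  have := (Set.ncard_le_ncard hsub (Set.toFinite _)).trans (Set.ncard_union_le _ _)
  rw [Set.ncard_insert_of_notMem (fun h => h.2.2.1 rfl) (Set.toFinite _),
    Set.ncard_insert_of_notMem (fun h => h.2.2.1 rfl) (Set.toFinite _), hK,
    link_two_ncard S hx hx', link_three_ncard S hx hx' ha, link_three_ncard S hx hx' hy] at this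
  omega

/-- The coset of the group of the link of `a` depends only on the image of `a`. -/
theorem coset_eq {a x x' k k' : G} (ha : a ∈ D) (hx : x ∈ link D a) (hx' : x' ∈ link D a)
    (hk : k ∈ linkSub D x) (hk' : k' ∈ linkSub D x') (he : k * a * k⁻¹ = k' * a * k'⁻¹) :
    k⁻¹ * k' ∈ linkSub D a := by
  have same : ∀ {x k m : G}, x ∈ link D a → k ∈ linkSub D x → m ∈ linkSub D x →
      k * a * k⁻¹ = m * a * m⁻¹ → k⁻¹ * m ∈ linkSub D a := by
    intro x k m hx hk hm h
    refine mem_of_fix S ha hx (mul_mem (inv_mem hk) hm) (mul_inv_eq_iff_eq_mul.1 ?_)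
    calc k⁻¹ * m * a * (k⁻¹ * m)⁻¹ = k⁻¹ * (m * a * m⁻¹) * k := by group
      _ = a := by rw [← h]; group
  set y := k * a * k⁻¹ with hy
  have hyD : y ∈ D := S.tt.conj k a ha
  have hyx : ∀ {x k : G}, x ∈ link D a → k ∈ linkSub D x → k * a * k⁻¹ ∈ link D x :=
    fun hx hk => S.link_conj_fix (linkSub_commute hk) (link_swap ha hx)
  have lyx : y ∈ link D x := hyx hx hk
  have lyx' : y ∈ link D x' := he ▸ hyx hx' hk'
  by_cases hya : y = a
  · refine mul_mem (inv_mem (mem_of_fix S ha hx hk (mul_inv_eq_iff_eq_mul.1 hya)))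
      (mem_of_fix S ha hx' hk' (mul_inv_eq_iff_eq_mul.1 ?_))
    rw [← he]; exact hya
  by_cases hay : Commute a y
  swap
  · have hg : a * y * a * a * (a * y * a)⁻¹ = y := by
      rw [S.tt.inv_eq (S.tt.cj_mem ha hyD)]
      exact S.tt.cj_conj_self ha hyD hay
    have hmem : ∀ {x : G}, x ∈ link D a → y ∈ link D x → a * y * a ∈ linkSub D x :=
      fun {x} hx hy => mul_mem (mul_mem (Subgroup.subset_closure (link_swap ha hx)) (Subgroup.subset_closure hy))
        (Subgroup.subset_closure (link_swap ha hx))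
    have e1 := same hx hk (hmem hx lyx) (hy ▸ hg.symm)
    have e2 := same hx' (hmem hx' lyx') hk' (hg.trans he)
    have := mul_mem e1 e2
    rwa [mul_assoc, mul_inv_cancel_left] at this
  have lya : y ∈ link D a := ⟨hyD, hya, hay⟩
  have step : ∀ {f f' g g' : G}, f ∈ link D a → y ∈ link D f → f' ∈ link D a → y ∈ link D f' →
      Commute f f' → g ∈ linkSub D f → g' ∈ linkSub D f' → g * a * g⁻¹ = y → g' * a * g'⁻¹ = y →
      g⁻¹ * g' ∈ linkSub D a := by
    intro f f' g g' hf lyf hf' lyf' hff hg hg' e e'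
    by_cases hne : f' = f
    · subst hne; exact same hf hg hg' (e.trans e'.symm)
    obtain ⟨w, hw, nwa, nwy⟩ := exists_avoid S hf.1 (x := f) (x' := f') ⟨hf'.1, hne, hff⟩
      ⟨link_swap ha hf, link_swap ha hf'⟩ ⟨lyf, lyf'⟩
    let g₀ := y * w * y * (a * w * a)
    have hg₀ : g₀ * a * g₀⁻¹ = y := by
      have e1 : a * w * a * a * (a * w * a)⁻¹ = w := by
        rw [S.tt.inv_eq (S.tt.cj_mem ha hw.1.1)]
        exact S.tt.cj_conj_self ha hw.1.1 fun h => nwa h.symm
      have e2 : y * w * y * w * (y * w * y)⁻¹ = y := by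
        rw [S.tt.inv_eq (S.tt.cj_mem hyD hw.1.1), S.tt.braid hyD hw.1.1 fun h => nwy h.symm]
        exact cj_cj (S.sqd hw.1.1) (S.sqd hyD) (S.tt.braid hw.1.1 hyD nwy)
      calc g₀ * a * g₀⁻¹ = y * w * y * (a * w * a * a * (a * w * a)⁻¹) * (y * w * y)⁻¹ := by
            simp only [g₀]; group
        _ = y := by rw [e1, e2]
    have hg₀mem : ∀ {f : G}, f ∈ link D a → y ∈ link D f → w ∈ link D f → g₀ ∈ linkSub D f := by
      intro f hf hy hw
      have l1 := Subgroup.subset_closure (link_swap ha hf)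
      have l2 := Subgroup.subset_closure hy
      have l3 := Subgroup.subset_closure hw
      exact mul_mem (mul_mem (mul_mem l2 l3) l2) (mul_mem (mul_mem l1 l3) l1)
    have e1 := same hf hg (hg₀mem hf lyf hw.1) (e.trans hg₀.symm)
    have e2 := same hf' (hg₀mem hf' lyf' hw.2) hg' (hg₀.trans e'.symm)
    have := mul_mem e1 e2
    rwa [mul_assoc, mul_inv_cancel_left] at this
  by_cases hxx : Commute x x'
  · exact step hx lyx hx' lyx' hxx hk hk' rfl he.symm
  have lay : ∀ {f : G}, f ∈ link D a → y ∈ link D f → f ∈ link D y :=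
    fun hf hy => link_swap hf.1 hy
  obtain ⟨m, hma, hmy, hmx, hmx'⟩ : ∃ m, m ∈ link D a ∧ m ∈ link D y ∧ m ∈ link D x ∧ m ∈ link D x' := by
    have T := S.link_setup ha
    obtain ⟨q, ⟨⟨hqx, hqx'⟩, hqy⟩⟩ :
        (link (E D a) (pj hx) ∩ link (E D a) (pj hx') ∩ link (E D a) (pj lya)).Nonempty :=
      (Set.ncard_pos (Set.toFinite _)).1 (by
        rw [M23.common_valency T (pj_mem hx) (pj_mem hx') (fun h => hxx ((S.pj_comm ha hx hx').1 h))
          ⟨(S.pj_link ha hx lya).2 lyx, (S.pj_link ha hx' lya).2 lyx'⟩]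
        norm_num)
    obtain ⟨m, lm, rfl⟩ := Setup.pj_surj hqx.1
    exact ⟨m, lm, (S.pj_link ha lya lm).1 hqy, (S.pj_link ha hx lm).1 hqx, (S.pj_link ha hx' lm).1 hqx'⟩
  have lym : y ∈ link D m := link_swap hyD hmy
  obtain ⟨g, hg, hga⟩ := S.hyp.exists_conj_link hma.1 (link_swap ha hma) lym
  have e1 := step hx lyx hma lym hmx.2.2 hk hg rfl hga
  have e2 := step hma lym hx' lyx' hmx'.2.2.symm hg hk' hga he.symm
  have := mul_mem e1 e2
  rwa [mul_assoc, mul_inv_cancel_left] at this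

/-- A common neighbour of a commuting pair commuting with a given member. -/
theorem exists_three {a b y : G} (ha : a ∈ D) (hb : b ∈ link D a) (hy : y ∈ D) :
    ∃ f, f ∈ link D a ∧ f ∈ link D b ∧ Commute f y ∧ f ≠ y := by
  have hpos : ∀ {s : Set G} {n : ℕ}, s.ncard = n → 0 < n → s.Nonempty := fun h h0 =>
    (Set.ncard_pos (Set.toFinite _)).1 (h ▸ h0)
  by_cases hay : Commute a y
  · by_cases hya : y = a
    · obtain ⟨f, hfa, hfb⟩ := hpos (link_two_ncard S ha hb) (by norm_num)
      exact ⟨f, hfa, hfb, hya ▸ hfa.2.2.symm, hya ▸ hfa.2.1⟩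
    by_cases hyb : y = b
    · obtain ⟨f, hfa, hfb⟩ := hpos (link_two_ncard S ha hb) (by norm_num)
      exact ⟨f, hfa, hfb, hyb ▸ hfb.2.2.symm, hyb ▸ hfb.2.1⟩
    have ly : y ∈ link D a := ⟨hy, hya, hay⟩
    by_cases hby : Commute b y
    · obtain ⟨f, ⟨hfa, hfb⟩, hfy⟩ := hpos (link_three_ncard S ha hb ⟨ly, hy, hyb, hby⟩) (by norm_num)
      exact ⟨f, hfa, hfb, hfy.2.2.symm, hfy.2.1⟩
    · obtain ⟨f, ⟨hfa, hfb⟩, hfy⟩ := hpos (link_three_nc_ncard S ha hb ly hby) (by norm_num)
      exact ⟨f, hfa, hfb, hfy.2.2.symm, hfy.2.1⟩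
  · obtain ⟨m, hm, hmb⟩ := exists_commuting' S ha hy hay hb
    by_cases hmb' : m = b
    · obtain ⟨f, ⟨hfa, hfy⟩, hfb⟩ := hpos (common_valency S ha hy hay (x := b) (hmb' ▸ hm)) (by norm_num)
      exact ⟨f, hfa, hfb, hfy.2.2.symm, hfy.2.1⟩
    · exact ⟨m, hm.1, ⟨hm.1.1, hmb', hmb.symm⟩, hm.2.2.2.symm, hm.2.2.1⟩

/-- An element of the link group of a common neighbour exchanging two commuting members. -/
theorem swapper {a b f : G} (ha : a ∈ D) (hb : b ∈ link D a) (hfa : f ∈ link D a) (hfb : f ∈ link D b) :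
    ∃ s ∈ linkSub D f, s * a * s⁻¹ = b ∧ s * b * s⁻¹ = a := by
  have la := link_swap ha hfa
  have lb := link_swap hb.1 hfb
  obtain ⟨w, lw, nwa, nwb⟩ : ∃ w, w ∈ link D f ∧ ¬ Commute w a ∧ ¬ Commute w b := by
    by_contra hcon
    push Not at hcon
    have hsub : link D f ⊆ insert a (link D f ∩ link D a) ∪ insert b (link D f ∩ link D b) := by
      intro w hw
      by_cases hwa : Commute w a
      · left
        by_cases e : w = a
        · exact Or.inl e
        · exact Or.inr ⟨hw, hw.1, e, hwa.symm⟩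
      · right
        by_cases e : w = b
        · exact Or.inl e
        · exact Or.inr ⟨hw, hw.1, e, (hcon w hw hwa).symm⟩
    have := (Set.ncard_le_ncard hsub (Set.toFinite _)).trans (Set.ncard_union_le _ _)
    rw [Set.ncard_insert_of_notMem (fun h => h.2.2.1 rfl) (Set.toFinite _),
      Set.ncard_insert_of_notMem (fun h => h.2.2.1 rfl) (Set.toFinite _),
      link_ncard_eq S hfa.1, link_two_ncard S hfa.1 la, link_two_ncard S hfa.1 lb] at this
    omega
  have hab : a * b = b * a := hb.2.2.eq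
  have bra := S.tt.braid ha lw.1 fun h => nwa h.symm
  have brb := S.tt.braid hb.1 lw.1 fun h => nwb h.symm
  have e1 : a * w * a * a * (a * w * a) = w := S.tt.cj_conj_self ha lw.1 fun h => nwa h.symm
  have e2 : b * w * b * w * (b * w * b) = b := by
    rw [brb]; exact cj_cj (S.sqd lw.1) (S.sqd hb.1) brb.symm
  have e3 : a * w * a * b * (a * w * a) = b * (a * w * a) * b := by
    calc a * w * a * b * (a * w * a) = a * (w * b * w) * a := by
          simp only [mul_assoc, cancel₂ (S.sqd ha)]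
          rw [← mul_assoc b a, ← hab, mul_assoc a b, cancel₂ (S.sqd ha)]
      _ = a * (b * w * b) * a := by rw [brb]
      _ = b * (a * w * a) * b := by
          simp only [← mul_assoc, hab]
          simp only [mul_assoc, hab]
  have l1 := Subgroup.subset_closure la
  have l2 := Subgroup.subset_closure lb
  have l3 := Subgroup.subset_closure lw
  refine ⟨b * w * b * (a * w * a), mul_mem (mul_mem (mul_mem l2 l3) l2) (mul_mem (mul_mem l1 l3) l1), ?_, ?_⟩
  · rw [mul_inv_rev, S.tt.inv_eq (S.tt.cj_mem ha lw.1), S.tt.inv_eq (S.tt.cj_mem hb.1 lw.1)]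
    calc b * w * b * (a * w * a) * a * (a * w * a * (b * w * b))
        = b * w * b * (a * w * a * a * (a * w * a)) * (b * w * b) := by group
      _ = b := by rw [e1, e2]
  · rw [mul_inv_rev, S.tt.inv_eq (S.tt.cj_mem ha lw.1), S.tt.inv_eq (S.tt.cj_mem hb.1 lw.1)]
    calc b * w * b * (a * w * a) * b * (a * w * a * (b * w * b))
        = b * w * b * (a * w * a * b * (a * w * a)) * (b * w * b) := by group
      _ = b * w * (b * b) * (a * w * a) * (b * b) * (w * b) := by rw [e3]; group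
      _ = b * (w * (a * w * a) * w) * b := by rw [S.sqd hb.1, mul_one, mul_one]; group
      _ = b * a * b := by
          rw [bra]; simp only [mul_assoc, cancel₂ (S.sqd lw.1), S.sqd lw.1, mul_one]
      _ = a := by rw [← hab, mul_assoc, S.sqd hb.1, mul_one]

/-- The centraliser of a member is generated by its link. -/
theorem centralizer_eq {a : G} (ha : a ∈ D) :
    Subgroup.centralizer ({a} : Set G) = linkSub D a := by
  refine le_antisymm (fun g hg => ?_) fun g hg => Subgroup.mem_centralizer_singleton_iff.2 (linkSub_commute hg).eq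
  set H := linkSub D a with hH
  obtain ⟨b, hb⟩ : (link D a).Nonempty :=
    (Set.ncard_pos (Set.toFinite _)).1 (by rw [link_ncard_eq S ha]; norm_num)
  obtain ⟨f₀, hf₀a, hf₀b⟩ : (link D a ∩ link D b).Nonempty :=
    (Set.ncard_pos (Set.toFinite _)).1 (by rw [link_two_ncard S ha hb]; norm_num)
  obtain ⟨t, ht, hta, htb⟩ := swapper S ha hb hf₀a hf₀b
  let Ω : Set G := {g | ∃ x k h, x ∈ link D a ∧ k ∈ linkSub D x ∧ h ∈ H ∧ g = k * h}
  have h1 : ∀ h ∈ H, ∀ g ∈ Ω, h * g ∈ Ω := by
    rintro h hh _ ⟨x, k, h', hx, hk, hh', rfl⟩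
    refine ⟨h * x * h⁻¹, h * k * h⁻¹, h * h', S.link_conj_fix (linkSub_commute hh) hx, ?_, mul_mem hh hh', by group⟩
    induction hk using Subgroup.closure_induction with
    | mem e he => exact Subgroup.subset_closure (link_conj S.tt h he)
    | one => rw [mul_one, mul_inv_cancel]; exact one_mem _
    | mul u v _ _ i1 i2 =>
      rw [show h * (u * v) * h⁻¹ = h * u * h⁻¹ * (h * v * h⁻¹) by group]
      exact mul_mem i1 i2
    | inv u _ i1 =>
      rw [show h * u⁻¹ * h⁻¹ = (h * u * h⁻¹)⁻¹ by group]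
      exact inv_mem i1
  have h2 : ∀ g ∈ Ω, t * g ∈ Ω := by
    rintro _ ⟨x, k, h', hx, hk, hh', rfl⟩
    set y := k * a * k⁻¹ with hy
    have hyD : y ∈ D := S.tt.conj k a ha
    obtain ⟨f, hfa, hfb, hfy, hfne⟩ := exists_three S ha hb hyD
    obtain ⟨kf, hkf, hkfa⟩ := S.hyp.exists_conj_link hfa.1 (link_swap ha hfa)
      (⟨hyD, hfne.symm, hfy⟩ : y ∈ link D f)
    obtain ⟨tf, htf, htfa, htfb⟩ := swapper S ha hb hfa hfb
    have hk₀ : t * tf⁻¹ ∈ H := by
      have hinv : ∀ {s : G}, s * b * s⁻¹ = a → s⁻¹ * a * s⁻¹⁻¹ = b := fun {s} h => by rw [← h]; group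
      have := coset_eq S ha hf₀a hfa (inv_mem ht) (inv_mem htf) ((hinv htb).trans (hinv htfb).symm)
      rwa [inv_inv] at this
    have hkk : kf⁻¹ * k ∈ H := coset_eq S ha hfa hx hkf hk hkfa
    have : t * (k * h') = t * tf⁻¹ * (tf * kf * (kf⁻¹ * k * h')) := by group
    rw [this]
    exact h1 _ hk₀ _ ⟨f, tf * kf, _, hfa, mul_mem htf hkf, mul_mem hkk hh', rfl⟩
  have hgen : Subgroup.closure ((H : Set G) ∪ {t}) = ⊤ := by
    set M := Subgroup.closure ((H : Set G) ∪ {t}) with hMdef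
    have hHM : H ≤ M := fun h hh => Subgroup.subset_closure (Or.inl hh)
    have htM : t ∈ M := Subgroup.subset_closure (Or.inr rfl)
    have hbM : ∀ e ∈ link D b, e ∈ M := by
      intro e he
      have h := link_conj S.tt t⁻¹ he
      rw [inv_inv, show t⁻¹ * b * t = a by rw [← hta]; group] at h
      have := mul_mem (mul_mem htM (hHM (Subgroup.subset_closure h))) (inv_mem htM)
      rwa [show t * (t⁻¹ * e * t) * t⁻¹ = e by group] at this
    obtain ⟨e, he, hne⟩ : ∃ e ∈ link D b, ¬ Commute a e := by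
      by_contra hcon
      push Not at hcon
      have hsub : link D b ⊆ insert a (link D a ∩ link D b) := fun e he => by
        by_cases hea : e = a
        · exact Or.inl hea
        · exact Or.inr ⟨⟨he.1, hea, hcon e he⟩, he⟩
      have := Set.ncard_le_ncard hsub (Set.toFinite _)
      rw [Set.ncard_insert_of_notMem (fun h => h.1.2.1 rfl) (Set.toFinite _), link_two_ncard S ha hb,
        link_ncard_eq S hb.1] at this
      omega
    refine eq_top_of_perp S ha he.1 hne (fun x hx hc => ?_) (hbM e he)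
    by_cases hxa : x = a
    · exact hxa ▸ hHM (self_mem_linkSub S ha)
    · exact hHM (Subgroup.subset_closure ⟨hx, hxa, hc⟩)
  have hall : g ∈ Ω := by
    have hgM : g ∈ Subgroup.closure ((H : Set G) ∪ {t}) := hgen ▸ Subgroup.mem_top g
    rw [← Subgroup.mem_toSubmonoid, Subgroup.closure_toSubmonoid_of_finite] at hgM
    suffices ∀ s, s ∈ Submonoid.closure ((H : Set G) ∪ {t}) → ∀ e ∈ Ω, s * e ∈ Ω by
      simpa using this g hgM 1 ⟨b, 1, 1, hb, one_mem _, one_mem _, by rw [mul_one]⟩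
    intro s hs
    induction hs using Submonoid.closure_induction with
    | mem s hs =>
      rcases hs with hs | hs
      · exact h1 s hs
      · rw [Set.mem_singleton_iff] at hs; subst hs; exact h2
    | one => intro e he; rwa [one_mul]
    | mul u v _ _ i1 i2 => intro e he; rw [mul_assoc]; exact i1 _ (i2 e he)
  obtain ⟨x, k, h, hx, hk, hh, rfl⟩ := hall
  have hka : Commute (k * h) a := Subgroup.mem_centralizer_singleton_iff.1 hg
  refine mul_mem (mem_of_fix S ha hx hk ?_) hh
  have := hka.mul_left (linkSub_commute hh).inv_left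
  rwa [mul_inv_cancel_right] at this

theorem card_eq : Nat.card G = 2 ^ 22 * 3 ^ 16 * 5 ^ 2 * 7 ^ 3 * 11 * 13 * 17 * 23 * 29 := by
  obtain ⟨a, ha, -⟩ := S.exists_noncommuting
  have horb : MulAction.orbit (ConjAct G) a = D := by
    ext x
    rw [MulAction.mem_orbit_iff]
    constructor
    · rintro ⟨g, rfl⟩
      exact S.tt.conj (ConjAct.ofConjAct g) a ha
    · intro hx
      obtain ⟨g, rfl⟩ := S.cls ha hx
      exact ⟨ConjAct.toConjAct g, rfl⟩
  have h := MulAction.index_stabilizer (G := ConjAct G) a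
  rw [horb, ncard_eq S] at h
  have h' := Subgroup.index_mul_card (MulAction.stabilizer (ConjAct G) a)
  rw [h] at h'
  have hst : Nat.card (MulAction.stabilizer (ConjAct G) a) = Nat.card ↥(Subgroup.centralizer ({a} : Set G)) := by
    refine Nat.card_congr ⟨fun g => ⟨ConjAct.ofConjAct g.1, Subgroup.mem_centralizer_singleton_iff.2 ?_⟩,
      fun g => ⟨ConjAct.toConjAct g.1, ?_⟩, fun g => rfl, fun g => rfl⟩
    · exact mul_inv_eq_iff_eq_mul.1 (MulAction.mem_stabilizer_iff.1 g.2)
    · refine MulAction.mem_stabilizer_iff.2 ?_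
      show g.1 * a * g.1⁻¹ = a
      rw [Subgroup.mem_centralizer_singleton_iff.1 g.2, mul_inv_cancel_right]
  rw [hst, centralizer_eq S ha, card_linkSub S ha, Nat.card_congr (ConjAct.ofConjAct (G := G)).toEquiv] at h'
  rw [← h']
  norm_num

theorem width_le {X : Set G} (hX : X ⊆ D) (hc : ∀ x ∈ X, ∀ y ∈ X, Commute x y) : X.ncard ≤ 24 := by
  rcases X.eq_empty_or_nonempty with rfl | ⟨a, haX⟩
  · simp
  have ha := hX haX
  have T := S.link_setup ha
  have hsub : ∀ e ∈ X \ {a}, e ∈ link D a := fun e he => ⟨hX he.1, he.2, hc a haX e he.1⟩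
  have hset : X \ {a} = {e | e ∈ link D a ∧ e ∈ X} := Set.ext fun e =>
    ⟨fun he => ⟨hsub e he, he.1⟩, fun he => ⟨he.2, he.1.2.1⟩⟩
  have h := S.card_transfer ha (fun e => e ∈ X) (fun q => ∃ (e : G) (he : e ∈ link D a), e ∈ X ∧ pj he = q)
    fun e he => ⟨fun hx => ⟨e, he, hx, rfl⟩, fun ⟨f, hf, hfX, hq⟩ => S.pj_inj ha hf he hq ▸ hfX⟩
  have hle := M23.width_le T (X := {q | q ∈ E D a ∧ ∃ (e : G) (he : e ∈ link D a), e ∈ X ∧ pj he = q})
    (fun q hq => hq.1) (by
      rintro _ ⟨-, e, he, heX, rfl⟩ _ ⟨-, f, hf, hfX, rfl⟩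
      exact (S.pj_comm ha he hf).2 (hc e heX f hfX))
  rw [← h, ← hset] at hle
  have : X.ncard = (X \ {a}).ncard + 1 := (Set.ncard_sdiff_singleton_add_one haX (Set.toFinite _)).symm
  omega

theorem width_eq : Cfsg.commutingWidth D = 24 := by
  obtain ⟨a, ha, -⟩ := S.exists_noncommuting
  have T := S.link_setup ha
  obtain ⟨E₀, hE₀, -, hc₀, hn₀⟩ : ∃ E₀ : Set (Q D a), E₀ ⊆ E D a ∧ E₀.Finite ∧
      (∀ x ∈ E₀, ∀ y ∈ E₀, Commute x y) ∧ E₀.ncard = 23 := by
    have h := Nat.sSup_mem (s := {n : ℕ | ∃ E₁ : Set (Q D a), E₁ ⊆ E D a ∧ E₁.Finite ∧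
      (∀ x ∈ E₁, ∀ y ∈ E₁, Commute x y) ∧ E₁.ncard = n}) ⟨0, ∅, Set.empty_subset _, Set.finite_empty, by simp, by simp⟩
      ⟨23, by rintro n ⟨E₁, hE₁, -, hc₁, rfl⟩; exact M23.width_le T hE₁ hc₁⟩
    rwa [show sSup _ = 23 from M23.width_eq T] at h
  set X : Set G := {e | e ∈ link D a ∧ ∃ he : e ∈ link D a, pj he ∈ E₀} with hX
  have hn : X.ncard = 23 := by
    rw [hX, S.card_transfer ha (fun e => ∃ he : e ∈ link D a, pj he ∈ E₀) (fun q => q ∈ E₀)
      fun e he => ⟨fun ⟨_, h⟩ => h, fun h => ⟨he, h⟩⟩, ← hn₀]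
    exact congrArg Set.ncard (Set.ext fun q => and_iff_right_of_imp fun h => hE₀ h)
  have hins : insert a X ⊆ D := Set.insert_subset ha fun e he => he.1.1
  have hcm : ∀ x ∈ insert a X, ∀ y ∈ insert a X, Commute x y := by
    rintro x (rfl | ⟨lx, _, hx⟩) y (rfl | ⟨ly, _, hy⟩)
    · exact Commute.refl _
    · exact ly.2.2
    · exact lx.2.2.symm
    · exact (S.pj_comm ha lx ly).1 (hc₀ _ hx _ hy)
  have hn' : (insert a X).ncard = 24 := by
    rw [Set.ncard_insert_of_notMem (fun h => h.1.2.1 rfl) (Set.toFinite _), hn]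
  refine le_antisymm (csSup_le ⟨_, _, hins, Set.toFinite _, hcm, hn'⟩ ?_)
    (le_csSup ⟨24, ?_⟩ ⟨_, hins, Set.toFinite _, hcm, hn'⟩) <;>
  · rintro n ⟨E', hE', -, hc', rfl⟩
    exact width_le S hE' hc'

end CfsgLib.M24
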