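import Cfsg.Agent.Lib.ThreeTransp.PrimLink

/-!
# No solvable normal subgroup, from a simple link two steps down

Members `u`, `t` are weak twins when the other members commuting with one are those commuting with the other.
Conjugates of a member under an abelian normal subgroup are weak twins of it, and weak twins are equal as soon
as one link of a link has a simple group modulo its centre.
-/

set_option autoImplicit false

namespace CfsgLib.ThreeTransp.Factor

open CfsgLib.SporMisc

variable {H : Type*} [Group H] {E : Set H}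

/-- The other members commute with both or with neither. -/
def WTwin (E : Set H) (u t : H) : Prop := ∀ w ∈ E, w ≠ u → w ≠ t → (Commute u w ↔ Commute t w)

theorem WTwin.conj (hE : IsTT E) {u t : H} (h : WTwin E u t) (g : H) : WTwin E (g * u * g⁻¹) (g * t * g⁻¹) := by
  intro w hw h1 h2
  have e : g * (g⁻¹ * w * g) * g⁻¹ = w := by group
  rw [← e, Commute.conj_iff, Commute.conj_iff]
  exact h _ (by simpa using hE.conj g⁻¹ w hw) (fun hh => h1 (by rw [← e, hh])) fun hh => h2 (by rw [← e, hh])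

/-- The conjugate of a member under an abelian normal subgroup commutes with what the member commutes with. -/
theorem wtwin_step (hE : IsTT E) {A : Subgroup H} (hn : A.Normal) (hA : ∀ a ∈ A, ∀ b ∈ A, Commute a b)
    {d m w : H} (hd : d ∈ E) (hm : m ∈ A) (hw : w ∈ E) (hwd : w ≠ d) (hc : Commute d w) :
    Commute (m * d * m⁻¹) w := by
  by_contra hn'
  set d' := m * d * m⁻¹ with hd'def
  have hd' : d' ∈ E := hE.conj m d hd
  have hdd : d * d' ∈ A := by
    rw [hd'def, show d * (m * d * m⁻¹) = d * m * d⁻¹ * m⁻¹ by rw [hE.inv_eq hd]; group]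
    exact mul_mem (hn.conj_mem m hm d) (inv_mem hm)
  have e : w * d' = w * d * (d * d') := by simp only [mul_assoc, cancel₂ (hE.sq d hd)]
  set π := QuotientGroup.mk' A with hπ
  have h3 : π (w * d) ^ 3 = 1 := by
    have := congrArg π (pow_three_eq_one (hE.sq w hw) (hE.sq d' hd')
      (hE.braid hw hd' fun h => hn' h.symm))
    rw [map_pow, map_one, e, map_mul, show π (d * d') = 1 from (QuotientGroup.eq_one_iff _).2 hdd, mul_one] at this
    exact this
  have h2 : π (w * d) ^ 2 = 1 := by
    rw [← map_pow, hc.symm.mul_pow, pow_two, pow_two, hE.sq w hw, hE.sq d hd, one_mul, map_one]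
  rw [pow_succ, h2, one_mul] at h3
  have hwdA : w * d ∈ A := (QuotientGroup.eq_one_iff _).1 h3
  have h4 : Commute (w * d) d := hc.symm.mul_left (Commute.refl d)
  have h5 : Commute (w * d) d' := by
    have := h4.mul_right (hA _ hwdA _ hdd)
    rwa [cancel₂ (hE.sq d hd)] at this
  by_cases hdd' : Commute d d'
  · have h6 := h5.mul_left hdd'
    rw [mul_assoc, hE.sq d hd, mul_one] at h6
    exact hn' h6.symm
  · exact hwd (eq_of_commute_mul hE hd' hw hd hn' (fun h => hdd' h.symm) h5.symm)

/-- Conjugates under an abelian normal subgroup are weak twins. -/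
theorem wtwin_of_normal (hE : IsTT E) {A : Subgroup H} (hn : A.Normal) (hA : ∀ a ∈ A, ∀ b ∈ A, Commute a b)
    {d m : H} (hd : d ∈ E) (hm : m ∈ A) : WTwin E d (m * d * m⁻¹) := by
  intro w hw h1 h2
  refine ⟨wtwin_step hE hn hA hd hm hw h1, fun hc => ?_⟩
  have := wtwin_step hE hn hA (hE.conj m d hd) (inv_mem hm) hw h2 hc
  rwa [show m⁻¹ * (m * d * m⁻¹) * m⁻¹⁻¹ = d by group] at this

variable [Finite H]

/-- In a link with simple group modulo the centre, non-central weak twins are equal. -/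
theorem noncentral_wtwin_eq (hD : IsTT E) {d : H}
    [hs : IsSimpleGroup (↥(linkSub E d) ⧸ Subgroup.center ↥(linkSub E d))]
    {x y z : ↥(linkSub E d)} (hx : x ∈ linkIn E d) (hy : y ∈ linkIn E d) (hz : z ∈ linkIn E d)
    (hxz : ¬Commute x z) (hw : WTwin (linkIn E d) x y) : x = y := by
  have hT := linkIn_tt hD d
  by_cases hxy : Commute x y
  · refine noncentral_twin_eq hD hx hy hz hxz fun w hwm => ?_
    by_cases h1 : w = x
    · subst h1; exact ⟨fun _ => hxy.symm, fun _ => Commute.refl w⟩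
    by_cases h2 : w = y
    · subst h2; exact ⟨fun _ => Commute.refl w, fun _ => hxy⟩
    exact hw w hwm h1 h2
  exfalso
  have hp : link (linkIn E d) x = link (linkIn E d) y := by
    ext w
    constructor
    · rintro ⟨h0, h1, h2⟩
      have h3 : w ≠ y := fun e => hxy (e ▸ h2)
      exact ⟨h0, h3, (hw w h0 h1 h3).1 h2⟩
    · rintro ⟨h0, h1, h2⟩
      have h3 : w ≠ x := fun e => hxy ((e ▸ h2 : Commute y x)).symm
      exact ⟨h0, h3, (hw w h0 h3 h1).2 h2⟩
  set π := QuotientGroup.mk' (Subgroup.center ↥(linkSub E d)) with hπ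
  set N := keyKer (linkIn E d) (link (linkIn E d)) with hN
  haveI hNn : N.Normal := hT.keyKer_normal hT.equivariant_link
  haveI hNs : Group.IsSolvable N := hT.linkKer_solvable
  haveI hn : (N.map π).Normal := hNn.map π (QuotientGroup.mk'_surjective _)
  haveI hMs : Group.IsSolvable (N.map π) :=
    Group.isSolvable_of_surjective (f := π.subgroupMap N) (π.subgroupMap_surjective N)
  rcases hn.eq_bot_or_eq_top with h | h
  · have hm : x * y ∈ Subgroup.center ↥(linkSub E d) := by
      rw [← QuotientGroup.eq_one_iff]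
      exact Subgroup.mem_bot.1 (h ▸ Subgroup.mem_map_of_mem π (mul_mem_keyKer hx hy hp))
    refine hxy ?_
    have h1 := Subgroup.mem_center_iff.1 hm x
    rw [mul_assoc] at h1
    exact mul_left_cancel h1
  · refine not_isSolvable_of_simple_noncomm hT hx hy hxy ?_
    rw [h] at hMs
    exact Group.isSolvable_of_surjective
      (f := (⊤ : Subgroup (↥(linkSub E d) ⧸ Subgroup.center ↥(linkSub E d))).subtype)
      fun w => ⟨⟨w, Subgroup.mem_top w⟩, rfl⟩

omit [Finite H] in
theorem mk_commute (hE : IsTT E) {a : H} {x y : ↥(linkSub E a)} (hx : x ∈ linkIn E a) (hy : y ∈ linkIn E a)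
    (hc : Commute (x : ↥(linkSub E a) ⧸ Subgroup.center ↥(linkSub E a)) (y : _ ⧸ _)) : Commute x y := by
  have hT := linkIn_tt hE a
  by_contra hn
  have h3 := pow_three_eq_one (hT.sq x hx) (hT.sq y hy) (hT.braid hx hy hn)
  set π := QuotientGroup.mk' (Subgroup.center ↥(linkSub E a)) with hπ
  have hc' : Commute (π x) (π y) := hc
  have h2 : π ((x * y) ^ 2) = 1 := by
    rw [map_pow, map_mul, hc'.mul_pow, ← map_pow, ← map_pow, pow_two, pow_two, hT.sq x hx,
      hT.sq y hy, map_one, one_mul]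
  have e : π ((x * y) ^ 3) = 1 := by rw [h3, map_one]
  rw [pow_succ, map_mul, h2, one_mul] at e
  have hm : x * y ∈ Subgroup.center ↥(linkSub E a) := (QuotientGroup.eq_one_iff _).1 e
  refine hn ?_
  have h1 := Subgroup.mem_center_iff.1 hm x
  rw [mul_assoc] at h1
  exact mul_left_cancel h1

/-- Weak twins are equal when some link of a link has a simple group modulo its centre. -/
theorem wtwin_eq (h : TTC E) {a : H} (ha : a ∈ E) {p : ↥(linkSub E a) ⧸ Subgroup.center ↥(linkSub E a)}
    (hp : p ∈ qSet (linkIn E a))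
    (hs : IsSimpleGroup (↥(linkSub (qSet (linkIn E a)) p) ⧸ Subgroup.center ↥(linkSub (qSet (linkIn E a)) p)))
    {x y : H} (hx : x ∈ E) (hy : y ∈ E) (hxy : WTwin E x y) : x = y := by
  have hT := linkIn_tt h.tt a
  set E₂ : Set (↥(linkSub E a) ⧸ Subgroup.center ↥(linkSub E a)) :=
    {q | q ∈ qSet (linkIn E a) ∧ q ≠ 1} with hE₂
  have hE₂T : IsTT E₂ := by
    refine ⟨?_, fun q hq => hq.2, ?_, ?_⟩
    · rintro _ ⟨⟨u, hu, rfl⟩, -⟩; rw [← QuotientGroup.mk_mul, hT.sq u hu, QuotientGroup.mk_one]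
    · rintro _ ⟨⟨u, hu, rfl⟩, -⟩ _ ⟨⟨v, hv, rfl⟩, -⟩
      rcases hT.cond u hu v hv with hc | hc
      · exact Or.inl (hc.map (QuotientGroup.mk' (Subgroup.center ↥(linkSub E a))))
      · exact Or.inr (by simp only [← QuotientGroup.mk_mul]; rw [hc])
    · rintro g _ ⟨⟨u, hu, rfl⟩, hne⟩
      refine ⟨?_, fun e => hne ?_⟩
      · obtain ⟨g, rfl⟩ := QuotientGroup.mk_surjective g
        exact ⟨g * u * g⁻¹, hT.conj g u hu, by simp⟩
      · rwa [mul_inv_eq_one, mul_eq_left] at e
  have hclos : linkSub E₂ p = linkSub (qSet (linkIn E a)) p := by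
    refine le_antisymm (Subgroup.closure_mono fun q hq => ⟨hq.1.1, hq.2⟩) ((Subgroup.closure_le _).2 fun q hq => ?_)
    by_cases hq1 : q = 1
    · rw [hq1]; exact one_mem _
    · exact Subgroup.subset_closure ⟨⟨hq.1, hq1⟩, hq.2⟩
  let eqv : ↥(linkSub E₂ p) ≃* ↥(linkSub (qSet (linkIn E a)) p) := MulEquiv.subgroupCongr hclos
  have hs' : IsSimpleGroup (↥(linkSub E₂ p) ⧸ Subgroup.center ↥(linkSub E₂ p)) := by
    let φ := (QuotientGroup.mk' (Subgroup.center ↥(linkSub E₂ p))).comp eqv.symm.toMonoidHom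
    have hker : Subgroup.center ↥(linkSub (qSet (linkIn E a)) p) ≤ φ.ker := fun z hz =>
      (QuotientGroup.eq_one_iff _).2 (Subgroup.mem_center_iff.2 fun w => eqv.injective (by
        simp only [MulEquiv.coe_toMonoidHom, map_mul, MulEquiv.apply_symm_apply]
        exact Subgroup.mem_center_iff.1 hz (eqv w)))
    have hsurj : Function.Surjective (QuotientGroup.lift _ φ hker) := fun q => by
      obtain ⟨q, rfl⟩ := QuotientGroup.mk_surjective q
      exact ⟨(eqv q : ↥(linkSub (qSet (linkIn E a)) p)), by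
        show φ (eqv q) = _
        simp [φ]⟩
    haveI : Nontrivial (↥(linkSub E₂ p) ⧸ Subgroup.center ↥(linkSub E₂ p)) := by
      rw [← not_subsingleton_iff_nontrivial]
      intro hsub
      haveI := hsub
      haveI := hs
      obtain ⟨u, v, huv⟩ := exists_pair_ne
        (↥(linkSub (qSet (linkIn E a)) p) ⧸ Subgroup.center ↥(linkSub (qSet (linkIn E a)) p))
      obtain ⟨u, rfl⟩ := QuotientGroup.mk_surjective u
      obtain ⟨v, rfl⟩ := QuotientGroup.mk_surjective v
      refine huv (QuotientGroup.eq.2 (Subgroup.mem_center_iff.2 fun w => ?_))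
      have hall : ∀ z : ↥(linkSub E₂ p), z ∈ Subgroup.center ↥(linkSub E₂ p) := fun z =>
        (QuotientGroup.eq_one_iff z).1 (Subsingleton.elim _ _)
      apply eqv.symm.injective
      simp only [map_mul]
      exact Subgroup.mem_center_iff.1 (by rw [← map_mul]; exact hall _) _
    haveI := hs
    exact IsSimpleGroup.isSimpleGroup_of_surjective _ hsurj
  haveI := hs'
  -- a non-commuting pair in the link of `p`
  obtain ⟨e', he', f', hf', hef⟩ : ∃ e' ∈ linkIn E₂ p, ∃ f' ∈ linkIn E₂ p, ¬Commute e' f' := by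
    by_contra hcon
    push Not at hcon
    obtain ⟨u, v, huv⟩ := exists_pair_ne (↥(linkSub E₂ p) ⧸ Subgroup.center ↥(linkSub E₂ p))
    obtain ⟨u, rfl⟩ := QuotientGroup.mk_surjective u
    obtain ⟨v, rfl⟩ := QuotientGroup.mk_surjective v
    refine huv (QuotientGroup.eq.2 ?_)
    have htop : Subgroup.center ↥(linkSub E₂ p) = ⊤ := by
      rw [eq_top_iff, ← linkIn_gen E₂ p, Subgroup.closure_le]
      intro x hx
      rw [SetLike.mem_coe, Subgroup.mem_center_iff]
      intro g
      have hle : Subgroup.closure (linkIn E₂ p) ≤ Subgroup.centralizer ({x} : Set _) :=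
        (Subgroup.closure_le _).2 fun w hw =>
          Subgroup.mem_centralizer_singleton_iff.2 (hcon w hw x hx).eq
      exact Subgroup.mem_centralizer_singleton_iff.1 (hle ((linkIn_gen E₂ p).symm ▸ Subgroup.mem_top g))
    exact htop ▸ Subgroup.mem_top _
  obtain ⟨⟨⟨e, he, hemk⟩, -⟩, hep, hpe⟩ := (show (e' : ↥(linkSub E a) ⧸ Subgroup.center ↥(linkSub E a)) ∈ link E₂ p from he')
  obtain ⟨⟨⟨f, hf, hfmk⟩, -⟩, hfp, hpf⟩ := (show (f' : ↥(linkSub E a) ⧸ Subgroup.center ↥(linkSub E a)) ∈ link E₂ p from hf')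
  obtain ⟨p₀, hp₀, rfl⟩ := hp
  have hef₀ : ¬Commute e f := fun hc => hef (commute_coe_iff.1 (by
    rw [← hemk, ← hfmk]; exact hc.map (QuotientGroup.mk' _)))
  have hpe₀ : Commute p₀ e := mk_commute h.tt hp₀ he (hemk ▸ hpe)
  have hpf₀ : Commute p₀ f := mk_commute h.tt hp₀ hf (hfmk ▸ hpf)
  have hea : Commute a (e : H) := he.2.2
  have hfa : Commute a (f : H) := hf.2.2
  have hefH : ¬Commute (e : H) (f : H) := fun hc => hef₀ (commute_coe_iff.1 hc)
  have hne_fe : (f : H) ≠ e := fun hh => hefH (hh ▸ Commute.refl (f : H))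
  -- move the pair
  obtain ⟨g, hg⟩ := h.cls x hx e he.1
  set t := g * y * g⁻¹ with htdef
  have htE : t ∈ E := h.tt.conj g y hy
  have tw : WTwin E (e : H) t := hg ▸ hxy.conj h.tt g
  suffices ht : (e : H) = t by
    have e1 : g * x * g⁻¹ = g * y * g⁻¹ := hg.trans ht
    exact mul_left_cancel (mul_right_cancel e1)
  by_contra hte
  have hfp₀ : (f : H) ≠ p₀ := fun hh => hfp (by rw [← hfmk, show f = p₀ from Subtype.ext hh])
  have hep₀ : (e : H) ≠ p₀ := fun hh => hep (by rw [← hemk, show e = p₀ from Subtype.ext hh])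
  have hft : (f : H) ≠ t → ¬Commute t (f : H) := fun hn hc => hefH ((tw f hf.1 hne_fe hn).2 hc)
  have hta : t ≠ a := fun hh => by
    by_cases hc : (f : H) = t
    · exact hf.2.1 (hc.trans hh)
    · exact hft hc (hh ▸ hfa)
  have htp : t ≠ p₀ := fun hh => hft (fun hc => hfp₀ (hc.trans hh)) (hh ▸ commute_coe_iff.2 hpf₀)
  have lt : t ∈ link E a :=
    ⟨htE, hta, ((tw a ha (Ne.symm he.2.1) (Ne.symm hta)).1 hea.symm).symm⟩
  let t₀ : ↥(linkSub E a) := ⟨t, Subgroup.subset_closure lt⟩
  have ht₀ : t₀ ∈ linkIn E a := lt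
  have hpt : Commute p₀ t₀ := commute_coe_iff.1
    ((tw p₀ hp₀.1 (Ne.symm hep₀) (Ne.symm htp)).1 (commute_coe_iff.2 hpe₀.symm)).symm
  set π := QuotientGroup.mk' (Subgroup.center ↥(linkSub E a)) with hπ
  have hmem : (t₀ : ↥(linkSub E a) ⧸ Subgroup.center ↥(linkSub E a)) ∈ link E₂ (p₀ : _ ⧸ _) := by
    refine ⟨⟨⟨t₀, ht₀, rfl⟩, fun h1 => ?_⟩, fun h1 => ?_, hpt.map π⟩
    · by_cases hc : (f : H) = t
      · refine (show (f' : ↥(linkSub E a) ⧸ Subgroup.center ↥(linkSub E a)) ≠ 1 from hf'.1.2) ?_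
        rw [← hfmk, show f = t₀ from Subtype.ext hc]
        exact h1
      · exact hft hc (commute_coe_iff.2 (mk_commute h.tt ht₀ hf (by rw [h1]; exact Commute.one_left _)))
    · by_cases hc : (f : H) = t
      · exact hfp (by rw [← hfmk, show f = t₀ from Subtype.ext hc]; exact h1)
      · exact hft hc (commute_coe_iff.2 (mk_commute h.tt ht₀ hf (by rw [h1]; exact hpf₀.map π)))
  have key := noncentral_wtwin_eq hE₂T (x := e') (y := ⟨_, Subgroup.subset_closure hmem⟩) he' hmem hf' hef
    fun w hw h1 h2 => by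
      obtain ⟨⟨⟨w₀, hw₀, hwmk⟩, -⟩, -, -⟩ :=
        (show (w : ↥(linkSub E a) ⧸ Subgroup.center ↥(linkSub E a)) ∈ link E₂ _ from hw)
      have hwe : (w₀ : H) ≠ e := fun hh => h1 (Subtype.ext (by rw [← hwmk, ← hemk, show w₀ = e from Subtype.ext hh]))
      have hwt : (w₀ : H) ≠ t := fun hh => h2 (Subtype.ext (by rw [← hwmk, show w₀ = t₀ from Subtype.ext hh]))
      rw [← commute_coe_iff, ← commute_coe_iff, ← hemk, ← hwmk]
      constructor
      · intro hc
        exact (commute_coe_iff.1 ((tw w₀ hw₀.1 hwe hwt).1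
          (commute_coe_iff.2 (mk_commute h.tt he hw₀ hc))) : Commute t₀ w₀).map π
      · intro hc
        exact (commute_coe_iff.1 ((tw w₀ hw₀.1 hwe hwt).2
          (commute_coe_iff.2 (mk_commute h.tt ht₀ hw₀ hc))) : Commute e w₀).map π
  have hz : e⁻¹ * t₀ ∈ Subgroup.center ↥(linkSub E a) := QuotientGroup.eq.1 (hemk.trans (congrArg Subtype.val key))
  rw [hT.inv_eq he] at hz
  have hcf : Commute (f : H) ((e : H) * t) := congrArg Subtype.val (Subgroup.mem_center_iff.1 hz f)
  by_cases hc : (f : H) = t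
  · refine hefH ?_
    rw [hc] at hcf ⊢
    have := hcf.mul_right (Commute.refl t)
    rw [mul_assoc, h.tt.sq t htE, mul_one] at this
    exact this.symm
  · exact hte (eq_of_commute_mul h.tt hf.1 he.1 htE (fun hh => hefH hh.symm) (fun hh => hft hc hh.symm) hcf)

/-- With trivial centre there is then no solvable normal subgroup. -/
theorem sol_of_wtwin (h : TTC E) (hZ : Subgroup.center H = ⊥) (hw : ∀ x ∈ E, ∀ y ∈ E, WTwin E x y → x = y) :
    ∀ N : Subgroup H, N.Normal → Group.IsSolvable N → N = ⊥ := by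
  classical
  intro N hN hs
  by_contra hne
  haveI := hN
  haveI := hs
  haveI : Nontrivial ↥N := (Subgroup.nontrivial_iff_ne_bot N).2 hne
  have hex : ∃ n, derivedSeries ↥N n = ⊥ := (Group.isSolvable_def ↥N).1 inferInstance
  have h0 : Nat.find hex ≠ 0 := fun h0 => by
    have := Nat.find_spec hex
    rw [h0, derivedSeries_zero] at this
    exact top_ne_bot this
  obtain ⟨k, hk⟩ := Nat.exists_eq_succ_of_ne_zero h0
  set A := (derivedSeries ↥N k).map N.subtype with hA
  haveI hch : (derivedSeries ↥N k).Characteristic := derivedSeries_characteristic ↥N k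
  haveI hAn : A.Normal := ConjAct.normal_of_characteristic_of_normal
  have hAc : ∀ a ∈ A, ∀ b ∈ A, Commute a b := by
    rintro _ ⟨a, ha, rfl⟩ _ ⟨b, hb, rfl⟩
    refine Commute.map ?_ N.subtype
    have := Subgroup.commutator_mem_commutator ha hb
    rw [← derivedSeries_succ, ← Nat.succ_eq_add_one, ← hk, Nat.find_spec hex, Subgroup.mem_bot,
      commutatorElement_eq_one_iff_mul_comm] at this
    exact this
  have hAbot : A = ⊥ := by
    rw [eq_bot_iff, ← hZ]
    intro m hm
    have hle : Subgroup.closure E ≤ Subgroup.centralizer {m} := (Subgroup.closure_le _).2 fun d hd => by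
      refine Subgroup.mem_centralizer_singleton_iff.2 ?_
      have := hw d hd _ (h.tt.conj m d hd) (wtwin_of_normal h.tt hAn hAc hd hm)
      exact eq_mul_inv_iff_mul_eq.1 this
    refine Subgroup.mem_center_iff.2 fun g => ?_
    exact Subgroup.mem_centralizer_singleton_iff.1 (hle (h.gen ▸ Subgroup.mem_top g))
  rw [hA, Subgroup.map_eq_bot_iff_of_injective _ N.subtype_injective] at hAbot
  exact Nat.find_min hex (by omega) hAbot

end CfsgLib.ThreeTransp.Factor
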