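import Cfsg.Agent.Lib.ThreeTransp.M24Model
import Cfsg.Agent.Lib.ThreeTransp.SolFree

/-!
# Groups of type `M(24)`: central cores in the links

The link quotient of type `M(23)` has no solvable normal subgroup, its links of links being simple.
-/

set_option autoImplicit false

namespace CfsgLib.M24

open CfsgLib.ThreeTransp CfsgLib.SporMisc CfsgLib.ThreeTransp.Factor

variable {G : Type*} [Group G] [Finite G] {D : Set G}


set_option maxHeartbeats 1000000 in
theorem exists_link_cores (hD : Cfsg.IsThreeTranspositionGroup D) (hp : Cfsg.IsPrimitiveUnderConj D)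
    (ht : Cfsg.IsOfTypeM24 G D) : ∃ d ∈ D, ∀ p : ℕ, p.Prime →
      Cfsg.pCore p ↥(linkSub D d) ≤ Subgroup.center ↥(linkSub D d) := by
  obtain ⟨hZ, d, hd, -, -, -, hM, -⟩ := ht
  obtain ⟨hZ₁, d', hd', c', hc', hdc', hM', -⟩ := hM
  obtain ⟨-, e, he, -, -, -, ⟨F, iF, iF', hF, ⟨φ⟩⟩, -⟩ := hM'
  obtain ⟨hP, -⟩ := hyp_of_group hD hp hZ (exists_comm_pair hd hd')
  have hl := hP.link_ttc hd (nontriv_of_qSet hd' hc' fun h => hdc' (h ▸ Commute.refl _))
  have hq : TTC (qSet (linkIn D d)) := qSet_ttc hl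
  haveI : IsSimpleGroup (Cfsg.PSU 6 F 2) :=
    CfsgLib.Classical.Unitary.isSimpleGroup_PSU (by rw [hF]; norm_num) (by norm_num) (by norm_num)
  haveI := φ.toEquiv.nontrivial
  have hs := IsSimpleGroup.isSimpleGroup_of_surjective φ.symm.toMonoidHom φ.symm.surjective
  have hsol := sol_of_wtwin hq hZ₁ fun x hx y hy => wtwin_eq hq hd' he hs hx hy
  refine ⟨d, hd, fun p hp => ?_⟩
  haveI := Fact.mk hp
  haveI := CfsgLib.Cores.pCore_characteristic (G := ↥(linkSub D d)) p
  haveI := (CfsgLib.Cores.isPGroup_pCore (G := ↥(linkSub D d)) p).isNilpotent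
  set π := QuotientGroup.mk' (Subgroup.center ↥(linkSub D d)) with hπ
  have hbot := hsol ((Cfsg.pCore p ↥(linkSub D d)).map π)
    ((inferInstance : (Cfsg.pCore p ↥(linkSub D d)).Normal).map π (QuotientGroup.mk'_surjective _))
    (Group.isSolvable_of_surjective (f := π.subgroupMap _) (π.subgroupMap_surjective _))
  intro x hx
  exact (QuotientGroup.eq_one_iff x).1 (Subgroup.mem_bot.1 (hbot ▸ Subgroup.mem_map_of_mem π hx))

/-- The hypotheses follow from primitivity and the type. -/
theorem Setup.of_type (hD : Cfsg.IsThreeTranspositionGroup D) (hp : Cfsg.IsPrimitiveUnderConj D)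
    (ht : Cfsg.IsOfTypeM24 G D) : Setup D := by
  obtain ⟨d, hd, h⟩ := exists_link_cores hD hp ht
  exact Setup.of_group hD hp ht hd (h 2 Nat.prime_two) (h 3 Nat.prime_three)

end CfsgLib.M24
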