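import Cfsg.Agent.Lib.ThreeTransp.U6Lines
import Cfsg.Agent.Lib.SporMisc.ThreeBlocks

/-!
# Groups of type `M(22)`: the model of the link of a transposition

For a primitive class of 3-transpositions of type `M(22)` the link of every member `a` is identified with
the transvection points of `PSU₆(2)`, commuting corresponding to orthogonality.
-/

set_option autoImplicit false

namespace CfsgLib.M22

open CfsgLib.ThreeTransp CfsgLib.SporMisc
open CfsgLib.U6 (IsPt)
open CfsgLib.PSUAut (Isot)

variable {G : Type*} [Group G]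

/-- The part of being of type `M(22)` that is used: trivial centre, two members that do not commute, the group
of a link modulo its centre `PSU₆(2)`. -/
def TypeCore (G : Type*) [Group G] (D : Set G) : Prop :=
  Subgroup.center G = ⊥ ∧ ∃ d ∈ D, ∃ c ∈ D, ¬ Commute d c ∧
    ∃ (F : Type) (_ : Field F) (_ : Fintype F), Fintype.card F = 4 ∧
      Nonempty (↥(Subgroup.closure {y : G | y ∈ D ∧ y ≠ d ∧ Commute d y}) ⧸
        Subgroup.center ↥(Subgroup.closure {y : G | y ∈ D ∧ y ≠ d ∧ Commute d y}) ≃* Cfsg.PSU 6 F 2)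

theorem TypeCore.of_type {D : Set G} (h : Cfsg.IsOfTypeM22 G D) : TypeCore G D := by
  obtain ⟨hZ, d, hd, c, hc, hdc, hF, -⟩ := h
  exact ⟨hZ, d, hd, c, hc, hdc, hF⟩

/-- The hypotheses: a primitive generating class of 3-transpositions of type `M(22)`. -/
structure Setup (D : Set G) : Prop where
  tt : IsTT D
  gen : Subgroup.closure D = ⊤
  prim : Cfsg.IsPrimitiveUnderConj D
  type : TypeCore G D

theorem Setup.of_group [Finite G] {D : Set G} (hD : Cfsg.IsThreeTranspositionGroup D)
    (hp : Cfsg.IsPrimitiveUnderConj D) (ht : Cfsg.IsOfTypeM22 G D) : Setup D := by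
  obtain ⟨a, ha, -⟩ := hp.2.1
  refine ⟨isTT_of_class ⟨hD.1, ⟨a, ha, Set.ext fun x => ⟨fun hx => ?_, fun hx => ?_⟩⟩, hD.2.2⟩,
    hD.2.2, hp, TypeCore.of_type ht⟩
  · exact show IsConj a x from isConj_iff.2 (hp.1 a ha x hx)
  · obtain ⟨g, rfl⟩ := isConj_iff.1 (show IsConj a x from hx)
    exact hD.2.1 g a ha

/-- An identification of the group of the link of `a`, modulo its centre, with `PSU₆(2)`. -/
structure Model (D : Set G) (a : G) (F : Type) [Field F] [Fintype F] where
  ψ : ↥(Subgroup.closure (link D a)) →* Cfsg.PSU 6 F 2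
  surj : Function.Surjective ψ
  ker : ∀ x, ψ x = 1 ↔ x ∈ Subgroup.center ↥(Subgroup.closure (link D a))

variable {D : Set G}

theorem link_swap {a b : G} (ha : a ∈ D) (hb : b ∈ link D a) : a ∈ link D b :=
  ⟨ha, hb.2.1.symm, hb.2.2.symm⟩

theorem commute_link_closure {a x : G} (hx : x ∈ Subgroup.closure (link D a)) : Commute a x := by
  induction hx using Subgroup.closure_induction with
  | mem x hx => exact hx.2.2
  | one => exact Commute.one_right a
  | mul x y _ _ h1 h2 => exact h1.mul_right h2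
  | inv x _ h => exact h.inv_right

theorem commute_of_mem_center {S : Set G} {x : G} {hx : x ∈ Subgroup.closure S}
    (h : (⟨x, hx⟩ : ↥(Subgroup.closure S)) ∈ Subgroup.center ↥(Subgroup.closure S)) {y : G} (hy : y ∈ S) :
    Commute x y := by
  have := Subgroup.mem_center_iff.1 h ⟨y, Subgroup.subset_closure hy⟩
  exact (congrArg Subtype.val this).symm

theorem mem_center_of_commute {S : Set G} {x : G} {hx : x ∈ Subgroup.closure S}
    (h : ∀ y ∈ S, Commute x y) :
    (⟨x, hx⟩ : ↥(Subgroup.closure S)) ∈ Subgroup.center ↥(Subgroup.closure S) := by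
  refine Subgroup.mem_center_iff.2 fun y => Subtype.ext ?_
  obtain ⟨y, hy⟩ := y
  show y * x = x * y
  induction hy using Subgroup.closure_induction with
  | mem z hz => exact (h z hz).symm.eq
  | one => rw [one_mul, mul_one]
  | mul u v _ _ h1 h2 => rw [mul_assoc, h2, ← mul_assoc, h1, mul_assoc]
  | inv u _ h1 => exact (Commute.inv_left (h1 : Commute u x)).eq

namespace Setup

variable (S : Setup D)
include S

theorem cls {a b : G} (ha : a ∈ D) (hb : b ∈ D) : ∃ g : G, g * a * g⁻¹ = b := S.prim.1 a ha b hb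

theorem sqd {a : G} (ha : a ∈ D) : a * a = 1 := S.tt.sq a ha

theorem exists_noncommuting : ∃ a ∈ D, ∃ b ∈ D, ¬ Commute a b := by
  obtain ⟨-, d, hd, c, hc, hdc, -⟩ := S.type
  exact ⟨d, hd, c, hc, hdc⟩

theorem center_trivial {z : G} (h : ∀ x ∈ D, Commute z x) : z = 1 := by
  have hz : z ∈ Subgroup.center G := by
    refine Subgroup.mem_center_iff.2 fun g => ?_
    have hg : g ∈ Subgroup.closure D := S.gen ▸ Subgroup.mem_top g
    induction hg using Subgroup.closure_induction with
    | mem x hx => exact (h x hx).symm.eq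
    | one => rw [one_mul, mul_one]
    | mul u v _ _ h1 h2 => rw [mul_assoc, h2, ← mul_assoc, h1, mul_assoc]
    | inv u _ h1 => exact (Commute.inv_left (h1 : Commute u z)).eq
  rwa [S.type.1, Subgroup.mem_bot] at hz

/-- The data at every member. -/
theorem exists_models : ∃ (F : Type) (_ : Field F) (_ : Fintype F),
    Fintype.card F = 2 ^ 2 ∧ ∀ a ∈ D, Nonempty (Model D a F) := by
  obtain ⟨-, d, hd, c, -, -, F, hFf, hFt, hF, ⟨e⟩⟩ := S.type
  refine ⟨F, hFf, hFt, hF, fun a ha => ?_⟩
  obtain ⟨g, hg⟩ := S.cls ha hd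
  have himg : (MulAut.conj g).toMonoidHom '' link D a = link D d := by
    ext x
    constructor
    · rintro ⟨y, hy, rfl⟩
      exact hg ▸ link_conj S.tt g hy
    · intro hx
      refine ⟨g⁻¹ * x * g, ?_, by simp [mul_assoc]⟩
      have := link_conj S.tt g⁻¹ hx
      rw [← hg] at this
      simpa [mul_assoc] using this
  have hmap : (Subgroup.closure (link D a)).map (MulAut.conj g).toMonoidHom = Subgroup.closure (link D d) := by
    rw [MonoidHom.map_closure, himg]
  let c' : ↥(Subgroup.closure (link D a)) ≃* ↥(Subgroup.closure (link D d)) :=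
    ((MulAut.conj g).subgroupMap _).trans (MulEquiv.subgroupCongr hmap)
  let e' : ↥(Subgroup.closure (link D d)) ⧸ Subgroup.center ↥(Subgroup.closure (link D d)) ≃* Cfsg.PSU 6 F 2 := e
  refine ⟨⟨(e'.toMonoidHom.comp (QuotientGroup.mk' _)).comp c'.toMonoidHom,
    (e'.surjective.comp (QuotientGroup.mk'_surjective _)).comp c'.surjective, fun x => ?_⟩⟩
  show e' (c' x) = 1 ↔ _
  rw [map_eq_one_iff e' e'.injective, QuotientGroup.eq_one_iff, Subgroup.mem_center_iff, Subgroup.mem_center_iff]
  constructor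
  · intro h y
    apply c'.injective
    rw [map_mul, map_mul]
    exact h (c' y)
  · intro h y
    obtain ⟨y, rfl⟩ := c'.surjective y
    rw [← map_mul, ← map_mul, h y]

/-- A member commuting with the product of two commuting members commutes with both. -/
theorem commute_both {a b x : G} (ha : a ∈ D) (hb : b ∈ D) (hx : x ∈ D) (hab : Commute a b) (hne : a ≠ b)
    (h : Commute x (a * b)) : Commute x a ∧ Commute x b := by
  have haa := S.sqd ha
  have hbb := S.sqd hb
  have hb' : b = a * (a * b) := (cancel₂ haa b).symm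
  have ha' : a = a * b * b := by rw [mul_assoc, hbb, mul_one]
  by_cases hxa : Commute x a
  · exact ⟨hxa, hb' ▸ hxa.mul_right h⟩
  by_cases hxb : Commute x b
  · exact ⟨ha' ▸ h.mul_right hxb, hxb⟩
  exfalso
  apply hne
  have e1 : (x * a * x) * (x * b * x) = a * b := by
    calc (x * a * x) * (x * b * x) = x * (a * b) * x := by simp only [mul_assoc, cancel₂ (S.sqd hx)]
      _ = a * b := by rw [h.eq, mul_assoc, S.sqd hx, mul_one]
  rw [S.tt.braid hx ha hxa, S.tt.braid hx hb hxb] at e1
  have e2 : (a * x * a) * (b * x * b) = 1 := by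
    calc (a * x * a) * (b * x * b) = a * (x * (a * b)) * (x * b) := by simp only [mul_assoc]
      _ = a * (a * b * x) * (x * b) := by rw [h.eq]
      _ = 1 := by simp only [mul_assoc, cancel₂ (S.sqd hx), cancel₂ haa, hbb]
  rw [e1] at e2
  rw [mul_eq_one_iff_eq_inv, S.tt.inv_eq hb] at e2
  exact e2

variable [Finite G]

theorem link_ncard {a b : G} (ha : a ∈ D) (hb : b ∈ D) : (link D a).ncard ≤ (link D b).ncard := by
  obtain ⟨g, rfl⟩ := S.cls ha hb
  exact Set.ncard_le_ncard_of_injOn (fun x => g * x * g⁻¹) (fun x hx => link_conj S.tt g hx)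
    (fun x _ y _ h => by simpa using h) (Set.toFinite _)

/-- No two members have the same closed neighbourhood. -/
theorem closed_nbhd_inj {a b : G} (ha : a ∈ D) (hb : b ∈ D)
    (h : insert a (link D a) = insert b (link D b)) : a = b := by
  have he : Equivariant D (fun x => insert x (link D x)) := by
    intro g u hu v hv huv
    have key : ∀ u v : G, insert u (link D u) = insert v (link D v) →
        insert (g * u * g⁻¹) (link D (g * u * g⁻¹)) ⊆ insert (g * v * g⁻¹) (link D (g * v * g⁻¹)) := by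
      intro u v huv y hy
      have h1 : g⁻¹ * y * g ∈ insert u (link D u) := by
        rcases hy with rfl | hy
        · exact Or.inl (by group)
        · exact Or.inr (by simpa [mul_assoc] using link_conj S.tt g⁻¹ hy)
      rw [huv] at h1
      rcases h1 with h1 | h1
      · exact Or.inl (by rw [← h1]; group)
      · exact Or.inr (by simpa [mul_assoc] using link_conj S.tt g h1)
    exact Set.Subset.antisymm (key u v huv) (key v u huv.symm)
  rcases key_trivial_of_primitive S.tt S.prim he with h' | h'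
  · exact h' a ha b hb h
  · obtain ⟨u, hu, v, hv, huv⟩ := S.exists_noncommuting
    have : v ∈ insert u (link D u) := by
      rw [show insert u (link D u) = insert v (link D v) from h' u hu v hv]
      exact Set.mem_insert _ _
    rcases this with rfl | h1
    · exact absurd (Commute.refl _) huv
    · exact absurd h1.2.2 huv

/-- A member of the link of `a` is not central in the group of that link. -/
theorem not_central {a e : G} (ha : a ∈ D) (he : e ∈ link D a) : ∃ x ∈ link D a, ¬ Commute e x := by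
  by_contra hcon
  push Not at hcon
  have hsub : insert a (link D a) ⊆ insert e (link D e) := by
    rintro x (rfl | hx)
    · exact Or.inr (link_swap ha he)
    · by_cases hxe : x = e
      · exact Or.inl hxe
      · exact Or.inr ⟨hx.1, hxe, hcon x hx⟩
  refine he.2.1 (S.closed_nbhd_inj he.1 ha (Set.eq_of_subset_of_ncard_le hsub ?_ (Set.toFinite _)).symm)
  rw [Set.ncard_insert_of_notMem (fun h => h.2.1 rfl), Set.ncard_insert_of_notMem (fun h => h.2.1 rfl)]
  exact Nat.add_le_add_right (S.link_ncard he.1 ha) 1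

/-- The commuting graph is connected. -/
theorem comp_eq (hne : ∃ a ∈ D, (link D a).Nonempty) {a b : G} (ha : a ∈ D) (hb : b ∈ D) :
    comp D Commute a = comp D Commute b := by
  rcases key_trivial_of_primitive S.tt S.prim S.tt.equivariant_comp with h | h
  · obtain ⟨u, hu, v, hv⟩ := hne
    exact absurd (h u hu v hv.1 (comp_eq_of_mem (fun _ _ h => h.symm)
      (mem_comp_of_rel hu hv.1 hv.2.2)).symm) hv.2.1.symm
  · exact h a ha b hb

end Setup

namespace Model

variable {a : G} {F : Type} [Field F] [Fintype F]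

/-- The image of a member of the link. -/
def img (M : Model D a F) {e : G} (he : e ∈ link D a) : Cfsg.PSU 6 F 2 :=
  M.ψ ⟨e, Subgroup.subset_closure he⟩

variable (M : Model D a F)

theorem img_commute {e f : G} (he : e ∈ link D a) (hf : f ∈ link D a) (h : Commute e f) :
    Commute (M.img he) (M.img hf) :=
  Commute.map (show Commute (⟨e, Subgroup.subset_closure he⟩ : ↥(Subgroup.closure (link D a)))
    ⟨f, Subgroup.subset_closure hf⟩ from Subtype.ext h) M.ψ

theorem conj_mem (S : Setup D) {e : G} (he : e ∈ link D a)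
    (h : ↥(Subgroup.closure (link D a))) : (h : G) * e * (h : G)⁻¹ ∈ link D a := by
  have := link_conj S.tt (h : G) he
  rwa [show (h : G) * a * (h : G)⁻¹ = a by
    rw [← (commute_link_closure h.2).eq, mul_inv_cancel_right]] at this

theorem img_conj (S : Setup D) {e : G} (he : e ∈ link D a) (h : ↥(Subgroup.closure (link D a))) :
    M.img (conj_mem S he h) = M.ψ h * M.img he * (M.ψ h)⁻¹ := by
  rw [img, img, ← map_inv, ← map_mul, ← map_mul]
  rfl

variable [Finite G]
include M

theorem img_ne_one (S : Setup D) (ha : a ∈ D) {e : G} (he : e ∈ link D a) : M.img he ≠ 1 := by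
  intro h
  obtain ⟨x, hx, hnc⟩ := S.not_central ha he
  exact hnc (commute_of_mem_center ((M.ker _).1 h) hx)

theorem img_inj (S : Setup D) (ha : a ∈ D) {e f : G} (he : e ∈ link D a) (hf : f ∈ link D a)
    (h : M.img he = M.img hf) : e = f := by
  by_contra hne
  have hmem : e⁻¹ * f ∈ Subgroup.closure (link D a) :=
    mul_mem (inv_mem (Subgroup.subset_closure he)) (Subgroup.subset_closure hf)
  have hz : (⟨e⁻¹ * f, hmem⟩ : ↥(Subgroup.closure (link D a))) ∈ Subgroup.center _ := by
    refine (M.ker _).1 ?_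
    have : (⟨e⁻¹ * f, hmem⟩ : ↥(Subgroup.closure (link D a))) =
        (⟨e, Subgroup.subset_closure he⟩)⁻¹ * ⟨f, Subgroup.subset_closure hf⟩ := rfl
    rw [this, map_mul, map_inv, inv_mul_eq_one]
    exact h
  have hc : ∀ x ∈ link D a, Commute (e * f) x := by
    intro x hx
    have := commute_of_mem_center hz hx
    rwa [S.tt.inv_eq he.1] at this
  have hef : Commute e f := by
    have h1 : Commute e (e * f) := (hc e he).symm
    have := (Commute.refl e).mul_right h1
    rwa [cancel₂ (S.sqd he.1)] at this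
  obtain ⟨x, hx, hnc⟩ := S.not_central ha he
  exact hnc (S.commute_both he.1 hf.1 hx.1 hef hne (hc x hx).symm).1.symm

theorem commute_of_img (S : Setup D) (ha : a ∈ D) {e f : G} (he : e ∈ link D a) (hf : f ∈ link D a)
    (h : Commute (M.img he) (M.img hf)) : Commute e f := by
  have h1 := M.img_conj S hf ⟨e, Subgroup.subset_closure he⟩
  have h2 : M.ψ ⟨e, Subgroup.subset_closure he⟩ * M.img hf * (M.ψ ⟨e, Subgroup.subset_closure he⟩)⁻¹ = M.img hf := by
    show M.img he * M.img hf * (M.img he)⁻¹ = M.img hf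
    rw [h.eq, mul_inv_cancel_right]
  exact mul_inv_eq_iff_eq_mul.1 (M.img_inj S ha _ hf (h1.trans h2))

theorem exists_pt_of_link (S : Setup D) (hF : Fintype.card F = 2 ^ 2) (ha : a ∈ D) {e : G}
    (he : e ∈ link D a) : ∃ v, IsPt (M.img he) v := by
  refine U6.exists_isPt_of_class hF (C := {x | ∃ (f : G) (hf : f ∈ link D a), M.img hf = x}) ?_ ?_ ?_ ?_
    ⟨e, he, rfl⟩
  · rintro _ ⟨f, hf, rfl⟩
    rw [img, ← map_mul, show (⟨f, Subgroup.subset_closure hf⟩ : ↥(Subgroup.closure (link D a))) *
      ⟨f, Subgroup.subset_closure hf⟩ = 1 from Subtype.ext (S.sqd hf.1), map_one]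
  · rintro _ ⟨f, hf, rfl⟩
    exact M.img_ne_one S ha hf
  · rintro g _ ⟨f, hf, rfl⟩
    obtain ⟨h, rfl⟩ := M.surj g
    exact ⟨_, conj_mem S hf h, M.img_conj S hf h⟩
  · rintro _ ⟨f, hf, rfl⟩ _ ⟨f', hf', rfl⟩
    rcases S.tt.cond f hf.1 f' hf'.1 with hc | hc
    · exact Or.inl (M.img_commute hf hf' hc)
    · refine Or.inr ?_
      rw [img, img, ← map_mul, ← map_pow, show ((⟨f, Subgroup.subset_closure hf⟩ :
        ↥(Subgroup.closure (link D a))) * ⟨f', Subgroup.subset_closure hf'⟩) ^ 3 = 1 from
        Subtype.ext (pow_three_eq_one (S.sqd hf.1) (S.sqd hf'.1) hc), map_one]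

theorem link_nonempty (hF : Fintype.card F = 2 ^ 2) : (link D a).Nonempty := by
  rw [Set.nonempty_iff_ne_empty]
  intro h
  have hall : ∀ x : Cfsg.PSU 6 F 2, x = 1 := by
    intro x
    obtain ⟨y, rfl⟩ := M.surj x
    rw [show y = 1 from Subtype.ext (Subgroup.mem_bot.1 (by simpa [h] using y.2)), map_one]
  obtain ⟨σ, hσ⟩ := U6.exists_sigma hF
  obtain ⟨z, hz, hzu, -⟩ := CfsgLib.Transvec.Unitary.exists_iso_avoid (PSUAut.hU (n := 6) hF hσ)
    (by simp) (a := Pi.single 0 1) (b := Pi.single 0 1) (by simp) (by simp)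
  have hz0 : z ≠ 0 := fun e => hzu (by rw [e, U6.zero_left hF])
  obtain ⟨w, hw, -, hwz⟩ := U6.exists_perp_point hF (u := z) ⟨hz0, hz⟩
  obtain ⟨p, hp⟩ := U6.exists_pt hF (v := z) ⟨hz0, hz⟩
  obtain ⟨q, hq⟩ := U6.exists_pt hF hw
  rw [hall p] at hp
  rw [hall q] at hq
  obtain ⟨r, -, hr⟩ := IsPt.span_eq hF hp hq
  exact hwz r hr

/-- Every point is the image of a member of the link. -/
theorem exists_link_of_pt (S : Setup D) (hF : Fintype.card F = 2 ^ 2) (ha : a ∈ D)
    {y : Cfsg.PSU 6 F 2} {v : Fin 6 → F} (hy : IsPt y v) : ∃ (e : G) (he : e ∈ link D a), M.img he = y := by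
  obtain ⟨e₀, he₀⟩ := M.link_nonempty hF
  obtain ⟨v₀, hv₀⟩ := M.exists_pt_of_link S hF ha he₀
  obtain ⟨g, rfl⟩ := IsPt.exists_conj hF hv₀ hy
  obtain ⟨h, rfl⟩ := M.surj g
  exact ⟨_, conj_mem S he₀ h, M.img_conj S he₀ h⟩

/-- The group of the link acts transitively on the link. -/
theorem link_conj_of_mem (S : Setup D) (hF : Fintype.card F = 2 ^ 2) (ha : a ∈ D) {e f : G}
    (he : e ∈ link D a) (hf : f ∈ link D a) :
    ∃ h ∈ Subgroup.closure (link D a), h * e * h⁻¹ = f := by
  obtain ⟨u, hu⟩ := M.exists_pt_of_link S hF ha he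
  obtain ⟨v, hv⟩ := M.exists_pt_of_link S hF ha hf
  obtain ⟨g, hg⟩ := IsPt.exists_conj hF hu hv
  obtain ⟨h, rfl⟩ := M.surj g
  exact ⟨h, h.2, M.img_inj S ha (conj_mem S he h) hf ((M.img_conj S he h).trans hg)⟩

/-- Some member commutes with two given commuting members. -/
theorem exists_third (S : Setup D) (hF : Fintype.card F = 2 ^ 2) (ha : a ∈ D) {b : G} (hb : b ∈ link D a) :
    ∃ f, f ∈ link D a ∧ f ∈ link D b := by
  obtain ⟨u, hu⟩ := M.exists_pt_of_link S hF ha hb
  obtain ⟨v, hv, huv, hvu⟩ := U6.exists_perp_point hF hu.1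
  obtain ⟨y, hy⟩ := U6.exists_pt hF hv
  obtain ⟨f, hf, rfl⟩ := M.exists_link_of_pt S hF ha hy
  refine ⟨f, hf, hf.1, fun h => ?_, M.commute_of_img S ha hb hf ((IsPt.commute_iff hF hu hy).2 huv)⟩
  subst h
  obtain ⟨r, -, hr⟩ := IsPt.span_eq hF hu hy
  exact hvu r hr

end Model

end CfsgLib.M22
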