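import Cfsg.Agent.Lib.ThreeTransp.Fischer

/-!
# Rank three
-/

set_option autoImplicit false

namespace CfsgLib.ThreeTransp

variable {G : Type*} [Group G] {D : Set G}

theorem link_ncard_eq [Finite G] (hD : IsTT D)
    (hclass : ∀ a ∈ D, ∀ b ∈ D, ∃ g : G, g * a * g⁻¹ = b) {a b : G} (ha : a ∈ D) (hb : b ∈ D) :
    (link D a).ncard = (link D b).ncard := by
  have h : ∀ a ∈ D, ∀ b ∈ D, (link D a).ncard ≤ (link D b).ncard := by
    intro a ha b hb
    obtain ⟨g, hg⟩ := hclass a ha b hb
    exact Set.ncard_le_ncard_of_injOn (fun x => g * x * g⁻¹)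
      (fun x hx => hg ▸ link_conj hD g hx) (fun x _ y _ h => by simpa using h) (Set.toFinite _)
  exact le_antisymm (h a ha b hb) (h b hb a ha)

/-- `y` is in the `C(a)`-orbit of `x`. -/
def SameOrbit (a x y : G) : Prop := ∃ g : G, Commute g a ∧ g * x * g⁻¹ = y

theorem SameOrbit.refl (a x : G) : SameOrbit a x x := ⟨1, Commute.one_left a, by group⟩

theorem SameOrbit.symm {a x y : G} (h : SameOrbit a x y) : SameOrbit a y x := by
  obtain ⟨g, hg, rfl⟩ := h
  exact ⟨g⁻¹, hg.inv_left, by group⟩

theorem SameOrbit.trans {a x y z : G} (h : SameOrbit a x y) (h' : SameOrbit a y z) :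
    SameOrbit a x z := by
  obtain ⟨g, hg, rfl⟩ := h
  obtain ⟨k, hk, rfl⟩ := h'
  exact ⟨k * g, hk.mul_left hg, by group⟩

/-- Commuting members not commuting with `a` are conjugate under `C(a)`. -/
theorem IsTT.sameOrbit_of_commute (hD : IsTT D) {a x y : G} (ha : a ∈ D) (hx : x ∈ D) (hy : y ∈ D)
    (hax : ¬Commute a x) (hay : ¬Commute a y) (hxy : Commute x y) : SameOrbit a x y := by
  have a2 := hD.sq a ha; have x2 := hD.sq x hx; have y2 := hD.sq y hy
  have bx := hD.braid ha hx hax; have by' := hD.braid ha hy hay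
  set e := y * (x * a * x) * y with he
  have heD : e ∈ D := hD.cj_mem hy (hD.cj_mem hx ha)
  have hyxy : y * x * y = x := by rw [← hxy.eq, mul_assoc, y2, mul_one]
  have h1 : a * e * a = e := by
    calc a * e * a = a * y * (a * x * a) * y * a := by rw [he, bx]; simp [mul_assoc]
      _ = (a * y * a) * x * (a * y * a) := by simp [mul_assoc]
      _ = (y * a * y) * x * (y * a * y) := by rw [by']
      _ = y * a * (y * x * y) * a * y := by simp [mul_assoc]
      _ = e := by rw [hyxy, he, ← bx]; simp [mul_assoc]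
  have hea : Commute e a := by
    show e * a = a * e
    calc e * a = a * e * a * a := by rw [h1]
      _ = a * e := by rw [mul_assoc, a2, mul_one]
  refine ⟨a * e, (Commute.refl a).mul_left hea, ?_⟩
  rw [mul_inv_rev, hD.inv_eq heD, hD.inv_eq ha]
  have h2 : e * x * e = y * a * y := by
    calc e * x * e = y * x * a * x * (y * x * y) * x * a * x * y := by rw [he]; simp [mul_assoc]
      _ = y * x * (a * x * a) * x * y := by rw [hyxy]; simp [mul_assoc, cancel₂ x2]
      _ = y * a * y := by rw [bx]; simp [mul_assoc, cancel₂ x2]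
  calc a * e * x * (e * a) = a * (e * x * e) * a := by simp [mul_assoc]
    _ = y := by rw [h2, ← by']; simp [mul_assoc, cancel₂ a2, a2]

theorem IsTT.not_commute_of_ne_orbit (hD : IsTT D) {a x y : G} (ha : a ∈ D) (hx : x ∈ D)
    (hy : y ∈ D) (hax : ¬Commute a x) (hay : ¬Commute a y) (hne : ¬SameOrbit a x y) :
    ¬Commute a (y * x * y) := by
  intro hc
  have hxy : ¬Commute y x := fun h => hne (hD.sameOrbit_of_commute ha hx hy hax hay h.symm)
  refine hne (SameOrbit.symm ⟨y * x * y, hc.symm, ?_⟩)
  rw [hD.inv_eq (hD.cj_mem hy hx)]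
  exact hD.cj_conj_self hy hx hxy

/-- If some member of `link a` commutes with `y` but not with `x`, then `y x y` lies in the orbit
of `x`. -/
theorem IsTT.sameOrbit_cj (hD : IsTT D) {a x y e : G} (ha : a ∈ D) (hx : x ∈ D) (hy : y ∈ D)
    (hax : ¬Commute a x) (hay : ¬Commute a y) (hne : ¬SameOrbit a x y) (he : e ∈ link D a)
    (hey : Commute e y) (hex : ¬Commute e x) : SameOrbit a x (y * x * y) := by
  have hxy : ¬Commute x y := fun h => hne (hD.sameOrbit_of_commute ha hx hy hax hay h)
  have e2 := hD.sq e he.1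
  have hz := hD.cj_mem hy hx
  have hzn := hD.not_commute_of_ne_orbit ha hx hy hax hay hne
  have hw := hD.cj_mem he.1 hz
  have hwn : ¬Commute a (e * (y * x * y) * e) := fun h =>
    hzn ((hD.commute_cj_iff he.1 he.2.2).mp h)
  have h1 : e * (y * x * y) * e = y * (x * e * x) * y := by
    have c1 : e * y = y * e := hey.eq
    calc e * (y * x * y) * e = (e * y) * x * (y * e) := by simp [mul_assoc]
      _ = (y * e) * x * (e * y) := by rw [c1]
      _ = y * (e * x * e) * y := by simp [mul_assoc]
      _ = y * (x * e * x) * y := by rw [hD.braid he.1 hx hex]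
  have hyey : y * e * y = e := by rw [← hey.eq, mul_assoc, hD.sq y hy, mul_one]
  have hcomm : Commute x (e * (y * x * y) * e) := by
    rw [h1]
    have h2 : x * (y * (x * e * x) * y) * x = y * (x * e * x) * y := by
      calc x * (y * (x * e * x) * y) * x = (x * y * x) * e * (x * y * x) := by simp [mul_assoc]
        _ = (y * x * y) * e * (y * x * y) := by rw [hD.braid hx hy hxy]
        _ = y * x * (y * e * y) * x * y := by simp [mul_assoc]
        _ = y * (x * e * x) * y := by rw [hyey]; simp [mul_assoc]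
    show x * (y * (x * e * x) * y) = y * (x * e * x) * y * x
    calc x * (y * (x * e * x) * y) = x * (y * (x * e * x) * y) * x * x := by
          simp [mul_assoc, hD.sq x hx]
      _ = _ := by rw [h2]
  refine (hD.sameOrbit_of_commute ha hx hw hax hwn hcomm).trans ⟨e, he.2.2.symm, ?_⟩
  rw [hD.inv_eq he.1]
  simp [mul_assoc, cancel₂ e2, e2]

/-- The centralizer of `a` is transitive on the members not commuting with `a`. -/
theorem FischerHyp.exists_conj_noncomm [Finite G] (h : FischerHyp D) {a c c' : G} (ha : a ∈ D)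
    (hc : c ∈ D) (hc' : c' ∈ D) (hac : ¬Commute a c) (hac' : ¬Commute a c') : SameOrbit a c c' := by
  classical
  haveI := Fintype.ofFinite G
  have hD := h.tt
  by_contra hne
  set S : G → Set G := fun x => {e | e ∈ link D a ∧ Commute e x} with hS
  obtain ⟨w, hw, hmax⟩ := Finset.exists_max_image
    ((Finset.univ : Finset G).filter fun x => x ∈ D ∧ ¬Commute a x) (fun x => (S x).ncard)
    ⟨c, by simp [hc, hac]⟩
  simp only [Finset.mem_filter, Finset.mem_univ, true_and] at hw
  -- a member outside the orbit of `w`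
  obtain ⟨y, hy, hay, hwy⟩ : ∃ y ∈ D, ¬Commute a y ∧ ¬SameOrbit a w y := by
    by_contra hh
    push Not at hh
    exact hne ((hh c hc hac).symm.trans (hh c' hc' hac'))
  have hScard : ∀ g : G, Commute g a → ∀ x, (S (g * x * g⁻¹)).ncard = (S x).ncard := by
    have key : ∀ g : G, Commute g a → ∀ x, ∀ e ∈ S x, g * e * g⁻¹ ∈ S (g * x * g⁻¹) := by
      intro g hg x e he
      refine ⟨?_, (Commute.conj_iff g).mpr he.2⟩
      have := link_conj hD g he.1
      rwa [hg.eq, mul_inv_cancel_right] at this
    intro g hg x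
    apply le_antisymm
    · refine Set.ncard_le_ncard_of_injOn (fun e => g⁻¹ * e * g) ?_
        (fun u _ v _ huv => by simpa using huv) (Set.toFinite _)
      intro e he
      have := key g⁻¹ hg.inv_left _ e he
      simpa [mul_assoc] using this
    · exact Set.ncard_le_ncard_of_injOn (fun e => g * e * g⁻¹) (key g hg x)
        (fun u _ v _ huv => by simpa using huv) (Set.toFinite _)
  -- `S y` lies in `S x` for all `x` in the orbit of `w`
  have hsub : ∀ g : G, Commute g a → S y ⊆ S (g * w * g⁻¹) := by
    intro g hg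
    set x := g * w * g⁻¹ with hx
    have hxD : x ∈ D := hD.conj g w hw.1
    have hax : ¬Commute a x := by
      intro hc
      refine hw.2 ((Commute.conj_iff g).mp ?_)
      rwa [hg.eq, mul_inv_cancel_right]
    have hxy : ¬SameOrbit a x y := fun hh => hwy (SameOrbit.trans ⟨g, hg, rfl⟩ hh)
    by_contra hns
    obtain ⟨e, he, hex⟩ := Set.not_subset.mp hns
    have hex' : ¬Commute e x := fun h' => hex ⟨he.1, h'⟩
    have h1 := hD.sameOrbit_cj ha hxD hy hax hay hxy he.1 he.2 hex'
    obtain ⟨e', he', hey'⟩ : ∃ e' ∈ S x, e' ∉ S y := by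
      by_contra hh
      push Not at hh
      have hcard : (S x).ncard < (S y).ncard :=
        Set.ncard_lt_ncard ⟨hh, hns⟩ (Set.toFinite _)
      have := hmax y (by simp [hy, hay])
      rw [hx, hScard g hg] at hcard
      omega
    have hey'' : ¬Commute e' y := fun h' => hey' ⟨he'.1, h'⟩
    have h2 := hD.sameOrbit_cj ha hy hxD hay hax (fun hh => hxy hh.symm) he'.1 he'.2 hey''
    have hxyn : ¬Commute x y := fun h => hxy (hD.sameOrbit_of_commute ha hxD hy hax hay h)
    rw [hD.braid hxD hy hxyn] at h2
    exact hxy (h1.trans h2.symm)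
  -- hence `S y` is empty
  have hSy : S y = ∅ := by
    rw [Set.eq_empty_iff_forall_notMem]
    intro e he
    have hall : ∀ f ∈ link D a, Commute f w := by
      intro f hf
      obtain ⟨k, hk, hkf⟩ := h.exists_conj_link ha he.1 hf
      have hka : Commute k a := Subgroup.closure_induction (p := fun z _ => Commute z a)
        (fun z hz => hz.2.2.symm) (Commute.one_left a) (fun _ _ _ _ h1 h2 => h1.mul_left h2)
        (fun _ _ h1 => h1.inv_left) hk
      have := (Commute.conj_iff k).mpr (hsub k⁻¹ hka.inv_left he).2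
      rw [hkf] at this
      simpa [mul_assoc] using this
    have hle : link D a ⊆ link D w := fun f hf =>
      ⟨hf.1, fun h' => hw.2 (h' ▸ hf.2.2), (hall f hf).symm⟩
    have heq := Set.eq_of_subset_of_ncard_le hle
      (link_ncard_eq hD h.isClass hw.1 ha).le (Set.toFinite _)
    exact hw.2 (h.tt.link_inj h.sol ha hw.1 heq ▸ Commute.refl a)
  -- so the commuting component of `y` avoids `a`
  have hgood : ∀ z, Relation.ReflTransGen (fun u v => u ∈ D ∧ v ∈ D ∧ Commute u v) y z →
      ¬Commute a z ∧ SameOrbit a y z := by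
    intro z hz
    induction hz with
    | refl => exact ⟨hay, SameOrbit.refl a y⟩
    | @tail u v _ huv ih =>
      obtain ⟨hau, g, hg, hgu⟩ := ih
      have hav : ¬Commute a v := by
        intro hav
        have hva : v ≠ a := fun e => hau (e ▸ huv.2.2.symm)
        have hmem : v ∈ S (g * y * g⁻¹) := ⟨⟨huv.2.1, hva, hav⟩, hgu ▸ huv.2.2.symm⟩
        have hpos : 0 < (S (g * y * g⁻¹)).ncard := (Set.ncard_pos (Set.toFinite _)).mpr ⟨v, hmem⟩
        rw [hScard g hg, hSy, Set.ncard_empty] at hpos
        omega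
      exact ⟨hav, SameOrbit.trans ⟨g, hg, hgu⟩
        (hD.sameOrbit_of_commute ha huv.1 huv.2.1 hau hav huv.2.2)⟩
  have hay' : a ∈ comp D Commute y := by
    rw [h.tt.comp_eq_comp h.gen h.perf h.isClass hy ha]
    exact mem_comp_self _ _ _
  exact (hgood a hay').1 (Commute.refl a)

end CfsgLib.ThreeTransp
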