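import Mathlib

/-!
# Integrality of the eigenvalues of a strongly regular relation
-/

set_option autoImplicit false

namespace CfsgLib.ThreeTransp

open Matrix

/-- The trace of an idempotent real matrix is a natural number. -/
theorem trace_idempotent_nat {V : Type*} [Fintype V] [DecidableEq V] {P : Matrix V V ℝ}
    (h : P * P = P) : ∃ r : ℕ, P.trace = (r : ℝ) := by
  have hproj : LinearMap.IsProj (LinearMap.range (Matrix.toLin' P)) (Matrix.toLin' P) := by
    refine ⟨fun x => LinearMap.mem_range_self _ x, ?_⟩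
    rintro _ ⟨y, rfl⟩
    rw [← LinearMap.comp_apply, ← Matrix.toLin'_mul, h]
  exact ⟨_, by rw [← Matrix.trace_toLin'_eq]; exact hproj.trace⟩

/-- In a strongly regular relation with parameters `(n, k, l, m)` for which the two restricted eigenvalues do
not have opposite multiplicities, the discriminant is a square. -/
theorem srg_discr {V : Type*} [Fintype V] [Nonempty V] (r : V → V → Prop) (hs : ∀ x y, r x y → r y x)
    (hi : ∀ x, ¬ r x x) {k l m : ℕ} (hk : ∀ x, Nat.card {y // r x y} = k)
    (hl : ∀ x y, r x y → Nat.card {z // r x z ∧ r y z} = l)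
    (hm : ∀ x y, x ≠ y → ¬ r x y → Nat.card {z // r x z ∧ r y z} = m)
    (hT : ((Fintype.card V : ℤ) - 1) * ((l : ℤ) - m) + 2 * k ≠ 0) :
    IsSquare (((l : ℤ) - m) ^ 2 + 4 * ((k : ℤ) - m)) := by
  classical
  set n : ℝ := (Fintype.card V : ℝ) with hn
  have hn0 : n ≠ 0 := by rw [hn]; exact_mod_cast Fintype.card_ne_zero
  let A : Matrix V V ℝ := Matrix.of fun x y => if r x y then 1 else 0
  let J : Matrix V V ℝ := Matrix.of fun _ _ => 1
  have hAA : A * A = ((k : ℝ) - m) • (1 : Matrix V V ℝ) + ((l : ℝ) - m) • A + (m : ℝ) • J := by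
    ext x y
    have hc : (A * A) x y = (Nat.card {z // r x z ∧ r y z} : ℝ) := by
      simp only [A, Matrix.mul_apply, Matrix.of_apply, ite_mul, one_mul, zero_mul, ← ite_and]
      rw [Finset.sum_boole, Nat.card_eq_fintype_card, Fintype.card_subtype]
      congr 2
      refine Finset.filter_congr fun z _ => ?_
      exact ⟨fun h => ⟨h.1, hs _ _ h.2⟩, fun h => ⟨h.1, hs _ _ h.2⟩⟩
    rw [hc]
    simp only [A, J, Matrix.add_apply, Matrix.smul_apply, Matrix.of_apply, smul_eq_mul]
    by_cases hxy : x = y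
    · subst hxy
      rw [Matrix.one_apply_eq, if_neg (hi x), Nat.card_congr (Equiv.subtypeEquivRight
        fun z => show r x z ∧ r x z ↔ r x z from and_self_iff), hk]
      ring
    · rw [Matrix.one_apply_ne hxy]
      by_cases h : r x y
      · rw [if_pos h, hl x y h]; ring
      · rw [if_neg h, hm x y hxy h]; ring
  have hAJ : A * J = (k : ℝ) • J := by
    ext x y
    simp only [A, J, Matrix.mul_apply, Matrix.smul_apply, Matrix.of_apply, mul_one, smul_eq_mul]
    rw [Finset.sum_boole, ← hk x, Nat.card_eq_fintype_card, Fintype.card_subtype]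
  have hJA : J * A = (k : ℝ) • J := by
    ext x y
    simp only [A, J, Matrix.mul_apply, Matrix.smul_apply, Matrix.of_apply, one_mul, smul_eq_mul, mul_one]
    rw [Finset.sum_boole, ← hk y, Nat.card_eq_fintype_card, Fintype.card_subtype]
    congr 2
    exact Finset.filter_congr fun z _ => ⟨hs _ _, hs _ _⟩
  have hJJ : J * J = n • J := by
    ext x y
    simp [J, n, Matrix.mul_apply]
  have trA : A.trace = 0 := Finset.sum_eq_zero fun x _ => by simp [A, hi x]
  have trJ : J.trace = n := by simp [J, n, Matrix.trace]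
  have tr1 : (1 : Matrix V V ℝ).trace = n := by simp [n]
  set p : ℝ := (l : ℝ) - m with hp
  set c : ℝ := (p - 2 * k) / n with hcdef
  set d : ℝ := p ^ 2 + 4 * ((k : ℝ) - m) with hd
  set M : Matrix V V ℝ := (2 : ℝ) • A - p • 1 + c • J with hM
  set P : Matrix V V ℝ := 1 - n⁻¹ • J with hP
  have hcn : c * n = p - 2 * k := by rw [hcdef, div_mul_cancel₀ _ hn0]
  have hMJ : M * J = 0 := by
    rw [hM, add_mul, sub_mul, smul_mul_assoc, smul_mul_assoc, smul_mul_assoc, hAJ, one_mul, hJJ,
      smul_smul, smul_smul, ← sub_smul, ← add_smul, hcn]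
    convert zero_smul ℝ J using 2
    ring
  have hJM : J * M = 0 := by
    rw [hM, mul_add, mul_sub, mul_smul_comm, mul_smul_comm, mul_smul_comm, hJA, mul_one, hJJ,
      smul_smul, smul_smul, ← sub_smul, ← add_smul, hcn]
    convert zero_smul ℝ J using 2
    ring
  have hPP : P * P = P := by
    rw [hP, sub_mul, one_mul, mul_sub, mul_one, smul_mul_assoc, mul_smul_comm, hJJ, smul_smul, smul_smul]
    field_simp
    module
  have hMP : M * P = M := by rw [hP, mul_sub, mul_one, mul_smul_comm, hMJ, smul_zero, sub_zero]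
  have hPM : P * M = M := by rw [hP, sub_mul, one_mul, smul_mul_assoc, hJM, smul_zero, sub_zero]
  have hMM : M * M = d • P := by
    -- the coefficient of the all-ones matrix follows from `M * J = 0`
    have hexp : ∃ e : ℝ, M * M = d • (1 : Matrix V V ℝ) + e • J := by
      refine ⟨4 * m + 4 * c * k - 2 * p * c + c * c * n, ?_⟩
      rw [hM]
      simp only [add_mul, sub_mul, mul_add, mul_sub, smul_mul_assoc, mul_smul_comm, one_mul, mul_one,
        hAA, hAJ, hJA, hJJ, smul_smul, smul_add, hd]
      module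
    obtain ⟨e, he⟩ := hexp
    have h1 : (0 : Matrix V V ℝ) = (d + e * n) • J := by
      calc (0 : Matrix V V ℝ) = M * M * J := by rw [mul_assoc, hMJ, mul_zero]
        _ = _ := by rw [he, add_mul, smul_mul_assoc, smul_mul_assoc, one_mul, hJJ, smul_smul, ← add_smul]
    obtain ⟨x⟩ := (inferInstance : Nonempty V)
    have h2 := congrFun (congrFun h1 x) x
    simp only [Matrix.zero_apply, Matrix.smul_apply, J, Matrix.of_apply, smul_eq_mul, mul_one] at h2
    have : e = -(d * n⁻¹) := by
      field_simp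
      linarith
    rw [he, hP, this, smul_sub, smul_smul, neg_smul, sub_eq_add_neg]
  have hMtr : M.trace = -(((n - 1) * p + 2 * k)) := by
    rw [hM, Matrix.trace_add, Matrix.trace_sub, Matrix.trace_smul, Matrix.trace_smul, Matrix.trace_smul,
      trA, tr1, trJ, smul_eq_mul, smul_eq_mul, smul_eq_mul, hcn]
    ring
  have hPtr : P.trace = n - 1 := by
    rw [hP, Matrix.trace_sub, Matrix.trace_smul, tr1, trJ, smul_eq_mul, inv_mul_cancel₀ hn0]
  set T : ℤ := ((Fintype.card V : ℤ) - 1) * ((l : ℤ) - m) + 2 * k with hTdef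
  have hTR : (T : ℝ) = (n - 1) * p + 2 * k := by rw [hTdef, hn, hp]; push_cast; ring
  set δ : ℤ := ((l : ℤ) - m) ^ 2 + 4 * ((k : ℤ) - m) with hδ
  have hdR : (δ : ℝ) = d := by rw [hδ, hd, hp]; push_cast; ring
  -- the trace vanishes unless the discriminant is positive
  have hd0 : 0 < d := by
    by_contra hneg
    have hsym : ∀ x y, M x y = M y x := by
      intro x y
      simp only [hM, A, J, Matrix.add_apply, Matrix.sub_apply, Matrix.smul_apply, Matrix.of_apply,
        Matrix.one_apply, eq_comm (a := x) (b := y)]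
      rw [show (if r x y then (1 : ℝ) else 0) = if r y x then 1 else 0 from
        if_congr ⟨hs _ _, hs _ _⟩ rfl rfl]
    have hzero : ∀ x, M x x = 0 := by
      intro x
      have h := congrFun (congrFun hMM x) x
      rw [Matrix.mul_apply] at h
      have hPx : 0 ≤ P x x := by
        simp only [hP, J, Matrix.sub_apply, Matrix.one_apply_eq, Matrix.smul_apply, Matrix.of_apply,
          smul_eq_mul, mul_one]
        have : (1 : ℝ) ≤ n := by rw [hn]; exact_mod_cast Fintype.card_pos
        have := inv_le_one_of_one_le₀ this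
        linarith
      have hle : ∑ j, M x j * M j x ≤ 0 := by
        rw [h, Matrix.smul_apply, smul_eq_mul]
        exact mul_nonpos_of_nonpos_of_nonneg (not_lt.1 hneg) hPx
      have hnn : ∀ j ∈ Finset.univ, 0 ≤ M x j * M j x := fun j _ => by
        rw [hsym j x]; exact mul_self_nonneg _
      have := (Finset.sum_eq_zero_iff_of_nonneg hnn).1 (le_antisymm hle (Finset.sum_nonneg hnn)) x
        (Finset.mem_univ x)
      exact mul_self_eq_zero.1 this
    refine hT ?_
    have h0 : M.trace = 0 := Finset.sum_eq_zero fun x _ => hzero x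
    rw [hMtr, neg_eq_zero, ← hTR] at h0
    exact_mod_cast h0
  set s := Real.sqrt d with hsdef
  have hs0 : s ≠ 0 := Real.sqrt_ne_zero'.2 hd0
  have hss : s * s = d := Real.mul_self_sqrt hd0.le
  set R : Matrix V V ℝ := (2 : ℝ)⁻¹ • (P + s⁻¹ • M) with hR
  have hRR : R * R = R := by
    rw [hR]
    simp only [smul_mul_assoc, mul_smul_comm, add_mul, mul_add, hPP, hMP, hPM, hMM, smul_smul, smul_add,
      ← hss]
    match_scalars <;> field_simp <;> ring
  obtain ⟨j, hj⟩ := trace_idempotent_nat hRR
  rw [hR, Matrix.trace_smul, Matrix.trace_add, Matrix.trace_smul, hPtr, hMtr, smul_eq_mul, smul_eq_mul,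
    ← hTR] at hj
  have hlin : (T : ℝ) = s * (n - 1 - 2 * j) := by
    field_simp at hj
    linarith
  set z : ℤ := (Fintype.card V : ℤ) - 1 - 2 * j with hz
  have hzR : (z : ℝ) = n - 1 - 2 * j := by rw [hz, hn]; push_cast; ring
  have hsq : T ^ 2 = δ * z ^ 2 := by
    have : (T : ℝ) ^ 2 = (δ : ℝ) * (z : ℝ) ^ 2 := by rw [hdR, hlin, hzR, ← hss]; ring
    exact_mod_cast this
  have hz0 : z ≠ 0 := by
    intro h
    rw [h] at hsq
    exact hT (pow_eq_zero_iff two_ne_zero |>.1 (by simpa using hsq))
  obtain ⟨q, hq⟩ : z ∣ T := (Int.pow_dvd_pow_iff two_ne_zero).1 ⟨δ, by rw [hsq]; ring⟩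
  refine ⟨q, ?_⟩
  have : z ^ 2 * δ = z ^ 2 * (q * q) := by rw [mul_comm, ← hsq, hq]; ring
  exact mul_left_cancel₀ (pow_ne_zero 2 hz0) this

end CfsgLib.ThreeTransp
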