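import Cfsg.Agent.Lib.ThreeTransp.M22Invol

/-!
# Groups of type `M(22)`: the three classes of involutions
-/

set_option autoImplicit false

namespace CfsgLib.M22

open CfsgLib.ThreeTransp CfsgLib.SporMisc
open CfsgLib.U6 (IsPt)

variable {G : Type*} [Group G] {D : Set G}
variable [Finite G] (S : Setup D) {F : Type} [Field F] [Fintype F] (hF : Fintype.card F = 2 ^ 2)
  (hM : ∀ a ∈ D, Nonempty (Model D a F))
include S hF hM

/-- A product of two commuting members is neither trivial nor a member. -/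
theorem pair_notMem {a b : G} (ha : a ∈ D) (hb : b ∈ link D a) : a * b ≠ 1 ∧ a * b ∉ D := by
  refine ⟨fun h => hb.2.1 ?_, fun hc => ?_⟩
  · rw [mul_eq_one_iff_inv_eq, S.tt.inv_eq ha] at h
    exact h.symm
  set c := a * b with hcdef
  have hb' : b = a * c := (cancel₂ (S.sqd ha) b).symm
  have hcb : c ≠ b := fun h => S.tt.ne_one a ha (mul_eq_right.1 h)
  have hca : c ≠ a := fun h => S.tt.ne_one b hb.1 (mul_eq_left.1 h)
  have lac : c ∈ link D a := ⟨hc, hca, (Commute.refl a).mul_right hb.2.2⟩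
  obtain ⟨A⟩ := hM a ha
  apply hcb
  refine (A.img_inj S ha hb lac ?_).symm
  have hmem : c * b ∈ Subgroup.closure (link D a) :=
    mul_mem (Subgroup.subset_closure lac) (Subgroup.subset_closure hb)
  have hz : (⟨c * b, hmem⟩ : ↥(Subgroup.closure (link D a))) ∈ Subgroup.center _ :=
    mem_center_of_commute fun e he => by
      rw [show c * b = a by rw [hcdef, mul_assoc, S.sqd hb.1, mul_one]]
      exact he.2.2
  have h1 : A.img lac * A.img hb = 1 := by
    simp only [Model.img, ← map_mul]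
    exact (A.ker _).2 hz
  have h2 : A.img hb * A.img hb = 1 := by
    rw [Model.img, ← map_mul, show (⟨b, Subgroup.subset_closure hb⟩ : ↥(Subgroup.closure (link D a))) *
      ⟨b, Subgroup.subset_closure hb⟩ = 1 from Subtype.ext (S.sqd hb.1), map_one]
  exact mul_right_cancel (h2.trans h1.symm)

/-- A product of a triple is neither trivial nor a member. -/
theorem tri_notMem {a b c : G} (T : Tri D a b c) : a * b * c ≠ 1 ∧ a * b * c ∉ D := by
  refine ⟨fun h => (pair_notMem S hF hM T.ha T.mem_link_b).2 ?_, fun hx => ?_⟩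
  · rw [mul_eq_one_iff_eq_inv, S.tt.inv_eq T.hc] at h
    exact h ▸ T.hc
  set x := a * b * c with hxdef
  obtain ⟨x1, x2, x3⟩ := commute_all S hF hM hx T (Commute.refl x)
  have haux : ∀ {a b c : G}, Tri D a b c → a * b * c = x → x ≠ a := by
    intro a b c T he h
    refine (pair_notMem S hF hM T.hb (show c ∈ link D b from ⟨T.hc, T.bc.symm, T.cbc⟩)).1 ?_
    rw [h, mul_assoc] at he
    exact mul_eq_left.1 he
  have nxa := haux T rfl
  have nxb := haux T.rot T.prod_rot
  have nxc := haux T.rot.rot (T.rot.prod_rot.trans T.prod_rot)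
  have la : a ∈ link D x := ⟨T.ha, nxa.symm, x1⟩
  have lb : b ∈ link D x := ⟨T.hb, nxb.symm, x2⟩
  have lc : c ∈ link D x := ⟨T.hc, nxc.symm, x3⟩
  obtain ⟨X⟩ := hM x hx
  obtain ⟨u, hu⟩ := X.exists_pt_of_link S hF hx la
  obtain ⟨v, hv⟩ := X.exists_pt_of_link S hF hx lb
  obtain ⟨w, hw⟩ := X.exists_pt_of_link S hF hx lc
  refine U6.three_ne_one hF hu hv hw ((X.comm_iff S hF hx la lb hu hv).1 T.cab)
    ((X.comm_iff S hF hx la lc hu hw).1 T.cac) ((X.comm_iff S hF hx lb lc hv hw).1 T.cbc)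
    (fun e => T.ab (X.img_inj S hx la lb e)) (fun e => T.ac (X.img_inj S hx la lc e)) ?_
  have hmem : a * b * c ∈ Subgroup.closure (link D x) :=
    mul_mem (mul_mem (Subgroup.subset_closure la) (Subgroup.subset_closure lb)) (Subgroup.subset_closure lc)
  have hz : (⟨a * b * c, hmem⟩ : ↥(Subgroup.closure (link D x))) ∈ Subgroup.center _ :=
    mem_center_of_commute fun e he => he.2.2
  simp only [Model.img, ← map_mul]
  exact (X.ker _).2 hz

/-- A product of two commuting members is not the product of a triple. -/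
theorem pair_ne_tri {a b c d e : G} (ha : a ∈ D) (hb : b ∈ link D a) (T : Tri D c d e) :
    a * b ≠ c * d * e := by
  intro h
  have hca : Commute a (c * d * e) := h ▸ (Commute.refl a).mul_right hb.2.2
  have hcb : Commute b (c * d * e) := h ▸ hb.2.2.symm.mul_right (Commute.refl b)
  obtain ⟨a1, a2, a3⟩ := commute_all S hF hM ha T hca
  obtain ⟨b1, b2, b3⟩ := commute_all S hF hM hb.1 T hcb
  have haux : ∀ {a b c d e : G}, a ∈ D → b ∈ link D a → Tri D c d e → a * b = c * d * e → a ≠ c := by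
    intro a b c d e ha hb T h hac
    subst hac
    rw [mul_assoc] at h
    have := mul_left_cancel h
    exact (pair_notMem S hF hM T.hb (show e ∈ link D d from ⟨T.hc, T.bc.symm, T.cbc⟩)).2 (this ▸ hb.1)
  have nac := haux ha hb T h
  have nad := haux ha hb T.rot (h.trans T.prod_rot.symm)
  have nae := haux ha hb T.rot.rot (h.trans (T.rot.prod_rot.trans T.prod_rot).symm)
  have h' : b * a = c * d * e := hb.2.2.symm.eq.trans h
  have lba := link_swap ha hb
  have nbc := haux hb.1 lba T h'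
  have nbd := haux hb.1 lba T.rot (h'.trans T.prod_rot.symm)
  have nbe := haux hb.1 lba T.rot.rot (h'.trans (T.rot.prod_rot.trans T.prod_rot).symm)
  have lc : c ∈ link D a := ⟨T.ha, nac.symm, a1⟩
  have ld : d ∈ link D a := ⟨T.hb, nad.symm, a2⟩
  have le : e ∈ link D a := ⟨T.hc, nae.symm, a3⟩
  obtain ⟨A⟩ := hM a ha
  obtain ⟨u₀, hu₀⟩ := A.exists_pt_of_link S hF ha hb
  obtain ⟨u₁, hu₁⟩ := A.exists_pt_of_link S hF ha lc
  obtain ⟨u₂, hu₂⟩ := A.exists_pt_of_link S hF ha ld
  obtain ⟨u₃, hu₃⟩ := A.exists_pt_of_link S hF ha le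
  have inj : ∀ {s t : G} (ls : s ∈ link D a) (lt : t ∈ link D a), s ≠ t → A.img ls ≠ A.img lt :=
    fun ls lt h e => h (A.img_inj S ha ls lt e)
  refine four_ne_one hF hu₀ hu₁ hu₂ hu₃ ((A.comm_iff S hF ha hb lc hu₀ hu₁).1 b1)
    ((A.comm_iff S hF ha hb ld hu₀ hu₂).1 b2) ((A.comm_iff S hF ha hb le hu₀ hu₃).1 b3)
    ((A.comm_iff S hF ha lc ld hu₁ hu₂).1 T.cab) ((A.comm_iff S hF ha lc le hu₁ hu₃).1 T.cac)
    ((A.comm_iff S hF ha ld le hu₂ hu₃).1 T.cbc) ?_ ?_
  · simp only [List.nodup_cons, List.mem_cons, List.not_mem_nil, or_false, not_or, List.nodup_nil,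
      not_false_eq_true, and_true]
    exact ⟨⟨inj hb lc nbc, inj hb ld nbd, inj hb le nbe⟩, ⟨inj lc ld T.ab, inj lc le T.ac⟩, inj ld le T.bc⟩
  have hmem : b * c * d * e ∈ Subgroup.closure (link D a) :=
    mul_mem (mul_mem (mul_mem (Subgroup.subset_closure hb) (Subgroup.subset_closure lc))
      (Subgroup.subset_closure ld)) (Subgroup.subset_closure le)
  have hz : (⟨b * c * d * e, hmem⟩ : ↥(Subgroup.closure (link D a))) ∈ Subgroup.center _ :=
    mem_center_of_commute fun x hx => by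
      rw [show b * c * d * e = a by
        rw [mul_assoc, mul_assoc, ← mul_assoc c, ← h, hb.2.2.eq, cancel₂ (S.sqd hb.1)]]
      exact hx.2.2
  simp only [Model.img, ← map_mul]
  exact (A.ker _).2 hz

/-- Products of commuting pairs are conjugate. -/
theorem pair_conj {a b a' b' : G} (ha : a ∈ D) (hb : b ∈ link D a) (ha' : a' ∈ D) (hb' : b' ∈ link D a') :
    IsConj (a * b) (a' * b') := by
  obtain ⟨g, hg⟩ := S.cls ha ha'
  obtain ⟨A⟩ := hM a' ha'
  obtain ⟨h, hh, hhb⟩ := A.link_conj_of_mem S hF ha' (hg ▸ link_conj S.tt g hb) hb'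
  refine isConj_iff.2 ⟨h * g, ?_⟩
  calc h * g * (a * b) * (h * g)⁻¹ = h * (g * a * g⁻¹) * h⁻¹ * (h * (g * b * g⁻¹) * h⁻¹) := by group
    _ = a' * b' := by rw [hg, hhb, ← (commute_link_closure hh).eq, mul_inv_cancel_right]

omit S hF hM [Finite G] in
/-- The members of a list of at most three commuting members. -/
theorem list_cases {l : List G} {m : ℕ} {x : G} (h1 : 1 ≤ m) (h3 : m ≤ 3) (hnd : l.Nodup) (hlen : l.length = m)
    (hD : ∀ a ∈ l, a ∈ D) (hc : ∀ a ∈ l, ∀ b ∈ l, Commute a b) (hx : l.prod = x) :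
    (m = 1 ∧ x ∈ D) ∨ (m = 2 ∧ ∃ a b, a ∈ D ∧ b ∈ link D a ∧ a * b = x) ∨
      (m = 3 ∧ ∃ a b c, Tri D a b c ∧ a * b * c = x) := by
  match l, hnd, hlen, hD, hc, hx with
  | [], _, hlen, _, _, _ => simp at hlen; omega
  | [a], _, hlen, hD, _, hx => exact Or.inl ⟨hlen.symm, by simpa [← hx] using hD a (by simp)⟩
  | [a, b], hnd, hlen, hD, hc, hx =>
    refine Or.inr (Or.inl ⟨hlen.symm, a, b, hD a (by simp),
      ⟨hD b (by simp), ?_, hc a (by simp) b (by simp)⟩, by simpa using hx⟩)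
    intro e
    simp [e] at hnd
  | [a, b, c], hnd, hlen, hD, hc, hx =>
    simp only [List.nodup_cons, List.mem_cons, List.not_mem_nil, or_false, not_or, List.nodup_nil,
      not_false_eq_true, and_true] at hnd
    exact Or.inr (Or.inr ⟨hlen.symm, a, b, c, ⟨hD a (by simp), hD b (by simp), hD c (by simp), hnd.1.1, hnd.1.2,
      hnd.2, hc a (by simp) b (by simp), hc a (by simp) c (by simp), hc b (by simp) c (by simp)⟩,
      by simpa [mul_assoc] using hx⟩)
  | _ :: _ :: _ :: _ :: _, _, hlen, _, _, _ => simp at hlen; omega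

end CfsgLib.M22
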