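import Cfsg.Agent.Lib.ThreeTransp.M23Centralizer
import Cfsg.Agent.Lib.ThreeTransp.M22Classes

/-!
# Groups of type `M(23)`: involutions

An involution fixes one of the `31671` members and is then a product of at most four commuting members;
four may be replaced by three.
-/

set_option autoImplicit false

namespace CfsgLib.M23

open CfsgLib.ThreeTransp CfsgLib.SporMisc CfsgLib.ThreeTransp.Factor
open CfsgLib.M22 (Tri)

variable {G : Type*} [Group G] {D : Set G}
variable [Finite G] (S : Setup D)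
include S

omit [Finite G] in
theorem tri_sq {a b c : G} (T : Tri D a b c) : (a * b * c) * (a * b * c) = 1 := by
  have h : Commute (a * b) c := T.cac.mul_left T.cbc
  calc (a * b * c) * (a * b * c) = (a * b) * (a * b) * (c * c) := h.symm.mul_mul_mul_comm _ _
    _ = (a * a) * (b * b) * (c * c) := by rw [T.cab.symm.mul_mul_mul_comm]
    _ = 1 := by rw [S.sqd T.ha, S.sqd T.hb, S.sqd T.hc, one_mul, one_mul]

omit [Finite G] in
theorem commute_both {a b x : G} (ha : a ∈ D) (hb : b ∈ D) (hx : x ∈ D) (hab : Commute a b) (hne : a ≠ b)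
    (h : Commute x (a * b)) : Commute x a ∧ Commute x b := by
  have haa := S.sqd ha
  have hbb := S.sqd hb
  have hb' : b = a * (a * b) := (cancel₂ haa b).symm
  have ha' : a = a * b * b := by rw [mul_assoc, hbb, mul_one]
  by_cases hxa : Commute x a
  · exact ⟨hxa, hb' ▸ hxa.mul_right h⟩
  by_cases hxb : Commute x b
  · exact ⟨ha' ▸ h.mul_right hxb, hxb⟩
  exfalso
  exact hne (eq_of_commute_mul S.tt hx ha hb hxa hxb h)

/-- A product of two commuting members is neither trivial nor a member. -/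
theorem pair_notMem {a b : G} (ha : a ∈ D) (hb : b ∈ link D a) : a * b ≠ 1 ∧ a * b ∉ D := by
  refine ⟨fun h => hb.2.1 ?_, fun hc => ?_⟩
  · rw [mul_eq_one_iff_inv_eq, S.tt.inv_eq ha] at h
    exact h.symm
  have hca : a * b ≠ a := fun h => S.tt.ne_one b hb.1 (mul_eq_left.1 h)
  have lc : a * b ∈ link D a := ⟨hc, hca, (Commute.refl a).mul_right hb.2.2⟩
  refine S.tt.ne_one a ha (mul_eq_right.1 (S.pj_inj ha lc hb ?_))
  refine QuotientGroup.eq.2 (mem_center_of_commute fun y hy => ?_)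
  show Commute ((a * b)⁻¹ * b) y
  rw [show (a * b)⁻¹ * b = a by rw [S.tt.inv_eq hc, mul_assoc, S.sqd hb.1, mul_one]]
  exact hy.2.2

/-- A product of a triple is neither trivial nor a member. -/
theorem tri_notMem {a b c : G} (T : Tri D a b c) : a * b * c ≠ 1 ∧ a * b * c ∉ D := by
  refine ⟨fun h => (pair_notMem S T.ha T.mem_link_b).2 ?_, fun hx => ?_⟩
  · rw [mul_eq_one_iff_eq_inv, S.tt.inv_eq T.hc] at h
    exact h ▸ T.hc
  set x := a * b * c with hxdef
  have haux : ∀ {a b c : G}, Tri D a b c → a * b * c = x → a ∈ link D x := by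
    intro a b c T he
    refine ⟨T.ha, fun e => T.bc ?_, ?_⟩
    · rw [← e, mul_assoc] at he
      have := mul_eq_left.1 he
      rw [mul_eq_one_iff_eq_inv, S.tt.inv_eq T.hc] at this
      exact this
    · rw [← he]
      exact ((Commute.refl a).mul_right T.cab).mul_right T.cac |>.symm
  have la := haux T rfl
  have lb := haux T.rot T.prod_rot
  have lc := haux T.rot.rot (T.rot.prod_rot.trans T.prod_rot)
  have T' := S.link_setup hx
  obtain ⟨F, _, _, hF, hM⟩ := T'.exists_models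
  refine (M22.tri_notMem T' hF hM (a := pj la) (b := pj lb) (c := pj lc)
    ⟨pj_mem la, pj_mem lb, pj_mem lc, fun e => T.ab (S.pj_inj hx la lb e), fun e => T.ac (S.pj_inj hx la lc e),
      fun e => T.bc (S.pj_inj hx lb lc e), (S.pj_comm hx la lb).2 T.cab, (S.pj_comm hx la lc).2 T.cac,
      (S.pj_comm hx lb lc).2 T.cbc⟩).1 ?_
  show ((⟨a * b * c, mul_mem (mul_mem (Subgroup.subset_closure la) (Subgroup.subset_closure lb))
    (Subgroup.subset_closure lc)⟩ : ↥(linkSub D x)) : Q D x) = 1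
  exact (QuotientGroup.eq_one_iff _).2 (mem_center_of_commute fun y hy => hy.2.2)

/-- A product of two commuting members is not the product of a triple. -/
theorem pair_ne_tri {a b c d e : G} (ha : a ∈ D) (hb : b ∈ link D a) (T : Tri D c d e) :
    a * b ≠ c * d * e := by
  intro h
  have haux : ∀ {c d e : G}, Tri D c d e → a * b = c * d * e → Commute a c ∧ a ≠ c ∧ Commute b c := by
    intro c d e T h
    have hc : Commute c (a * b) := h ▸ ((Commute.refl c).mul_right T.cab).mul_right T.cac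
    obtain ⟨h1, h2⟩ := commute_both S ha hb.1 T.ha hb.2.2 hb.2.1.symm hc
    refine ⟨h1.symm, fun e' => ?_, h2.symm⟩
    subst e'
    rw [mul_assoc] at h
    exact (pair_notMem S T.hb (show e ∈ link D d from ⟨T.hc, T.bc.symm, T.cbc⟩)).2 (mul_left_cancel h ▸ hb.1)
  obtain ⟨ac, nac, -⟩ := haux T h
  obtain ⟨ad, nad, -⟩ := haux T.rot (h.trans T.prod_rot.symm)
  obtain ⟨ae, nae, -⟩ := haux T.rot.rot (h.trans (T.rot.prod_rot.trans T.prod_rot).symm)
  have lc : c ∈ link D a := ⟨T.ha, nac.symm, ac⟩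
  have ld : d ∈ link D a := ⟨T.hb, nad.symm, ad⟩
  have le : e ∈ link D a := ⟨T.hc, nae.symm, ae⟩
  have T' := S.link_setup ha
  obtain ⟨F, _, _, hF, hM⟩ := T'.exists_models
  refine (M22.tri_notMem T' hF hM (a := pj lc) (b := pj ld) (c := pj le)
    ⟨pj_mem lc, pj_mem ld, pj_mem le, fun e' => T.ab (S.pj_inj ha lc ld e'),
      fun e' => T.ac (S.pj_inj ha lc le e'), fun e' => T.bc (S.pj_inj ha ld le e'),
      (S.pj_comm ha lc ld).2 T.cab, (S.pj_comm ha lc le).2 T.cac, (S.pj_comm ha ld le).2 T.cbc⟩).2 ?_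
  have hprod : pj lc * pj ld * pj le = pj hb := by
    refine QuotientGroup.eq.2 (mem_center_of_commute fun y hy => ?_)
    show Commute ((c * d * e)⁻¹ * b) y
    rw [← h, show (a * b)⁻¹ * b = b⁻¹ * (a⁻¹ * b) by group, S.tt.inv_eq ha, hb.2.2.eq,
      show b⁻¹ * (b * a) = a by group]
    exact hy.2.2
  rw [hprod]
  exact pj_mem hb

/-- Products of commuting pairs are conjugate. -/
theorem pair_conj {a b a' b' : G} (ha : a ∈ D) (hb : b ∈ link D a) (ha' : a' ∈ D) (hb' : b' ∈ link D a') :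
    IsConj (a * b) (a' * b') := by
  obtain ⟨g, hg⟩ := S.cls ha ha'
  obtain ⟨h, hh, hhb⟩ := S.hyp.exists_conj_link ha' (hg ▸ link_conj S.tt g hb) hb'
  refine isConj_iff.2 ⟨h * g, ?_⟩
  calc h * g * (a * b) * (h * g)⁻¹ = h * (g * a * g⁻¹) * h⁻¹ * (h * (g * b * g⁻¹) * h⁻¹) := by group
    _ = a' * b' := by rw [hg, hhb, (linkSub_commute hh).eq, mul_inv_cancel_right]

/-- The common neighbours of a commuting pair are conjugate under the group they generate. -/
theorem trans_common {a b c c' : G} (ha : a ∈ D) (hb : b ∈ link D a) (hc : c ∈ link D a ∩ link D b)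
    (hc' : c' ∈ link D a ∩ link D b) :
    ∃ g ∈ Subgroup.closure (link D a ∩ link D b), g * c * g⁻¹ = c' := by
  have T := S.link_setup ha
  obtain ⟨F, _, _, hF, hM⟩ := T.exists_models
  obtain ⟨B⟩ := hM _ (pj_mem hb)
  obtain ⟨q, hq, hqc⟩ := B.link_conj_of_mem T hF (pj_mem hb) ((S.pj_link ha hb hc.1).2 hc.2)
    ((S.pj_link ha hb hc'.1).2 hc'.2)
  set π := QuotientGroup.mk' (Subgroup.center ↥(linkSub D a)) with hπ
  have hle : Subgroup.closure (link (E D a) (pj hb)) ≤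
      ((Subgroup.closure (link D a ∩ link D b)).subgroupOf (linkSub D a)).map π := by
    rw [Subgroup.closure_le]
    intro x hx
    obtain ⟨f, lf, rfl⟩ := Setup.pj_surj hx.1
    exact ⟨⟨f, Subgroup.subset_closure lf⟩,
      Subgroup.subset_closure ⟨lf, (S.pj_link ha hb lf).1 hx⟩, rfl⟩
  obtain ⟨m, hm, rfl⟩ := Subgroup.mem_map.1 (hle hq)
  refine ⟨m, hm, S.pj_inj ha (S.link_conj_fix (linkSub_commute m.2) hc.1) hc'.1 ?_⟩
  rw [← hqc]
  rfl

/-- Ordered triples are conjugate. -/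
theorem tri_conj {a b c a' b' c' : G} (T : Tri D a b c) (T' : Tri D a' b' c') :
    ∃ g : G, g * a * g⁻¹ = a' ∧ g * b * g⁻¹ = b' ∧ g * c * g⁻¹ = c' := by
  obtain ⟨g₁, hg₁⟩ := S.cls T.ha T'.ha
  have lb : g₁ * b * g₁⁻¹ ∈ link D a' := hg₁ ▸ link_conj S.tt g₁ T.mem_link_b
  obtain ⟨g₂, hg₂, hg₂b⟩ := S.hyp.exists_conj_link T'.ha lb T'.mem_link_b
  have e1 : g₂ * g₁ * a * (g₂ * g₁)⁻¹ = a' := by
    rw [show g₂ * g₁ * a * (g₂ * g₁)⁻¹ = g₂ * (g₁ * a * g₁⁻¹) * g₂⁻¹ by group, hg₁,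
      (linkSub_commute hg₂).eq, mul_inv_cancel_right]
  have e2 : g₂ * g₁ * b * (g₂ * g₁)⁻¹ = b' := by rw [← hg₂b]; group
  have lc : g₂ * g₁ * c * (g₂ * g₁)⁻¹ ∈ link D a' ∩ link D b' :=
    ⟨e1 ▸ link_conj S.tt (g₂ * g₁) T.mem_link_c,
      e2 ▸ link_conj S.tt (g₂ * g₁) (show c ∈ link D b from ⟨T.hc, T.bc.symm, T.cbc⟩)⟩
  obtain ⟨g₃, hg₃m, hg₃⟩ := trans_common S T'.ha T'.mem_link_b lc
    ⟨T'.mem_link_c, T'.hc, T'.bc.symm, T'.cbc⟩
  have ga : Commute g₃ a' := linkSub_commute (Subgroup.closure_mono Set.inter_subset_left hg₃m)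
  have gb : Commute g₃ b' := linkSub_commute (Subgroup.closure_mono Set.inter_subset_right hg₃m)
  refine ⟨g₃ * (g₂ * g₁), ?_, ?_, ?_⟩
  · rw [show g₃ * (g₂ * g₁) * a * (g₃ * (g₂ * g₁))⁻¹ = g₃ * (g₂ * g₁ * a * (g₂ * g₁)⁻¹) * g₃⁻¹ by group, e1,
      ga.eq, mul_inv_cancel_right]
  · rw [show g₃ * (g₂ * g₁) * b * (g₃ * (g₂ * g₁))⁻¹ = g₃ * (g₂ * g₁ * b * (g₂ * g₁)⁻¹) * g₃⁻¹ by group, e2,
      gb.eq, mul_inv_cancel_right]
  · rw [← hg₃]; group

/-- Four commuting members have the product of three. -/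
theorem four_to_three {a b c d : G} (ha : a ∈ D) (hb : b ∈ link D a) (hc : c ∈ link D a ∩ link D b)
    (hd : d ∈ link D a ∩ link D b ∩ link D c) :
    ∃ p q r : G, Tri D p q r ∧ p * q * r = a * b * c * d := by
  obtain ⟨p, q, r, hnd, hmem, hcomm, hprod⟩ := exists_five S ha hb hc hd
  simp only [List.nodup_cons, List.mem_cons, List.not_mem_nil, or_false, not_or, List.nodup_nil,
    not_false_eq_true, and_true] at hnd
  obtain ⟨-, -, ⟨npq, npr⟩, nqr⟩ := hnd
  refine ⟨p, q, r, ⟨(hmem p (by simp)).1.1, (hmem q (by simp)).1.1, (hmem r (by simp)).1.1, npq, npr, nqr,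
    hcomm p (by simp) q (by simp), hcomm p (by simp) r (by simp), hcomm q (by simp) r (by simp)⟩, ?_⟩
  have e1 : (c * d) * (c * d) = 1 := by
    rw [hd.2.2.2.symm.mul_mul_mul_comm, S.sqd hc.1.1, S.sqd hd.1.1.1, one_mul]
  have e2 : p * q * r = (c * d) * (b * a) := by
    rw [← hprod]
    calc p * q * r = (c * d) * (c * d) * (p * q * r) := by rw [e1, one_mul]
      _ = _ := by simp only [mul_assoc]
  rw [e2, hb.2.2.symm.eq,
    ((hc.1.2.2.mul_right hd.1.1.2.2).mul_left (hc.2.2.2.mul_right hd.1.2.2.2)).symm.eq, ← mul_assoc]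

/-- An involution commutes with a member. -/
theorem exists_fixed {t : G} (ht : orderOf t = 2) : ∃ a ∈ D, Commute t a := by
  classical
  have := Fintype.ofFinite G
  let σ : Equiv.Perm D := (MulAut.conj t).toEquiv.subtypeEquiv fun x =>
    ⟨fun hx => S.tt.conj t x hx, fun hx => by
      have := S.tt.conj t⁻¹ _ hx
      simpa [mul_assoc] using this⟩
  have htt : t * t = 1 := by rw [← pow_two, ← ht, pow_orderOf_eq_one]
  have hσ : σ ^ 2 ^ 1 = 1 := by
    ext x
    rw [pow_one, pow_two, Equiv.Perm.mul_apply, Equiv.Perm.one_apply]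
    show t * (t * x.1 * t⁻¹) * t⁻¹ = x.1
    rw [inv_eq_self htt]
    simp only [mul_assoc, cancel₂ htt, htt, mul_one]
  have hcard : ¬ 2 ∣ Fintype.card D := by
    rw [← Nat.card_eq_fintype_card, Nat.card_coe_set_eq, ncard_eq S]; norm_num
  haveI := Fact.mk Nat.prime_two
  obtain ⟨x, hx⟩ := Equiv.Perm.exists_fixed_point_of_prime hcard hσ
  exact ⟨x.1, x.2, mul_inv_eq_iff_eq_mul.1 (congrArg Subtype.val hx)⟩

/-- An involution is a product of at most three commuting members. -/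
theorem invol_cases {t : G} (ht : orderOf t = 2) :
    t ∈ D ∨ (∃ a b, a ∈ D ∧ b ∈ link D a ∧ a * b = t) ∨ ∃ a b c, Tri D a b c ∧ a * b * c = t := by
  obtain ⟨a, ha, hta⟩ := exists_fixed S ht
  have htH : t ∈ linkSub D a := by
    rw [← centralizer_eq S ha]; exact Subgroup.mem_centralizer_singleton_iff.2 hta
  set q : Q D a := ((⟨t, htH⟩ : ↥(linkSub D a)) : Q D a) with hq
  by_cases hq1 : q = 1
  · rcases pj_eq_one_cases S ha htH hq1 with h | h
    · rw [h, orderOf_one] at ht; norm_num at ht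
    · exact Or.inl (h.symm ▸ ha)
  have htt : t * t = 1 := by rw [← pow_two, ← ht, pow_orderOf_eq_one]
  have hq2 : orderOf q = 2 := orderOf_eq_prime (by
    rw [pow_two, hq, ← QuotientGroup.mk_mul,
      show (⟨t, htH⟩ : ↥(linkSub D a)) * ⟨t, htH⟩ = 1 from Subtype.ext htt]
    rfl) hq1
  have T := S.link_setup ha
  obtain ⟨F, _, _, hF, hM⟩ := T.exists_models
  have finish : ∀ (w : G) (hw : w ∈ linkSub D a), ((⟨w, hw⟩ : ↥(linkSub D a)) : Q D a) = q →
      t = w ∨ t = w * a := by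
    intro w hw hwq
    rcases pj_eq_one_cases S ha (mul_mem (inv_mem hw) htH) (by
      rw [show (⟨w⁻¹ * t, mul_mem (inv_mem hw) htH⟩ : ↥(linkSub D a)) = ⟨w, hw⟩⁻¹ * ⟨t, htH⟩ from rfl,
        QuotientGroup.mk_mul, QuotientGroup.mk_inv, hwq, inv_mul_cancel]) with h | h
    · exact Or.inl (inv_mul_eq_one.1 h).symm
    · exact Or.inr (inv_mul_eq_iff_eq_mul.1 h)
  rcases M22.invol_cases T hF hM hq2 with h | ⟨x, y, hx, hy, hxy⟩ | ⟨x, y, z, U, hxyz⟩
  · obtain ⟨e, le, he⟩ := Setup.pj_surj h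
    rcases finish e (Subgroup.subset_closure le) he with h' | h'
    · exact Or.inl (h' ▸ le.1)
    · exact Or.inr (Or.inl ⟨e, a, le.1, link_swap ha le, h'.symm⟩)
  · obtain ⟨e, le, rfl⟩ := Setup.pj_surj hx
    obtain ⟨f, lf, rfl⟩ := Setup.pj_surj hy.1
    have hef : f ∈ link D e := (S.pj_link ha le lf).1 hy
    rcases finish (e * f) (mul_mem (Subgroup.subset_closure le) (Subgroup.subset_closure lf)) hxy with h' | h'
    · exact Or.inr (Or.inl ⟨e, f, le.1, hef, h'.symm⟩)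
    · exact Or.inr (Or.inr ⟨e, f, a, ⟨le.1, lf.1, ha, hef.2.1.symm, le.2.1, lf.2.1, hef.2.2, le.2.2.symm,
        lf.2.2.symm⟩, h'.symm⟩)
  · obtain ⟨e, le, rfl⟩ := Setup.pj_surj U.ha
    obtain ⟨f, lf, rfl⟩ := Setup.pj_surj U.hb
    obtain ⟨g, lg, rfl⟩ := Setup.pj_surj U.hc
    have U' : Tri D e f g := ⟨le.1, lf.1, lg.1, fun h => U.ab (by subst h; rfl), fun h => U.ac (by subst h; rfl),
      fun h => U.bc (by subst h; rfl), (S.pj_comm ha le lf).1 U.cab, (S.pj_comm ha le lg).1 U.cac,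
      (S.pj_comm ha lf lg).1 U.cbc⟩
    rcases finish (e * f * g) (mul_mem (mul_mem (Subgroup.subset_closure le) (Subgroup.subset_closure lf))
      (Subgroup.subset_closure lg)) hxyz with h' | h'
    · exact Or.inr (Or.inr ⟨e, f, g, U', h'.symm⟩)
    · obtain ⟨p, q', r, T', hp⟩ := four_to_three S ha le
        (show f ∈ link D a ∩ link D e from ⟨lf, lf.1, U'.ab.symm, U'.cab⟩)
        (show g ∈ link D a ∩ link D e ∩ link D f from
          ⟨⟨lg, lg.1, U'.ac.symm, U'.cac⟩, lg.1, U'.bc.symm, U'.cbc⟩)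
      refine Or.inr (Or.inr ⟨p, q', r, T', ?_⟩)
      rw [hp, h', mul_assoc (a * e), mul_assoc a, mul_assoc e f g]
      exact ((le.2.2.mul_right (lf.2.2.mul_right lg.2.2))).eq

end CfsgLib.M23
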