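import Cfsg.Agent.Lib.ThreeTransp.U6Stab

/-!
# The stabiliser of an isotropic point of `F⁶` acting on the quotient of its orthogonal

For an isotropic `u` the space `u^⊥ / ⟨u⟩` is realised as a copy of `F⁴` inside `u^⊥`; an element fixing `u`
induces a unique element of `SU₄(2)` on it.
-/

set_option autoImplicit false

namespace CfsgLib.U6

open Matrix Cfsg
open CfsgLib.PSUAut
open CfsgLib.UnitarySpec (sigma_sigma sigma_ne psuMk)

variable {F : Type} [Field F] [Fintype F]

local notation "V4" => Fin 4 → F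
local notation "V6" => Fin 6 → F
local notation "H4" => Cfsg.hermForm 4 F 2
local notation "H6" => Cfsg.hermForm 6 F 2
local notation "SU4" => (Cfsg.SU 4 F 2)
local notation "SU6" => (Cfsg.SU 6 F 2)

/-- A decomposition `F⁶ = ⟨u, y⟩ ⊥ j(F⁴)` with `y` an isotropic partner of `u`. -/
structure PtFrame (u : Fin 6 → F) where
  j : (Fin 4 → F) →ₗ[F] (Fin 6 → F)
  y : Fin 6 → F
  iso : Isot 2 u
  hj : ∀ r s, Cfsg.hermForm 6 F 2 (j r) (j s) = Cfsg.hermForm 4 F 2 r s
  hju : ∀ r, Cfsg.hermForm 6 F 2 (j r) u = 0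
  hjy : ∀ r, Cfsg.hermForm 6 F 2 (j r) y = 0
  hyu : Cfsg.hermForm 6 F 2 y u = 1
  hyy : Cfsg.hermForm 6 F 2 y y = 0
  decomp : ∀ v, ∃ (α β : F) (r : Fin 4 → F), v = α • u + β • y + j r

variable (hF : Fintype.card F = 2 ^ 2)
include hF

theorem exists_frame {u : V6} (hu : Isot 2 u) : Nonempty (PtFrame u) := by
  obtain ⟨σ, hσ⟩ := exists_sigma hF
  obtain ⟨y, hy, -, hyu⟩ := exists_iso_pairing hF (![] : Fin 0 → V6) hu.2 (fun i => i.elim0) (by simp [hu.1])
  have huy : H6 u y = 1 := comm_one hF hyu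
  set W : Submodule F (Fin (2 + 4) → F) := Submodule.span F {u, y} with hW
  have hWk : Module.finrank F W = 2 := by
    have hli : LinearIndependent F ![u, y] := by
      rw [LinearIndependent.pair_iff' hu.1]
      intro a ha
      rw [← ha, smul_left hF, hu.2, mul_zero] at hyu
      exact zero_ne_one hyu
    have := finrank_span_eq_card hli
    rwa [Matrix.range_cons, Matrix.range_cons, Matrix.range_empty, Set.union_empty, Set.singleton_union,
      Fintype.card_fin] at this
  have hWnd : ∀ z ∈ W, (∀ v ∈ W, Cfsg.hermForm (2 + 4) F 2 z v = 0) → z = 0 := by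
    intro z hz hz'
    obtain ⟨a, b, rfl⟩ := Submodule.mem_span_pair.1 hz
    have e1 := hz' u (Submodule.subset_span (Set.mem_insert _ _))
    have e2 := hz' y (Submodule.subset_span (Set.mem_insert_of_mem _ rfl))
    change H6 (a • u + b • y) u = 0 at e1
    change H6 (a • u + b • y) y = 0 at e2
    rw [add_left hF, smul_left hF, smul_left hF, hu.2, hyu, mul_zero, zero_add, mul_one] at e1
    rw [add_left hF, smul_left hF, smul_left hF, hy.2, huy, mul_zero, add_zero, mul_one] at e2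
    rw [e1, e2, zero_smul, zero_smul, add_zero]
  obtain ⟨T, hT, hTW⟩ := CfsgLib.Classical.exists_split (k := 2) (m := 4) hF W hWk hWnd
  have hperp : ∀ (r : V4) (v : V6), v ∈ W → H6 (T (0, r)) v = 0 := by
    intro r v hv
    obtain ⟨⟨p, s⟩, rfl⟩ := T.surjective v
    have hs : s = 0 := (hTW (p, s)).1 hv
    subst hs
    rw [show H6 (T (0, r)) (T (p, 0)) = _ from hT (0, r) (p, 0)]
    simp [hzero_left hF hσ, hzero_right hF hσ]
  refine ⟨{ j := T.toLinearMap ∘ₗ LinearMap.inr F _ _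
            y := y, iso := hu
            hj := fun r s => ?_
            hju := fun r => hperp r u (Submodule.subset_span (Set.mem_insert _ _))
            hjy := fun r => hperp r y (Submodule.subset_span (Set.mem_insert_of_mem _ rfl))
            hyu := hyu, hyy := hy.2
            decomp := fun v => ?_ }⟩
  · show H6 (T (0, r)) (T (0, s)) = _
    rw [show H6 (T (0, r)) (T (0, s)) = _ from hT (0, r) (0, s)]
    simp [hzero_left hF hσ]
  · obtain ⟨⟨p, r⟩, rfl⟩ := T.surjective v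
    obtain ⟨α, β, h⟩ := Submodule.mem_span_pair.1 ((hTW (p, 0)).2 rfl)
    refine ⟨α, β, r, ?_⟩
    show T (p, r) = α • u + β • y + T (0, r)
    rw [h, ← map_add]
    simp

theorem exists_rep (f : V4 →ₗ[F] F) : ∃ z, ∀ r, H4 r z = f r := by
  refine ⟨fun i => (f (Pi.single i 1)) ^ 2, fun r => ?_⟩
  conv_rhs => rw [pi_eq_sum_univ' r, map_sum]
  simp only [Cfsg.hermForm]
  refine Finset.sum_congr rfl fun i _ => ?_
  rw [map_smul, smul_eq_mul, ← pow_mul, pow_four hF]

namespace PtFrame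

variable {u : Fin 6 → F} (P : PtFrame u)

/-- `g` fixes `u` and induces `B` on `u^⊥ / ⟨u⟩`. -/
def Fixed (g : SU6) (B : SU4) : Prop :=
  act g u = u ∧ ∀ r, ∃ ν : F, act g (P.j r) = P.j (act B r) + ν • u

theorem uy : H6 u P.y = 1 := comm_one hF P.hyu

theorem perp_u (α : F) (r : V4) : H6 (α • u + P.j r) u = 0 := by
  rw [add_left hF, smul_left hF, P.iso.2, P.hju, mul_zero, add_zero]

theorem form_eq (α α' : F) (r s : V4) : H6 (α • u + P.j r) (α' • u + P.j s) = H4 r s := by
  rw [add_left hF, add_right hF, add_right hF, smul_left hF, smul_left hF, smul_right hF, smul_right hF,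
    P.iso.2, P.hju, (comm_zero hF).1 (P.hju s), P.hj]
  ring

theorem coords {α α' : F} {r r' : V4} (h : α • u + P.j r = α' • u + P.j r') : α = α' ∧ r = r' := by
  obtain ⟨σ, hσ⟩ := exists_sigma hF
  have h1 := congrArg (fun v => H6 v P.y) h
  simp only [add_left hF, smul_left hF, P.uy hF, P.hjy, mul_one, add_zero] at h1
  subst h1
  refine ⟨rfl, sub_eq_zero.1 (eq_zero_of_perp (n := 4) hF hσ fun s => ?_)⟩
  rw [hsub_right hF hσ, ← P.hj s r, ← P.hj s r', add_left_cancel h, sub_self]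

theorem isot {r : V4} (hr : r ≠ 0) (hrr : H4 r r = 0) (α : F) : Isot 2 (α • u + P.j r) :=
  ⟨fun h => hr (P.coords hF (α := α) (α' := 0) (r' := 0) (by rw [zero_smul, map_zero, add_zero]; exact h)).2,
    by rw [P.form_eq hF, hrr]⟩

theorem exists_perp_decomp {v : V6} (h : H6 v u = 0) : ∃ (α : F) (r : V4), v = α • u + P.j r := by
  obtain ⟨α, β, r, rfl⟩ := P.decomp v
  rw [add_left hF, add_left hF, smul_left hF, smul_left hF, P.iso.2, P.hyu, P.hju, mul_zero, zero_add,
    mul_one, add_zero] at h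
  exact ⟨α, r, by rw [h, zero_smul, add_zero]⟩

theorem fixed_one : P.Fixed 1 1 :=
  ⟨act_one u, fun r => ⟨0, by rw [act_one, act_one, zero_smul, add_zero]⟩⟩

variable {P}

omit hF in
theorem Fixed.mul {g g' : SU6} {B B' : SU4} (h : P.Fixed g B) (h' : P.Fixed g' B') :
    P.Fixed (g * g') (B * B') := by
  refine ⟨by rw [act_mul, h'.1, h.1], fun r => ?_⟩
  obtain ⟨ν', e'⟩ := h'.2 r
  obtain ⟨ν, e⟩ := h.2 (act B' r)
  refine ⟨ν + ν', ?_⟩
  rw [act_mul, e', act_add, act_smul, e, h.1, act_mul, add_smul]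
  abel

omit hF in
theorem Fixed.inv {g : SU6} {B : SU4} (h : P.Fixed g B) : P.Fixed g⁻¹ B⁻¹ := by
  have hu : act g⁻¹ u = u := by conv_lhs => rw [← h.1, act_inv_apply]
  refine ⟨hu, fun r => ?_⟩
  obtain ⟨ν, e⟩ := h.2 (act B⁻¹ r)
  refine ⟨-ν, ?_⟩
  have := congrArg (act g⁻¹) e
  rw [act_inv_apply, act_add, act_smul, hu, act_apply_inv] at this
  rw [this, neg_smul]
  abel

theorem Fixed.unique {g g' : SU6} {B B' : SU4} (h : P.Fixed g B) (h' : P.Fixed g' B')
    (e : psuMk g = psuMk g') : B = B' := by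
  obtain ⟨σ, hσ⟩ := exists_sigma hF
  have hg : g = g' := eq_of_psuMk hF hσ (by norm_num) e P.iso.1 h.1 h'.1
  subst hg
  refine act_ext fun r => ?_
  obtain ⟨ν, e1⟩ := h.2 r
  obtain ⟨ν', e2⟩ := h'.2 r
  rw [e1, add_comm, add_comm (P.j _)] at e2
  exact (P.coords hF e2).2

variable (P)

/-- A transvection centred in `u^⊥` off `u` induces the transvection of the corresponding point. -/
theorem exists_fixed_transvection {d : V6} {t : SU6} (ht : ∀ v, act t v = v + H6 v d • d) {α : F} {r₀ : V4}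
    (hd : d = α • u + P.j r₀) (hr₀ : r₀ ≠ 0) (hr : H4 r₀ r₀ = 0) :
    ∃ B : SU4, (∀ r, act B r = r + H4 r r₀ • r₀) ∧ P.Fixed t B := by
  obtain ⟨σ, hσ⟩ := exists_sigma hF
  obtain ⟨B, hB⟩ := exists_tSU (n := 4) hF hσ (v := r₀) ⟨hr₀, hr⟩ (c := 1) (by rw [map_one]; exact add_self hF 1)
  have hB' : ∀ r, act B r = r + H4 r r₀ • r₀ := fun r => by rw [hB, one_mul]
  refine ⟨B, hB', ?_, fun r => ⟨H4 r r₀ * α, ?_⟩⟩
  · rw [ht, hd, (comm_zero hF).1 (P.perp_u hF α r₀), zero_smul, add_zero]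
  · have h0 : H6 (P.j r) d = H4 r r₀ := by
      have := P.form_eq hF 0 α r r₀
      rwa [zero_smul, zero_add, ← hd] at this
    rw [ht, h0, hB', map_add, map_smul, hd, smul_add, smul_smul]
    abel

include P in
/-- Two isotropic points of `F⁴` have a common orthogonal test vector separating them. -/
theorem exists_sep {r s : V4} (hr : r ≠ 0) (hs : s ≠ 0) (hrr : H4 r r = 0) (hss : H4 s s = 0)
    (hne : ∀ c : F, s ≠ c • r) : ∃ x : V4, x ≠ 0 ∧ H4 x x = 0 ∧ H4 x r = 0 ∧ H4 x s ≠ 0 := by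
  by_cases hrs : H4 r s = 0
  · obtain ⟨σ, hσ⟩ := exists_sigma hF
    obtain ⟨g, hg, hgv, hgs⟩ := exists_iso_pairing hF ![u, P.j r] (u := P.j s) (by rw [P.hj, hss]) (fun i => by
        fin_cases i
        · exact P.hju s
        · show H6 (P.j s) (P.j r) = 0
          rw [P.hj, hcomm hF hσ, hrs]) (fun hm => by
      rw [Matrix.range_cons, Matrix.range_cons, Matrix.range_empty, Set.union_empty, Set.singleton_union] at hm
      obtain ⟨p, q, hpq⟩ := Submodule.mem_span_pair.1 hm
      refine hne q (P.coords hF (α := 0) (α' := p) ?_).2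
      rw [zero_smul, zero_add, map_smul, hpq])
    obtain ⟨α, x, rfl⟩ := P.exists_perp_decomp hF (hgv 0)
    have hxr : H4 x r = 0 := by
      have h : H6 (α • u + P.j x) (P.j r) = 0 := hgv 1
      rwa [← zero_add (P.j r), ← zero_smul F u, P.form_eq hF] at h
    have hxs : H4 x s = 1 := by rwa [← zero_add (P.j s), ← zero_smul F u, P.form_eq hF] at hgs
    refine ⟨x, fun h => ?_, by simpa [P.form_eq hF] using hg.2, hxr, hxs ▸ one_ne_zero⟩
    rw [h, hzero_left hF hσ] at hxs
    exact zero_ne_one hxs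
  · exact ⟨r, hr, hrr, hrr, hrs⟩

end PtFrame

end CfsgLib.U6
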