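import Cfsg.Agent.Lib.ThreeTransp.M24Octad

/-!
# Groups of type `M(24)`: the sign

A character of a Sylow 2-subgroup that is `-1` on all its members is glued from the parity on a base and,
through a second base meeting the first in an octad, the parity on that base; its transfer is `-1` on all
members, so no member lies in the commutator subgroup.
-/

set_option autoImplicit false

namespace CfsgLib.M24

open CfsgLib.ThreeTransp CfsgLib.SporMisc CfsgLib.CommProd

variable {G : Type*} [Group G] {D : Set G}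

/-- A 2-group permuting a family of odd size by conjugation fixes one of its sets. -/
theorem exists_fixed_set [DecidableEq G] {P : Subgroup G} [Finite P] (hP : IsPGroup 2 P)
    {F : Finset (Finset G)} (hodd : ¬ 2 ∣ F.card)
    (hinv : ∀ p ∈ P, ∀ X ∈ F, X.image (fun x => p * x * p⁻¹) ∈ F) :
    ∃ X ∈ F, ∀ p ∈ P, X.image (fun x => p * x * p⁻¹) = X := by
  let _ : MulAction ↥P {X // X ∈ F} :=
    { smul := fun p X => ⟨X.1.image fun x => (p : G) * x * (p : G)⁻¹, hinv p p.2 X X.2⟩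
      one_smul := fun X => Subtype.ext (by
        show X.1.image (fun x => ((1 : ↥P) : G) * x * ((1 : ↥P) : G)⁻¹) = X.1
        simp)
      mul_smul := fun p q X => Subtype.ext (by
        show X.1.image (fun x => ((p * q : ↥P) : G) * x * ((p * q : ↥P) : G)⁻¹) =
          (X.1.image fun x => (q : G) * x * (q : G)⁻¹).image fun x => (p : G) * x * (p : G)⁻¹
        rw [Finset.image_image]
        exact Finset.image_congr fun x _ => by simp [Function.comp, mul_assoc]) }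
  haveI := Fact.mk Nat.prime_two
  obtain ⟨X, hX⟩ := hP.nonempty_fixed_point_of_prime_not_dvd_card {X // X ∈ F}
    (by rwa [Nat.card_eq_fintype_card, Fintype.card_coe])
  exact ⟨X.1, X.2, fun p hp => congrArg Subtype.val (hX ⟨p, hp⟩)⟩

theorem image_conj_eq [DecidableEq G] {X : Finset G} {r : G} (h : ∀ x, x ∈ X ↔ r * x * r⁻¹ ∈ X) :
    X.image (fun x => r * x * r⁻¹) = X := by
  ext y
  rw [Finset.mem_image]
  exact ⟨fun ⟨x, hx, e⟩ => e ▸ (h x).1 hx,
    fun hy => ⟨r⁻¹ * y * r, (h _).2 (by simpa [mul_assoc] using hy), by simp [mul_assoc]⟩⟩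

theorem conj_mem_iff [DecidableEq G] {X : Finset G} {r : G} (h : X.image (fun x => r * x * r⁻¹) = X) (x : G) :
    x ∈ X ↔ r * x * r⁻¹ ∈ X := by
  conv_rhs => rw [← h]
  rw [Finset.mem_image]
  exact ⟨fun hx => ⟨x, hx, rfl⟩, fun ⟨y, hy, e⟩ => mul_left_cancel (mul_right_cancel e) ▸ hy⟩

variable [Finite G] [DecidableEq G] (S : Setup D)

/-- A base with one of its octads and a member around the octad outside the base. -/
structure Config (D : Set G) (J Q : Finset G) (w : G) : Prop where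
  hJ : IsClique D J
  h24 : J.card = 24
  hQJ : Q ⊆ J
  hQ : IsOctad D Q
  hw : w ∈ around D Q
  hwJ : w ∉ J

namespace Config

variable {J Q : Finset G} {w : G}
include S

omit S [Finite G] [DecidableEq G] in
theorem mem_around (C : Config D J Q w) {a : G} (ha : a ∈ J) (haQ : a ∉ Q) : a ∈ around D Q :=
  ⟨C.hJ.1 ha, haQ, fun q hq => C.hJ.2 a ha q (C.hQJ hq)⟩

/-- A member around the octad commuting with one further member of the base lies in it. -/
theorem mem_of_comm (C : Config D J Q w) {t a : G} (ht : t ∈ around D Q) (ha : a ∈ J) (haQ : a ∉ Q)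
    (h : Commute t a) : t ∈ J :=
  mem_base S C.hJ C.h24 ht.1 fun j hj => (em (j ∈ Q)).elim (ht.2.2 j) fun hjQ =>
    around_trans S C.hQ ht (C.mem_around ha haQ) (C.mem_around hj hjQ) h (C.hJ.2 a ha j hj)

theorem not_comm (C : Config D J Q w) {a : G} (ha : a ∈ J) (haQ : a ∉ Q) : ¬ Commute w a :=
  fun h => C.hwJ (C.mem_of_comm S C.hw ha haQ h)

omit [Finite G] [DecidableEq G] in
theorem conj_around (C : Config D J Q w) {a t : G} (ha : a ∈ J) (ht : t ∈ around D Q) :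
    a * t * a ∈ around D Q := by
  refine ⟨S.tt.cj_mem (C.hJ.1 ha) ht.1, fun h => ht.2.1 ?_, fun q hq => ?_⟩
  · have hc : Commute a (a * t * a) := C.hJ.2 a ha _ (C.hQJ h)
    have e : t = a * (a * t * a) * a := by
      simp only [mul_assoc, cancel₂ (S.sqd (C.hJ.1 ha)), S.sqd (C.hJ.1 ha), mul_one]
    rw [hc.eq, mul_assoc, S.sqd (C.hJ.1 ha), mul_one] at e
    exact e ▸ h
  · exact ((C.hJ.2 a ha q (C.hQJ hq)).mul_left (ht.2.2 q hq)).mul_left (C.hJ.2 a ha q (C.hQJ hq))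

theorem notComm_third (C : Config D J Q w) {a b : G} (ha : a ∈ J) (haQ : a ∉ Q) (hb : b ∈ J) (hbQ : b ∉ Q) :
    ¬ Commute (a * w * a) b ∧ ¬ Commute (a * w * a) w := by
  have h := C.not_comm S ha haQ
  have h1 : ¬ Commute (a * w * a) a := fun e =>
    S.tt.not_commute_cj_left (C.hJ.1 ha) (fun e => h e.symm) e.symm
  exact ⟨fun e => h1 (around_trans S C.hQ (C.conj_around S ha C.hw) (C.mem_around hb hbQ) (C.mem_around ha haQ) e
    (C.hJ.2 b hb a ha)), fun e => S.tt.not_commute_cj_right (C.hJ.1 ha) C.hw.1 (fun e => h e.symm) e.symm⟩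

/-- A member around the octad outside the base that does not commute with `w` commutes with every third. -/
theorem comm_third (C : Config D J Q w) {a t : G} (ha : a ∈ J) (haQ : a ∉ Q) (ht : t ∈ around D Q) (htJ : t ∉ J)
    (h : ¬ Commute t w) : Commute t (a * w * a) :=
  around_third S C.hQ C.hw (C.mem_around ha haQ) ht (C.not_comm S ha haQ) h
    fun e => htJ (C.mem_of_comm S ht ha haQ e)

theorem third_notMem (C : Config D J Q w) {a : G} (ha : a ∈ J) (haQ : a ∉ Q) : a * w * a ∉ J :=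
  fun h => (C.notComm_third S ha haQ ha haQ).1 (C.hJ.2 _ h a ha)

theorem third_comm (C : Config D J Q w) {a b : G} (ha : a ∈ J) (haQ : a ∉ Q) (hb : b ∈ J) (hbQ : b ∉ Q) :
    Commute (a * w * a) (b * w * b) :=
  C.comm_third S hb hbQ (C.conj_around S ha C.hw) (C.third_notMem S ha haQ) (C.notComm_third S ha haQ ha haQ).2

theorem third_inj (C : Config D J Q w) {a b : G} (ha : a ∈ J) (haQ : a ∉ Q) (hb : b ∈ J) (hbQ : b ∉ Q)
    (h : a * w * a = b * w * b) : a = b := by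
  rw [S.tt.braid (C.hJ.1 ha) C.hw.1 (fun e => C.not_comm S ha haQ e.symm),
    S.tt.braid (C.hJ.1 hb) C.hw.1 (fun e => C.not_comm S hb hbQ e.symm)] at h
  exact mul_left_cancel (mul_right_cancel h)

omit S [Finite G] in
theorem card_out (C : Config D J Q w) : (J \ Q).card = 16 := by
  rw [Finset.card_sdiff_of_subset C.hQJ, C.h24, C.hQ.2.1]

omit S [Finite G] in
theorem exists_out (C : Config D J Q w) : ∃ a ∈ J, a ∉ Q := by
  obtain ⟨a, ha⟩ : (J \ Q).Nonempty := Finset.card_pos.1 (by rw [C.card_out]; norm_num)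
  exact ⟨a, (Finset.mem_sdiff.1 ha).1, (Finset.mem_sdiff.1 ha).2⟩

/-- Every member of the third class comes from the base. -/
theorem third_surj (C : Config D J Q w) {a t : G} (ha : a ∈ J) (haQ : a ∉ Q) (ht : t ∈ around D Q)
    (h : Commute t (a * w * a)) : ∃ b ∈ J, b ∉ Q ∧ t = b * w * b := by
  by_contra hcon
  push Not at hcon
  set X : Finset G := (J \ Q).image fun b => b * w * b with hX
  have hXa : ∀ x ∈ X, x ∈ around D Q ∧ Commute x (a * w * a) := by
    intro x hx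
    obtain ⟨b, hb, rfl⟩ := Finset.mem_image.1 hx
    rw [Finset.mem_sdiff] at hb
    exact ⟨C.conj_around S hb.1 C.hw, C.third_comm S hb.1 hb.2 ha haQ⟩
  have hins : ∀ x ∈ insert t X, x ∈ around D Q ∧ Commute x (a * w * a) := by
    intro x hx
    rcases Finset.mem_insert.1 hx with e | e
    exacts [e ▸ ⟨ht, h⟩, hXa x e]
  have htX : t ∉ X := by
    intro hx
    obtain ⟨b, hb, e⟩ := Finset.mem_image.1 hx
    rw [Finset.mem_sdiff] at hb
    exact hcon b hb.1 hb.2 e.symm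
  have hdj : Disjoint Q (insert t X) := Finset.disjoint_left.2 fun q hq hq' => (hins q hq').1.2.1 hq
  have hle := width_le S (X := ((Q ∪ insert t X : Finset G) : Set G))
    (fun x hx => (Finset.mem_union.1 hx).elim (fun h => C.hQ.1.1 h) fun h => (hins x h).1.1) (by
    intro x hx y hy
    rcases Finset.mem_union.1 hx with hx | hx <;> rcases Finset.mem_union.1 hy with hy | hy
    exacts [C.hQ.1.2 x hx y hy, ((hins y hy).1.2.2 x hx).symm, (hins x hx).1.2.2 y hy,
      around_trans S C.hQ (hins x hx).1 (C.conj_around S ha C.hw) (hins y hy).1 (hins x hx).2 (hins y hy).2.symm])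
  rw [Set.ncard_coe_finset, Finset.card_union_of_disjoint hdj, C.hQ.2.1, Finset.card_insert_of_notMem htX, hX,
    Finset.card_image_of_injOn, C.card_out] at hle
  · omega
  · intro b hb c hc e
    simp only [Finset.coe_sdiff, Set.mem_sdiff, Finset.mem_coe] at hb hc
    exact C.third_inj S hb.1 hb.2 hc.1 hc.2 e

/-- Every member commuting with `w` around the octad is a twofold conjugate of `w`. -/
theorem same_surj (C : Config D J Q w) {a t : G} (ha : a ∈ J) (haQ : a ∉ Q) (ht : t ∈ around D Q)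
    (h : Commute t w) : ∃ b ∈ J, b ∉ Q ∧ t = a * (b * w * b) * a := by
  have h' : Commute (a * t * a) (a * w * a) := by
    have := (Commute.conj_iff a).2 h
    rwa [S.tt.inv_eq (C.hJ.1 ha)] at this
  obtain ⟨b, hb, hbQ, e⟩ := C.third_surj S ha haQ (C.conj_around S ha ht) h'
  refine ⟨b, hb, hbQ, ?_⟩
  rw [← e]
  simp only [mul_assoc, cancel₂ (S.sqd (C.hJ.1 ha)), S.sqd (C.hJ.1 ha), mul_one]

/-- The group of the base is transitive on the members around the octad outside it. -/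
theorem orbit (C : Config D J Q w) {t : G} (ht : t ∈ around D Q) (htJ : t ∉ J) :
    ∃ A : Finset G, A ⊆ J ∧ t = prodSet A * w * (prodSet A)⁻¹ := by
  obtain ⟨a, ha, haQ⟩ := C.exists_out
  by_cases h : Commute t w
  · obtain ⟨b, hb, hbQ, rfl⟩ := C.same_surj S ha haQ ht h
    by_cases hab : a = b
    · subst hab
      refine ⟨∅, Finset.empty_subset J, ?_⟩
      rw [prodSet_empty, one_mul, inv_one, mul_one]
      simp only [mul_assoc, cancel₂ (S.sqd (C.hJ.1 ha)), S.sqd (C.hJ.1 ha), mul_one]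
    refine ⟨{a, b}, by simp [Finset.insert_subset_iff, ha, hb], ?_⟩
    have hsub : ((insert a {b} : Finset G) : Set G) ⊆ J :=
      Finset.coe_subset.2 (by simp [Finset.insert_subset_iff, ha, hb])
    rw [prodSet_insert (by simpa using hab) (pairwise_of_subset C.hJ.2 hsub), prodSet_singleton,
      mul_inv_rev, S.tt.inv_eq (C.hJ.1 ha), S.tt.inv_eq (C.hJ.1 hb)]
    simp only [mul_assoc]
  · obtain ⟨b, hb, -, rfl⟩ := C.third_surj S ha haQ ht (C.comm_third S ha haQ ht htJ h)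
    exact ⟨{b}, by simpa using hb, by rw [prodSet_singleton, S.tt.inv_eq (C.hJ.1 hb)]⟩

/-- A product over the base moves `w` to a commuting member exactly when it has evenly many factors off the
octad. -/
theorem parity_conj (C : Config D J Q w) {A : Finset G} (hA : A ⊆ J) :
    prodSet A * w * (prodSet A)⁻¹ ∈ around D Q ∧ prodSet A * w * (prodSet A)⁻¹ ∉ J ∧
      (Commute (prodSet A * w * (prodSet A)⁻¹) w ↔ Even (A \ Q).card) := by
  induction A using Finset.induction_on with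
  | empty =>
    rw [prodSet_empty, one_mul, inv_one, mul_one]
    exact ⟨C.hw, C.hwJ, by simp⟩
  | insert a B haB ih =>
    have haJ : a ∈ J := hA (Finset.mem_insert_self a B)
    have hBJ : B ⊆ J := (Finset.subset_insert a B).trans hA
    obtain ⟨i1, i2, i3⟩ := ih hBJ
    set t := prodSet B * w * (prodSet B)⁻¹ with ht
    have haa := S.sqd (C.hJ.1 haJ)
    have e : prodSet (insert a B) * w * (prodSet (insert a B))⁻¹ = a * t * a := by
      rw [prodSet_insert haB (pairwise_of_subset C.hJ.2 (Finset.coe_subset.2 hA)), mul_inv_rev,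
        S.tt.inv_eq (C.hJ.1 haJ), ht]
      simp only [mul_assoc]
    rw [e]
    by_cases haQ : a ∈ Q
    · have e' : a * t * a = t := by rw [← (i1.2.2 a haQ).eq, mul_assoc, haa, mul_one]
      rw [e', Finset.insert_sdiff_of_mem B haQ]
      exact ⟨i1, i2, i3⟩
    · have hnm : a * t * a ∉ J := fun h => i2 (by
        have hc : Commute a (a * t * a) := C.hJ.2 a haJ _ h
        have e1 : t = a * (a * t * a) * a := by simp only [mul_assoc, cancel₂ haa, haa, mul_one]
        rw [hc.eq, mul_assoc, haa, mul_one] at e1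
        rwa [e1])
      refine ⟨C.conj_around S haJ i1, hnm, ?_⟩
      rw [Finset.insert_sdiff_of_notMem B haQ,
        Finset.card_insert_of_notMem (fun h => haB (Finset.mem_sdiff.1 h).1), Nat.even_add_one, ← i3]
      constructor
      · intro h1 h2
        have h3 : Commute (a * t * a) (a * w * a) := by
          have := (Commute.conj_iff a).2 h2
          rwa [S.tt.inv_eq (C.hJ.1 haJ)] at this
        exact (C.notComm_third S haJ haQ haJ haQ).2
          (around_trans S C.hQ (C.conj_around S haJ C.hw) (C.conj_around S haJ i1) C.hw h3.symm h1)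
      · intro h1
        have h3 := (Commute.conj_iff a).2 (C.comm_third S haJ haQ i1 i2 h1)
        rw [S.tt.inv_eq (C.hJ.1 haJ)] at h3
        simpa only [mul_assoc, cancel₂ haa, haa, mul_one] using h3

/-- What commutes with `w` in the group of the base is a product over the octad. -/
theorem centralizer_base (C : Config D J Q w) {A : Finset G} (hA : A ⊆ J) (h : Commute (prodSet A) w) :
    ∃ B, B ⊆ Q ∧ prodSet A = prodSet B := by
  induction hn : (A \ Q).card using Nat.strong_induction_on generalizing A with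
  | h n ih =>
    subst hn
    have hev : Even (A \ Q).card := by
      refine (C.parity_conj S hA).2.2.1 ?_
      rw [h.eq, mul_inv_cancel_right]
    rcases Nat.lt_or_ge (A \ Q).card 3 with h3 | h3
    · rcases (A \ Q).eq_empty_or_nonempty with h0 | h0
      · exact ⟨A, Finset.sdiff_eq_empty_iff_subset.1 h0, rfl⟩
      exfalso
      have hpos := Finset.card_pos.2 h0
      have h2 : (A \ Q).card = 2 := by obtain ⟨m, hm⟩ := hev; omega
      obtain ⟨a, b, hab, he⟩ := Finset.card_eq_two.1 h2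
      have ma : a ∈ A \ Q := by rw [he]; simp
      have mb : b ∈ A \ Q := by rw [he]; simp
      rw [Finset.mem_sdiff] at ma mb
      have hsplit : prodSet A = prodSet (A \ Q) * prodSet (A ∩ Q) := by
        rw [← prodSet_union C.hJ.2 (Finset.coe_subset.2 (Finset.sdiff_subset.trans hA))
          (Finset.coe_subset.2 (Finset.inter_subset_left.trans hA)) (Finset.disjoint_sdiff_inter A Q),
          Finset.sdiff_union_inter]
      have hq : Commute (prodSet (A ∩ Q)) w :=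
        (prodSet_commute C.hJ.2 (Finset.coe_subset.2 (Finset.inter_subset_left.trans hA)) fun x hx =>
          C.hw.2.2 x (Finset.mem_inter.1 hx).2).symm
      have hab' : Commute (a * b) w := by
        have hsub : ((insert a {b} : Finset G) : Set G) ⊆ J :=
          Finset.coe_subset.2 (by simp [Finset.insert_subset_iff, hA ma.1, hA mb.1])
        have := h
        rw [hsplit, he, prodSet_insert (by simpa using hab) (pairwise_of_subset C.hJ.2 hsub),
          prodSet_singleton] at this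
        have h' := this.mul_left hq.inv_left
        rwa [mul_inv_cancel_right] at h'
      refine hab (C.third_inj S (hA ma.1) ma.2 (hA mb.1) mb.2 ?_)
      have ha2 := S.sqd (C.hJ.1 (hA ma.1))
      have hb2 := S.sqd (C.hJ.1 (hA mb.1))
      calc a * w * a = a * w * (b * (b * a)) * 1 := by rw [mul_one, cancel₂ hb2]
        _ = a * w * b * (b * a) := by simp only [mul_assoc, mul_one]
        _ = a * w * b * (a * b) := by rw [(C.hJ.2 b (hA mb.1) a (hA ma.1)).eq]
        _ = b * w * b := by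
            have e1 : a * w = b * (a * b * w) := by
              rw [(C.hJ.2 a (hA ma.1) b (hA mb.1)).eq, ← mul_assoc, ← mul_assoc, hb2, one_mul]
            rw [e1, hab'.eq]
            simp only [mul_assoc, cancel₂ hb2, cancel₂ ha2, hb2, mul_one]
    · obtain ⟨T, hT, hT3⟩ := Finset.exists_subset_card_eq h3
      have hSt := steiner S C.hJ C.h24
      have hQ' : Q ∈ (J.powersetCard 8).filter fun X => prodSet X = 1 :=
        Finset.mem_filter.2 ⟨Finset.mem_powersetCard.2 ⟨C.hQJ, C.hQ.2.1⟩, C.hQ.2.2⟩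
      obtain ⟨O, hO, hTO, h4⟩ := hSt.exists_four hQ' (hT.trans (Finset.sdiff_subset.trans hA)) hT3
        (Finset.disjoint_left.2 fun x hx => (Finset.mem_sdiff.1 (hT hx)).2)
      rw [Finset.mem_filter, Finset.mem_powersetCard] at hO
      have hA' : symmDiff A O ⊆ J := fun x hx =>
        (Finset.mem_symmDiff.1 hx).elim (fun h => hA h.1) fun h => hO.1.1 h.1
      have hp : prodSet (symmDiff A O) = prodSet A := by
        rw [prodSet_symmDiff C.hJ.2 (C.hJ.sq S) (Finset.coe_subset.2 hA) (Finset.coe_subset.2 hO.1.1), hO.2,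
          mul_one]
      have hlt : (symmDiff A O \ Q).card < (A \ Q).card := by
        have hsub : symmDiff A O \ Q ⊆ ((A \ Q) \ T) ∪ ((O \ Q) \ T) := by
          intro x hx
          simp only [Finset.mem_sdiff, Finset.mem_symmDiff, Finset.mem_union] at hx ⊢
          rcases hx with ⟨⟨h1, h2⟩ | ⟨h1, h2⟩, h3⟩
          · exact Or.inl ⟨⟨h1, h3⟩, fun ht => h2 (hTO ht)⟩
          · exact Or.inr ⟨⟨h1, h3⟩, fun ht => h2 (Finset.mem_sdiff.1 (hT ht)).1⟩
        have hTO' : T ⊆ O \ Q := fun x hx => Finset.mem_sdiff.2 ⟨hTO hx, (Finset.mem_sdiff.1 (hT hx)).2⟩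
        have e1 := (Finset.card_le_card hsub).trans (Finset.card_union_le _ _)
        rw [Finset.card_sdiff_of_subset hT, Finset.card_sdiff_of_subset hTO', hT3] at e1
        have e2 := Finset.card_sdiff_add_card_inter O Q
        rw [hO.1.2] at e2
        omega
      obtain ⟨B, hB, e⟩ := ih _ hlt hA' (hp ▸ h) rfl
      exact ⟨B, hB, hp.symm.trans e⟩

/-- The second base through the octad. -/
theorem exists_second (C : Config D J Q w) :
    ∃ J₁ : Finset G, IsClique D J₁ ∧ J₁.card = 24 ∧ Q ⊆ J₁ ∧ w ∈ J₁ ∧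
      ∀ t, t ∈ J₁ ↔ t ∈ Q ∨ (t ∈ around D Q ∧ Commute t w) := by
  obtain ⟨a, ha, haQ⟩ := C.exists_out
  set X : Finset G := (J \ Q).image fun b => a * (b * w * b) * a with hX
  have hXm : ∀ t, t ∈ X ↔ t ∈ around D Q ∧ Commute t w := by
    intro t
    constructor
    · intro ht
      obtain ⟨b, hb, rfl⟩ := Finset.mem_image.1 ht
      rw [Finset.mem_sdiff] at hb
      refine ⟨C.conj_around S ha (C.conj_around S hb.1 C.hw), ?_⟩
      have h3 := (Commute.conj_iff a).2 (C.third_comm S hb.1 hb.2 ha haQ)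
      rw [S.tt.inv_eq (C.hJ.1 ha)] at h3
      simpa only [mul_assoc, cancel₂ (S.sqd (C.hJ.1 ha)), S.sqd (C.hJ.1 ha), mul_one] using h3
    · rintro ⟨ht, htw⟩
      obtain ⟨b, hb, hbQ, rfl⟩ := C.same_surj S ha haQ ht htw
      exact Finset.mem_image.2 ⟨b, Finset.mem_sdiff.2 ⟨hb, hbQ⟩, rfl⟩
  refine ⟨Q ∪ X, ⟨fun t ht => (Finset.mem_union.1 ht).elim (fun h => C.hQ.1.1 h) fun h => ((hXm t).1 h).1.1,
    fun x hx y hy => ?_⟩, ?_, Finset.subset_union_left, Finset.mem_union_right _ ((hXm w).2 ⟨C.hw, Commute.refl w⟩),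
    fun t => by rw [Finset.mem_union, hXm]⟩
  · rcases Finset.mem_union.1 hx with hx | hx <;> rcases Finset.mem_union.1 hy with hy | hy
    exacts [C.hQ.1.2 x hx y hy, (((hXm y).1 hy).1.2.2 x hx).symm, ((hXm x).1 hx).1.2.2 y hy,
      around_trans S C.hQ ((hXm x).1 hx).1 C.hw ((hXm y).1 hy).1 ((hXm x).1 hx).2 ((hXm y).1 hy).2.symm]
  · rw [Finset.card_union_of_disjoint (Finset.disjoint_left.2 fun q hq hq' => ((hXm q).1 hq').1.2.1 hq),
      C.hQ.2.1, hX, Finset.card_image_of_injOn, C.card_out]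
    intro b hb c hc e
    simp only [Finset.coe_sdiff, Set.mem_sdiff, Finset.mem_coe] at hb hc
    exact C.third_inj S hb.1 hb.2 hc.1 hc.2 (mul_left_cancel (mul_right_cancel e))

end Config

include S

/-- The character on the stabiliser of the second configuration. -/
theorem exists_tau {J Q J₁ Q₁ : Finset G} {w v : G} (C : Config D J Q w) (C₁ : Config D J₁ Q₁ v)
    (hchar : ∀ t, t ∈ J₁ ↔ t ∈ Q ∨ (t ∈ around D Q ∧ Commute t w)) (hw₁ : w ∈ Q₁) (hdisj : Disjoint Q₁ Q)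
    {R : Subgroup G} (hRmem : ∀ r, r ∈ R ↔ Commute r w ∧ (∀ x, x ∈ J ↔ r * x * r⁻¹ ∈ J) ∧
      ∀ x, x ∈ Q₁ ↔ r * x * r⁻¹ ∈ Q₁) :
    ∃ τ : ↥R →* ℤˣ, ∀ (B : Finset G), B ⊆ Q → ∀ h : prodSet B ∈ R, τ ⟨prodSet B, h⟩ = (-1) ^ B.card := by
  have hwJ₁ : w ∈ J₁ := C₁.hQJ hw₁
  have hQJ₁ : Q ⊆ J₁ := fun x hx => (hchar x).2 (Or.inl hx)
  have hQiff : ∀ x, x ∈ Q ↔ x ∈ J ∧ Commute x w := fun x =>
    ⟨fun hx => ⟨C.hQJ hx, (C.hw.2.2 x hx).symm⟩, fun ⟨hx, hxw⟩ => by_contra fun hxQ => C.not_comm S hx hxQ hxw.symm⟩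
  have hcw : ∀ {r : G}, Commute r w → ∀ x, (Commute x w ↔ Commute (r * x * r⁻¹) w) := fun {r} hr x => by
    conv_lhs => rw [← Commute.conj_iff r]
    rw [hr.eq, mul_inv_cancel_right]
  have hRQ : ∀ r ∈ R, ∀ x, x ∈ Q ↔ r * x * r⁻¹ ∈ Q := fun r hr x => by
    rw [hQiff, hQiff, ← ((hRmem r).1 hr).2.1 x, ← hcw ((hRmem r).1 hr).1 x]
  have hRJ₁' : ∀ r ∈ R, ∀ x ∈ J₁, r * x * r⁻¹ ∈ J₁ := by
    intro r hr x hx
    rw [hchar] at hx ⊢
    rcases hx with hx | ⟨hx, hxw⟩
    · exact Or.inl ((hRQ r hr x).1 hx)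
    · refine Or.inr ⟨⟨S.tt.conj r _ hx.1, fun h => hx.2.1 ((hRQ r hr x).2 h), fun q hq => ?_⟩,
        (hcw ((hRmem r).1 hr).1 x).1 hxw⟩
      have hq' : r⁻¹ * q * r ∈ Q := (hRQ r hr _).2 (by simpa [mul_assoc] using hq)
      have := (Commute.conj_iff r).2 (hx.2.2 _ hq')
      simpa [mul_assoc] using this
  obtain ⟨p₁, hp₁⟩ := exists_parity (J := (J₁ : Set G)) C₁.hJ.2 (C₁.hJ.sq S) fun A hA he =>
    even_of_prod S (C₁.hJ.mono (Finset.coe_subset.1 hA)) he
  set A₀ : Subgroup G := Subgroup.closure (J₁ : Set G) ⊓ R with hA₀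
  set B₀ : Subgroup G := R ⊓ Subgroup.centralizer {v} with hB₀
  have hswap : ∀ a ∈ J₁, a ∉ Q₁ → a ∉ Q → ∀ c ∈ J, c ∉ Q → a * w * c * (a * w)⁻¹ ∈ J := by
    intro a ha haQ₁ haQ c hc hcQ
    have Cc : Config D J₁ Q c := ⟨C₁.hJ, C₁.h24, hQJ₁, C.hQ, C.mem_around hc hcQ, fun h => by
      rcases (hchar c).1 h with h | ⟨-, h⟩
      exacts [hcQ h, C.not_comm S hc hcQ h.symm]⟩
    have hne : a ≠ w := fun e => haQ₁ (e ▸ hw₁)
    have hwQ : w ∉ Q := C.hw.2.1
    have hsub : ({a, w} : Finset G) ⊆ J₁ := by simp [Finset.insert_subset_iff, ha, hwJ₁]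
    obtain ⟨h1, -, h3⟩ := Cc.parity_conj S hsub
    have e : prodSet ({a, w} : Finset G) = a * w := by
      rw [prodSet_insert (by simpa using hne) (pairwise_of_subset C₁.hJ.2 (Finset.coe_subset.2 hsub)),
        prodSet_singleton]
    rw [e] at h1 h3
    refine C.mem_of_comm S h1 hc hcQ (h3.2 ?_)
    rw [Finset.insert_sdiff_of_notMem _ haQ, Finset.card_insert_of_notMem (fun h => hne (by
      simpa using (Finset.mem_sdiff.1 h).1)), show ({w} : Finset G) \ Q = {w} from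
      Finset.sdiff_eq_self_of_disjoint (Finset.disjoint_singleton_left.2 hwQ), Finset.card_singleton]
    norm_num
  -- the generators of the intersection
  have hgen : ∀ a ∈ J₁, ∃ j ∈ A₀, ∀ t : G, (∀ q ∈ Q₁, Commute q t) → a * t * a⁻¹ = j * t * j⁻¹ := by
    intro a ha
    by_cases haQ₁ : a ∈ Q₁
    · exact ⟨1, one_mem _, fun t ht => by rw [(ht a haQ₁).eq, mul_inv_cancel_right, one_mul, inv_one, mul_one]⟩
    have hfix : ∀ {j : G}, j ∈ Subgroup.closure (J₁ : Set G) → ∀ x ∈ J₁, j * x * j⁻¹ = x := by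
      intro j hj x hx
      obtain ⟨A, hA, rfl⟩ := exists_prodSet C₁.hJ.2 (C₁.hJ.sq S) hj
      rw [(prodSet_commute C₁.hJ.2 hA fun y hy => C₁.hJ.2 x hx y (hA hy)).symm.eq, mul_inv_cancel_right]
    have mkR : ∀ {j : G}, j ∈ Subgroup.closure (J₁ : Set G) → j * j = 1 → (∀ x ∈ J, j * x * j⁻¹ ∈ J) → j ∈ A₀ := by
      intro j hj hjj hJj
      refine ⟨hj, (hRmem j).2 ⟨mul_inv_eq_iff_eq_mul.1 (hfix hj w hwJ₁), fun x => ⟨hJj x, fun h => ?_⟩, fun x => ?_⟩⟩
      · have := hJj _ h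
        rwa [inv_eq_self hjj, show j * (j * x * j) * j = x by
          simp only [mul_assoc, cancel₂ hjj, hjj, mul_one]] at this
      · refine ⟨fun hx => by rwa [hfix hj x (C₁.hQJ hx)], fun hx => ?_⟩
        have h2 := hfix hj _ (C₁.hQJ hx)
        rw [inv_eq_self hjj, show j * (j * x * j) * j = x by
          simp only [mul_assoc, cancel₂ hjj, hjj, mul_one]] at h2
        rwa [inv_eq_self hjj, ← h2] at hx
    by_cases haQ : a ∈ Q
    · refine ⟨a, mkR (Subgroup.subset_closure ha) (S.sqd (C₁.hJ.1 ha)) fun x hx => ?_, fun t _ => rfl⟩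
      rwa [(C.hJ.2 a (C.hQJ haQ) x hx).eq, mul_inv_cancel_right]
    · refine ⟨a * w, mkR (mul_mem (Subgroup.subset_closure ha) (Subgroup.subset_closure hwJ₁)) ?_ fun x hx => ?_,
        fun t ht => ?_⟩
      · rw [(C₁.hJ.2 w hwJ₁ a ha).mul_mul_mul_comm, S.sqd (C₁.hJ.1 ha), S.sqd C.hw.1, one_mul]
      · by_cases hxQ : x ∈ Q
        · rwa [((C₁.hJ.2 a ha x (hQJ₁ hxQ)).mul_left (C.hw.2.2 x hxQ)).eq, mul_inv_cancel_right]
        · exact hswap a ha haQ₁ haQ x hx hxQ
      · rw [show a * w * t * (a * w)⁻¹ = a * (w * t * w⁻¹) * a⁻¹ by group, (ht w hw₁).eq, mul_inv_cancel_right]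
  have hcommQ₁ : ∀ {j : G}, j ∈ Subgroup.closure (J₁ : Set G) → ∀ q ∈ Q₁, Commute q (j * v * j⁻¹) := by
    intro j hj q hq
    obtain ⟨A, hA, rfl⟩ := exists_prodSet C₁.hJ.2 (C₁.hJ.sq S) hj
    have hc : Commute q (prodSet A) := prodSet_commute C₁.hJ.2 hA fun y hy => C₁.hJ.2 q (C₁.hQJ hq) y (hA hy)
    exact (hc.mul_right (C₁.hw.2.2 q hq).symm).mul_right hc.inv_right
  have hrep : ∀ A : Finset G, A ⊆ J₁ → ∃ j ∈ A₀, prodSet A * v * (prodSet A)⁻¹ = j * v * j⁻¹ := by
    intro A hA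
    induction A using Finset.induction_on with
    | empty => exact ⟨1, one_mem _, by rw [prodSet_empty]⟩
    | insert a B haB ih =>
      obtain ⟨j, hj, e⟩ := ih ((Finset.subset_insert a B).trans hA)
      obtain ⟨k, hk, hk'⟩ := hgen a (hA (Finset.mem_insert_self a B))
      refine ⟨k * j, mul_mem hk hj, ?_⟩
      rw [prodSet_insert haB (pairwise_of_subset C₁.hJ.2 (Finset.coe_subset.2 hA))]
      calc a * prodSet B * v * (a * prodSet B)⁻¹ = a * (prodSet B * v * (prodSet B)⁻¹) * a⁻¹ := by group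
        _ = k * (j * v * j⁻¹) * k⁻¹ := by rw [e, hk' _ (hcommQ₁ hj.1)]
        _ = k * j * v * (k * j)⁻¹ := by group
  have hR : ∀ r ∈ R, ∃ a ∈ A₀, ∃ b ∈ B₀, r = a * b := by
    intro r hr
    have hrQ₁ := ((hRmem r).1 hr).2.2
    have hnm : r * v * r⁻¹ ∉ J₁ := fun h => C₁.hwJ (by
      have := hRJ₁' r⁻¹ (inv_mem hr) _ h
      simpa [mul_assoc] using this)
    obtain ⟨A, hA, e⟩ := C₁.orbit S (t := r * v * r⁻¹) ⟨S.tt.conj r _ C₁.hw.1,
      fun h => C₁.hw.2.1 ((hrQ₁ v).2 h), fun q hq => by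
        have := (Commute.conj_iff r).2 (C₁.hw.2.2 _ ((hrQ₁ (r⁻¹ * q * r)).2 (by simpa [mul_assoc] using hq)))
        simpa [mul_assoc] using this⟩ hnm
    obtain ⟨j, hj, e'⟩ := hrep A hA
    refine ⟨j, hj, j⁻¹ * r, ⟨R.mul_mem (R.inv_mem hj.2) hr, Subgroup.mem_centralizer_singleton_iff.2 ?_⟩, by group⟩
    have h1 : r * v * r⁻¹ = j * v * j⁻¹ := e.trans e'
    calc j⁻¹ * r * v = j⁻¹ * (r * v * r⁻¹) * r := by group
      _ = v * (j⁻¹ * r) := by rw [h1]; group
  have hnorm : ∀ b ∈ B₀, ∀ a ∈ A₀, b * a * b⁻¹ ∈ A₀ := by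
    intro b hb a ha
    refine ⟨?_, R.mul_mem (R.mul_mem hb.1 ha.2) (R.inv_mem hb.1)⟩
    obtain ⟨A, hA, rfl⟩ := exists_prodSet C₁.hJ.2 (C₁.hJ.sq S) ha.1
    rw [prodSet_conj C₁.hJ.2 hA]
    refine prodSet_mem fun x hx => ?_
    obtain ⟨y, hy, rfl⟩ := Finset.mem_image.1 hx
    exact Subgroup.subset_closure (hRJ₁' b hb.1 y (hA hy))
  set f : ↥A₀ →* ℤˣ := p₁.comp (Subgroup.inclusion inf_le_left) with hf
  obtain ⟨τ, hτA, -⟩ := exists_glue (R := R) (A := A₀) (B := B₀) inf_le_right inf_le_left hnorm hR f 1 (by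
    intro x ha hb
    obtain ⟨A, hA, rfl⟩ := exists_prodSet C₁.hJ.2 (C₁.hJ.sq S) ha.1
    obtain ⟨B, hB, e⟩ := C₁.centralizer_base S (Finset.coe_subset.1 hA)
      (Subgroup.mem_centralizer_singleton_iff.1 hb.2)
    have hBJ₁ : B ⊆ J₁ := hB.trans C₁.hQJ
    have hm : prodSet B ∈ Subgroup.closure (J₁ : Set G) := e ▸ ha.1
    show p₁ ⟨prodSet A, ha.1⟩ = 1
    rw [show (⟨prodSet A, ha.1⟩ : ↥(Subgroup.closure (J₁ : Set G))) = ⟨prodSet B, hm⟩ from Subtype.ext e,
      hp₁ B (Finset.coe_subset.2 hBJ₁) hm]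
    refine Even.neg_one_pow ?_
    obtain ⟨c, hc, hcQ⟩ := C.exists_out
    have Cc : Config D J₁ Q c := ⟨C₁.hJ, C₁.h24, hQJ₁, C.hQ, C.mem_around hc hcQ, fun h => by
      rcases (hchar c).1 h with h | ⟨-, h⟩
      exacts [hcQ h, C.not_comm S hc hcQ h.symm]⟩
    have hev : Even (B \ Q).card := by
      refine (Cc.parity_conj S hBJ₁).2.2.1 (C.hJ.2 _ ?_ c hc)
      rw [← e]
      exact (((hRmem _).1 ha.2).2.1 c).1 hc
    rwa [Finset.sdiff_eq_self_of_disjoint (Finset.disjoint_of_subset_left hB hdisj)] at hev) (by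
    intro b a hb ha
    obtain ⟨A, hA, rfl⟩ := exists_prodSet C₁.hJ.2 (C₁.hJ.sq S) ha.1
    have hA' : ((A.image fun x => b * x * b⁻¹ : Finset G) : Set G) ⊆ (J₁ : Set G) := by
      intro x hx
      obtain ⟨y, hy, rfl⟩ := Finset.mem_image.1 hx
      exact hRJ₁' b hb.1 y (hA hy)
    have e := prodSet_conj C₁.hJ.2 hA b
    show p₁ ⟨b * prodSet A * b⁻¹, (hnorm b hb _ ha).1⟩ = p₁ ⟨prodSet A, ha.1⟩
    rw [show (⟨b * prodSet A * b⁻¹, (hnorm b hb _ ha).1⟩ : ↥(Subgroup.closure (J₁ : Set G))) =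
      ⟨prodSet (A.image fun x => b * x * b⁻¹), by rw [← e]; exact (hnorm b hb _ ha).1⟩ from Subtype.ext e, hp₁ _ hA', hp₁ A hA, Finset.card_image_of_injective]
    exact fun x y h => mul_left_cancel (mul_right_cancel h))
  refine ⟨τ, fun B hB h => ?_⟩
  have hBJ₁ : (B : Set G) ⊆ (J₁ : Set G) := Finset.coe_subset.2 (hB.trans hQJ₁)
  have hm : prodSet B ∈ A₀ := ⟨prodSet_mem fun x hx => Subgroup.subset_closure (hBJ₁ hx), h⟩
  exact (hτA _ hm).trans (hp₁ B hBJ₁ hm.1)

/-- There is a sign on the group that is `-1` on every member. -/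
theorem exists_member_sign : ∃ φ : G →* ℤˣ, ∀ d ∈ D, φ d = -1 := by
  haveI := Fact.mk Nat.prime_two
  -- a base in a Sylow 2-subgroup
  obtain ⟨E, hED, -, hEc, hEn⟩ : ∃ E : Set G, E ⊆ D ∧ E.Finite ∧ (∀ x ∈ E, ∀ y ∈ E, Commute x y) ∧ E.ncard = 24 := by
    have h := Nat.sSup_mem (s := {n : ℕ | ∃ E : Set G, E ⊆ D ∧ E.Finite ∧
      (∀ x ∈ E, ∀ y ∈ E, Commute x y) ∧ E.ncard = n}) ⟨0, ∅, Set.empty_subset _, Set.finite_empty, by simp, by simp⟩
      ⟨24, by rintro n ⟨E₁, hE₁, -, hc₁, rfl⟩; exact width_le S hE₁ hc₁⟩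
    rwa [show sSup _ = 24 from width_eq S] at h
  set J : Finset G := E.toFinite.toFinset with hJdef
  have hJm : ∀ x, x ∈ J ↔ x ∈ E := fun x => E.toFinite.mem_toFinset
  have hJ : IsClique D J := ⟨fun x hx => hED ((hJm x).1 hx), fun x hx y hy => hEc x ((hJm x).1 hx) y ((hJm y).1 hy)⟩
  have h24 : J.card = 24 := by rw [hJdef, ← Set.ncard_eq_toFinset_card E E.toFinite, hEn]
  have hp2 : IsPGroup 2 ↥(Subgroup.closure (J : Set G)) := by
    intro g
    obtain ⟨A, hA, e⟩ := exists_prodSet hJ.2 (hJ.sq S) g.2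
    exact ⟨1, Subtype.ext (by
      show (g : G) ^ (2 ^ 1) = 1
      rw [pow_one, pow_two, ← e, prodSet_sq hJ.2 (hJ.sq S) hA])⟩
  obtain ⟨P, hJP⟩ := hp2.exists_le_sylow
  have hDP : ∀ x ∈ D, x ∈ (P : Subgroup G) → x ∈ J := by
    intro x hx hxP
    refine mem_base S hJ h24 hx fun j hj => ?_
    by_contra hc
    obtain ⟨k, hk⟩ := P.isPGroup' ⟨x * j, mul_mem hxP (hJP (Subgroup.subset_closure hj))⟩
    have hb : x * j * x = j * x * j := (S.tt.cond x hx j (hJ.1 hj)).resolve_left hc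
    haveI := Fact.mk Nat.prime_three
    have h3 : orderOf (x * j) = 3 := orderOf_eq_prime (pow_three_eq_one (S.sqd hx) (S.sqd (hJ.1 hj)) hb) fun h1 => by
      refine hc ?_
      rw [mul_eq_one_iff_eq_inv, S.tt.inv_eq (hJ.1 hj)] at h1
      exact h1 ▸ Commute.refl _
    have hdvd : orderOf (x * j) ∣ 2 ^ k := orderOf_dvd_of_pow_eq_one (congrArg Subtype.val hk)
    rw [h3] at hdvd
    exact absurd ((Nat.prime_three.dvd_of_dvd_pow hdvd)) (by norm_num)
  have hPJ : ∀ s ∈ (P : Subgroup G), ∀ x, x ∈ J ↔ s * x * s⁻¹ ∈ J := by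
    have key : ∀ s ∈ (P : Subgroup G), ∀ x ∈ J, s * x * s⁻¹ ∈ J := fun s hs x hx =>
      hDP _ (S.tt.conj s _ (hJ.1 hx)) (mul_mem (mul_mem hs (hJP (Subgroup.subset_closure hx))) (inv_mem hs))
    exact fun s hs x => ⟨key s hs x, fun h => by simpa [mul_assoc] using key s⁻¹ (inv_mem hs) _ h⟩
  -- an octad fixed by the Sylow subgroup
  have hSt := steiner S hJ h24
  obtain ⟨Q, hQF, hQfix⟩ := exists_fixed_set P.isPGroup' (F := (J.powersetCard 8).filter fun X => prodSet X = 1)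
    (by rw [hSt.card_blocks]; norm_num) fun s hs X hX => by
      rw [Finset.mem_filter, Finset.mem_powersetCard] at hX ⊢
      refine ⟨⟨fun y hy => ?_, ?_⟩, ?_⟩
      · obtain ⟨x, hx, rfl⟩ := Finset.mem_image.1 hy
        exact (hPJ s hs x).1 (hX.1.1 hx)
      · rw [Finset.card_image_of_injective _ (fun x y h => mul_left_cancel (mul_right_cancel h)), hX.1.2]
      · rw [← prodSet_conj hJ.2 (Finset.coe_subset.2 hX.1.1), hX.2, mul_one, mul_inv_cancel]
  rw [Finset.mem_filter, Finset.mem_powersetCard] at hQF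
  have hQ : IsOctad D Q := ⟨hJ.mono hQF.1.1, hQF.1.2, hQF.2⟩
  have hPQ : ∀ s ∈ (P : Subgroup G), ∀ x, x ∈ Q ↔ s * x * s⁻¹ ∈ Q := fun s hs => conj_mem_iff (hQfix s hs)
  obtain ⟨w, hw, hwJ⟩ := exists_off S hJ h24 hQF.1.1 hQ
  have C : Config D J Q w := ⟨hJ, h24, hQF.1.1, hQ, hw, hwJ⟩
  obtain ⟨J₁, hJ₁, h24₁, hQJ₁, hwJ₁, hchar⟩ := C.exists_second S
  set K : Subgroup G := (P : Subgroup G) ⊓ Subgroup.centralizer {w} with hK
  -- an octad of the second base through `w`, off the first octad, fixed by the centraliser of `w`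
  have hSt₁ := steiner S hJ₁ h24₁
  have hQ₁' : Q ∈ (J₁.powersetCard 8).filter fun X => prodSet X = 1 :=
    Finset.mem_filter.2 ⟨Finset.mem_powersetCard.2 ⟨hQJ₁, hQF.1.2⟩, hQF.2⟩
  have hKw : ∀ k ∈ K, Commute k w := fun k hk => Subgroup.mem_centralizer_singleton_iff.1 hk.2
  have hKJ₁ : ∀ k ∈ K, ∀ x ∈ J₁, k * x * k⁻¹ ∈ J₁ := by
    intro k hk x hx
    rw [hchar] at hx ⊢
    rcases hx with hx | ⟨hx, hxw⟩
    · exact Or.inl ((hPQ k hk.1 x).1 hx)
    · refine Or.inr ⟨⟨S.tt.conj k _ hx.1, fun h => hx.2.1 ((hPQ k hk.1 x).2 h), fun q hq => ?_⟩, ?_⟩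
      · have := (Commute.conj_iff k).2 (hx.2.2 _ ((hPQ k hk.1 (k⁻¹ * q * k)).2 (by simpa [mul_assoc] using hq)))
        simpa [mul_assoc] using this
      · have := (Commute.conj_iff k).2 hxw
        rwa [(hKw k hk).eq, mul_inv_cancel_right] at this
  obtain ⟨Q₁, hQ₁F, hQ₁fix⟩ := exists_fixed_set (P := K) (P.isPGroup'.to_le inf_le_left)
    (F := ((J₁.powersetCard 8).filter fun X => prodSet X = 1).filter fun X => w ∈ X ∧ Disjoint X Q)
    (by rw [hSt₁.card_disjoint hQ₁' hwJ₁ hw.2.1]; norm_num) fun k hk X hX => by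
      simp only [Finset.mem_filter, Finset.mem_powersetCard] at hX ⊢
      obtain ⟨⟨⟨hX1, hX2⟩, hX3⟩, hX4, hX5⟩ := hX
      refine ⟨⟨⟨fun y hy => ?_, ?_⟩, ?_⟩, ?_, ?_⟩
      · obtain ⟨x, hx, rfl⟩ := Finset.mem_image.1 hy
        exact hKJ₁ k hk x (hX1 hx)
      · rw [Finset.card_image_of_injective _ (fun x y h => mul_left_cancel (mul_right_cancel h)), hX2]
      · rw [← prodSet_conj hJ₁.2 (Finset.coe_subset.2 hX1), hX3, mul_one, mul_inv_cancel]
      · exact Finset.mem_image.2 ⟨w, hX4, by rw [(hKw k hk).eq, mul_inv_cancel_right]⟩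
      · rw [Finset.disjoint_left]
        intro y hy hyQ
        obtain ⟨x, hx, rfl⟩ := Finset.mem_image.1 hy
        exact Finset.disjoint_left.1 hX5 hx ((hPQ k hk.1 x).2 hyQ)
  simp only [Finset.mem_filter, Finset.mem_powersetCard] at hQ₁F
  obtain ⟨⟨⟨hQ₁J, hQ₁c⟩, hQ₁p⟩, hwQ₁, hdisj⟩ := hQ₁F
  have hQ₁ : IsOctad D Q₁ := ⟨hJ₁.mono hQ₁J, hQ₁c, hQ₁p⟩
  obtain ⟨v, hv, hvJ⟩ := exists_off S hJ₁ h24₁ hQ₁J hQ₁
  let R : Subgroup G :=
    { carrier := {r | Commute r w ∧ (∀ x, x ∈ J ↔ r * x * r⁻¹ ∈ J) ∧ ∀ x, x ∈ Q₁ ↔ r * x * r⁻¹ ∈ Q₁}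
      one_mem' := ⟨Commute.one_left w, fun x => by simp, fun x => by simp⟩
      mul_mem' := fun {r s} hr hs => ⟨hr.1.mul_left hs.1, fun x => by
        rw [hs.2.1 x, hr.2.1 (s * x * s⁻¹), mul_inv_rev]; simp only [mul_assoc], fun x => by
        rw [hs.2.2 x, hr.2.2 (s * x * s⁻¹), mul_inv_rev]; simp only [mul_assoc]⟩
      inv_mem' := fun {r} hr => ⟨hr.1.inv_left, fun x => by
        rw [hr.2.1 (r⁻¹ * x * r⁻¹⁻¹)]; simp [mul_assoc], fun x => by
        rw [hr.2.2 (r⁻¹ * x * r⁻¹⁻¹)]; simp [mul_assoc]⟩ }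
  have hRmem : ∀ r, r ∈ R ↔ Commute r w ∧ (∀ x, x ∈ J ↔ r * x * r⁻¹ ∈ J) ∧ ∀ x, x ∈ Q₁ ↔ r * x * r⁻¹ ∈ Q₁ :=
    fun _ => Iff.rfl
  have hKR : K ≤ R := fun k hk => (hRmem k).2 ⟨hKw k hk, hPJ k hk.1, conj_mem_iff (hQ₁fix k hk)⟩
  obtain ⟨τ, hτ⟩ := exists_tau S C ⟨hJ₁, h24₁, hQ₁J, hQ₁, hv, hvJ⟩ hchar hwQ₁ hdisj hRmem
  obtain ⟨p, hp⟩ := exists_parity (J := (J : Set G)) hJ.2 (hJ.sq S) fun A hA he =>
    even_of_prod S (hJ.mono (Finset.coe_subset.1 hA)) he
  -- the glued character of the Sylow subgroup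
  have hnorm : ∀ b ∈ K, ∀ a ∈ Subgroup.closure (J : Set G), b * a * b⁻¹ ∈ Subgroup.closure (J : Set G) := by
    intro b hb a ha
    obtain ⟨A, hA, rfl⟩ := exists_prodSet hJ.2 (hJ.sq S) ha
    rw [prodSet_conj hJ.2 hA]
    refine prodSet_mem fun x hx => ?_
    obtain ⟨y, hy, rfl⟩ := Finset.mem_image.1 hx
    exact Subgroup.subset_closure ((hPJ b hb.1 y).1 (hA hy))
  have hprod : ∀ s ∈ (P : Subgroup G), ∃ a ∈ Subgroup.closure (J : Set G), ∃ b ∈ K, s = a * b := by
    intro s hs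
    obtain ⟨A, hA, e⟩ := C.orbit S (t := s * w * s⁻¹) ⟨S.tt.conj s _ hw.1, fun h => hw.2.1 ((hPQ s hs w).2 h),
      fun q hq => by
        have := (Commute.conj_iff s).2 (hw.2.2 _ ((hPQ s hs (s⁻¹ * q * s)).2 (by simpa [mul_assoc] using hq)))
        simpa [mul_assoc] using this⟩ (fun h => hwJ ((hPJ s hs w).2 h))
    have hA' : prodSet A ∈ Subgroup.closure (J : Set G) := prodSet_mem fun x hx => Subgroup.subset_closure (hA hx)
    refine ⟨_, hA', (prodSet A)⁻¹ * s, ⟨(P : Subgroup G).mul_mem ((P : Subgroup G).inv_mem (hJP hA')) hs, Subgroup.mem_centralizer_singleton_iff.2 ?_⟩,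
      by group⟩
    calc (prodSet A)⁻¹ * s * w = (prodSet A)⁻¹ * (s * w * s⁻¹) * s := by group
      _ = w * ((prodSet A)⁻¹ * s) := by rw [e]; group
  obtain ⟨σ, hσA, -⟩ := exists_glue (R := (P : Subgroup G)) hJP (inf_le_left : K ≤ P) hnorm hprod p
    (τ.comp (Subgroup.inclusion hKR)) (by
      intro x ha hb
      obtain ⟨A, hA, rfl⟩ := exists_prodSet hJ.2 (hJ.sq S) ha
      obtain ⟨B, hB, e⟩ := C.centralizer_base S (Finset.coe_subset.1 hA) (hKw _ hb)
      have hBm : prodSet B ∈ Subgroup.closure (J : Set G) := e ▸ ha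
      have hBR : prodSet B ∈ R := e ▸ hKR hb
      show p ⟨prodSet A, ha⟩ = τ ⟨prodSet A, hKR hb⟩
      rw [show (⟨prodSet A, ha⟩ : ↥(Subgroup.closure (J : Set G))) = ⟨prodSet B, hBm⟩ from Subtype.ext e,
        show (⟨prodSet A, hKR hb⟩ : ↥R) = ⟨prodSet B, hBR⟩ from Subtype.ext e,
        hp B (Finset.coe_subset.2 (hB.trans hQF.1.1)) hBm, hτ B hB hBR]) (by
      intro b a hb ha
      obtain ⟨A, hA, rfl⟩ := exists_prodSet hJ.2 (hJ.sq S) ha
      have hA' : ((A.image fun x => b * x * b⁻¹ : Finset G) : Set G) ⊆ (J : Set G) := by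
        intro x hx
        obtain ⟨y, hy, rfl⟩ := Finset.mem_image.1 hx
        exact (hPJ b hb.1 y).1 (hA hy)
      have e := prodSet_conj hJ.2 hA b
      rw [show (⟨b * prodSet A * b⁻¹, hnorm b hb _ ha⟩ : ↥(Subgroup.closure (J : Set G))) =
        ⟨prodSet (A.image fun x => b * x * b⁻¹), by rw [← e]; exact hnorm b hb _ ha⟩ from Subtype.ext e, hp _ hA', hp A hA, Finset.card_image_of_injective]
      exact fun x y h => mul_left_cancel (mul_right_cancel h))
  refine exists_sign (fun d hd g => S.tt.conj g d hd) (fun d hd => S.sqd hd) (S := (P : Subgroup G)) ?_ σ ?_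
  · rw [← Nat.not_even_iff_odd, even_iff_two_dvd]
    exact P.not_dvd_index
  · intro d hd h
    have hdJ := hDP d hd h
    refine (hσA d (Subgroup.subset_closure hdJ)).trans ?_
    have hd1 : prodSet ({d} : Finset G) ∈ Subgroup.closure (J : Set G) := by
      rw [prodSet_singleton]; exact Subgroup.subset_closure hdJ
    rw [show (⟨d, Subgroup.subset_closure hdJ⟩ : ↥(Subgroup.closure (J : Set G))) = ⟨prodSet {d}, hd1⟩ from
      Subtype.ext (prodSet_singleton d).symm, hp _ (by simpa using hdJ) hd1]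
    simp

end CfsgLib.M24
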