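import Cfsg.Agent.Lib.ThreeTransp.M23Invol

/-!
# Groups of type `M(23)`: the centraliser of a product of two commuting members
-/

set_option autoImplicit false

namespace CfsgLib.M23

open CfsgLib.ThreeTransp CfsgLib.SporMisc CfsgLib.ThreeTransp.Factor
open scoped commutatorElement

variable {G : Type*} [Group G] {D : Set G}
variable [Finite G] (S : Setup D)
include S

/-- The group of the double link. -/
abbrev pairSub (D : Set G) (a b : G) : Subgroup G := Subgroup.closure (link D a ∩ link D b)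

omit S [Finite G] in
theorem pairSub_commute {a b x : G} (hx : x ∈ pairSub D a b) : Commute x a ∧ Commute x b :=
  ⟨linkSub_commute (Subgroup.closure_mono Set.inter_subset_left hx),
    linkSub_commute (Subgroup.closure_mono Set.inter_subset_right hx)⟩

/-- Six members of the double link with product `a`. -/
theorem exists_six_pair {a b : G} (ha : a ∈ D) (hb : b ∈ link D a) :
    ∃ e c d p q r : G, e ∈ link D a ∩ link D b ∧ c ∈ link D a ∩ link D b ∧ d ∈ link D a ∩ link D b ∧
      p ∈ link D a ∩ link D b ∧ q ∈ link D a ∩ link D b ∧ r ∈ link D a ∩ link D b ∧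
      e * (c * d * p * q * r) = a := by
  obtain ⟨e, he⟩ : (link D a ∩ link D b).Nonempty :=
    (Set.ncard_pos (Set.toFinite _)).1 (by rw [link_two_ncard S ha hb]; norm_num)
  have T := S.link_setup ha
  obtain ⟨F, _, _, hF, hM⟩ := T.exists_models
  have leb : b ∈ link D e := link_swap hb.1 he.2
  obtain ⟨c', d', p', q', r', hnd, hmem, hcomm, hprod⟩ :=
    M22.exists_five_avoid T hF hM (pj_mem he.1) ((S.pj_link ha he.1 hb).2 leb)
  obtain ⟨c, lc, rfl⟩ := Setup.pj_surj (hmem c' (by simp)).1.1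
  obtain ⟨d, ld, rfl⟩ := Setup.pj_surj (hmem d' (by simp)).1.1
  obtain ⟨p, lp, rfl⟩ := Setup.pj_surj (hmem p' (by simp)).1.1
  obtain ⟨q, lq, rfl⟩ := Setup.pj_surj (hmem q' (by simp)).1.1
  obtain ⟨r, lr, rfl⟩ := Setup.pj_surj (hmem r' (by simp)).1.1
  have hl : ∀ x ∈ [c, d, p, q, r], ∃ lx : x ∈ link D a, pj lx ∈ [pj lc, pj ld, pj lp, pj lq, pj lr] := by
    intro x hx
    simp only [List.mem_cons, List.not_mem_nil, or_false] at hx
    rcases hx with rfl | rfl | rfl | rfl | rfl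
    exacts [⟨lc, by simp⟩, ⟨ld, by simp⟩, ⟨lp, by simp⟩, ⟨lq, by simp⟩, ⟨lr, by simp⟩]
  have hae : ∀ x ∈ [c, d, p, q, r], x ∈ link D a ∩ link D e ∧ x ∈ link D b := fun x hx => by
    obtain ⟨lx, hpx⟩ := hl x hx
    exact ⟨⟨lx, (S.pj_link ha he.1 lx).1 (hmem _ hpx).1⟩, (S.pj_link ha hb lx).1 (hmem _ hpx).2⟩
  have hnd' : [c, d, p, q, r].Nodup := by
    simp only [List.nodup_cons, List.mem_cons, List.not_mem_nil, or_false, not_or, List.nodup_nil,
      not_false_eq_true, and_true] at hnd ⊢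
    obtain ⟨⟨n01, n02, n03, n04⟩, ⟨n12, n13, n14⟩, ⟨n23, n24⟩, n34⟩ := hnd
    exact ⟨⟨fun e => n01 (by subst e; rfl), fun e => n02 (by subst e; rfl), fun e => n03 (by subst e; rfl),
      fun e => n04 (by subst e; rfl)⟩, ⟨fun e => n12 (by subst e; rfl), fun e => n13 (by subst e; rfl),
      fun e => n14 (by subst e; rfl)⟩, ⟨fun e => n23 (by subst e; rfl), fun e => n24 (by subst e; rfl)⟩,
      fun e => n34 (by subst e; rfl)⟩
  have h5 := five_prod S ha he.1 hnd' (fun x hx => (hae x hx).1) (fun x hx y hy => by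
    obtain ⟨lx, hpx⟩ := hl x hx
    obtain ⟨ly, hpy⟩ := hl y hy
    exact (S.pj_comm ha lx ly).1 (hcomm _ hpx _ hpy)) lc ld lp lq lr hprod
  exact ⟨e, c, d, p, q, r, he, ⟨lc, (hae c (by simp)).2⟩, ⟨ld, (hae d (by simp)).2⟩,
    ⟨lp, (hae p (by simp)).2⟩, ⟨lq, (hae q (by simp)).2⟩, ⟨lr, (hae r (by simp)).2⟩,
    by rw [h5, cancel₂ (S.sqd he.1.1)]⟩

theorem self_mem_pairSub {a b : G} (ha : a ∈ D) (hb : b ∈ link D a) : a ∈ pairSub D a b := by
  obtain ⟨e, c, d, p, q, r, he, hc, hd, hp, hq, hr, h⟩ := exists_six_pair S ha hb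
  exact h.subst (motive := fun x => x ∈ pairSub D a b)
    (mul_mem (Subgroup.subset_closure he) (mul_mem (mul_mem (mul_mem (mul_mem (Subgroup.subset_closure hc)
      (Subgroup.subset_closure hd)) (Subgroup.subset_closure hp)) (Subgroup.subset_closure hq))
        (Subgroup.subset_closure hr)))

theorem other_mem_pairSub {a b : G} (ha : a ∈ D) (hb : b ∈ link D a) : b ∈ pairSub D a b := by
  have := self_mem_pairSub S hb.1 (link_swap ha hb)
  rwa [show pairSub D b a = pairSub D a b by rw [pairSub, pairSub, Set.inter_comm]] at this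

/-- The image of the double link group. -/
theorem map_pairSub {a b : G} (ha : a ∈ D) (hb : b ∈ link D a) :
    ((pairSub D a b).subgroupOf (linkSub D a)).map (QuotientGroup.mk' (Subgroup.center ↥(linkSub D a))) =
      Subgroup.closure (link (E D a) (pj hb)) := by
  have he : (pairSub D a b).subgroupOf (linkSub D a) =
      Subgroup.closure {x : ↥(linkSub D a) | (x : G) ∈ link D a ∩ link D b} := by
    apply Subgroup.map_injective (linkSub D a).subtype_injective
    rw [Subgroup.map_subgroupOf_eq_of_le (Subgroup.closure_mono Set.inter_subset_left), MonoidHom.map_closure]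
    congr 1
    ext x
    exact ⟨fun hx => ⟨⟨x, Subgroup.subset_closure hx.1⟩, hx, rfl⟩, fun ⟨y, hy, hyx⟩ => hyx ▸ hy⟩
  rw [he, MonoidHom.map_closure]
  congr 1
  ext q
  constructor
  · rintro ⟨x, hx, rfl⟩
    exact (S.pj_link ha hb hx.1).2 hx.2
  · intro hq
    obtain ⟨f, lf, rfl⟩ := Setup.pj_surj hq.1
    exact ⟨⟨f, Subgroup.subset_closure lf⟩, ⟨lf, (S.pj_link ha hb lf).1 hq⟩, rfl⟩

/-- The joint centraliser of a commuting pair is generated by the double link. -/
theorem pair_centralizer_eq {a b : G} (ha : a ∈ D) (hb : b ∈ link D a) :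
    Subgroup.centralizer ({a, b} : Set G) = pairSub D a b := by
  refine le_antisymm (fun g hg => ?_) ((Subgroup.closure_le _).2 fun y hy => Subgroup.mem_centralizer_iff.2 (by
    rintro x (rfl | rfl)
    · exact hy.1.2.2.eq
    · exact hy.2.2.2.eq))
  have hga : Commute g a := (Subgroup.mem_centralizer_iff.1 hg a (Set.mem_insert _ _)).symm
  have hgb : Commute g b := (Subgroup.mem_centralizer_iff.1 hg b (Set.mem_insert_of_mem _ rfl)).symm
  have hgH : g ∈ linkSub D a := by
    rw [← centralizer_eq S ha]; exact Subgroup.mem_centralizer_singleton_iff.2 hga.eq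
  have T := S.link_setup ha
  obtain ⟨F, _, _, hF, hM⟩ := T.exists_models
  set π := QuotientGroup.mk' (Subgroup.center ↥(linkSub D a)) with hπ
  have hc : π ⟨g, hgH⟩ ∈ Subgroup.centralizer ({pj hb} : Set (Q D a)) := by
    have : Commute (⟨g, hgH⟩ : ↥(linkSub D a)) ⟨b, Subgroup.subset_closure hb⟩ := Subtype.ext hgb
    exact Subgroup.mem_centralizer_singleton_iff.2 (this.map π).eq
  rw [M22.centralizer_eq T hF hM (pj_mem hb), ← map_pairSub S ha hb] at hc
  obtain ⟨m, hm, hmg⟩ := Subgroup.mem_map.1 hc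
  have hker : ((m⁻¹ * ⟨g, hgH⟩ : ↥(linkSub D a)) : Q D a) = 1 := by
    show π (m⁻¹ * ⟨g, hgH⟩) = 1
    rw [map_mul, map_inv, hmg, inv_mul_cancel]
  have hm' : (m : G) ∈ pairSub D a b := hm
  rcases pj_eq_one_cases S ha (m⁻¹ * ⟨g, hgH⟩ : ↥(linkSub D a)).2 hker with h | h
  · have : g = (m : G) := (inv_mul_eq_one.1 (show (m : G)⁻¹ * g = 1 from h)).symm
    rwa [this]
  · rw [inv_mul_eq_iff_eq_mul.1 (show (m : G)⁻¹ * g = a from h)]
    exact mul_mem hm' (self_mem_pairSub S ha hb)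

/-- A surjection of the pair group onto `PSU₆(2)` with the centre as kernel, detecting the double link. -/
theorem exists_pair_hom {a b : G} (ha : a ∈ D) (hb : b ∈ link D a) :
    ∃ (F : Type) (_ : Field F) (_ : Fintype F) (φ : ↥(pairSub D a b) →* Cfsg.PSU 6 F 2),
      Fintype.card F = 2 ^ 2 ∧ Function.Surjective φ ∧ φ.ker = Subgroup.center ↥(pairSub D a b) ∧
        (∀ (x y : G) (hx : x ∈ link D a ∩ link D b) (hy : y ∈ link D a ∩ link D b),
          φ ⟨x, Subgroup.subset_closure hx⟩ = φ ⟨y, Subgroup.subset_closure hy⟩ → x = y) ∧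
        ∀ (z : ↥(pairSub D a b)), φ z = 1 → (z : G) ∈ Subgroup.closure ({a, b} : Set G) := by
  have T := S.link_setup ha
  obtain ⟨F, iF, iF', hF, hM⟩ := T.exists_models
  obtain ⟨B⟩ := hM _ (pj_mem hb)
  set π := QuotientGroup.mk' (Subgroup.center ↥(linkSub D a)) with hπ
  have hle : pairSub D a b ≤ linkSub D a := Subgroup.closure_mono Set.inter_subset_left
  let f : ↥(pairSub D a b) →* Q D a := π.comp (Subgroup.inclusion hle)
  have hf : ∀ z, f z ∈ Subgroup.closure (link (E D a) (pj hb)) := fun z => by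
    rw [← map_pairSub S ha hb]
    exact Subgroup.mem_map_of_mem π (show Subgroup.inclusion hle z ∈ (pairSub D a b).subgroupOf _ from z.2)
  let φ := B.ψ.comp (f.codRestrict _ hf)
  have hsurj : Function.Surjective φ := by
    intro y
    obtain ⟨⟨q, hq⟩, rfl⟩ := B.surj y
    rw [← map_pairSub S ha hb] at hq
    obtain ⟨m, hm, rfl⟩ := Subgroup.mem_map.1 hq
    exact ⟨⟨m, hm⟩, rfl⟩
  have hV : ∀ (z : ↥(pairSub D a b)), φ z = 1 → (z : G) ∈ Subgroup.closure ({a, b} : Set G) := by
    intro z hz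
    have haV : a ∈ Subgroup.closure ({a, b} : Set G) := Subgroup.subset_closure (Set.mem_insert _ _)
    have hbV : b ∈ Subgroup.closure ({a, b} : Set G) :=
      Subgroup.subset_closure (Set.mem_insert_of_mem _ rfl)
    rcases M22.central_cases T hF hM (pj_mem hb) B (hf z) hz with h | h
    · rcases pj_eq_one_cases S ha (hle z.2) h with h' | h'
      · rw [h']; exact one_mem _
      · rw [h']; exact haV
    · have hin : b⁻¹ * (z : G) ∈ linkSub D a := mul_mem (inv_mem (Subgroup.subset_closure hb)) (hle z.2)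
      have : ((⟨_, hin⟩ : ↥(linkSub D a)) : Q D a) = 1 := by
        show (pj hb)⁻¹ * f z = 1
        rw [h, inv_mul_cancel]
      rcases pj_eq_one_cases S ha hin this with h' | h'
      · rw [← inv_mul_eq_one.1 h']; exact hbV
      · rw [inv_mul_eq_iff_eq_mul.1 h']; exact mul_mem hbV haV
  refine ⟨F, iF, iF', φ, hF, hsurj, le_antisymm ?_ ?_, ?_, hV⟩
  · intro z hz
    rw [Subgroup.mem_center_iff]
    intro y
    obtain ⟨ya, yb⟩ := pairSub_commute y.2
    have hall : Subgroup.closure ({a, b} : Set G) ≤ Subgroup.centralizer {(y : G)} := (Subgroup.closure_le _).2 (by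
      rintro x (rfl | rfl)
      · exact Subgroup.mem_centralizer_singleton_iff.2 ya.symm.eq
      · exact Subgroup.mem_centralizer_singleton_iff.2 yb.symm.eq)
    exact Subtype.ext (Subgroup.mem_centralizer_singleton_iff.1 (hall (hV z (MonoidHom.mem_ker.1 hz)))).symm
  · intro z hz
    rw [MonoidHom.mem_ker]
    refine (B.ker _).2 (Subgroup.mem_center_iff.2 fun q => ?_)
    obtain ⟨q, hq⟩ := q
    have hq' := hq
    rw [← map_pairSub S ha hb] at hq'
    obtain ⟨m, hm, rfl⟩ := Subgroup.mem_map.1 hq'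
    refine Subtype.ext ?_
    show π m * f z = f z * π m
    exact ((show Commute m (Subgroup.inclusion hle z) from
      Subtype.ext (congrArg Subtype.val (Subgroup.mem_center_iff.1 hz ⟨m, hm⟩) :)).map π).eq
  · intro x y hx hy h
    refine S.pj_inj ha hx.1 hy.1 ?_
    exact B.img_inj T (pj_mem hb) ((S.pj_link ha hb hx.1).2 hx.2) ((S.pj_link ha hb hy.1).2 hy.2) h

theorem center_pairSub {a b : G} (ha : a ∈ D) (hb : b ∈ link D a) :
    (Subgroup.center ↥(pairSub D a b)).map (pairSub D a b).subtype = Subgroup.closure ({a, b} : Set G) := by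
  obtain ⟨F, _, _, φ, -, -, hker, -, hV⟩ := exists_pair_hom S ha hb
  refine le_antisymm ?_ ((Subgroup.closure_le _).2 ?_)
  · rintro _ ⟨z, hz, rfl⟩
    exact hV z (MonoidHom.mem_ker.1 (hker ▸ hz))
  · rintro x (rfl | rfl)
    · exact ⟨⟨x, self_mem_pairSub S ha hb⟩, Subgroup.mem_center_iff.2 fun y =>
        Subtype.ext (pairSub_commute y.2).1, rfl⟩
    · exact ⟨⟨x, other_mem_pairSub S ha hb⟩, Subgroup.mem_center_iff.2 fun y =>
        Subtype.ext (pairSub_commute y.2).2, rfl⟩

theorem pairSub_isPerfect {a b : G} (ha : a ∈ D) (hb : b ∈ link D a) :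
    Group.IsPerfect ↥(pairSub D a b) := by
  set K := pairSub D a b with hK
  let π : ↥K →* Abelianization ↥K := Abelianization.of
  obtain ⟨e₀, he₀⟩ : (link D a ∩ link D b).Nonempty :=
    (Set.ncard_pos (Set.toFinite _)).1 (by rw [link_two_ncard S ha hb]; norm_num)
  set s := π ⟨e₀, Subgroup.subset_closure he₀⟩ with hsdef
  have hs : ∀ {e : G} (he : e ∈ link D a ∩ link D b), π ⟨e, Subgroup.subset_closure he⟩ = s := by
    intro e he
    obtain ⟨k, hk, hke⟩ := trans_common S ha hb he₀ he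
    have : (⟨e, Subgroup.subset_closure he⟩ : ↥K) =
        ⟨k, hk⟩ * ⟨e₀, Subgroup.subset_closure he₀⟩ * (⟨k, hk⟩ : ↥K)⁻¹ := Subtype.ext hke.symm
    rw [this, map_mul, map_mul, map_inv, mul_comm (π _), mul_inv_cancel_right]
  have hs2 : s * s = 1 := by
    rw [hsdef, ← map_mul, ← map_one π]
    exact congrArg π (Subtype.ext (S.sqd he₀.1.1))
  have six : ∀ {a' b' : G} (ha' : a' ∈ D) (hb' : b' ∈ link D a') (hmem : a' ∈ K),
      link D a' ∩ link D b' = link D a ∩ link D b → π ⟨a', hmem⟩ = 1 := by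
    intro a' b' ha' hb' hmem hW
    obtain ⟨e, c, d, p, q, r, he, hc, hd, hp, hq, hr, h⟩ := exists_six_pair S ha' hb'
    rw [hW] at he hc hd hp hq hr
    have : (⟨a', hmem⟩ : ↥K) = ⟨e, Subgroup.subset_closure he⟩ *
        (⟨c, Subgroup.subset_closure hc⟩ * ⟨d, Subgroup.subset_closure hd⟩ * ⟨p, Subgroup.subset_closure hp⟩ *
          ⟨q, Subgroup.subset_closure hq⟩ * ⟨r, Subgroup.subset_closure hr⟩) := Subtype.ext h.symm
    rw [this]
    simp only [map_mul, hs he, hs hc, hs hd, hs hp, hs hq, hs hr]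
    simp [mul_assoc, hs2]
  have hπa := six ha hb (self_mem_pairSub S ha hb) rfl
  have hπb := six hb.1 (link_swap ha hb) (other_mem_pairSub S ha hb) (Set.inter_comm _ _)
  have hs1 : s = 1 := by
    obtain ⟨d, hd⟩ : (link D a ∩ link D b ∩ link D e₀).Nonempty :=
      (Set.ncard_pos (Set.toFinite _)).1 (by rw [link_three_ncard S ha hb he₀]; norm_num)
    obtain ⟨p, q, r, -, hmem, -, h⟩ := exists_five S ha hb he₀ hd
    have : (⟨e₀, Subgroup.subset_closure he₀⟩ : ↥K) * ⟨d, Subgroup.subset_closure hd.1⟩ *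
        ⟨p, Subgroup.subset_closure (hmem p (by simp))⟩ * ⟨q, Subgroup.subset_closure (hmem q (by simp))⟩ *
        ⟨r, Subgroup.subset_closure (hmem r (by simp))⟩ =
        ⟨b, other_mem_pairSub S ha hb⟩ * ⟨a, self_mem_pairSub S ha hb⟩ := Subtype.ext h
    have := congrArg π this
    simp only [map_mul, hs he₀, hs hd.1, hs (hmem p (by simp)), hs (hmem q (by simp)), hs (hmem r (by simp)),
      hπa, hπb, mul_one] at this
    simpa [mul_assoc, hs2] using this
  constructor
  rw [← Abelianization.ker_of]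
  refine MonoidHom.ker_eq_top_iff.2 ?_
  ext ⟨x, hx⟩
  show π ⟨x, hx⟩ = 1
  induction hx using Subgroup.closure_induction with
  | mem y hy => exact (hs hy).trans hs1
  | one => exact map_one π
  | mul y z hy hz e1 e2 =>
    show π ((⟨y, hy⟩ : ↥K) * ⟨z, hz⟩) = 1
    rw [map_mul, e1, e2, one_mul]
  | inv y hy e1 =>
    show π (⟨y, hy⟩ : ↥K)⁻¹ = 1
    rw [map_inv, e1, inv_one]

theorem pairSub_quotient {a b : G} (ha : a ∈ D) (hb : b ∈ link D a) :
    Cfsg.IsQuasisimple ↥(pairSub D a b) ∧ ∃ (F : Type) (_ : Field F) (_ : Fintype F), Fintype.card F = 4 ∧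
      Nonempty (↥(pairSub D a b) ⧸ Subgroup.center ↥(pairSub D a b) ≃* Cfsg.PSU 6 F 2) := by
  obtain ⟨F, iF, iF', φ, hF, hsurj, hker, -, -⟩ := exists_pair_hom S ha hb
  let e := (QuotientGroup.quotientMulEquivOfEq hker.symm).trans
    (QuotientGroup.quotientKerEquivOfSurjective φ hsurj)
  haveI : IsSimpleGroup (Cfsg.PSU 6 F 2) :=
    CfsgLib.Classical.Unitary.isSimpleGroup_PSU hF (by norm_num) (by norm_num)
  haveI : Nontrivial (↥(pairSub D a b) ⧸ Subgroup.center ↥(pairSub D a b)) := e.toEquiv.nontrivial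
  exact ⟨⟨pairSub_isPerfect S ha hb,
    IsSimpleGroup.isSimpleGroup_of_surjective e.symm.toMonoidHom e.symm.surjective⟩,
    F, iF, iF', by rw [hF]; norm_num, ⟨e⟩⟩

/-- A product of two commuting members determines them. -/
theorem conj_pair_cases {a b x : G} (ha : a ∈ D) (hb : b ∈ link D a) (hx : Commute x (a * b)) :
    (Commute x a ∧ Commute x b) ∨ (x * a * x⁻¹ = b ∧ x * b * x⁻¹ = a) := by
  set c := x * a * x⁻¹ with hc
  set d := x * b * x⁻¹ with hd
  have hcD : c ∈ D := S.tt.conj x a ha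
  have hdD : d ∈ D := S.tt.conj x b hb.1
  have hcd : c * d = a * b := by
    calc c * d = x * (a * b) * x⁻¹ := by rw [hc, hd]; group
      _ = a * b := by rw [hx.eq, mul_inv_cancel_right]
  have hne : c ≠ d := fun h => hb.2.1.symm (by simpa [c, d] using h)
  have hcab : Commute c (a * b) := by
    rw [← hcd]
    exact (Commute.refl c).mul_right ((Commute.conj_iff x).2 hb.2.2)
  by_cases h1 : c = a
  · have hdb : d = b := mul_left_cancel (h1 ▸ hcd)
    exact Or.inl ⟨mul_inv_eq_iff_eq_mul.1 h1, mul_inv_eq_iff_eq_mul.1 hdb⟩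
  by_cases h2 : c = b
  · refine Or.inr ⟨h2, mul_left_cancel (a := c) ?_⟩
    rw [hcd, h2, hb.2.2.eq]
  exfalso
  obtain ⟨ca, cb⟩ := commute_both S ha hb.1 hcD hb.2.2 hb.2.1.symm hcab
  apply (tri_notMem S (a := c) (b := a) (c := b) ⟨hcD, ha, hb.1, h1, h2, hb.2.1.symm, ca, cb, hb.2.2⟩).2
  rw [mul_assoc, ← hcd, cancel₂ (S.sqd hcD)]
  exact hdD

/-- An element moving `a` and `b` into each other. -/
theorem exists_swap {a b : G} (ha : a ∈ D) (hb : b ∈ link D a) :
    ∃ t : G, t * a * t⁻¹ = b ∧ t * b * t⁻¹ = a ∧ Commute t (a * b) := by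
  obtain ⟨f, hfa, hfb⟩ : (link D a ∩ link D b).Nonempty :=
    (Set.ncard_pos (Set.toFinite _)).1 (by rw [link_two_ncard S ha hb]; norm_num)
  obtain ⟨t, -, hta, htb⟩ := swapper S ha hb hfa hfb
  refine ⟨t, hta, htb, mul_inv_eq_iff_eq_mul.1 ?_⟩
  calc t * (a * b) * t⁻¹ = (t * a * t⁻¹) * (t * b * t⁻¹) := by group
    _ = a * b := by rw [hta, htb, hb.2.2.eq]

theorem pair_index {a b : G} (ha : a ∈ D) (hb : b ∈ link D a) :
    ((pairSub D a b).subgroupOf (Subgroup.centralizer ({a * b} : Set G))).index = 2 := by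
  obtain ⟨t, hta, htb, htab⟩ := exists_swap S ha hb
  rw [Subgroup.index_eq_two_iff]
  refine ⟨⟨t, Subgroup.mem_centralizer_singleton_iff.2 htab.eq⟩, fun x => ?_⟩
  have hmem : ∀ {g : G}, g ∈ pairSub D a b ↔ Commute g a ∧ Commute g b := by
    intro g
    rw [← pair_centralizer_eq S ha hb]
    constructor
    · intro hg
      exact ⟨(Subgroup.mem_centralizer_iff.1 hg a (Set.mem_insert _ _)).symm,
        (Subgroup.mem_centralizer_iff.1 hg b (Set.mem_insert_of_mem _ rfl)).symm⟩
    · rintro ⟨h1, h2⟩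
      exact Subgroup.mem_centralizer_iff.2 (by rintro y (rfl | rfl); exacts [h1.symm.eq, h2.symm.eq])
  simp only [Subgroup.mem_subgroupOf, Subgroup.coe_mul, hmem]
  obtain ⟨x, hx⟩ := x
  have hx' : Commute x (a * b) := Subgroup.mem_centralizer_singleton_iff.1 hx
  rcases conj_pair_cases S ha hb hx' with ⟨h1, h2⟩ | ⟨h1, h2⟩
  · refine Or.inr ⟨⟨h1, h2⟩, fun h => hb.2.1 ?_⟩
    have : x * t * a * (x * t)⁻¹ = a := by rw [h.1.eq, mul_inv_cancel_right]
    rw [show x * t * a * (x * t)⁻¹ = x * (t * a * t⁻¹) * x⁻¹ by group, hta, h2.eq, mul_inv_cancel_right] at this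
    exact this
  · refine Or.inl ⟨⟨mul_inv_eq_iff_eq_mul.1 ?_, mul_inv_eq_iff_eq_mul.1 ?_⟩, fun h => hb.2.1 ?_⟩
    · rw [show x * t * a * (x * t)⁻¹ = x * (t * a * t⁻¹) * x⁻¹ by group, hta, h2]
    · rw [show x * t * b * (x * t)⁻¹ = x * (t * b * t⁻¹) * x⁻¹ by group, htb, h1]
    · rw [← h1, h.1.eq, mul_inv_cancel_right]

/-- Modulo the pair nothing is central in the centraliser of its product. -/
theorem pair_quotient_center {a b : G} (ha : a ∈ D) (hb : b ∈ link D a)
    (C V : Subgroup G) (hC : C = Subgroup.centralizer ({a * b} : Set G))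
    (hV : V = Subgroup.closure ({a, b} : Set G)) [(V.subgroupOf C).Normal] :
    Subgroup.center (↥C ⧸ V.subgroupOf C) = ⊥ := by
  rw [eq_bot_iff]
  intro q hq
  obtain ⟨⟨x, hxC⟩, rfl⟩ := QuotientGroup.mk_surjective q
  rw [Subgroup.mem_bot, QuotientGroup.eq_one_iff, Subgroup.mem_subgroupOf]
  show x ∈ V
  have hcomm : ∀ y ∈ C, x⁻¹ * y⁻¹ * x * y ∈ V := by
    intro y hy
    have := (Subgroup.mem_center_iff.1 hq ((⟨y, hy⟩ : ↥C) : ↥C ⧸ V.subgroupOf C)).symm
    rw [← QuotientGroup.mk_mul, ← QuotientGroup.mk_mul, QuotientGroup.eq] at this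
    have h2 : (x * y)⁻¹ * (y * x) ∈ V := this
    have h3 := inv_mem h2
    rwa [show ((x * y)⁻¹ * (y * x))⁻¹ = x⁻¹ * y⁻¹ * x * y by group] at h3
  have hKC : pairSub D a b ≤ C := by
    rw [hC]
    intro y hy
    obtain ⟨h1, h2⟩ := pairSub_commute hy
    exact Subgroup.mem_centralizer_singleton_iff.2 (h1.mul_right h2).eq
  have hVK : V ≤ pairSub D a b := by
    rw [hV, Subgroup.closure_le]
    rintro y (rfl | rfl)
    exacts [self_mem_pairSub S ha hb, other_mem_pairSub S ha hb]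
  obtain ⟨F, _, _, φ, hF, hsurj, hker, hinj, hVmem⟩ := exists_pair_hom S ha hb
  have hφV : ∀ (z : ↥(pairSub D a b)), (z : G) ∈ V → φ z = 1 := by
    intro z hz
    rw [← MonoidHom.mem_ker, hker]
    rw [hV, ← center_pairSub S ha hb] at hz
    obtain ⟨w, hw, hwz⟩ := hz
    exact Subtype.ext hwz ▸ hw
  have hxab : Commute x (a * b) := Subgroup.mem_centralizer_singleton_iff.1 (hC ▸ hxC)
  rcases conj_pair_cases S ha hb hxab with ⟨h1, h2⟩ | ⟨h1, h2⟩
  · have hxK : x ∈ pairSub D a b := by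
      rw [← pair_centralizer_eq S ha hb]
      exact Subgroup.mem_centralizer_iff.2 (by rintro y (rfl | rfl); exacts [h1.symm.eq, h2.symm.eq])
    rw [hV]
    refine hVmem ⟨x, hxK⟩ ?_
    have hcen : φ ⟨x, hxK⟩ ∈ Subgroup.center (Cfsg.PSU 6 F 2) := by
      refine Subgroup.mem_center_iff.2 fun p => ?_
      obtain ⟨y, rfl⟩ := hsurj p
      have h := hφV (⟨x, hxK⟩⁻¹ * y⁻¹ * ⟨x, hxK⟩ * y) (hcomm y (hKC y.2))
      rw [map_mul, map_mul, map_mul, map_inv, map_inv, mul_eq_one_iff_eq_inv] at h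
      have h' : φ y⁻¹ * φ ⟨x, hxK⟩ = φ ⟨x, hxK⟩ * φ y⁻¹ := by
        rw [mul_assoc, inv_mul_eq_iff_eq_mul] at h
        rw [map_inv]; exact h
      have := (show Commute (φ y⁻¹) (φ ⟨x, hxK⟩) from h').inv_left
      rwa [map_inv, inv_inv] at this
    haveI : IsSimpleGroup (Cfsg.PSU 6 F 2) :=
      CfsgLib.Classical.Unitary.isSimpleGroup_PSU hF (by norm_num) (by norm_num)
    haveI := pairSub_isPerfect S ha hb
    have hbot : Subgroup.center (Cfsg.PSU 6 F 2) = ⊥ := by
      rcases IsSimpleGroup.eq_bot_or_eq_top_of_normal (Subgroup.center (Cfsg.PSU 6 F 2)) inferInstance with h | h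
      · exact h
      · exfalso
        haveI : Group.IsPerfect (Cfsg.PSU 6 F 2) := Group.IsPerfect.ofSurjective (f := φ) hsurj
        have hc : commutator (Cfsg.PSU 6 F 2) = ⊥ := by
          rw [commutator_def, Subgroup.commutator_eq_bot_iff_le_centralizer]
          intro u _
          exact Subgroup.mem_centralizer_iff.2 fun v _ => Subgroup.mem_center_iff.1 (h ▸ Subgroup.mem_top u) v
        rw [Group.IsPerfect.commutator_eq_top] at hc
        obtain ⟨u, v, huv⟩ := exists_pair_ne (Cfsg.PSU 6 F 2)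
        have hu : u ∈ (⊥ : Subgroup (Cfsg.PSU 6 F 2)) := hc ▸ Subgroup.mem_top u
        have hv : v ∈ (⊥ : Subgroup (Cfsg.PSU 6 F 2)) := hc ▸ Subgroup.mem_top v
        exact huv ((Subgroup.mem_bot.1 hu).trans (Subgroup.mem_bot.1 hv).symm)
    rwa [hbot, Subgroup.mem_bot] at hcen
  · exfalso
    -- `x` fixes the double link pointwise
    have hfix : pairSub D a b ≤ Subgroup.centralizer {x} := by
      rw [Subgroup.closure_le]
      intro c hc
      have hcK : c ∈ pairSub D a b := Subgroup.subset_closure hc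
      have hd : x⁻¹ * c * x ∈ link D a ∩ link D b := by
        refine ⟨?_, ?_⟩
        · have := (link_conj_iff S.tt x (e := a) (y := c)).1 (h1 ▸ hc.2)
          exact this
        · exact (link_conj_iff S.tt x (e := b) (y := c)).1 (h2 ▸ hc.1)
      have hv := hcomm c (hKC hcK)
      rw [S.tt.inv_eq hc.1.1] at hv
      have heq : x⁻¹ * c * x = c := by
        refine hinj _ _ hd hc ?_
        have h := hφV (⟨_, Subgroup.subset_closure hd⟩ * ⟨c, hcK⟩) hv
        have hcc : φ ⟨c, hcK⟩ * φ ⟨c, hcK⟩ = 1 := by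
          rw [← map_mul, show (⟨c, hcK⟩ : ↥(pairSub D a b)) * ⟨c, hcK⟩ = 1 from
            Subtype.ext (S.sqd hc.1.1), map_one]
        rw [map_mul] at h
        exact mul_right_cancel (h.trans hcc.symm)
      refine Subgroup.mem_centralizer_singleton_iff.2 ?_
      rw [mul_assoc, inv_mul_eq_iff_eq_mul] at heq
      exact heq
    have hca := Subgroup.mem_centralizer_singleton_iff.1 (hfix (self_mem_pairSub S ha hb))
    apply hb.2.1
    rw [← h1, ← hca, mul_inv_cancel_right]

end CfsgLib.M23
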