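import Cfsg.Agent.Lib.ThreeTransp.U6Ovals

/-!
# Orthogonal complements in the hermitian space of `PSU₆(2)`, and an orbit of transvections

Test vectors orthogonal to a few given vectors; vectors with product `1` with an isotropic `u` are connected
by transvections centred orthogonal to `u`.
-/

set_option autoImplicit false

namespace CfsgLib.U6

open Matrix Cfsg
open CfsgLib.PSUAut
open CfsgLib.UnitarySpec (sigma_sigma sigma_ne psuMk)

variable {F : Type} [Field F] [Fintype F]

local notation "V6" => Fin 6 → F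
local notation "H6" => Cfsg.hermForm 6 F 2

variable (hF : Fintype.card F = 2 ^ 2)
include hF

theorem norm_cases (z : V6) : H6 z z = 0 ∨ H6 z z = 1 := by
  have h2 := conj_form hF z z
  have : H6 z z * (H6 z z - 1) = 0 := by linear_combination -h2
  exact (mul_eq_zero.1 this).imp id sub_eq_zero.1

theorem pow_four (x : F) : x ^ 4 = x := by
  by_cases hx : x = 0
  · rw [hx]; ring
  · linear_combination x * cube_eq_one hF hx

/-- Some non-zero isotropic vector is orthogonal to four given vectors. -/
theorem exists_iso_perp_of {k : ℕ} (vs : Fin k → V6) (hk : k ≤ 4) :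
    ∃ z, Isot 2 z ∧ ∀ i, H6 z (vs i) = 0 := by
  obtain ⟨σ, hσ⟩ := exists_sigma hF
  obtain ⟨e, he0, he⟩ := exists_perp hF hσ vs (by omega)
  obtain ⟨f, hf0, hf⟩ := exists_perp hF hσ (Fin.cons e vs) (by omega)
  have hfe : H6 f e = 0 := hf 0
  have hfv : ∀ i, H6 f (vs i) = 0 := fun i => by simpa using hf i.succ
  rcases norm_cases hF e with hee | hee
  · exact ⟨e, ⟨he0, hee⟩, he⟩
  rcases norm_cases hF f with hff | hff
  · exact ⟨f, ⟨hf0, hff⟩, hfv⟩
  refine ⟨e + f, ⟨fun h0 => ?_, ?_⟩, fun i => by rw [add_left hF, he, hfv, add_zero]⟩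
  · have := congrArg (fun z => H6 z e) h0
    simp only [add_left hF, hfe, add_zero, zero_left hF, hee] at this
    exact one_ne_zero this
  · rw [add_left hF, add_right hF, add_right hF, hee, hff, hfe, (comm_zero hF).1 hfe, add_zero, zero_add]
    exact add_self hF 1

/-- A vector outside the span of a family is not orthogonal to the whole orthogonal of the family. -/
theorem exists_perp_ne {k : ℕ} (vs : Fin k → V6) {z : V6} (h : z ∉ Submodule.span F (Set.range vs)) :
    ∃ y, (∀ i, H6 y (vs i) = 0) ∧ H6 y z = 1 := by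
  obtain ⟨σ, hσ⟩ := exists_sigma hF
  obtain ⟨y, hy, hyz⟩ : ∃ y, (∀ i, H6 y (vs i) = 0) ∧ H6 y z ≠ 0 := by
    by_contra hcon
    push Not at hcon
    have h1 : lin hF hσ z ∈ Submodule.span F (Set.range fun i => lin hF hσ (vs i)) := by
      refine mem_span_of_iInf_ker_le_ker fun y hy => ?_
      simp only [Submodule.mem_iInf, LinearMap.mem_ker] at hy ⊢
      exact hcon y hy
    obtain ⟨c, hc⟩ := (Submodule.mem_span_range_iff_exists_fun F).1 h1
    refine h ((Submodule.mem_span_range_iff_exists_fun F).2 ⟨fun i => σ (c i), ?_⟩)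
    rw [← sub_eq_zero]
    refine eq_zero_of_perp hF hσ fun y => ?_
    have h2 := LinearMap.congr_fun hc y
    simp only [LinearMap.coe_sum, Finset.sum_apply, LinearMap.smul_apply, lin_apply, smul_eq_mul] at h2
    have hs : ∀ s : Finset (Fin k), H6 y (∑ i ∈ s, σ (c i) • vs i) = ∑ i ∈ s, c i * H6 y (vs i) := by
      intro s
      induction s using Finset.cons_induction with
      | empty => simp [zero_right hF]
      | cons a s ha ih =>
        rw [Finset.sum_cons, Finset.sum_cons, add_right hF, ih, hsmul_right hF hσ, sigma_sigma hF hσ]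
    rw [hsub_right hF hσ, hs, h2, sub_self]
  exact ⟨(H6 y z)⁻¹ • y, fun i => by rw [smul_left hF, hy, mul_zero],
    by rw [smul_left hF, inv_mul_cancel₀ hyz]⟩

/-- An isotropic partner orthogonal to a family. -/
theorem exists_iso_pairing {k : ℕ} (vs : Fin k → V6) {u : V6} (huu : H6 u u = 0) (hu : ∀ i, H6 u (vs i) = 0)
    (h : u ∉ Submodule.span F (Set.range vs)) :
    ∃ g, Isot 2 g ∧ (∀ i, H6 g (vs i) = 0) ∧ H6 g u = 1 := by
  obtain ⟨σ, hσ⟩ := exists_sigma hF
  obtain ⟨y, hy, hyu⟩ := exists_perp_ne hF vs h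
  obtain ⟨a, h1, h2, h3⟩ := exists_iso_shift hF hσ huu hyu
  exact ⟨_, ⟨h3, h1⟩, fun i => by rw [add_left hF, smul_left hF, hy, hu, mul_zero, add_zero], h2⟩

/-- The orthogonal of a non-degenerate family of at most five vectors has an anisotropic vector. -/
theorem exists_aniso {k : ℕ} (vs : Fin k → V6) (hk : k ≤ 5)
    (hnd : ∀ z ∈ Submodule.span F (Set.range vs), (∀ i, H6 z (vs i) = 0) → z = 0) :
    ∃ z, H6 z z = 1 ∧ ∀ i, H6 z (vs i) = 0 := by
  obtain ⟨σ, hσ⟩ := exists_sigma hF
  obtain ⟨e, he0, he⟩ := exists_perp hF hσ vs (by omega)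
  rcases norm_cases hF e with hee | hee
  swap
  · exact ⟨e, hee, he⟩
  obtain ⟨g, hg, hge⟩ := exists_perp_ne hF vs (z := e) fun hm => he0 (hnd e hm he)
  rcases norm_cases hF g with hgg | hgg
  swap
  · exact ⟨g, hgg, hg⟩
  obtain ⟨ω, hω0, -, hω, -⟩ := exists_omega hF
  refine ⟨g + ω • e, ?_, fun i => by rw [add_left hF, smul_left hF, hg, he, mul_zero, add_zero]⟩
  rw [add_left hF, add_right hF, add_right hF, smul_left hF, smul_left hF, smul_right hF, smul_right hF,
    hgg, hee, hge, comm_one hF hge]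
  have := charTwo hF
  linear_combination hω - CharTwo.two_eq_zero (R := F)

/-- A totally isotropic plane is its own orthogonal. -/
theorem IsPlane.mem_of_perp {u₁ u₂ u₃ : V6} (P : IsPlane u₁ u₂ u₃) {z : V6} (h1 : H6 z u₁ = 0)
    (h2 : H6 z u₂ = 0) (h3 : H6 z u₃ = 0) :
    ∃ p q r : F, z = p • u₁ + q • u₂ + r • u₃ := by
  obtain ⟨σ, hσ⟩ := exists_sigma hF
  let L : V6 →ₗ[F] (Fin 3 → F) := LinearMap.pi fun i => lin hF hσ (![u₁, u₂, u₃] i)
  have hli : LinearIndependent F ![u₁, u₂, u₃] := by
    rw [Fintype.linearIndependent_iff]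
    intro c hc
    rw [Fin.sum_univ_three] at hc
    obtain ⟨a, b, d⟩ := coord_eq_zero hF P hc
    intro i; fin_cases i <;> assumption
  have hsurj : LinearMap.range L = ⊤ := by
    by_contra hne
    obtain ⟨φ, hφ0, hφ⟩ := Submodule.exists_le_ker_of_lt_top _ (lt_top_iff_ne_top.2 hne)
    apply hφ0
    have hz : ∀ i, σ (φ (Pi.single i 1)) = 0 := by
      refine Fintype.linearIndependent_iff.1 hli _ (eq_zero_of_perp hF hσ fun y => ?_)
      have h0 : φ (L y) = 0 := hφ ⟨y, rfl⟩
      rw [Fin.sum_univ_three, hadd_right hF hσ, hadd_right hF hσ, hsmul_right hF hσ, hsmul_right hF hσ,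
        hsmul_right hF hσ, sigma_sigma hF hσ, sigma_sigma hF hσ, sigma_sigma hF hσ]
      rw [← Finset.univ_sum_single (L y), map_sum, Fin.sum_univ_three] at h0
      have hh : ∀ (i : Fin 3) (x : F), φ (Pi.single i x) = x * φ (Pi.single i 1) := by
        intro i x
        rw [← smul_eq_mul, ← map_smul, ← Pi.single_smul', smul_eq_mul, mul_one]
      rw [hh 0, hh 1, hh 2] at h0
      simp only [L, LinearMap.pi_apply, lin_apply, Matrix.cons_val] at h0 ⊢
      linear_combination h0
    refine LinearMap.pi_ext fun i x => ?_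
    rw [show (Pi.single i x : Fin 3 → F) = x • Pi.single i 1 by
      rw [← Pi.single_smul', smul_eq_mul, mul_one], map_smul, map_smul,
      (map_eq_zero_iff σ σ.injective).1 (hz i), LinearMap.zero_apply]
  have hdim : Module.finrank F (LinearMap.ker L) = 3 := by
    have := L.finrank_range_add_finrank_ker
    rw [hsurj, finrank_top, Module.finrank_fin_fun, Module.finrank_fin_fun] at this
    omega
  have hle : Submodule.span F (Set.range ![u₁, u₂, u₃]) ≤ LinearMap.ker L := by
    refine Submodule.span_le.2 ?_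
    rintro _ ⟨i, rfl⟩
    refine funext fun j => ?_
    obtain ⟨-, -, -, k12, k13, k23, -, -, -⟩ := id P
    fin_cases i <;> fin_cases j <;>
      simp [L, lin_apply, P.h₁₁, P.h₂₂, P.h₃₃, k12, k13, k23, (comm_zero hF).1 k12,
        (comm_zero hF).1 k13, (comm_zero hF).1 k23]
  have heq := Submodule.eq_of_le_of_finrank_eq hle (by rw [hdim, finrank_span_eq_card hli, Fintype.card_fin])
  have hzk : z ∈ Submodule.span F (Set.range ![u₁, u₂, u₃]) := by
    rw [heq, LinearMap.mem_ker]
    funext j
    fin_cases j <;> simp [L, lin_apply, h1, h2, h3]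
  obtain ⟨c, hc⟩ := (Submodule.mem_span_range_iff_exists_fun F).1 hzk
  exact ⟨c 0, c 1, c 2, by rw [← hc, Fin.sum_univ_three]; rfl⟩

/-- Isotropic vectors orthogonal to a non-degenerate family having product `1` with `u` are connected by
transvections centred orthogonal to that family and to `u`. -/
theorem orbit {k : ℕ} (vs : Fin k → V6) (hk : k ≤ 2)
    (hnd : ∀ z ∈ Submodule.span F (Set.range vs), (∀ i, H6 z (vs i) = 0) → z = 0)
    {u y y' : V6} (hu : H6 u u = 0) (hy : H6 y y = 0) (hy' : H6 y' y' = 0)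
    (hyu : H6 y u = 1) (hy'u : H6 y' u = 1)
    (pu : ∀ i, H6 u (vs i) = 0) (py : ∀ i, H6 y (vs i) = 0) (py' : ∀ i, H6 y' (vs i) = 0)
    (Q₀ : V6 → Prop)
    (step₀ : ∀ d z, Isot 2 d → (∀ i, H6 d (vs i) = 0) → H6 d u = 0 → Q₀ z → Q₀ (z + H6 z d • d))
    (h0' : Q₀ y) : Q₀ y' := by
  have := charTwo hF
  let Q : V6 → Prop := fun z => Q₀ z ∧ H6 z z = 0
  have step : ∀ d z, Isot 2 d → (∀ i, H6 d (vs i) = 0) → H6 d u = 0 → Q z → Q (z + H6 z d • d) := by
    intro d z hd h1 h2 hz
    refine ⟨step₀ d z hd h1 h2 hz.1, ?_⟩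
    rw [add_left hF, add_right hF, add_right hF, smul_left hF, smul_left hF, smul_right hF, smul_right hF,
      hz.2, hd.2, conj_form hF z d]
    linear_combination (H6 z d) ^ 3 * CharTwo.two_eq_zero (R := F)
  have h0 : Q y := ⟨h0', hy⟩
  have hu0 : u ≠ 0 := fun h => by rw [h, zero_right hF] at hyu; exact zero_ne_one hyu
  have huy : H6 u y = 1 := comm_one hF hyu
  let T : V6 → Prop := fun w => (∀ i, H6 w (vs i) = 0) ∧ H6 w u = 0 ∧ H6 w y = 0
  let Adm : V6 → Prop := fun w =>
    ∀ (w₁ : V6) (α : F), T w₁ → Q (y + α • u + w₁) → ∃ α' : F, Q (y + α' • u + (w₁ + w))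
  have hadm : ∀ w, T w → H6 w w = 0 → Adm w := by
    intro w hw hww w₁ α hw₁ hQ
    set t := (1 + H6 w₁ w) ^ 2 with ht
    have hp : H6 (y + α • u + w₁) (w + t • u) = 1 := by
      rw [add_left hF, add_left hF, smul_left hF, add_right hF, add_right hF, add_right hF, smul_right hF,
        smul_right hF, smul_right hF, hyu, hu, (comm_zero hF).1 hw.2.1, (comm_zero hF).1 hw.2.2, hw₁.2.1, ht,
        ← pow_mul, pow_four hF]
      linear_combination H6 w₁ w * CharTwo.two_eq_zero (R := F)
    have hd : Isot 2 (w + t • u) := by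
      refine ⟨fun h => ?_, ?_⟩
      · rw [h, zero_right hF] at hp; exact zero_ne_one hp
      · rw [add_left hF, add_right hF, add_right hF, smul_left hF, smul_left hF, smul_right hF, smul_right hF,
          hww, hw.2.1, (comm_zero hF).1 hw.2.1, hu]
        ring
    refine ⟨α + t, ?_⟩
    have h1 := step _ _ hd (fun i => by rw [add_left hF, smul_left hF, hw.1, pu, mul_zero, add_zero])
      (by rw [add_left hF, smul_left hF, hw.2.1, hu, mul_zero, add_zero]) hQ
    rw [hp, one_smul] at h1
    rwa [show y + (α + t) • u + (w₁ + w) = y + α • u + w₁ + (w + t • u) by module]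
  set α := H6 y' y with hα
  set w := y' + y + α • u with hwdef
  have hwT : T w := by
    refine ⟨fun i => ?_, ?_, ?_⟩
    · rw [add_left hF, add_left hF, smul_left hF, py', py, pu, mul_zero, add_zero, add_zero]
    · rw [add_left hF, add_left hF, smul_left hF, hy'u, hyu, hu, mul_zero, add_zero]
      exact add_self hF 1
    · rw [add_left hF, add_left hF, smul_left hF, hy, huy, ← hα, add_zero, mul_one]
      exact add_self hF α
  have hy'eq : y' = y + α • u + w := by
    rw [hwdef, show y + α • u + (y' + y + α • u) = y' + ((y + α • u) + (y + α • u)) by abel,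
      vadd_self hF, add_zero]
  clear_value w
  have h00 : T 0 := ⟨fun i => zero_left hF _, zero_left hF _, zero_left hF _⟩
  obtain ⟨α', hQ'⟩ : ∃ α', Q (y + α' • u + w) := by
    rcases norm_cases hF w with hww | hww
    · obtain ⟨α', h⟩ := hadm w hwT hww 0 0 h00 (by rwa [zero_smul, add_zero, add_zero])
      exact ⟨α', by rwa [zero_add] at h⟩
    · obtain ⟨z, hzz, hzp⟩ := exists_aniso hF (Fin.cons w (Fin.cons u (Fin.cons y vs))) (by omega) (by
        intro z hz hzp
        rw [Fin.range_cons, Fin.range_cons, Fin.range_cons] at hz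
        obtain ⟨a, z₁, hz₁, rfl⟩ := Submodule.mem_span_insert.1 hz
        obtain ⟨b, z₂, hz₂, rfl⟩ := Submodule.mem_span_insert.1 hz₁
        obtain ⟨c, z₀, hz₀, rfl⟩ := Submodule.mem_span_insert.1 hz₂
        have e0 : z₀ = 0 := hnd z₀ hz₀ fun i => by
          have := hzp i.succ.succ.succ
          simp only [Fin.cons_succ, add_left hF, smul_left hF, hwT.1, pu, py, mul_zero, zero_add] at this
          exact this
        subst e0
        simp only [add_zero] at hzp ⊢
        have e1 : c = 0 := by
          have := hzp (Fin.succ 0)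
          simp only [Fin.cons_succ, Fin.cons_zero, add_left hF, smul_left hF, hwT.2.1, hu, hyu, mul_zero,
            zero_add, mul_one] at this
          exact this
        have e2 : b = 0 := by
          have := hzp (Fin.succ (Fin.succ 0))
          simp only [Fin.cons_succ, Fin.cons_zero, add_left hF, smul_left hF, hwT.2.2, hy, huy, mul_zero,
            zero_add, mul_one, add_zero] at this
          exact this
        have e3 : a = 0 := by
          have := hzp 0
          simp only [Fin.cons_zero, e1, e2, zero_smul, add_zero, smul_left hF, hww, mul_one] at this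
          exact this
        rw [e1, e2, e3, zero_smul, zero_smul, zero_smul, add_zero, add_zero])
      have zw : H6 z w = 0 := by simpa using hzp 0
      have wz : H6 w z = 0 := (comm_zero hF).1 zw
      have zu : H6 z u = 0 := by simpa using hzp (Fin.succ 0)
      have zy : H6 z y = 0 := by
        have := hzp (Fin.succ (Fin.succ 0))
        rwa [Fin.cons_succ, Fin.cons_succ, Fin.cons_zero] at this
      have zv : ∀ i, H6 z (vs i) = 0 := fun i => by simpa using hzp i.succ.succ.succ
      obtain ⟨ω, hω0, -, hω, -⟩ := exists_omega hF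
      have mk : ∀ p r : F, p ≠ 0 → r ≠ 0 → T (p • (w + r • z)) ∧ H6 (p • (w + r • z)) (p • (w + r • z)) = 0 := by
        intro p r hp hr
        refine ⟨⟨fun i => ?_, ?_, ?_⟩, ?_⟩
        · rw [smul_left hF, add_left hF, smul_left hF, hwT.1, zv, mul_zero, add_zero, mul_zero]
        · rw [smul_left hF, add_left hF, smul_left hF, hwT.2.1, zu, mul_zero, add_zero, mul_zero]
        · rw [smul_left hF, add_left hF, smul_left hF, hwT.2.2, zy, mul_zero, add_zero, mul_zero]
        · rw [smul_left hF, smul_right hF, add_left hF, add_right hF, add_right hF, smul_left hF, smul_left hF,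
            smul_right hF, smul_right hF, hww, hzz, zw, wz]
          linear_combination p ^ 3 * cube_eq_one hF hr + p ^ 3 * CharTwo.two_eq_zero (R := F)
      obtain ⟨T1, n1⟩ := mk ω ω hω0 hω0
      obtain ⟨T2, n2⟩ := mk (ω ^ 2) 1 (pow_ne_zero 2 hω0) one_ne_zero
      obtain ⟨α₁, h1⟩ := hadm _ T1 n1 0 0 h00 (by rwa [zero_smul, add_zero, add_zero])
      rw [zero_add] at h1
      obtain ⟨α₂, h2⟩ := hadm _ T2 n2 _ α₁ T1 h1
      refine ⟨α₂, ?_⟩
      rwa [show ω • (w + ω • z) + ω ^ 2 • (w + (1 : F) • z) = w by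
        match_scalars
        · linear_combination hω - CharTwo.two_eq_zero (R := F)
        · linear_combination ω ^ 2 * CharTwo.two_eq_zero (R := F)] at h2
  have e1 : ∀ a : F, H6 (y + a • u + w) (y + a • u + w) = a ^ 2 + a + H6 w w := by
    intro a
    simp only [add_left hF, add_right hF, smul_left hF, smul_right hF, hy, hu, hyu, huy, hwT.2.1, hwT.2.2,
      (comm_zero hF).1 hwT.2.1, (comm_zero hF).1 hwT.2.2, mul_zero, mul_one, zero_add, add_zero]
  by_cases hQy : α' = α
  · rw [hy'eq, ← hQy]; exact hQ'.1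
  have hzu : H6 (y + α' • u + w) u = 1 := by
    rw [add_left hF, add_left hF, smul_left hF, hyu, hu, hwT.2.1, mul_zero, add_zero, add_zero]
  have hstep := step u _ ⟨hu0, hu⟩ pu hu hQ'
  rw [hzu, one_smul] at hstep
  suffices hsum : α' = α + 1 by
    rw [hy'eq]
    rw [show y + α' • u + w + u = y + α • u + w by
      rw [hsum, show y + (α + 1) • u + w + u = y + α • u + w + (u + u) by module, vadd_self hF, add_zero]]
      at hstep
    exact hstep.1
  have h2 := hQ'.2
  rw [e1] at h2
  have h3 : α ^ 2 + α + H6 w w = 0 := by rw [← e1, ← hy'eq]; exact hy'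
  have h4 : (α' - α) * (α' - α - 1) = 0 := by
    linear_combination h2 - h3 - (α * α' - α ^ 2 + α' - α) * CharTwo.two_eq_zero (R := F)
  exact eq_add_of_sub_eq' (sub_eq_zero.1 ((mul_eq_zero.1 h4).resolve_left (sub_ne_zero.2 hQy)))

end CfsgLib.U6
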