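import Cfsg.Agent.Lib.ThreeTransp.U6Ovals
import Cfsg.Agent.Lib.ThreeTransp.U6Perp

/-!
# Involutions of the neighbourhood of a point moving every point to an orthogonal one

For an isotropic `δ` there is no map of the points orthogonal to `δ`, other than `δ`, to themselves which is
involutory, respects orthogonality, chords and the lines missing `δ`, fixes no point and takes every point to
an orthogonal one.
-/

set_option autoImplicit false

namespace CfsgLib.U6

open Matrix Cfsg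
open CfsgLib.PSUAut

variable {F : Type} [Field F] [Fintype F]

local notation "V6" => Fin 6 → F
local notation "H6" => Cfsg.hermForm 6 F 2

/-- The points orthogonal to `δ`, other than `δ`. -/
def IsNb (δ u : Fin 6 → F) : Prop :=
  Isot 2 u ∧ Cfsg.hermForm 6 F 2 u δ = 0 ∧ u ∉ Submodule.span F {δ}

/-- The properties of the map, stated on representatives. -/
structure IsMoving (δ : Fin 6 → F) (τ : (Fin 6 → F) → (Fin 6 → F)) : Prop where
  mem : ∀ u, IsNb δ u → IsNb δ (τ u)
  invol : ∀ u, IsNb δ u → ∃ r : F, τ (τ u) = r • u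
  scal : ∀ (r : F) u, IsNb δ u → r ≠ 0 → τ (r • u) = τ u
  ne : ∀ u, IsNb δ u → τ u ∉ Submodule.span F {u}
  orth : ∀ u, IsNb δ u → Cfsg.hermForm 6 F 2 u (τ u) = 0
  perp : ∀ u v, IsNb δ u → IsNb δ v → Cfsg.hermForm 6 F 2 u v = 0 → Cfsg.hermForm 6 F 2 (τ u) (τ v) = 0
  chord : ∀ u v, IsNb δ u → IsNb δ v → Cfsg.hermForm 6 F 2 u v ≠ 0 →
    ∃ r : F, τ (u + Cfsg.hermForm 6 F 2 u v • v) = r • (τ u + Cfsg.hermForm 6 F 2 (τ u) (τ v) • τ v)
  line : ∀ u v, IsNb δ u → IsNb δ v → Cfsg.hermForm 6 F 2 u v = 0 → v ∉ Submodule.span F {δ, u} → ∀ z,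
    Cfsg.hermForm 6 F 2 z (τ u) • τ u +
      ∑ r : F, Cfsg.hermForm 6 F 2 z (τ (v + r • u)) • τ (v + r • u) = Cfsg.hermForm 6 F 2 z δ • δ

theorem mem_span_pair_exchange {a u w : Fin 6 → F} (h : w ∈ Submodule.span F {a, u})
    (hw : w ∉ Submodule.span F {a}) : u ∈ Submodule.span F {a, w} := by
  obtain ⟨p, q, hpq⟩ := Submodule.mem_span_pair.1 h
  have hq : q ≠ 0 := fun hq => hw (Submodule.mem_span_singleton.2 ⟨p, by rw [← hpq, hq, zero_smul, add_zero]⟩)
  refine Submodule.mem_span_pair.2 ⟨-(q⁻¹ * p), q⁻¹, ?_⟩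
  rw [← hpq, smul_add, smul_smul, smul_smul, inv_mul_cancel₀ hq, one_smul, neg_smul, neg_add_cancel_left]

variable (hF : Fintype.card F = 2 ^ 2)
include hF

theorem four_univ {β γ : F} (hβ : β ≠ 0) (hγ : γ ≠ 0) (hne : β ≠ γ) (x : F) :
    x = 0 ∨ x = β ∨ x = γ ∨ x = β + γ := by
  classical
  have := charTwo hF
  have hs : ({0, β, γ, β + γ} : Finset F) = Finset.univ := by
    refine Finset.eq_univ_of_card _ ?_
    rw [hF, Finset.card_insert_of_notMem, Finset.card_insert_of_notMem, Finset.card_pair]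
    · norm_num
    · exact fun h => hβ (by simpa using h)
    · simp only [Finset.mem_insert, Finset.mem_singleton, not_or]
      exact ⟨hne, fun h => hγ (by simpa using h)⟩
    · simp only [Finset.mem_insert, Finset.mem_singleton, not_or]
      exact ⟨hβ.symm, hγ.symm, fun h => hne (CharTwo.add_eq_zero.1 h.symm)⟩
  simpa using (hs ▸ Finset.mem_univ x : x ∈ ({0, β, γ, β + γ} : Finset F))

theorem four_sum {β γ : F} (hβ : β ≠ 0) (hγ : γ ≠ 0) (hne : β ≠ γ) (f : F → F) :
    ∑ x : F, f x = f 0 + f β + f γ + f (β + γ) := by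
  classical
  have := charTwo hF
  have hs : ({0, β, γ, β + γ} : Finset F) = Finset.univ := Finset.eq_univ_of_forall fun x => by
    rcases four_univ hF hβ hγ hne x with h | h | h | h <;> simp [h]
  rw [← hs, Finset.sum_insert, Finset.sum_insert, Finset.sum_pair]
  · ring
  · exact fun h => hβ (by simpa using h)
  · simp only [Finset.mem_insert, Finset.mem_singleton, not_or]
    exact ⟨hne, fun h => hγ (by simpa using h)⟩
  · simp only [Finset.mem_insert, Finset.mem_singleton, not_or]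
    exact ⟨hβ.symm, hγ.symm, fun h => hne (CharTwo.add_eq_zero.1 h.symm)⟩

/-- The product of the three non-zero elements. -/
theorem three_prod {β γ : F} (hβ : β ≠ 0) (hγ : γ ≠ 0) (hne : β ≠ γ) : β * γ * (β + γ) = 1 := by
  have := charTwo hF
  have h : (γ - β) * (γ ^ 2 + γ * β + β ^ 2) = 0 := by
    linear_combination cube_eq_one hF hγ - cube_eq_one hF hβ
  have h' := (mul_eq_zero.1 h).resolve_left (sub_ne_zero.2 hne.symm)
  linear_combination β * h' - cube_eq_one hF hβ - CharTwo.two_eq_zero (R := F)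

namespace IsMoving

variable {δ : Fin 6 → F} {τ : (Fin 6 → F) → (Fin 6 → F)} (hδ : Isot 2 δ) (M : IsMoving δ τ)
include hδ M

omit M hδ in
theorem nb_ne_zero {u : V6} (hu : IsNb δ u) : u ≠ 0 := hu.1.1

/-- Orthogonality to `τ (τ u)` is orthogonality to `u`. -/
theorem perp_invol {u v : V6} (hu : IsNb δ u) (h : H6 v (τ (τ u)) = 0) : H6 v u = 0 := by
  obtain ⟨r, hr⟩ := M.invol u hu
  have hr0 : r ≠ 0 := fun h0 => (M.mem _ (M.mem u hu)).1.1 (by rw [hr, h0, zero_smul])
  rw [hr, smul_right hF] at h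
  exact (mul_eq_zero.1 h).resolve_left (pow_ne_zero _ hr0)

/-- Points with one block go to points with one block. -/
theorem block {u u' : V6} (hu : IsNb δ u) (hu' : IsNb δ u') (h : u' ∈ Submodule.span F {δ, u}) :
    τ u' ∈ Submodule.span F {δ, τ u} := by
  refine (mem_span_iff hF hδ (M.mem u hu).1 (M.mem u' hu').1).2 fun y hy hyδ hyu => ?_
  by_cases hs : y ∈ Submodule.span F {δ}
  · obtain ⟨r, rfl⟩ := Submodule.mem_span_singleton.1 hs
    rw [smul_left hF, (comm_zero hF).1 (M.mem u' hu').2.1, mul_zero]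
  have hyN : IsNb δ y := ⟨hy, hyδ, hs⟩
  have h1 : H6 (τ y) u = 0 := perp_invol hF hδ M hu (M.perp _ _ hyN (M.mem u hu) hyu)
  have h2 : H6 (τ y) u' = 0 := perp_span_right hF h (M.mem y hyN).2.1 h1
  have h3 := M.perp _ _ (M.mem y hyN) hu' h2
  exact (comm_zero hF).1 (perp_invol hF hδ M hyN ((comm_zero hF).1 h3))

/-- A fixed block and an orthogonal point span a plane containing the image of the latter. -/
theorem plane {u v : V6} (hu : IsNb δ u) (hv : IsNb δ v) (huv : H6 v u = 0)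
    (hv' : v ∉ Submodule.span F {δ, u}) (hfix : τ u ∈ Submodule.span F {δ, u}) :
    IsPlane δ u v ∧ ∃ p q r : F, r ≠ 0 ∧ τ v = p • δ + q • u + r • v := by
  have P : IsPlane δ u v := ⟨hδ.2, hu.1.2, hv.1.2, (comm_zero hF).1 hu.2.1, (comm_zero hF).1 hv.2.1,
    (comm_zero hF).1 huv, hδ.1, hu.2.2, hv'⟩
  have h1 := M.perp v u hv hu huv
  have hu2 : u ∈ Submodule.span F {δ, τ u} := mem_span_pair_exchange hfix (M.mem u hu).2.2
  obtain ⟨p, q, r, h⟩ := P.mem_of_perp hF (M.mem v hv).2.1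
    (perp_span_right hF hu2 (M.mem v hv).2.1 h1) ((comm_zero hF).1 (M.orth v hv))
  refine ⟨P, p, q, r, fun hr => hv' ?_, h⟩
  have hm : τ v ∈ Submodule.span F {δ, u} := Submodule.mem_span_pair.2 ⟨p, q, by rw [h, hr, zero_smul, add_zero]⟩
  have hm' := block hF hδ M hu (M.mem v hv) hm
  obtain ⟨s, hs⟩ := M.invol v hv
  rw [hs] at hm'
  have hs0 : s ≠ 0 := fun h0 => (M.mem _ (M.mem v hv)).1.1 (by rw [hs, h0, zero_smul])
  obtain ⟨a, b, hab⟩ := Submodule.mem_span_pair.1 hfix
  obtain ⟨c, d, hcd⟩ := Submodule.mem_span_pair.1 hm'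
  refine Submodule.mem_span_pair.2 ⟨s⁻¹ * (c + d * a), s⁻¹ * (d * b), ?_⟩
  rw [← inv_smul_smul₀ hs0 v, ← hcd, ← hab, smul_add, smul_add, smul_add, smul_smul, smul_smul, smul_smul, smul_smul,
    smul_smul, mul_add, add_smul]
  module

/-- Some block is fixed. -/
theorem exists_fixed_block {u : V6} (hu : IsNb δ u) :
    ∃ p, IsNb δ p ∧ τ p ∈ Submodule.span F {δ, p} := by
  classical
  by_contra hcon
  push Not at hcon
  set v := τ u with hv
  have hvN : IsNb δ v := M.mem u hu
  have hvs : v ∉ Submodule.span F {δ, u} := hcon u hu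
  have hus : u ∉ Submodule.span F {δ, v} := fun h => hvs (mem_span_pair_exchange h hu.2.2)
  have P : IsPlane δ u v := ⟨hδ.2, hu.1.2, hvN.1.2, (comm_zero hF).1 hu.2.1, (comm_zero hF).1 hvN.2.1,
    M.orth u hu, hδ.1, hu.2.2, hvs⟩
  have huv : H6 u v = 0 := M.orth u hu
  have hvu : H6 v u = 0 := (comm_zero hF).1 huv
  have hw : ∀ r : F, IsNb δ (v + r • u) := by
    intro r
    refine ⟨⟨fun h => hvs ?_, ?_⟩, ?_, fun h => hvs ?_⟩
    · exact Submodule.mem_span_pair.2 ⟨0, -r, by rw [zero_smul, zero_add, neg_smul, ← eq_neg_of_add_eq_zero_left h]⟩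
    · simp only [add_left hF, add_right hF, smul_left hF, smul_right hF, hvN.1.2, hu.1.2, huv,
        hvu, mul_zero, add_zero]
    · rw [add_left hF, smul_left hF, hvN.2.1, hu.2.1, mul_zero, add_zero]
    · obtain ⟨p, hp⟩ := Submodule.mem_span_singleton.1 h
      exact Submodule.mem_span_pair.2 ⟨p, -r, by rw [hp, neg_smul, add_neg_cancel_right]⟩
  obtain ⟨s, hs⟩ := M.invol u hu
  rw [← hv] at hs
  have hs0 : s ≠ 0 := fun h0 => (M.mem _ hvN).1.1 (by rw [hs, h0, zero_smul])
  have hex : ∀ r : {r : F // r ≠ 0}, ∃ r' : {r : F // r ≠ 0},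
      τ (v + r.1 • u) ∈ Submodule.span F {δ, v + r'.1 • u} := by
    intro ⟨r, hr⟩
    have hN := hw r
    have hu' : H6 (v + r • u) u = 0 := by
      rw [add_left hF, smul_left hF, hu.1.2, hvu, mul_zero, add_zero]
    have hv' : H6 (v + r • u) v = 0 := by
      rw [add_left hF, smul_left hF, hvN.1.2, huv, mul_zero, add_zero]
    obtain ⟨a, b, c, h⟩ := P.mem_of_perp hF (M.mem _ hN).2.1
      (perp_invol hF hδ M hu (M.perp _ _ hN hvN hv')) (M.perp _ _ hN hu hu')
    obtain ⟨t, ht⟩ := M.invol _ hN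
    have ht0 : t ≠ 0 := fun h0 => (M.mem _ (M.mem _ hN)).1.1 (by rw [ht, h0, zero_smul])
    have hc : c ≠ 0 := by
      intro hc
      have hm := block hF hδ M hu (M.mem _ hN) (Submodule.mem_span_pair.2 ⟨a, b, by rw [h, hc, zero_smul, add_zero]⟩)
      rw [ht, ← hv, Submodule.smul_mem_iff _ ht0] at hm
      obtain ⟨a', b', hab⟩ := Submodule.mem_span_pair.1 hm
      refine hus (Submodule.mem_span_pair.2 ⟨r⁻¹ * a', r⁻¹ * (b' - 1), ?_⟩)
      rw [mul_smul, mul_smul, ← smul_add, sub_smul, one_smul, ← add_sub_assoc, hab, add_sub_cancel_left,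
        inv_smul_smul₀ hr]
    have hb : b ≠ 0 := by
      intro hb
      have hm := block hF hδ M hvN (M.mem _ hN) (Submodule.mem_span_pair.2 ⟨a, c, by rw [h, hb, zero_smul, add_zero]⟩)
      rw [ht, hs, Submodule.smul_mem_iff _ ht0] at hm
      obtain ⟨a', b', hab⟩ := Submodule.mem_span_pair.1 hm
      refine hvs (Submodule.mem_span_pair.2 ⟨a', b' * s - r, ?_⟩)
      rw [sub_smul, mul_smul, ← add_sub_assoc, hab, add_sub_cancel_right]
    refine ⟨⟨c⁻¹ * b, mul_ne_zero (inv_ne_zero hc) hb⟩, Submodule.mem_span_pair.2 ⟨a, c, ?_⟩⟩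
    rw [h, smul_add, smul_smul, ← mul_assoc, mul_inv_cancel₀ hc, one_mul]
    abel
  choose φ hφ using hex
  have huniq : ∀ {r r' : F} {x : V6}, x ∉ Submodule.span F {δ} → x ∈ Submodule.span F {δ, v + r • u} →
      x ∈ Submodule.span F {δ, v + r' • u} → r = r' := by
    intro r r' x hx h1 h2
    obtain ⟨a, b, hab⟩ := Submodule.mem_span_pair.1 h1
    obtain ⟨a', b', hab'⟩ := Submodule.mem_span_pair.1 h2
    have h0 : (a - a') • δ + (b * r - b' * r') • u + (b - b') • v = 0 := by
      linear_combination (norm := module) hab - hab'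
    obtain ⟨-, e2, e3⟩ := coord_eq_zero hF P h0
    have hb : b ≠ 0 := fun hb => hx (Submodule.mem_span_singleton.2 ⟨a, by rw [← hab, hb, zero_smul, add_zero]⟩)
    rw [← sub_eq_zero.1 e3] at e2
    exact mul_left_cancel₀ hb (sub_eq_zero.1 e2)
  have hinv : Function.Involutive φ := by
    intro r
    refine Subtype.ext (huniq (M.mem _ (hw (φ r).1)).2.2 (hφ (φ r)) ?_)
    have h1 := mem_span_pair_exchange (hφ r) (M.mem _ (hw r.1)).2.2
    have h2 := block hF hδ M (M.mem _ (hw r.1)) (hw (φ r).1) h1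
    obtain ⟨t, ht⟩ := M.invol _ (hw r.1)
    obtain ⟨a, b, hab⟩ := Submodule.mem_span_pair.1 h2
    exact Submodule.mem_span_pair.2 ⟨a, b * t, by rw [← hab, ht, smul_smul]⟩
  let e : Equiv.Perm {r : F // r ≠ 0} := hinv.toPerm
  have he : e ^ 2 ^ 1 = 1 := by
    ext r
    rw [pow_one, pow_two, Equiv.Perm.mul_apply]
    exact congrArg Subtype.val (hinv r)
  have hcard : ¬ 2 ∣ Fintype.card {r : F // r ≠ 0} := by
    rw [Fintype.card_subtype_compl, Fintype.card_subtype_eq, hF]; norm_num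
  haveI := Fact.mk Nat.prime_two
  obtain ⟨r, hr⟩ := Equiv.Perm.exists_fixed_point_of_prime hcard he
  refine hcon _ (hw r.1) ?_
  have := hφ r
  rwa [show φ r = r from hr] at this

/-- A second fixed block orthogonal to a fixed one. -/
theorem exists_fixed_pair {p : V6} (hp : IsNb δ p) (hfix : τ p ∈ Submodule.span F {δ, p}) :
    ∃ q, IsNb δ q ∧ H6 q p = 0 ∧ q ∉ Submodule.span F {δ, p} ∧ τ q ∈ Submodule.span F {δ, q} := by
  have := charTwo hF
  obtain ⟨w, hw, hwδ, hwp, hws⟩ := exists_plane hF hδ hp.2.2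
  have hwN : IsNb δ w := ⟨hw, hwδ, fun h => hws (Submodule.span_mono (by simp) h)⟩
  obtain ⟨P, a, β, γ, hγ, hτw⟩ := plane hF hδ M hp hwN hwp hws hfix
  by_cases hβ : β = 0
  · exact ⟨w, hwN, hwp, hws, Submodule.mem_span_pair.2 ⟨a, γ, by rw [hτw, hβ, zero_smul, add_zero]⟩⟩
  obtain ⟨y, hy, hyV, hyp⟩ := exists_iso_pairing hF ![δ, w] hp.1.2
    (fun i => by fin_cases i; exacts [hp.2.1, (comm_zero hF).1 hwp])
    (fun h => by
      rw [Matrix.range_cons, Matrix.range_cons, Matrix.range_empty, Set.union_empty, Set.singleton_union] at h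
      exact hws (mem_span_pair_exchange h hp.2.2))
  have hyδ : H6 y δ = 0 := hyV 0
  have hyw : H6 y w = 0 := hyV 1
  have hyN : IsNb δ y := ⟨hy, hyδ, fun h => by
    obtain ⟨r, rfl⟩ := Submodule.mem_span_singleton.1 h
    rw [smul_left hF, (comm_zero hF).1 hp.2.1, mul_zero] at hyp
    exact zero_ne_one hyp⟩
  set v := τ y with hv
  have hvN : IsNb δ v := M.mem y hyN
  set k := H6 v p with hk
  have e := M.perp y w hyN hwN hyw
  rw [hτw, add_right hF, add_right hF, smul_right hF, smul_right hF, smul_right hF, hvN.2.1, mul_zero, zero_add,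
    ← hk] at e
  have hk0 : k ≠ 0 := by
    intro hk0
    obtain ⟨a', b, hab⟩ := Submodule.mem_span_pair.1 hfix
    have h1 : H6 v (τ p) = 0 := by
      rw [← hab, add_right hF, smul_right hF, smul_right hF, hvN.2.1, ← hk, hk0, mul_zero, mul_zero, add_zero]
    have h2 := perp_invol hF hδ M hp (M.perp _ _ hvN (M.mem p hp) h1)
    obtain ⟨s, hs⟩ := M.invol y hyN
    rw [← hv] at hs
    have hs0 : s ≠ 0 := fun h0 => (M.mem _ hvN).1.1 (by rw [hs, h0, zero_smul])
    rw [hs, smul_left hF, hyp, mul_one] at h2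
    exact hs0 h2
  have hvy : v ∉ Submodule.span F {δ, y} := by
    intro h
    have h1 : H6 w v = 0 := perp_span_right hF h hwδ ((comm_zero hF).1 hyw)
    rw [(comm_zero hF).1 h1, mul_zero, add_zero] at e
    exact mul_ne_zero (pow_ne_zero _ hβ) hk0 e
  set z := k • y + v with hz
  have hyv : H6 y v = 0 := M.orth y hyN
  have hzN : IsNb δ z := by
    refine ⟨⟨fun h => hvy ?_, ?_⟩, ?_, fun h => hvy ?_⟩
    · exact Submodule.mem_span_pair.2 ⟨0, -k, by rw [zero_smul, zero_add, neg_smul, ← eq_neg_of_add_eq_zero_right h]⟩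
    · simp only [hz, add_left hF, add_right hF, smul_left hF, smul_right hF, hy.2, hvN.1.2, hyv,
        (comm_zero hF).1 hyv, mul_zero, add_zero]
    · rw [hz, add_left hF, smul_left hF, hyδ, hvN.2.1, mul_zero, add_zero]
    · obtain ⟨r, hr⟩ := Submodule.mem_span_singleton.1 h
      exact Submodule.mem_span_pair.2 ⟨r, -k, by rw [hr, hz, neg_smul]; abel⟩
  have hzp : H6 z p = 0 := by
    rw [hz, add_left hF, smul_left hF, hyp, mul_one, ← hk]
    exact add_self hF k
  have hzy : H6 z y = 0 := by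
    rw [hz, add_left hF, smul_left hF, hy.2, (comm_zero hF).1 hyv, mul_zero, add_zero]
  have hzv : H6 z v = 0 := by
    rw [hz, add_left hF, smul_left hF, hvN.1.2, hyv, mul_zero, add_zero]
  have P' : IsPlane δ y v := ⟨hδ.2, hy.2, hvN.1.2, (comm_zero hF).1 hyδ, (comm_zero hF).1 hvN.2.1, hyv,
    hδ.1, hyN.2.2, hvy⟩
  obtain ⟨c₀, c₁, c₂, h⟩ := P'.mem_of_perp hF (M.mem z hzN).2.1
    (perp_invol hF hδ M hyN (M.perp _ _ hzN hvN hzv)) (M.perp _ _ hzN hyN hzy)
  refine ⟨z, hzN, hzp, fun hm => ?_, Submodule.mem_span_pair.2 ⟨c₀, c₂, ?_⟩⟩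
  · have h1 : H6 y z = 0 := (comm_zero hF).1 hzy
    obtain ⟨r, s, hrs⟩ := Submodule.mem_span_pair.1 hm
    rw [← hrs, add_right hF, smul_right hF, smul_right hF, hyδ, hyp, mul_zero, zero_add, mul_one] at h1
    exact hzN.2.2 (Submodule.mem_span_singleton.2 ⟨r, by
      rw [← hrs, pow_eq_zero_iff two_ne_zero |>.1 h1, zero_smul, add_zero]⟩)
  · obtain ⟨a', b, hab⟩ := Submodule.mem_span_pair.1 hfix
    have h1 := M.perp z p hzN hp hzp
    rw [← hab, add_right hF, smul_right hF, smul_right hF, (M.mem z hzN).2.1, mul_zero, zero_add] at h1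
    have hb : b ≠ 0 := fun hb => (M.mem p hp).2.2 (Submodule.mem_span_singleton.2 ⟨a', by
      rw [← hab, hb, zero_smul, add_zero]⟩)
    have h2 := (mul_eq_zero.1 h1).resolve_left (pow_ne_zero _ hb)
    rw [h, add_left hF, add_left hF, smul_left hF, smul_left hF, smul_left hF, (comm_zero hF).1 hp.2.1, hyp,
      ← hk, mul_zero, mul_one, zero_add] at h2
    rw [h, hz, (CharTwo.add_eq_zero.1 h2 : c₁ = c₂ * k)]
    module

/-- No such map exists. -/
theorem false_of_nb {u : V6} (hu : IsNb δ u) : False := by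
  have := charTwo hF
  obtain ⟨p, hp, hpf⟩ := exists_fixed_block hF hδ M hu
  obtain ⟨q, hq, hqp, hqs, hqf⟩ := exists_fixed_pair hF hδ M hp hpf
  have hps : p ∉ Submodule.span F {δ, q} := fun h => hqs (mem_span_pair_exchange h hp.2.2)
  obtain ⟨x, hx, hxV, hxq⟩ := exists_iso_pairing hF ![δ, p] hq.1.2
    (fun i => by fin_cases i; exacts [hq.2.1, hqp])
    (fun h => by
      rw [Matrix.range_cons, Matrix.range_cons, Matrix.range_empty, Set.union_empty, Set.singleton_union] at h
      exact hqs h)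
  have hxδ : H6 x δ = 0 := hxV 0
  have hxp : H6 x p = 0 := hxV 1
  have nsp : ∀ {w : V6}, H6 w q = 1 → w ∉ Submodule.span F {δ, p} := by
    intro w hw hm
    rw [(comm_zero hF).1 (perp_span_right hF hm hq.2.1 hqp)] at hw
    exact zero_ne_one hw
  have hxN : IsNb δ x := ⟨hx, hxδ, fun h => nsp hxq (Submodule.span_mono (by simp) h)⟩
  set x' := x + q with hx'
  have hx'q : H6 x' q = 1 := by rw [hx', add_left hF, hxq, hq.1.2, add_zero]
  have hx'N : IsNb δ x' := by
    refine ⟨⟨fun h => ?_, ?_⟩, ?_, fun h => nsp hx'q (Submodule.span_mono (by simp) h)⟩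
    · rw [h, zero_left hF] at hx'q; exact zero_ne_one hx'q
    · rw [hx', add_left hF, add_right hF, add_right hF, hx.2, hq.1.2, hxq, comm_one hF hxq, add_zero, zero_add]
      exact add_self hF 1
    · rw [hx', add_left hF, hxδ, hq.2.1, add_zero]
  have hx'p : H6 x' p = 0 := by rw [hx', add_left hF, hxp, hqp, add_zero]
  -- coordinates on the plane of `δ`, `p` and a third point
  let pnt : V6 → F × F → V6 := fun w a => w + a.1 • p + a.2 • δ
  have Pl : ∀ {w : V6}, IsNb δ w → H6 w p = 0 → w ∉ Submodule.span F {δ, p} → IsPlane δ p w :=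
    fun {w} hw hwp hws => ⟨hδ.2, hp.1.2, hw.1.2, (comm_zero hF).1 hp.2.1, (comm_zero hF).1 hw.2.1,
      (comm_zero hF).1 hwp, hδ.1, hp.2.2, hws⟩
  have pnt_nb : ∀ {w : V6}, IsNb δ w → H6 w p = 0 → w ∉ Submodule.span F {δ, p} → ∀ a,
      IsNb δ (pnt w a) ∧ H6 (pnt w a) p = 0 ∧ pnt w a ∉ Submodule.span F {δ, p} := by
    intro w hw hwp hws a
    have hns : pnt w a ∉ Submodule.span F {δ, p} := by
      intro h
      obtain ⟨r, s, hrs⟩ := Submodule.mem_span_pair.1 h
      exact hws (Submodule.mem_span_pair.2 ⟨r - a.2, s - a.1, by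
        simp only [pnt] at hrs
        linear_combination (norm := module) hrs⟩)
    refine ⟨⟨⟨fun h => hns (h ▸ Submodule.zero_mem _), ?_⟩, ?_, fun h => hns (Submodule.span_mono (by simp) h)⟩,
      ?_, hns⟩
    · simp only [pnt, add_left hF, add_right hF, smul_left hF, smul_right hF, hw.1.2, hp.1.2, hδ.2, hwp,
        (comm_zero hF).1 hwp, hw.2.1, (comm_zero hF).1 hw.2.1, hp.2.1, (comm_zero hF).1 hp.2.1, mul_zero, add_zero]
    · simp only [pnt, add_left hF, smul_left hF, hw.2.1, hp.2.1, hδ.2, mul_zero, add_zero]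
    · simp only [pnt, add_left hF, smul_left hF, hwp, hp.1.2, (comm_zero hF).1 hp.2.1, mul_zero, add_zero]
  have pnt_inj : ∀ {w : V6}, IsNb δ w → H6 w p = 0 → w ∉ Submodule.span F {δ, p} → ∀ {r s : F} {a b : F × F},
      r ≠ 0 → r • pnt w a = s • pnt w b → r = s ∧ a = b := by
    intro w hw hwp hws r s a b hr h
    have h0 : (r * a.2 - s * b.2) • δ + (r * a.1 - s * b.1) • p + (r - s) • w = 0 := by
      simp only [pnt] at h
      linear_combination (norm := module) h
    obtain ⟨e1, e2, e3⟩ := coord_eq_zero hF (Pl hw hwp hws) h0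
    have hrs := sub_eq_zero.1 e3
    rw [← hrs] at e1 e2
    exact ⟨hrs, Prod.ext (mul_left_cancel₀ hr (sub_eq_zero.1 e2)) (mul_left_cancel₀ hr (sub_eq_zero.1 e1))⟩
  have img : ∀ {w : V6}, IsNb δ w → H6 w p = 0 → w ∉ Submodule.span F {δ, p} → ∀ a,
      ∃ (b : F × F) (r : F), r ≠ 0 ∧ τ (pnt w a) = r • pnt w b := by
    intro w hw hwp hws a
    obtain ⟨hN, hP, hS⟩ := pnt_nb hw hwp hws a
    obtain ⟨-, c₀, c₁, c₂, hc, h⟩ := plane hF hδ M hp hN hP hS hpf
    refine ⟨(c₂⁻¹ * c₁ + a.1, c₂⁻¹ * c₀ + a.2), c₂, hc, ?_⟩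
    rw [h]
    simp only [pnt, smul_add, smul_smul, mul_add, ← mul_assoc, mul_inv_cancel₀ hc, one_mul, add_smul]
    module
  have hxs := nsp hxq
  have hx's := nsp hx'q
  choose f₁ r₁ hr₁ hf₁ using img hq hqp hqs
  choose f₂ r₂ hr₂ hf₂ using img hxN hxp hxs
  choose f₃ r₃ hr₃ hf₃ using img hx'N hx'p hx's
  -- chords from the first two planes end in the third
  have hsum : ∀ a b : F × F, f₃ (a + b) = f₂ a + f₁ b := by
    intro a b
    have hH : ∀ a b : F × F, H6 (pnt x a) (pnt q b) = 1 := by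
      intro a b
      simp only [pnt, add_left hF, add_right hF, smul_left hF, smul_right hF, hxp, hxδ, (comm_zero hF).1 hqp,
        (comm_zero hF).1 hq.2.1, hp.1.2, hp.2.1, (comm_zero hF).1 hp.2.1, hδ.2, hxq, mul_zero, add_zero]
    have hadd : ∀ a b : F × F, pnt x a + pnt q b = pnt x' (a + b) := by
      intro a b
      simp only [pnt, hx', Prod.fst_add, Prod.snd_add, add_smul]
      abel
    obtain ⟨r, hr⟩ := M.chord _ _ (pnt_nb hxN hxp hxs a).1 (pnt_nb hq hqp hqs b).1 (by rw [hH]; exact one_ne_zero)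
    rw [hH, one_smul, hadd, hf₂, hf₁, hf₃, smul_left hF, smul_right hF, hH, mul_one, smul_smul] at hr
    have hcube : r₂ a * (r₁ b) ^ 2 * r₁ b = r₂ a := by linear_combination r₂ a * cube_eq_one hF (hr₁ b)
    rw [hcube, ← smul_add, hadd, smul_smul] at hr
    exact (pnt_inj hx'N hx'p hx's (hr₃ _) hr).2
  -- the common additive part
  let L : F × F → F × F := fun a => f₁ a + f₁ 0
  have self_zero : ∀ a : F × F, a + a = 0 := fun a => Prod.ext (add_self hF _) (add_self hF _)
  have hf₁L : ∀ a, f₁ a = L a + f₁ 0 := fun a => by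
    show f₁ a = f₁ a + f₁ 0 + f₁ 0
    rw [add_assoc, self_zero, add_zero]
  have hf₂L : ∀ a, f₂ a = L a + f₂ 0 := by
    intro a
    have h1 := hsum a 0
    have h2 := hsum 0 a
    rw [add_zero] at h1
    rw [zero_add, h1] at h2
    calc f₂ a = f₂ a + (f₁ 0 + f₁ 0) := by rw [self_zero, add_zero]
      _ = f₂ a + f₁ 0 + f₁ 0 := by rw [add_assoc]
      _ = f₂ 0 + f₁ a + f₁ 0 := by rw [h2]
      _ = L a + f₂ 0 := by simp only [L]; abel
  have hadd : ∀ a b, L (a + b) = L a + L b := by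
    intro a b
    have h1 := hsum a b
    have h2 := hsum 0 (a + b)
    rw [zero_add, h1, hf₂L, hf₁L (a + b), hf₁L b] at h2
    calc L (a + b) = (f₂ 0 + (L (a + b) + f₁ 0)) + (f₂ 0 + f₁ 0) := by
          rw [show (f₂ 0 + (L (a + b) + f₁ 0)) + (f₂ 0 + f₁ 0) = L (a + b) + ((f₂ 0 + f₂ 0) + (f₁ 0 + f₁ 0)) by abel,
            self_zero, self_zero, add_zero, add_zero]
      _ = (L a + f₂ 0 + (L b + f₁ 0)) + (f₂ 0 + f₁ 0) := by rw [h2]
      _ = L a + L b := by
          rw [show (L a + f₂ 0 + (L b + f₁ 0)) + (f₂ 0 + f₁ 0) = L a + L b + ((f₂ 0 + f₂ 0) + (f₁ 0 + f₁ 0)) by abel,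
            self_zero, self_zero, add_zero, add_zero]
  have hL0 : L 0 = 0 := self_zero _
  -- `f₁` is an involution without fixed points
  have hinv : ∀ {w : V6} (hw : IsNb δ w) (hwp : H6 w p = 0) (hws : w ∉ Submodule.span F {δ, p})
      (f : F × F → F × F) (r : F × F → F), (∀ a, r a ≠ 0) → (∀ a, τ (pnt w a) = r a • pnt w (f a)) →
      ∀ a, f (f a) = a ∧ f a ≠ a := by
    intro w hw hwp hws f r hr hf a
    have hN := (pnt_nb hw hwp hws a).1
    refine ⟨?_, fun h => M.ne _ hN (by rw [hf, h]; exact Submodule.smul_mem _ _ (Submodule.mem_span_singleton_self _))⟩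
    obtain ⟨s, hs⟩ := M.invol _ hN
    rw [hf, M.scal _ _ (pnt_nb hw hwp hws (f a)).1 (hr a), hf] at hs
    exact (pnt_inj hw hwp hws (hr _) hs).2
  have hI₁ := hinv hq hqp hqs f₁ r₁ hr₁ hf₁
  have hI₂ := hinv hxN hxp hxs f₂ r₂ hr₂ hf₂
  have hI₃ := hinv hx'N hx'p hx's f₃ r₃ hr₃ hf₃
  have hLv : L (f₁ 0) = f₁ 0 := by
    simp only [L]; rw [(hI₁ 0).1, zero_add]
  have hLL : ∀ a, L (L a) = a := by
    intro a
    have h1 := (hI₁ a).1
    rw [hf₁L (f₁ a), hf₁L a, hadd, hLv, add_assoc, self_zero, add_zero] at h1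
    exact h1
  -- a fixed block is moved by a translation
  have hblk : ∀ {w : V6} (hw : IsNb δ w) (hwp : H6 w p = 0) (hws : w ∉ Submodule.span F {δ, p})
      (f : F × F → F × F) (r : F × F → F), (∀ a, r a ≠ 0) → (∀ a, τ (pnt w a) = r a • pnt w (f a)) →
      τ w ∈ Submodule.span F {δ, w} → ∀ t : F, (f (0, t)).1 = 0 := by
    intro w hw hwp hws f r hr hf hfix t
    have hN := (pnt_nb hw hwp hws (0, t)).1
    have hm := block hF hδ M hw hN (Submodule.mem_span_pair.2 ⟨t, 1, by
      simp only [pnt, zero_smul, one_smul, add_zero]; abel⟩)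
    obtain ⟨a₁, a₂, hfix⟩ := Submodule.mem_span_pair.1 hfix
    obtain ⟨b₁, b₂, hb⟩ := Submodule.mem_span_pair.1 hm
    rw [hf, ← hfix] at hb
    have h0 : (b₁ + b₂ * a₁ - r (0, t) * (f (0, t)).2) • δ + (0 - r (0, t) * (f (0, t)).1) • p +
        (b₂ * a₂ - r (0, t)) • w = 0 := by
      simp only [pnt] at hb
      linear_combination (norm := module) hb
    have := (coord_eq_zero hF (Pl hw hwp hws) h0).2.1
    rw [zero_sub, neg_eq_zero] at this
    exact (mul_eq_zero.1 this).resolve_left (hr _)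
  set c₁ := (f₁ 0).2 with hc₁
  have hv₁ : f₁ 0 = (0, c₁) := Prod.ext (hblk hq hqp hqs f₁ r₁ hr₁ hf₁ hqf 0) rfl
  let h : F → F := fun t => (L (0, t)).2
  have hL0t : ∀ t, L (0, t) = (0, h t) := fun t => Prod.ext (by
    show (f₁ (0, t) + f₁ 0).1 = 0
    rw [Prod.fst_add, hblk hq hqp hqs f₁ r₁ hr₁ hf₁ hqf t, hv₁, add_zero]) rfl
  have hh : ∀ t, h t = t := by
    intro t
    by_contra hne
    have hc : h c₁ = c₁ := by
      simp only [h]; rw [← hv₁, hLv, hv₁]
    have hhh : h (h t) = t := by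
      simp only [h]
      rw [show ((0 : F), (L (0, t)).2) = L (0, t) from (hL0t t).symm, hLL]
    have hadd' : ∀ u v, h (u + v) = h u + h v := by
      intro u v
      simp only [h]
      rw [← Prod.snd_add, ← hadd, Prod.mk_add_mk, add_zero]
    have hfree : ∀ u, h u + c₁ ≠ u := by
      intro u e
      refine (hI₁ (0, u)).2 ?_
      rw [hf₁L, hL0t, hv₁, Prod.mk_add_mk, add_zero, e]
    have hc0 : c₁ ≠ 0 := fun e => hfree 0 (by
      rw [e, add_zero]; simp only [h]; rw [show ((0 : F), (0 : F)) = (0 : F × F) from rfl, hL0]; rfl)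
    set w := h t + t with hw
    have hw0 : w ≠ 0 := fun e => hne (CharTwo.add_eq_zero.1 e)
    have hwfix : h w = w := by rw [hw, hadd', hhh, add_comm]
    have hcw : c₁ ≠ w := fun e => hfree t (by rw [e, hw, ← add_assoc, add_self hF, zero_add])
    rcases four_univ hF hc0 hw0 hcw t with e | e | e | e <;> apply hne <;> rw [e]
    · simp only [h]; rw [show ((0 : F), (0 : F)) = (0 : F × F) from rfl, hL0]; rfl
    · exact hc
    · exact hwfix
    · rw [hadd', hc, hwfix]
  let A : F → F := fun m => (L (m, 0)).1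
  let g : F → F := fun m => (L (m, 0)).2
  have hLms : ∀ m t, L (m, t) = (A m, g m + t) := by
    intro m t
    rw [show (m, t) = (m, (0 : F)) + (0, t) by rw [Prod.mk_add_mk, add_zero, zero_add], hadd, hL0t, hh]
    exact Prod.ext (add_zero _) rfl
  have hA0 : A 0 = 0 := by
    simp only [A]; rw [show ((0 : F), (0 : F)) = (0 : F × F) from rfl, hL0]; rfl
  have hAadd : ∀ m n, A (m + n) = A m + A n := by
    intro m n
    simp only [A]
    rw [← Prod.fst_add, ← hadd, Prod.mk_add_mk, add_zero]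
  have hAA : ∀ m, A (A m) = m := by
    intro m
    have := congrArg Prod.fst (hLL (m, 0))
    rwa [hLms m 0, hLms] at this
  obtain ⟨ω, hω0, hω1, -, -⟩ := exists_omega hF
  have hAsum : ∑ m : F, A m = 0 := by
    rw [four_sum hF one_ne_zero hω0 hω1.symm, hA0, zero_add, hAadd]
    exact add_self hF _
  -- the images of the lines through `q` and the points of the fixed block of `p`
  obtain ⟨b₀, b₁, hpf'⟩ := Submodule.mem_span_pair.1 hpf
  obtain ⟨y, hy, hyV, hyp⟩ := exists_iso_pairing hF ![δ, q] hp.1.2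
    (fun i => by fin_cases i; exacts [hp.2.1, (comm_zero hF).1 hqp])
    (fun h => by
      rw [Matrix.range_cons, Matrix.range_cons, Matrix.range_empty, Set.union_empty, Set.singleton_union] at h
      exact hps h)
  have hyδ : H6 y δ = 0 := hyV 0
  have hyq : H6 y q = 0 := hyV 1
  obtain ⟨z, hzV, hzδ⟩ := exists_perp_ne hF ![p, q] (z := δ) fun h => by
    rw [Matrix.range_cons, Matrix.range_cons, Matrix.range_empty, Set.union_empty, Set.singleton_union] at h
    obtain ⟨a, b, hab⟩ := Submodule.mem_span_pair.1 h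
    obtain ⟨e, -, -⟩ := coord_eq_zero hF (Pl hq hqp hqs) (p := -1) (q := a) (r := b) (by
      rw [neg_smul, one_smul, add_assoc, hab, neg_add_cancel])
    exact one_ne_zero (neg_eq_zero.1 e)
  have hzp : H6 z p = 0 := hzV 0
  have hzq : H6 z q = 0 := hzV 1
  have hpk : ∀ k : F, IsNb δ (p + k • δ) := by
    intro k
    refine ⟨⟨fun h => hp.2.2 ?_, ?_⟩, ?_, fun h => hp.2.2 ?_⟩
    · exact Submodule.mem_span_singleton.2 ⟨-k, by rw [neg_smul, ← eq_neg_of_add_eq_zero_left h]⟩
    · simp only [add_left hF, add_right hF, smul_left hF, smul_right hF, hp.1.2, hp.2.1,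
        (comm_zero hF).1 hp.2.1, hδ.2, mul_zero, add_zero]
    · rw [add_left hF, smul_left hF, hp.2.1, hδ.2, mul_zero, add_zero]
    · obtain ⟨r, hr⟩ := Submodule.mem_span_singleton.1 h
      exact Submodule.mem_span_singleton.2 ⟨r - k, by rw [sub_smul, hr, add_sub_cancel_right]⟩
  have himgp : ∀ k : F, ∃ j r : F, r ≠ 0 ∧ τ (p + k • δ) = r • (p + j • δ) := by
    intro k
    have hm := block hF hδ M hp (hpk k) (Submodule.mem_span_pair.2 ⟨k, 1, by rw [one_smul, add_comm]⟩)
    obtain ⟨c₀, c₁, hc⟩ := Submodule.mem_span_pair.1 hm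
    rw [← hpf', smul_add, smul_smul, smul_smul, ← add_assoc, ← add_smul] at hc
    have hr : c₁ * b₁ ≠ 0 := fun e => (M.mem _ (hpk k)).2.2 (Submodule.mem_span_singleton.2
      ⟨c₀ + c₁ * b₀, by rw [← hc, e, zero_smul, add_zero]⟩)
    refine ⟨(c₁ * b₁)⁻¹ * (c₀ + c₁ * b₀), c₁ * b₁, hr, ?_⟩
    rw [← hc, smul_add, smul_smul, ← mul_assoc, mul_inv_cancel₀ hr, one_mul, add_comm]
  choose j rp hrp hj using himgp
  have key : ∀ k : F, j k ^ 2 + (k ^ 2 * ∑ m : F, A m * m ^ 2 + ∑ m : F, A m * g m ^ 2) = 0 := by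
    intro k
    have hsp : q ∉ Submodule.span F {δ, p + k • δ} := fun h => hqs (by
      refine (Submodule.span_le (R := F)).2 ?_ h
      rintro x (rfl | rfl)
      · exact Submodule.subset_span (by simp)
      · exact Submodule.mem_span_pair.2 ⟨k, 1, by rw [one_smul, add_comm]⟩)
    have hpq : H6 (p + k • δ) q = 0 := by
      rw [add_left hF, smul_left hF, (comm_zero hF).1 hqp, (comm_zero hF).1 hq.2.1, mul_zero, add_zero]
    have hline := M.line _ q (hpk k) hq hpq hsp z
    have hw : ∀ m : F, τ (q + m • (p + k • δ)) = r₁ (m, m * k) • pnt q (A m, g m + m * k + c₁) := by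
      intro m
      rw [show q + m • (p + k • δ) = pnt q (m, m * k) by simp only [pnt, smul_add, smul_smul, add_assoc], hf₁,
        hf₁L, hLms, hv₁, Prod.mk_add_mk, add_zero]
    have hsc : ∀ (r : F) (u : V6), r ≠ 0 → H6 z (r • u) • (r • u) = H6 z u • u := fun r u hr => smul_pt hF r hr z u
    rw [hj, hsc _ _ (hrp k), Finset.sum_congr rfl (g := fun m : F =>
      H6 z (pnt q (A m, g m + m * k + c₁)) • pnt q (A m, g m + m * k + c₁))
      fun m _ => by rw [hw, hsc _ _ (hr₁ _)]] at hline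
    have h1 := congrArg (fun u => H6 u y) hline
    have hsumH : ∀ (s : Finset F) (fv : F → V6), H6 (∑ i ∈ s, fv i) y = ∑ i ∈ s, H6 (fv i) y := by
      intro s fv
      induction s using Finset.cons_induction with
      | empty => simp [zero_left hF]
      | cons a s ha ih => rw [Finset.sum_cons, Finset.sum_cons, add_left hF, ih]
    simp only [pnt, add_left hF, hsumH, smul_left hF, add_right hF, smul_right hF, hzp, hzq, hzδ,
      comm_one hF hyp, (comm_zero hF).1 hyδ, (comm_zero hF).1 hyq, mul_zero, zero_add, add_zero, mul_one] at h1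
    have hsq : ∀ m : F, (g m + m * k + c₁) ^ 2 * A m = k ^ 2 * (A m * m ^ 2) + A m * g m ^ 2 + c₁ ^ 2 * A m := by
      intro m; rw [CharTwo.add_sq, CharTwo.add_sq]; ring
    rw [Finset.sum_congr rfl fun m _ => hsq m, Finset.sum_add_distrib, Finset.sum_add_distrib,
      ← Finset.mul_sum, ← Finset.mul_sum, hAsum, mul_zero, add_zero] at h1
    exact h1
  have hjinj : ∀ k k' : F, j k = j k' → k = k' := by
    intro k k' e
    obtain ⟨s, hs⟩ := M.invol _ (hpk k)
    obtain ⟨s', hs'⟩ := M.invol _ (hpk k')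
    rw [hj] at hs hs'
    have hN : IsNb δ (p + j k • δ) := hpk _
    rw [M.scal _ _ hN (hrp k)] at hs
    rw [M.scal _ _ (hpk _) (hrp k'), ← e, hs] at hs'
    have h0 : (s * k - s' * k') • δ + (s - s') • p + (0 : F) • q = 0 := by
      linear_combination (norm := module) hs'
    obtain ⟨e1, e2, -⟩ := coord_eq_zero hF (Pl hq hqp hqs) h0
    have hs0 : s ≠ 0 := fun h0 => (M.mem _ hN).1.1 (by rw [hs, h0, zero_smul])
    rw [← sub_eq_zero.1 e2] at e1
    exact mul_left_cancel₀ hs0 (sub_eq_zero.1 e1)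
  by_cases hAid : ∀ m, A m = m
  swap
  · -- a transposition of blocks: the image of the block of `p` is one point
    push Not at hAid
    obtain ⟨γ, hγ⟩ := hAid
    set β := A γ + γ with hβ
    have hβ0 : β ≠ 0 := fun e => hγ (CharTwo.add_eq_zero.1 e)
    have hγ0 : γ ≠ 0 := fun e => hγ (by rw [e, hA0])
    have hAβ : A β = β := by rw [hβ, hAadd, hAA, add_comm]
    have hAγ : A γ = β + γ := by rw [hβ, add_assoc, add_self hF, add_zero]
    have hAβγ : A (β + γ) = γ := by rw [hAadd, hAβ, hAγ, ← add_assoc, add_self hF, zero_add]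
    have hβγ : β ≠ γ := fun e => hγ (by rw [← e]; exact hAβ)
    have hS : ∑ m : F, A m * m ^ 2 = 0 := by
      rw [four_sum hF hβ0 hγ0 hβγ, hA0, hAβ, hAγ, hAβγ]
      linear_combination (cube_eq_one hF hβ0) + (three_prod hF hβ0 hγ0 hβγ) +
        (β * γ ^ 2 + β ^ 2 * γ) * (CharTwo.two_eq_zero (R := F)) * 0 + (1 + γ ^ 3 + β * γ ^ 2) * (CharTwo.two_eq_zero (R := F))
    refine zero_ne_one (hjinj 0 1 ?_)
    have k0 := key 0
    have k1 := key 1
    rw [hS, mul_zero, zero_add] at k0 k1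
    exact CharTwo.sq_injective (add_right_cancel (k0.trans k1.symm))
  -- all blocks of the plane of `q` are fixed
  have hS : ∑ m : F, A m * m ^ 2 = 1 := by
    rw [four_sum hF one_ne_zero hω0 hω1.symm]
    simp only [hAid]
    have h1ω : (1 : F) + ω ≠ 0 := fun e => hω1 (CharTwo.add_eq_zero.1 e).symm
    linear_combination cube_eq_one hF hω0 + cube_eq_one hF h1ω + CharTwo.two_eq_zero (R := F)
  obtain ⟨m₀, hm₀⟩ : ∃ m, g m ≠ 0 := by
    by_contra hcon
    push Not at hcon
    have hj1 : j 0 = 0 := by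
      have k0 := key 0
      simp only [hcon, zero_pow two_ne_zero, mul_zero, zero_mul, Finset.sum_const_zero, add_zero] at k0
      exact pow_eq_zero_iff two_ne_zero |>.1 k0
    refine M.ne _ hp ?_
    have h0 := hj 0
    rw [hj1, zero_smul, add_zero] at h0
    rw [h0]
    exact Submodule.smul_mem _ _ (Submodule.mem_span_singleton_self p)
  have hg0 : g 0 = 0 := by
    simp only [g]; rw [show ((0 : F), (0 : F)) = (0 : F × F) from rfl, hL0]; rfl
  -- the block of `x` is fixed
  obtain ⟨y', hy', hyV', hy'p⟩ := exists_iso_pairing hF ![δ, q, x] hp.1.2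
    (fun i => by fin_cases i; exacts [hp.2.1, (comm_zero hF).1 hqp, (comm_zero hF).1 hxp])
    (fun h => by
      obtain ⟨c, hc⟩ := (Submodule.mem_span_range_iff_exists_fun F).1 h
      rw [Fin.sum_univ_three] at hc
      change c 0 • δ + c 1 • q + c 2 • x = p at hc
      have h2 : c 2 = 0 := by
        have := congrArg (fun u => H6 u q) hc
        simpa only [add_left hF, smul_left hF, (comm_zero hF).1 hq.2.1, hq.1.2, hxq, (comm_zero hF).1 hqp,
          mul_zero, mul_one, zero_add] using this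
      exact hps (Submodule.mem_span_pair.2 ⟨c 0, c 1, by rw [← hc, h2, zero_smul, add_zero]⟩))
  have hy'δ : H6 y' δ = 0 := hyV' 0
  have hy'q : H6 y' q = 0 := hyV' 1
  have hy'x : H6 y' x = 0 := hyV' 2
  have hy'N : IsNb δ y' := ⟨hy', hy'δ, fun h => by
    obtain ⟨r, rfl⟩ := Submodule.mem_span_singleton.1 h
    rw [smul_left hF, (comm_zero hF).1 hp.2.1, mul_zero] at hy'p
    exact zero_ne_one hy'p⟩
  have hy's : y' ∉ Submodule.span F {δ, q} := fun h => by
    rw [(comm_zero hF).1 (perp_span_right hF h hp.2.1 ((comm_zero hF).1 hqp))] at hy'p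
    exact zero_ne_one hy'p
  obtain ⟨-, e₀, β, e₂, he₂, hτy⟩ := plane hF hδ M hq hy'N hy'q hy's hqf
  set α := (f₂ 0).1 with hα
  set c₂ := (f₂ 0).2 with hc₂
  have hxpnt : pnt x 0 = x := by simp [pnt]
  have hτx : τ x = r₂ 0 • pnt x (α, c₂) := by rw [← hxpnt, hf₂, hxpnt]
  have hβα : e₂ ^ 2 * α + β ^ 2 = 0 := by
    have h1 := M.perp x y' hxN hy'N ((comm_zero hF).1 hy'x)
    rw [hτx, hτy, smul_left hF] at h1
    have h2 := (mul_eq_zero.1 h1).resolve_left (hr₂ _)
    simp only [pnt, add_left hF, add_right hF, smul_left hF, smul_right hF, hxδ, hp.2.1, hδ.2, hxq,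
      (comm_zero hF).1 hqp, (comm_zero hF).1 hq.2.1, (comm_zero hF).1 hy'x, comm_one hF hy'p,
      (comm_zero hF).1 hy'δ, mul_zero, mul_one, zero_add, add_zero] at h2
    linear_combination h2
  have hα0 : α = 0 := by
    by_contra hα0
    have hall : ∀ l : F, l ≠ 0 → l = α := by
      intro l hl
      set w := x + l • y' with hw
      set r := q + l • p with hr
      have hwq : H6 w q = 1 := by rw [hw, add_left hF, smul_left hF, hxq, hy'q, mul_zero, add_zero]
      have hwp : H6 w p = l := by rw [hw, add_left hF, smul_left hF, hxp, hy'p, mul_one, zero_add]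
      have hrN : IsNb δ r := by
        have := (pnt_nb hq hqp hqs (l, 0)).1
        simpa [pnt] using this
      have hrf : τ r ∈ Submodule.span F {δ, r} := by
        have h1 := hf₁ (l, 0)
        rw [hf₁L, hLms, hAid, hv₁, Prod.mk_add_mk, add_zero] at h1
        simp only [pnt, zero_smul, add_zero] at h1
        rw [h1]
        exact Submodule.smul_mem _ _ (Submodule.mem_span_pair.2 ⟨g l + c₁, 1, by
          rw [hr, one_smul]; abel⟩)
      have hwN : IsNb δ w := by
        refine ⟨⟨fun h => ?_, ?_⟩, ?_, fun h => ?_⟩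
        · rw [h, zero_left hF] at hwq; exact zero_ne_one hwq
        · simp only [hw, add_left hF, add_right hF, smul_left hF, smul_right hF, hx.2, hy'.2, hy'x,
            (comm_zero hF).1 hy'x, mul_zero, add_zero]
        · rw [hw, add_left hF, smul_left hF, hxδ, hy'δ, mul_zero, add_zero]
        · exact nsp hwq (Submodule.span_mono (by simp) h)
      have hwr : H6 w r = 0 := by
        rw [hr, add_right hF, smul_right hF, hwq, hwp, ← pow_succ, cube_eq_one hF hl]
        exact add_self hF 1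
      have hws : w ∉ Submodule.span F {δ, r} := fun h => by
        rw [(comm_zero hF).1 (perp_span_right hF h hq.2.1 (by
          rw [hr, add_right hF, smul_right hF, hq.1.2, hqp, mul_zero, add_zero]))] at hwq
        exact zero_ne_one hwq
      obtain ⟨-, d₀, d₁, d₂, hd₂, hτw⟩ := plane hF hδ M hrN hwN hwr hws hrf
      have hwx : H6 w x = 0 := by
        rw [hw, add_left hF, smul_left hF, hx.2, hy'x, mul_zero, add_zero]
      have hwy : H6 w y' = 0 := by
        rw [hw, add_left hF, smul_left hF, (comm_zero hF).1 hy'x, hy'.2, mul_zero, add_zero]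
      have h1 := M.perp w x hwN hxN hwx
      have h2 := M.perp w y' hwN hy'N hwy
      rw [hτw, hτx, smul_right hF] at h1
      have h1' := (mul_eq_zero.1 h1).resolve_left (pow_ne_zero _ (hr₂ _))
      rw [hτw, hτy] at h2
      simp only [hw, hr, pnt, add_left hF, add_right hF, smul_left hF, smul_right hF, hx.2, hxδ, hxp, hxq,
        comm_one hF hxq, hq.1.2, hqp, (comm_zero hF).1 hqp, hq.2.1, (comm_zero hF).1 hq.2.1, hp.1.2, hp.2.1,
        (comm_zero hF).1 hp.2.1, hδ.2, hy'.2, hy'δ, (comm_zero hF).1 hy'δ, hy'p, comm_one hF hy'p, hy'q,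
        (comm_zero hF).1 hy'q, hy'x, (comm_zero hF).1 hy'x, (comm_zero hF).1 hxδ, (comm_zero hF).1 hxp,
        mul_zero, mul_one, zero_add, add_zero] at h1' h2
      -- two orthogonality conditions
      have := hβα
      have e := cube_eq_one hF he₂
      have el := cube_eq_one hF hl
      have hd : d₁ = d₂ * (l * α ^ 2) := by
        linear_combination h1' - (d₂ * (l * α ^ 2)) * CharTwo.two_eq_zero (R := F)
      subst hd
      have h3 : d₂ * α * e₂ ^ 2 * (1 + l ^ 2 * α) = 0 := by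
        linear_combination h2 + d₂ * hβα - d₂ * β ^ 2 * CharTwo.two_eq_zero (R := F)
      simp only [mul_eq_zero, hd₂, hα0, pow_eq_zero_iff two_ne_zero, he₂, false_or] at h3
      linear_combination -l * h3 + α * el + (l * 1) * CharTwo.two_eq_zero (R := F)
    exact hω1 ((hall ω hω0).trans (hall 1 one_ne_zero).symm)
  -- three planes of fixed blocks
  have hf₂0 : f₂ 0 = (0, c₂) := Prod.ext hα0 rfl
  have hf₃L : ∀ a, f₃ a = L a + (0, c₂ + c₁) := by
    intro a
    have := hsum a 0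
    rw [add_zero, hf₂L a, hf₂0, hv₁, add_assoc] at this
    rw [this]
    congr 1
    exact Prod.ext (add_zero _) rfl
  have hfree : ∀ (f : F × F → F × F) (c : F), (∀ a, f a = L a + (0, c)) → (∀ a, f (f a) = a ∧ f a ≠ a) →
      ∀ m, g m + c ≠ 0 := by
    intro f c hf hI m e
    refine (hI (m, 0)).2 ?_
    rw [hf, hLms, hAid, Prod.mk_add_mk, add_zero, add_zero, e]
  have F1 := hfree f₁ c₁ (fun a => by rw [hf₁L, hv₁]) hI₁
  have F2 := hfree f₂ c₂ (fun a => by rw [hf₂L, hf₂0]) hI₂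
  have F3 := hfree f₃ (c₂ + c₁) hf₃L hI₃
  have hc10 : c₁ ≠ 0 := fun e => F1 0 (by rw [e, hg0, add_zero])
  have hc1g : c₁ ≠ g m₀ := fun e => F1 m₀ (by rw [e]; exact add_self hF _)
  rcases four_univ hF hc10 hm₀ hc1g c₂ with e | e | e | e
  · exact F2 0 (by rw [e, hg0, add_zero])
  · exact F3 0 (by rw [e, hg0, zero_add]; exact add_self hF _)
  · exact F2 m₀ (by rw [e]; exact add_self hF _)
  · exact F3 m₀ (by
      rw [e, show g m₀ + (c₁ + g m₀ + c₁) = (c₁ + c₁) + (g m₀ + g m₀) by ring, add_self hF, add_self hF, add_zero])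

end IsMoving

end CfsgLib.U6
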