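import Cfsg.Agent.Lib.ThreeTransp.M24Center
import Cfsg.Agent.Lib.ThreeTransp.U6Domestic

/-!
# Groups of type `M(24)`: every involution commutes with a member

The common link of three commuting members maps onto the transvection points of `PSU₆(2)`; an involution
without fixed member would give there an involution moving every neighbour of a point to an orthogonal one.
-/

set_option autoImplicit false

namespace CfsgLib.M24

open CfsgLib.ThreeTransp CfsgLib.SporMisc CfsgLib.ThreeTransp.Factor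
open CfsgLib.M23 (Q E pj pj_mem link_swap)
open CfsgLib.U6 (IsPt IsNb IsMoving)
open CfsgLib.PSUAut (act Isot)
open CfsgLib.UnitarySpec (psuMk)

variable {G : Type*} [Group G] {D : Set G}
variable [Finite G] (S : Setup D)
include S

/-- The group of the common link of three members. -/
abbrev tripleSub (D : Set G) (a b c : G) : Subgroup G :=
  Subgroup.closure (link D a ∩ link D b ∩ link D c)

/-- The common link of three commuting members as the points of `PSU₆(2)`. -/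
theorem exists_triple_model {a b c : G} (ha : a ∈ D) (hb : b ∈ link D a) (hc : c ∈ link D a ∩ link D b) :
    ∃ (F : Type) (_ : Field F) (_ : Fintype F), Fintype.card F = 2 ^ 2 ∧
      ∃ ψ : ↥(tripleSub D a b c) →* Cfsg.PSU 6 F 2,
        (∀ (e : G) (he : e ∈ link D a ∩ link D b ∩ link D c),
          ∃ v, IsPt (ψ ⟨e, Subgroup.subset_closure he⟩) v) ∧
        (∀ (e f : G) (he : e ∈ link D a ∩ link D b ∩ link D c) (hf : f ∈ link D a ∩ link D b ∩ link D c),
          (ψ ⟨e, Subgroup.subset_closure he⟩ = ψ ⟨f, Subgroup.subset_closure hf⟩ → e = f) ∧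
            (Commute (ψ ⟨e, Subgroup.subset_closure he⟩) (ψ ⟨f, Subgroup.subset_closure hf⟩) ↔ Commute e f)) ∧
        (∀ y v, IsPt y v → ∃ (e : G) (he : e ∈ link D a ∩ link D b ∩ link D c),
          ψ ⟨e, Subgroup.subset_closure he⟩ = y) ∧
        (∀ x : ↥(tripleSub D a b c), (∀ w ∈ link D a ∩ link D b ∩ link D c, Commute (x : G) w) → ψ x = 1) ∧
        ∀ (e₀ e₁ e₂ e₃ e₄ : G), [e₀, e₁, e₂, e₃, e₄].Nodup →
          (∀ x ∈ [e₀, e₁, e₂, e₃, e₄], x ∈ link D a ∩ link D b ∩ link D c) →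
          (∀ x ∈ [e₀, e₁, e₂, e₃, e₄], ∀ y ∈ [e₀, e₁, e₂, e₃, e₄], Commute x y) →
          ∀ hm : e₀ * e₁ * e₂ * e₃ * e₄ ∈ tripleSub D a b c, ψ ⟨_, hm⟩ = 1 →
            ∃ s : G, (s = 1 ∨ s = a ∨ s = b ∨ s = b * a) ∧ e₀ * e₁ * e₂ * e₃ * e₄ = c * s := by
  have T1 := S.link_setup ha
  have hb1 : pj hb ∈ E D a := pj_mem hb
  have hc1 : pj hc.1 ∈ link (E D a) (pj hb) := (S.pj_link ha hb hc.1).2 hc.2
  have T2 := T1.link_setup hb1
  obtain ⟨F, iF, iF', hF, hM⟩ := T2.exists_models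
  have hc2 : pj hc1 ∈ E (E D a) (pj hb) := pj_mem hc1
  obtain ⟨M⟩ := hM (pj hc1) hc2
  -- the images of the members
  have h1 : ∀ {e : G} (he : e ∈ link D a ∩ link D b ∩ link D c),
      pj he.1.1 ∈ link (E D a) (pj hb) := fun he => (S.pj_link ha hb he.1.1).2 he.1.2
  have h2 : ∀ {e : G} (he : e ∈ link D a ∩ link D b ∩ link D c),
      pj (h1 he) ∈ link (E (E D a) (pj hb)) (pj hc1) := fun he =>
    (T1.pj_link hb1 hc1 (h1 he)).2 ((S.pj_link ha hc.1 he.1.1).2 he.2)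
  -- the map to the group of the link of `b`
  let θ₁ : ↥(tripleSub D a b c) →* Q D a := (QuotientGroup.mk' _).comp
    (Subgroup.inclusion (Subgroup.closure_mono (Set.inter_subset_left.trans Set.inter_subset_left)))
  have hθ₁ : ∀ x, θ₁ x ∈ linkSub (E D a) (pj hb) := by
    intro x
    have : (Subgroup.closure ((↑) ⁻¹' (link D a ∩ link D b ∩ link D c) : Set ↥(tripleSub D a b c))).map θ₁ ≤
        linkSub (E D a) (pj hb) := by
      rw [MonoidHom.map_closure, Subgroup.closure_le]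
      rintro _ ⟨e, he, rfl⟩
      exact Subgroup.subset_closure (h1 he)
    rw [Subgroup.closure_closure_coe_preimage] at this
    exact this ⟨x, Subgroup.mem_top x, rfl⟩
  let φ₁ : ↥(tripleSub D a b c) →* ↥(linkSub (E D a) (pj hb)) := θ₁.codRestrict _ hθ₁
  let θ₂ : ↥(tripleSub D a b c) →* Q (E D a) (pj hb) := (QuotientGroup.mk' _).comp φ₁
  have hθ₂ : ∀ x, θ₂ x ∈ linkSub (E (E D a) (pj hb)) (pj hc1) := by
    intro x
    have : (Subgroup.closure ((↑) ⁻¹' (link D a ∩ link D b ∩ link D c) : Set ↥(tripleSub D a b c))).map θ₂ ≤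
        linkSub (E (E D a) (pj hb)) (pj hc1) := by
      rw [MonoidHom.map_closure, Subgroup.closure_le]
      rintro _ ⟨e, he, rfl⟩
      exact Subgroup.subset_closure (h2 he)
    rw [Subgroup.closure_closure_coe_preimage] at this
    exact this ⟨x, Subgroup.mem_top x, rfl⟩
  let φ₂ : ↥(tripleSub D a b c) →* ↥(linkSub (E (E D a) (pj hb)) (pj hc1)) := θ₂.codRestrict _ hθ₂
  let ψ : ↥(tripleSub D a b c) →* Cfsg.PSU 6 F 2 := M.ψ.comp φ₂
  have hval : ∀ {e : G} (he : e ∈ link D a ∩ link D b ∩ link D c),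
      ψ ⟨e, Subgroup.subset_closure he⟩ = M.img (h2 he) := fun _ => rfl
  refine ⟨F, iF, iF', hF, ψ, fun e he => M.exists_pt_of_link T2 hF hc2 (h2 he), fun e f he hf => ⟨fun h => ?_, ?_⟩,
    fun y v hy => ?_, fun x hx => ?_, ?_⟩
  · rw [hval he, hval hf] at h
    exact S.pj_inj ha he.1.1 hf.1.1 (T1.pj_inj hb1 (h1 he) (h1 hf) (M.img_inj T2 hc2 (h2 he) (h2 hf) h))
  · rw [hval he, hval hf]
    constructor
    · intro h
      exact (S.pj_comm ha he.1.1 hf.1.1).1 ((T1.pj_comm hb1 (h1 he) (h1 hf)).1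
        (M.commute_of_img T2 hc2 (h2 he) (h2 hf) h))
    · intro h
      exact M.img_commute (h2 he) (h2 hf) ((T1.pj_comm hb1 (h1 he) (h1 hf)).2 ((S.pj_comm ha he.1.1 hf.1.1).2 h))
  · obtain ⟨q, hq, rfl⟩ := M.exists_link_of_pt T2 hF hc2 hy
    obtain ⟨f, lf, rfl⟩ := M23.Setup.pj_surj hq.1
    obtain ⟨e, le, rfl⟩ := Setup.pj_surj lf.1
    exact ⟨e, ⟨⟨le, (S.pj_link ha hb le).1 lf⟩, (S.pj_link ha hc.1 le).1 ((T1.pj_link hb1 hc1 lf).1 hq)⟩, rfl⟩
  · refine (M.ker _).2 (M22.mem_center_of_commute fun q hq => ?_)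
    obtain ⟨f, lf, rfl⟩ := M23.Setup.pj_surj hq.1
    obtain ⟨e, le, rfl⟩ := Setup.pj_surj lf.1
    have he : e ∈ link D a ∩ link D b ∩ link D c :=
      ⟨⟨le, (S.pj_link ha hb le).1 lf⟩, (S.pj_link ha hc.1 le).1 ((T1.pj_link hb1 hc1 lf).1 hq)⟩
    exact (show Commute x ⟨e, Subgroup.subset_closure he⟩ from Subtype.ext (hx e he)).map θ₂
  · intro e₀ e₁ e₂ e₃ e₄ hnd hmem hcomm hm hψ
    have m₀ := hmem e₀ (by simp)
    have m₁ := hmem e₁ (by simp)
    have m₂ := hmem e₂ (by simp)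
    have m₃ := hmem e₃ (by simp)
    have m₄ := hmem e₄ (by simp)
    set X : ↥(tripleSub D a b c) := ⟨_, hm⟩ with hX
    have hX2 : θ₂ X = pj (h1 m₀) * pj (h1 m₁) * pj (h1 m₂) * pj (h1 m₃) * pj (h1 m₄) := rfl
    rcases M22.central_cases T2 hF hM hc2 M (θ₂ X |> fun _ => hθ₂ X) hψ with h | h
    · exfalso
      have hl : ∀ y ∈ [pj (h1 m₀), pj (h1 m₁), pj (h1 m₂), pj (h1 m₃), pj (h1 m₄)],
          ∃ (x : G) (hx : x ∈ link D a ∩ link D b ∩ link D c), x ∈ [e₀, e₁, e₂, e₃, e₄] ∧ pj (h1 hx) = y := by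
        intro y hy
        simp only [List.mem_cons, List.not_mem_nil, or_false] at hy
        rcases hy with rfl | rfl | rfl | rfl | rfl
        exacts [⟨e₀, m₀, by simp, rfl⟩, ⟨e₁, m₁, by simp, rfl⟩, ⟨e₂, m₂, by simp, rfl⟩, ⟨e₃, m₃, by simp, rfl⟩,
          ⟨e₄, m₄, by simp, rfl⟩]
      refine M22.five_ne_one T2 hF hM (fun y hy => ?_) ?_ (fun y hy y' hy' => ?_) (hX2.symm.trans h)
      · obtain ⟨x, hx, -, rfl⟩ := hl y hy
        exact pj_mem _
      · have inj : ∀ {e f : G} (he : e ∈ link D a ∩ link D b ∩ link D c)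
            (hf : f ∈ link D a ∩ link D b ∩ link D c), e ≠ f → pj (h1 he) ≠ pj (h1 hf) :=
          fun he hf hne h => hne (S.pj_inj ha he.1.1 hf.1.1 (T1.pj_inj hb1 (h1 he) (h1 hf) h))
        simp only [List.nodup_cons, List.mem_cons, List.not_mem_nil, or_false, not_or, List.nodup_nil,
          not_false_eq_true, and_true] at hnd ⊢
        obtain ⟨⟨n01, n02, n03, n04⟩, ⟨n12, n13, n14⟩, ⟨n23, n24⟩, n34⟩ := hnd
        exact ⟨⟨inj m₀ m₁ n01, inj m₀ m₂ n02, inj m₀ m₃ n03, inj m₀ m₄ n04⟩,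
          ⟨inj m₁ m₂ n12, inj m₁ m₃ n13, inj m₁ m₄ n14⟩, ⟨inj m₂ m₃ n23, inj m₂ m₄ n24⟩, inj m₃ m₄ n34⟩
      · obtain ⟨x, hx, hx', rfl⟩ := hl y hy
        obtain ⟨x', hxx, hxx', rfl⟩ := hl y' hy'
        exact (T1.pj_comm hb1 _ _).2 ((S.pj_comm ha hx.1.1 hxx.1.1).2 (hcomm x hx' x' hxx'))
    · -- the product is `c` times an element of the group of `a` and `b`
      have k1 : (θ₁ X)⁻¹ * pj hc.1 = 1 ∨ (θ₁ X)⁻¹ * pj hc.1 = pj hb := by
        refine M23.pj_eq_one_cases T1 hb1 (mul_mem (inv_mem (hθ₁ X)) (Subgroup.subset_closure hc1)) ?_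
        show (θ₂ X)⁻¹ * pj hc1 = 1
        rw [h, inv_mul_cancel]
      have hXa : (X : G) ∈ linkSub D a :=
        Subgroup.closure_mono (Set.inter_subset_left.trans Set.inter_subset_left) X.2
      have hcb : Commute c b := hc.2.2.2.symm
      rcases k1 with k1 | k1
      · rcases pj_eq_one_cases S ha (mul_mem (inv_mem hXa) (Subgroup.subset_closure hc.1)) k1 with e | e
        · exact ⟨1, Or.inl rfl, by rw [mul_one]; exact inv_mul_eq_one.1 e⟩
        · refine ⟨a, Or.inr (Or.inl rfl), ?_⟩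
          rw [inv_mul_eq_iff_eq_mul] at e
          rw [e, mul_assoc (X : G), S.sqd ha, mul_one]
      · have k2 : ((⟨b⁻¹ * ((X : G)⁻¹ * c), mul_mem (inv_mem (Subgroup.subset_closure hb))
            (mul_mem (inv_mem hXa) (Subgroup.subset_closure hc.1))⟩ : ↥(linkSub D a)) : Q D a) = 1 := by
          show (pj hb)⁻¹ * ((θ₁ X)⁻¹ * pj hc.1) = 1
          rw [k1, inv_mul_cancel]
        rcases pj_eq_one_cases S ha _ k2 with e | e
        · refine ⟨b, Or.inr (Or.inr (Or.inl rfl)), ?_⟩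
          rw [inv_mul_eq_one, eq_inv_mul_iff_mul_eq] at e
          rw [← e, mul_assoc (X : G), S.sqd hb.1, mul_one]
        · refine ⟨b * a, Or.inr (Or.inr (Or.inr rfl)), ?_⟩
          rw [inv_mul_eq_iff_eq_mul, inv_mul_eq_iff_eq_mul] at e
          have hba : (b * a) * (b * a) = 1 := by
            rw [hb.2.2.mul_mul_mul_comm, S.sqd hb.1, S.sqd ha, one_mul]
          rw [e, mul_assoc (X : G), hba, mul_one]

omit [Finite G] S in
theorem conj_link_of_fix {a t e : G} (hD : IsTT D) (htt : t * t = 1) (he : e ∈ link D a) :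
    t * e * t ∈ link D (t * a * t) := by
  have := link_conj hD t he
  rwa [inv_eq_self htt] at this

/-- No involution moves a commuting pair and every member of its common link to a commuting one. -/
theorem false_of_moving {a b c d t : G} (ha : a ∈ D) (hb : b ∈ link D a) (hc : c ∈ link D a ∩ link D b)
    (hd : d ∈ link D a ∩ link D b ∩ link D c) (htt : t * t = 1) (hta : t * a * t = b) (htc : t * c * t = d)
    (hmove : ∀ e ∈ D, t * e * t ≠ e ∧ Commute e (t * e * t)) : False := by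
  classical
  obtain ⟨F, iF, iF', hF, ψ, hpt, hfacts, hsurj, hkill, hfive⟩ := exists_triple_model S ha hb hc
  have := U6.charTwo hF
  set W := link D a ∩ link D b ∩ link D c with hW
  set W₄ := W ∩ link D d with hW₄
  let im : ∀ (e : G), e ∈ W → Cfsg.PSU 6 F 2 := fun e he => ψ ⟨e, Subgroup.subset_closure he⟩
  obtain ⟨δ, hδ⟩ := hpt d hd
  have htb : t * b * t = a := by rw [← hta]; simp only [mul_assoc, cancel₂ htt, htt, mul_one]
  have htd : t * d * t = c := by rw [← htc]; simp only [mul_assoc, cancel₂ htt, htt, mul_one]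
  have ht4 : ∀ {e : G}, e ∈ W₄ → t * e * t ∈ W₄ := by
    rintro e ⟨⟨⟨l1, l2⟩, l3⟩, l4⟩
    exact ⟨⟨⟨htb ▸ conj_link_of_fix S.tt htt l2, hta ▸ conj_link_of_fix S.tt htt l1⟩,
      htd ▸ conj_link_of_fix S.tt htt l4⟩, htc ▸ conj_link_of_fix S.tt htt l3⟩
  have htt' : ∀ e : G, t * (t * e * t) * t = e := fun e => by simp only [mul_assoc, cancel₂ htt, htt, mul_one]
  have nb_of : ∀ {e : G} (he : e ∈ W₄) {u : Fin 6 → F}, IsPt (im e he.1) u → IsNb δ u := fun {e} he {u} hu =>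
    ⟨hu.1, (U6.IsPt.commute_iff hF hu hδ).1 ((hfacts e d he.1 hd).2.2 he.2.2.2.symm), fun h => by
      obtain ⟨r, hr⟩ := Submodule.mem_span_singleton.1 h
      exact he.2.2.1 ((hfacts e d he.1 hd).1 (U6.IsPt.eq_of_smul hF hδ hu hr.symm).symm)⟩
  have of_nb : ∀ {u : Fin 6 → F}, IsNb δ u → ∃ (e : G) (he : e ∈ W₄), IsPt (im e he.1) u := by
    intro u hu
    obtain ⟨y, hy⟩ := U6.exists_pt hF hu.1
    obtain ⟨e, he, rfl⟩ := hsurj y u hy
    refine ⟨e, ⟨he, he.1.1.1, fun h => hu.2.2 ?_, ((hfacts e d he hd).2.1 ((U6.IsPt.commute_iff hF hy hδ).2 hu.2.1)).symm⟩,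
      hy⟩
    subst h
    obtain ⟨r, -, hr⟩ := U6.IsPt.span_eq hF hδ hy
    exact Submodule.mem_span_singleton.2 ⟨r, hr.symm⟩
  have uniq : ∀ {e f : G} (he : e ∈ W₄) (hf : f ∈ W₄) {u : Fin 6 → F} {r : F}, IsPt (im e he.1) u →
      IsPt (im f hf.1) (r • u) → e = f := fun {e f} he hf {u r} h h' =>
    (hfacts e f he.1 hf.1).1 (U6.IsPt.eq_of_smul hF h h' rfl)
  -- the map on representatives
  let vec : Cfsg.PSU 6 F 2 → (Fin 6 → F) := fun y => if h : ∃ v, IsPt y v then h.choose else 0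
  have hvec : ∀ {e : G} (he : e ∈ W), IsPt (im e he) (vec (im e he)) := fun {e} he => by
    simp only [vec, dif_pos (hpt e he)]
    rw [dif_pos (show ∃ v, IsPt (im e he) v from hpt e he)]
    exact (hpt e he).choose_spec
  let τ : (Fin 6 → F) → (Fin 6 → F) := fun u =>
    if h : ∃ (e : G) (he : e ∈ W₄), IsPt (im e he.1) u then
      vec (im (t * h.choose * t) (ht4 h.choose_spec.choose).1) else u
  have hτ : ∀ {e : G} (he : e ∈ W₄) {u : Fin 6 → F}, IsPt (im e he.1) u →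
      τ u = vec (im (t * e * t) (ht4 he).1) := by
    intro e he u hu
    have h : ∃ (e : G) (he : e ∈ W₄), IsPt (im e he.1) u := ⟨e, he, hu⟩
    obtain ⟨hf, hf'⟩ := h.choose_spec
    have : h.choose = e := uniq hf he hf' (r := 1) (by rw [one_smul]; exact hu)
    simp only [τ, dif_pos h, this]
  have hτpt : ∀ {e : G} (he : e ∈ W₄) {u : Fin 6 → F}, IsPt (im e he.1) u →
      IsPt (im (t * e * t) (ht4 he).1) (τ u) := fun {e} he {u} hu => by
    rw [hτ he hu]; exact hvec (ht4 he).1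
  have hM : IsMoving δ τ := by
    refine ⟨fun u hu => ?_, fun u hu => ?_, fun r u hu hr => ?_, fun u hu => ?_, fun u hu => ?_,
      fun u v hu hv huv => ?_, fun u v hu hv huv => ?_, fun u v hu hv huv hvs z => ?_⟩
    · obtain ⟨e, he, he'⟩ := of_nb hu
      exact nb_of (ht4 he) (hτpt he he')
    · obtain ⟨e, he, he'⟩ := of_nb hu
      have h2 := hτpt (ht4 he) (hτpt he he')
      have : im (t * (t * e * t) * t) (ht4 (ht4 he)).1 = im e he.1 := congrArg ψ (Subtype.ext (htt' e))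
      rw [this] at h2
      obtain ⟨r, -, hr⟩ := U6.IsPt.span_eq hF he' h2
      exact ⟨r, hr⟩
    · obtain ⟨e, he, he'⟩ := of_nb hu
      rw [hτ he he', hτ he (U6.IsPt.smul hF he' hr)]
    · obtain ⟨e, he, he'⟩ := of_nb hu
      intro h
      obtain ⟨r, hr⟩ := Submodule.mem_span_singleton.1 h
      exact (hmove e he.1.1.1.1).1 (uniq he (ht4 he) he' (r := r) (hr.symm ▸ hτpt he he')).symm
    · obtain ⟨e, he, he'⟩ := of_nb hu
      exact (U6.IsPt.commute_iff hF he' (hτpt he he')).1 ((hfacts _ _ he.1 (ht4 he).1).2.2 (hmove e he.1.1.1.1).2)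
    · obtain ⟨e, he, he'⟩ := of_nb hu
      obtain ⟨f, hf, hf'⟩ := of_nb hv
      have hef : Commute e f := (hfacts e f he.1 hf.1).2.1 ((U6.IsPt.commute_iff hF he' hf').2 huv)
      refine (U6.IsPt.commute_iff hF (hτpt he he') (hτpt hf hf')).1 ((hfacts _ _ (ht4 he).1 (ht4 hf).1).2.2 ?_)
      have h := (Commute.conj_iff t).2 hef
      rwa [inv_eq_self htt] at h
    · obtain ⟨e, he, he'⟩ := of_nb hu
      obtain ⟨f, hf, hf'⟩ := of_nb hv
      have conj_pt : ∀ {e f : G} (he : e ∈ W₄) (hf : f ∈ W₄) {u v : Fin 6 → F}, IsPt (im e he.1) u →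
          IsPt (im f hf.1) v → ∃ h : f * e * f ∈ W₄, IsPt (im (f * e * f) h.1) (u + Cfsg.hermForm 6 F 2 u v • v) := by
        intro e f he hf u v hu hv
        have hl : ∀ {w : G}, f ∈ link D w → e ∈ link D w → f * e * f ∈ link D w := fun {w} h h' => by
          have := link_conj S.tt f h'
          rwa [← h.2.2.eq, mul_inv_cancel_right, S.tt.inv_eq h.1] at this
        have h4 : f * e * f ∈ W₄ := ⟨⟨⟨hl hf.1.1.1 he.1.1.1, hl hf.1.1.2 he.1.1.2⟩, hl hf.1.2 he.1.2⟩, hl hf.2 he.2⟩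
        refine ⟨h4, ?_⟩
        obtain ⟨hvI, T, hT, hTv⟩ := hv
        have hTT : (ψ ⟨f, Subgroup.subset_closure hf.1⟩)⁻¹ = ψ ⟨f, Subgroup.subset_closure hf.1⟩ := by
          rw [← map_inv]
          exact congrArg ψ (Subtype.ext (S.tt.inv_eq hf.1.1.1.1))
        have h := U6.IsPt.conj hF hu T
        rw [hT, show psuMk T * im e he.1 * (psuMk T)⁻¹ = im (f * e * f) h4.1 by
          rw [hTv]
          simp only [im]
          rw [hTT, ← map_mul, ← map_mul]
          rfl] at h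
        exact h
      obtain ⟨hg, hg'⟩ := conj_pt he hf he' hf'
      obtain ⟨hk, hk'⟩ := conj_pt (ht4 he) (ht4 hf) (hτpt he he') (hτpt hf hf')
      have hp := hτpt hg hg'
      have heq : im (t * (f * e * f) * t) (ht4 hg).1 = im (t * f * t * (t * e * t) * (t * f * t)) hk.1 :=
        congrArg ψ (Subtype.ext (by simp only [mul_assoc, cancel₂ htt]))
      rw [heq] at hp
      obtain ⟨r, -, hr⟩ := U6.IsPt.span_eq hF hk' hp
      exact ⟨r, hr⟩
    · obtain ⟨ω, hω0, hω1, hω, -⟩ := U6.exists_omega hF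
      have hw : ∀ r : F, IsNb δ (v + r • u) := by
        intro r
        refine ⟨⟨fun h => hvs ?_, ?_⟩, ?_, fun h => hvs ?_⟩
        · exact Submodule.mem_span_pair.2 ⟨0, -r, by rw [zero_smul, zero_add, neg_smul, ← eq_neg_of_add_eq_zero_left h]⟩
        · simp only [U6.add_left hF, U6.add_right hF, U6.smul_left hF, U6.smul_right hF, hv.1.2, hu.1.2, huv,
            (U6.comm_zero hF).1 huv, mul_zero, add_zero]
        · rw [U6.add_left hF, U6.smul_left hF, hv.2.1, hu.2.1, mul_zero, add_zero]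
        · obtain ⟨p, hp⟩ := Submodule.mem_span_singleton.1 h
          exact Submodule.mem_span_pair.2 ⟨p, -r, by rw [hp, neg_smul, add_neg_cancel_right]⟩
      obtain ⟨e₀, m₀, p₀⟩ := of_nb hu
      obtain ⟨e₁, m₁, p₁⟩ := of_nb (hw 0)
      obtain ⟨e₂, m₂, p₂⟩ := of_nb (hw 1)
      obtain ⟨e₃, m₃, p₃⟩ := of_nb (hw ω)
      obtain ⟨e₄, m₄, p₄⟩ := of_nb (hw (1 + ω))
      have horth : ∀ r s : F, Cfsg.hermForm 6 F 2 (v + r • u) (v + s • u) = 0 := fun r s => by
        simp only [U6.add_left hF, U6.add_right hF, U6.smul_left hF, U6.smul_right hF, hv.1.2, hu.1.2, huv,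
          (U6.comm_zero hF).1 huv, mul_zero, add_zero]
      have horth' : ∀ r : F, Cfsg.hermForm 6 F 2 (v + r • u) u = 0 := fun r => by
        simp only [U6.add_left hF, U6.smul_left hF, hu.1.2, (U6.comm_zero hF).1 huv, mul_zero, add_zero]
      have hne0 : ∀ {r : F} {e f : G} (he : e ∈ W₄) (hf : f ∈ W₄), IsPt (im e he.1) u →
          IsPt (im f hf.1) (v + r • u) → e ≠ f := by
        intro r e f he hf pe pf h
        subst h
        obtain ⟨s, -, hs⟩ := U6.IsPt.span_eq hF pe pf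
        exact hvs (Submodule.mem_span_pair.2 ⟨0, s - r, by rw [zero_smul, zero_add, sub_smul, ← hs, add_sub_cancel_right]⟩)
      have hne1 : ∀ {r s : F} {e f : G} (he : e ∈ W₄) (hf : f ∈ W₄), IsPt (im e he.1) (v + r • u) →
          IsPt (im f hf.1) (v + s • u) → r ≠ s → e ≠ f := by
        intro r s e f he hf pe pf hrs h
        subst h
        obtain ⟨k, -, hk⟩ := U6.IsPt.span_eq hF pe pf
        by_cases h1 : k = 1
        · subst h1
          rw [one_smul, add_right_inj] at hk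
          exact hrs (smul_left_injective F hu.1.1 hk).symm
        · refine hvs (Submodule.mem_span_pair.2 ⟨0, (k - 1)⁻¹ * (s - k * r), ?_⟩)
          rw [zero_smul, zero_add, mul_smul, inv_smul_eq_iff₀ (sub_ne_zero.2 h1)]
          linear_combination (norm := module) hk
      have h1ω : (1 : F) + ω ≠ 0 := fun h => hω1 (CharTwo.add_eq_zero.1 h).symm
      have hnd : [e₀, e₁, e₂, e₃, e₄].Nodup := by
        simp only [List.nodup_cons, List.mem_cons, List.not_mem_nil, or_false, not_or, List.nodup_nil,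
          not_false_eq_true, and_true]
        exact ⟨⟨hne0 m₀ m₁ p₀ p₁, hne0 m₀ m₂ p₀ p₂, hne0 m₀ m₃ p₀ p₃, hne0 m₀ m₄ p₀ p₄⟩,
          ⟨hne1 m₁ m₂ p₁ p₂ zero_ne_one, hne1 m₁ m₃ p₁ p₃ hω0.symm, hne1 m₁ m₄ p₁ p₄ h1ω.symm⟩,
          ⟨hne1 m₂ m₃ p₂ p₃ hω1.symm, hne1 m₂ m₄ p₂ p₄ fun h => hω0 (by simpa using h)⟩,
          hne1 m₃ m₄ p₃ p₄ fun h => one_ne_zero (α := F) (by simpa using h)⟩
      have hmem : ∀ x ∈ [e₀, e₁, e₂, e₃, e₄], x ∈ W₄ := by
        intro x hx
        simp only [List.mem_cons, List.not_mem_nil, or_false] at hx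
        rcases hx with rfl | rfl | rfl | rfl | rfl <;> assumption
      have hpts : ∀ x ∈ [e₀, e₁, e₂, e₃, e₄], ∃ (hx : x ∈ W₄) (w : Fin 6 → F), IsPt (im x hx.1) w ∧
          (w = u ∨ ∃ r : F, w = v + r • u) := by
        intro x hx
        simp only [List.mem_cons, List.not_mem_nil, or_false] at hx
        rcases hx with rfl | rfl | rfl | rfl | rfl
        exacts [⟨m₀, _, p₀, Or.inl rfl⟩, ⟨m₁, _, p₁, Or.inr ⟨_, rfl⟩⟩, ⟨m₂, _, p₂, Or.inr ⟨_, rfl⟩⟩,
          ⟨m₃, _, p₃, Or.inr ⟨_, rfl⟩⟩, ⟨m₄, _, p₄, Or.inr ⟨_, rfl⟩⟩]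
      have hcomm : ∀ x ∈ [e₀, e₁, e₂, e₃, e₄], ∀ y ∈ [e₀, e₁, e₂, e₃, e₄], Commute x y := by
        intro x hx y hy
        obtain ⟨hx, w, pw, hw'⟩ := hpts x hx
        obtain ⟨hy, w', pw', hw''⟩ := hpts y hy
        refine (hfacts x y hx.1 hy.1).2.1 ((U6.IsPt.commute_iff hF pw pw').2 ?_)
        rcases hw' with rfl | ⟨r, rfl⟩ <;> rcases hw'' with rfl | ⟨s, rfl⟩
        exacts [hu.1.2, (U6.comm_zero hF).1 (horth' s), horth' r, horth r s]
      have hm : e₀ * e₁ * e₂ * e₃ * e₄ ∈ tripleSub D a b c :=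
        mul_mem (mul_mem (mul_mem (mul_mem (Subgroup.subset_closure m₀.1) (Subgroup.subset_closure m₁.1))
          (Subgroup.subset_closure m₂.1)) (Subgroup.subset_closure m₃.1)) (Subgroup.subset_closure m₄.1)
      -- five points of a line have product one
      have hψ : ψ ⟨_, hm⟩ = 1 := by
        show ψ (⟨e₀, Subgroup.subset_closure m₀.1⟩ * ⟨e₁, Subgroup.subset_closure m₁.1⟩ *
          ⟨e₂, Subgroup.subset_closure m₂.1⟩ * ⟨e₃, Subgroup.subset_closure m₃.1⟩ * ⟨e₄, Subgroup.subset_closure m₄.1⟩) = 1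
        obtain ⟨-, T₀, a₀, q₀⟩ := p₀
        obtain ⟨-, T₁, a₁, q₁⟩ := p₁
        obtain ⟨-, T₂, a₂, q₂⟩ := p₂
        obtain ⟨-, T₃, a₃, q₃⟩ := p₃
        obtain ⟨-, T₄, a₄, q₄⟩ := p₄
        simp only [map_mul]
        show im e₀ m₀.1 * im e₁ m₁.1 * im e₂ m₂.1 * im e₃ m₃.1 * im e₄ m₄.1 = 1
        rw [← q₀, ← q₁, ← q₂, ← q₃, ← q₄, ← map_mul, ← map_mul, ← map_mul, ← map_mul, ← map_one psuMk]
        congr 1
        refine PSUAut.act_ext fun y => ?_
        rw [U6.act_mul5 hF a₀ a₁ a₂ a₃ a₄ (horth' _) (horth' _) (horth _ _) (horth' _) (horth _ _) (horth _ _)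
          (horth' _) (horth _ _) (horth _ _) (horth _ _), PSUAut.act_one, add_eq_left]
        simp only [U6.add_right hF, U6.smul_right hF, zero_smul, add_zero, one_smul, zero_pow two_ne_zero]
        rw [CharTwo.add_sq, one_pow]
        set Hu := Cfsg.hermForm 6 F 2 y u
        set Hv := Cfsg.hermForm 6 F 2 y v
        funext i
        simp only [Pi.add_apply, Pi.smul_apply, Pi.zero_apply, smul_eq_mul]
        linear_combination (2 * Hv + (1 + ω ^ 2) * Hu) * v i * CharTwo.two_eq_zero (R := F) +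
          (Hv * (1 + ω) + Hu * (1 + ω ^ 3)) * u i * CharTwo.two_eq_zero (R := F) + Hu * u i * hω
      obtain ⟨s, hs, hprod⟩ := hfive e₀ e₁ e₂ e₃ e₄ hnd (fun x hx => (hmem x hx).1) hcomm hm hψ
      -- the images multiply to `d`
      have hm' : t * e₀ * t * (t * e₁ * t) * (t * e₂ * t) * (t * e₃ * t) * (t * e₄ * t) ∈ tripleSub D a b c :=
        mul_mem (mul_mem (mul_mem (mul_mem (Subgroup.subset_closure (ht4 m₀).1) (Subgroup.subset_closure (ht4 m₁).1))
          (Subgroup.subset_closure (ht4 m₂).1)) (Subgroup.subset_closure (ht4 m₃).1))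
            (Subgroup.subset_closure (ht4 m₄).1)
      have himg : ψ (⟨_, hm'⟩ * ⟨d, Subgroup.subset_closure hd⟩) = 1 := by
        refine hkill _ fun w hw' => ?_
        show Commute (t * e₀ * t * (t * e₁ * t) * (t * e₂ * t) * (t * e₃ * t) * (t * e₄ * t) * d) w
        have e : t * e₀ * t * (t * e₁ * t) * (t * e₂ * t) * (t * e₃ * t) * (t * e₄ * t) = d * (t * s * t) := by
          calc t * e₀ * t * (t * e₁ * t) * (t * e₂ * t) * (t * e₃ * t) * (t * e₄ * t)
              = t * (e₀ * e₁ * e₂ * e₃ * e₄) * t := by simp only [mul_assoc, cancel₂ htt]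
            _ = t * (c * s) * t := by rw [hprod]
            _ = d * (t * s * t) := by rw [← htc]; simp only [mul_assoc, cancel₂ htt]
        have ca : ∀ {x : G}, Commute a x → Commute b x → Commute (t * s * t) x := by
          intro x xa xb
          rcases hs with rfl | rfl | rfl | rfl
          · rw [mul_one, htt]; exact Commute.one_left x
          · rw [hta]; exact xb
          · rw [htb]; exact xa
          · rw [show t * (b * a) * t = t * b * t * (t * a * t) by simp only [mul_assoc, cancel₂ htt], htb, hta]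
            exact xa.mul_left xb
        have hsd : Commute (t * s * t) d := ca hd.1.1.2.2 hd.1.2.2.2
        rw [e, mul_assoc, hsd.eq, cancel₂ (S.sqd hd.1.1.1)]
        exact ca hw'.1.1.2.2 hw'.1.2.2.2
      obtain ⟨hI₀, T₀, a₀, q₀⟩ := hτpt m₀ p₀
      obtain ⟨-, T₁, a₁, q₁⟩ := hτpt m₁ p₁
      obtain ⟨-, T₂, a₂, q₂⟩ := hτpt m₂ p₂
      obtain ⟨-, T₃, a₃, q₃⟩ := hτpt m₃ p₃
      obtain ⟨-, T₄, a₄, q₄⟩ := hτpt m₄ p₄
      obtain ⟨hδI, Tδ, aδ, qδ⟩ := hδ
      have hP : psuMk (T₀ * T₁ * T₂ * T₃ * T₄ * Tδ) = 1 := by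
        rw [← himg, map_mul, map_mul, map_mul, map_mul, map_mul, q₀, q₁, q₂, q₃, q₄, qδ]
        simp only [im, ← map_mul]
        rfl
      have horτ : ∀ {e f : G} (he : e ∈ W₄) (hf : f ∈ W₄) {x y : Fin 6 → F}, IsPt (im e he.1) x →
          IsPt (im f hf.1) y → Commute e f → Cfsg.hermForm 6 F 2 (τ x) (τ y) = 0 := by
        intro e f he hf x y hx hy hef
        refine (U6.IsPt.commute_iff hF (hτpt he hx) (hτpt hf hy)).1 ((hfacts _ _ (ht4 he).1 (ht4 hf).1).2.2 ?_)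
        have h := (Commute.conj_iff t).2 hef
        rwa [inv_eq_self htt] at h
      have o : ∀ {e f : G} (he : e ∈ W₄) (hf : f ∈ W₄) {x y : Fin 6 → F}, IsPt (im e he.1) x →
          IsPt (im f hf.1) y → e ∈ [e₀, e₁, e₂, e₃, e₄] → f ∈ [e₀, e₁, e₂, e₃, e₄] →
          Cfsg.hermForm 6 F 2 (τ x) (τ y) = 0 :=
        fun {e f} he hf {x y} hx hy h h' => horτ he hf hx hy (hcomm _ h _ h')
      have hact : ∀ y : Fin 6 → F, act (T₀ * T₁ * T₂ * T₃ * T₄ * Tδ) y = y + (Cfsg.hermForm 6 F 2 y δ • δ +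
          (Cfsg.hermForm 6 F 2 y (τ u) • τ u + Cfsg.hermForm 6 F 2 y (τ (v + (0 : F) • u)) • τ (v + (0 : F) • u) +
            Cfsg.hermForm 6 F 2 y (τ (v + (1 : F) • u)) • τ (v + (1 : F) • u) +
            Cfsg.hermForm 6 F 2 y (τ (v + ω • u)) • τ (v + ω • u) +
            Cfsg.hermForm 6 F 2 y (τ (v + (1 + ω) • u)) • τ (v + (1 + ω) • u))) := by
        intro y
        rw [PSUAut.act_mul, aδ, U6.act_mul5 hF a₀ a₁ a₂ a₃ a₄
          (o m₁ m₀ p₁ p₀ (by simp) (by simp)) (o m₂ m₀ p₂ p₀ (by simp) (by simp))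
          (o m₂ m₁ p₂ p₁ (by simp) (by simp)) (o m₃ m₀ p₃ p₀ (by simp) (by simp))
          (o m₃ m₁ p₃ p₁ (by simp) (by simp)) (o m₃ m₂ p₃ p₂ (by simp) (by simp))
          (o m₄ m₀ p₄ p₀ (by simp) (by simp)) (o m₄ m₁ p₄ p₁ (by simp) (by simp))
          (o m₄ m₂ p₄ p₂ (by simp) (by simp)) (o m₄ m₃ p₄ p₃ (by simp) (by simp))]
        simp only [U6.add_left hF, U6.smul_left hF, (U6.comm_zero hF).1 (nb_of (ht4 m₀) (hτpt m₀ p₀)).2.1,
          (U6.comm_zero hF).1 (nb_of (ht4 m₁) (hτpt m₁ p₁)).2.1, (U6.comm_zero hF).1 (nb_of (ht4 m₂) (hτpt m₂ p₂)).2.1,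
          (U6.comm_zero hF).1 (nb_of (ht4 m₃) (hτpt m₃ p₃)).2.1, (U6.comm_zero hF).1 (nb_of (ht4 m₄) (hτpt m₄ p₄)).2.1,
          mul_zero, add_zero]
        abel
      have hfix : act (T₀ * T₁ * T₂ * T₃ * T₄ * Tδ) δ = δ := by
        have z₁ : Cfsg.hermForm 6 F 2 δ (τ (v + (0 : F) • u)) = 0 :=
          (U6.comm_zero hF).1 (nb_of (ht4 m₁) (hτpt m₁ p₁)).2.1
        rw [hact, hδI.2, z₁]
        simp only [(U6.comm_zero hF).1 (nb_of (ht4 m₀) (hτpt m₀ p₀)).2.1,
          (U6.comm_zero hF).1 (nb_of (ht4 m₁) (hτpt m₁ p₁)).2.1, (U6.comm_zero hF).1 (nb_of (ht4 m₂) (hτpt m₂ p₂)).2.1,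
          (U6.comm_zero hF).1 (nb_of (ht4 m₃) (hτpt m₃ p₃)).2.1, (U6.comm_zero hF).1 (nb_of (ht4 m₄) (hτpt m₄ p₄)).2.1,
          zero_smul, add_zero]
      have h0 := U6.act_eq_self hF hP hδI.1 hfix z
      rw [hact, add_eq_left] at h0
      rw [eq_comm, ← sub_eq_zero, ← h0]
      funext i
      simp only [Pi.sub_apply, Pi.add_apply, Finset.sum_apply]
      rw [U6.four_sum hF one_ne_zero hω0 hω1.symm]
      set A := (Cfsg.hermForm 6 F 2 z δ • δ) i
      linear_combination -(Cfsg.hermForm 6 F 2 z (τ u) • τ u) i * CharTwo.two_eq_zero (R := F)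
        - ((Cfsg.hermForm 6 F 2 z (τ (v + (0 : F) • u)) • τ (v + (0 : F) • u)) i +
          (Cfsg.hermForm 6 F 2 z (τ (v + (1 : F) • u)) • τ (v + (1 : F) • u)) i +
          (Cfsg.hermForm 6 F 2 z (τ (v + ω • u)) • τ (v + ω • u)) i +
          (Cfsg.hermForm 6 F 2 z (τ (v + (1 + ω) • u)) • τ (v + (1 + ω) • u)) i) * CharTwo.two_eq_zero (R := F)
  obtain ⟨e, he⟩ : W₄.Nonempty :=
    (Set.ncard_pos (Set.toFinite _)).1 (by rw [hW₄, hW, link_four_ncard S ha hb hc hd]; norm_num)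
  obtain ⟨u, hu⟩ := hpt e he.1
  exact U6.IsMoving.false_of_nb hF hδ.1 hM (nb_of he hu)

/-- Every involution commutes with a member. -/
theorem exists_fixed {t : G} (ht : orderOf t = 2) : ∃ a ∈ D, Commute t a := by
  have htt : t * t = 1 := by rw [← pow_two, ← ht, pow_orderOf_eq_one]
  by_contra hcon
  push Not at hcon
  have hne : ∀ e ∈ D, t * e * t ≠ e := fun e he h => hcon e he (by
    calc t * e = t * e * (t * t) := by rw [htt, mul_one]
      _ = e * t := by rw [← mul_assoc (t * e), h])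
  have hmove : ∀ e ∈ D, t * e * t ≠ e ∧ Commute e (t * e * t) := by
    intro e he
    refine ⟨hne e he, ?_⟩
    by_contra hnc
    have hfD : t * e * t ∈ D := by
      have := S.tt.conj t e he
      rwa [inv_eq_self htt] at this
    refine hne _ (S.tt.cj_mem he hfD) ?_
    calc t * (e * (t * e * t) * e) * t = t * e * t * e * (t * e * t) := by
          simp only [mul_assoc, cancel₂ htt]
      _ = e * (t * e * t) * e := (S.tt.braid he hfD hnc).symm
  obtain ⟨a, ha, -⟩ := S.exists_noncommuting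
  have conjD : ∀ {e : G}, e ∈ D → t * e * t ∈ D := fun {e} he => by
    have := S.tt.conj t e he
    rwa [inv_eq_self htt] at this
  have hb : t * a * t ∈ link D a := ⟨conjD ha, (hmove a ha).1, (hmove a ha).2⟩
  obtain ⟨c, hc⟩ : (link D a ∩ link D (t * a * t)).Nonempty :=
    (Set.ncard_pos (Set.toFinite _)).1 (by rw [link_two_ncard S ha hb]; norm_num)
  have hd : t * c * t ∈ link D a ∩ link D (t * a * t) ∩ link D c := by
    refine ⟨⟨?_, conj_link_of_fix S.tt htt hc.1⟩, conjD hc.1.1, (hmove c hc.1.1).1, (hmove c hc.1.1).2⟩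
    have := conj_link_of_fix S.tt htt hc.2
    rwa [show t * (t * a * t) * t = a by simp only [mul_assoc, cancel₂ htt, htt, mul_one]] at this
  exact false_of_moving S ha hb hc hd htt rfl rfl hmove

end CfsgLib.M24
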