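import Cfsg.Agent.Lib.ThreeTransp.M24Centralizer
import Cfsg.Agent.Lib.ThreeTransp.M24Fixed

/-!
# Groups of type `M(24)`: involutions

Every involution is a product of at most four commuting members, and the number of factors is determined.
-/

set_option autoImplicit false

namespace CfsgLib.M24

open CfsgLib.ThreeTransp CfsgLib.SporMisc CfsgLib.ThreeTransp.Factor
open CfsgLib.M23 (Q E pj pj_mem link_swap mem_center_of_commute)
open CfsgLib.M22 (Tri)

variable {G : Type*} [Group G] {D : Set G}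

/-- Four distinct pairwise commuting members. -/
structure Quad (D : Set G) (a b c d : G) : Prop where
  tri : Tri D a b c
  hd : d ∈ link D a ∩ link D b ∩ link D c

namespace Quad

variable {a b c d : G}

theorem rot (U : Quad D a b c d) : Quad D b c d a :=
  ⟨⟨U.tri.hb, U.tri.hc, U.hd.1.1.1, U.tri.bc, U.hd.1.2.2.1.symm, U.hd.2.2.1.symm, U.tri.cbc, U.hd.1.2.2.2, U.hd.2.2.2⟩,
    ⟨⟨U.tri.ha, U.tri.ab, U.tri.cab.symm⟩, U.tri.ha, U.tri.ac, U.tri.cac.symm⟩,
    U.tri.ha, U.hd.1.1.2.1.symm, U.hd.1.1.2.2.symm⟩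

theorem prod_rot (U : Quad D a b c d) : b * c * d * a = a * b * c * d := by
  rw [← ((U.tri.cab.mul_right U.tri.cac).mul_right U.hd.1.1.2.2).eq]
  simp only [mul_assoc]

theorem tri' (U : Quad D a b c d) : Tri D b c d := U.rot.tri

end Quad

variable [Finite G] (S : Setup D)
include S

omit [Finite G] in
theorem tri_sq {a b c : G} (T : Tri D a b c) : (a * b * c) * (a * b * c) = 1 := by
  have h : Commute (a * b) c := T.cac.mul_left T.cbc
  calc (a * b * c) * (a * b * c) = (a * b) * (a * b) * (c * c) := h.symm.mul_mul_mul_comm _ _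
    _ = (a * a) * (b * b) * (c * c) := by rw [T.cab.symm.mul_mul_mul_comm]
    _ = 1 := by rw [S.sqd T.ha, S.sqd T.hb, S.sqd T.hc, one_mul, one_mul]

omit [Finite G] in
theorem commute_both {a b x : G} (ha : a ∈ D) (hb : b ∈ D) (hx : x ∈ D) (hab : Commute a b) (hne : a ≠ b)
    (h : Commute x (a * b)) : Commute x a ∧ Commute x b := by
  have haa := S.sqd ha
  have hbb := S.sqd hb
  have hb' : b = a * (a * b) := (cancel₂ haa b).symm
  have ha' : a = a * b * b := by rw [mul_assoc, hbb, mul_one]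
  by_cases hxa : Commute x a
  · exact ⟨hxa, hb' ▸ hxa.mul_right h⟩
  by_cases hxb : Commute x b
  · exact ⟨ha' ▸ h.mul_right hxb, hxb⟩
  exfalso
  exact hne (eq_of_commute_mul S.tt hx ha hb hxa hxb h)

/-- A product of two commuting members is neither trivial nor a member. -/
theorem pair_notMem {a b : G} (ha : a ∈ D) (hb : b ∈ link D a) : a * b ≠ 1 ∧ a * b ∉ D := by
  refine ⟨fun h => hb.2.1 ?_, fun hc => ?_⟩
  · rw [mul_eq_one_iff_inv_eq, S.tt.inv_eq ha] at h
    exact h.symm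
  have hca : a * b ≠ a := fun h => S.tt.ne_one b hb.1 (mul_eq_left.1 h)
  have lc : a * b ∈ link D a := ⟨hc, hca, (Commute.refl a).mul_right hb.2.2⟩
  refine S.tt.ne_one a ha (mul_eq_right.1 (S.pj_inj ha lc hb ?_))
  refine QuotientGroup.eq.2 (mem_center_of_commute fun y hy => ?_)
  show Commute ((a * b)⁻¹ * b) y
  rw [show (a * b)⁻¹ * b = a by rw [S.tt.inv_eq hc, mul_assoc, S.sqd hb.1, mul_one]]
  exact hy.2.2

/-- A product of a triple is neither trivial nor a member. -/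
theorem tri_notMem {a b c : G} (T : Tri D a b c) : a * b * c ≠ 1 ∧ a * b * c ∉ D := by
  refine ⟨fun h => (pair_notMem S T.ha T.mem_link_b).2 ?_, fun hx => ?_⟩
  · rw [mul_eq_one_iff_eq_inv, S.tt.inv_eq T.hc] at h
    exact h ▸ T.hc
  set x := a * b * c with hxdef
  have haux : ∀ {a b c : G}, Tri D a b c → a * b * c = x → a ∈ link D x := by
    intro a b c T he
    refine ⟨T.ha, fun e => T.bc ?_, ?_⟩
    · rw [← e, mul_assoc] at he
      have := mul_eq_left.1 he
      rw [mul_eq_one_iff_eq_inv, S.tt.inv_eq T.hc] at this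
      exact this
    · rw [← he]
      exact ((Commute.refl a).mul_right T.cab).mul_right T.cac |>.symm
  have la := haux T rfl
  have lb := haux T.rot T.prod_rot
  have lc := haux T.rot.rot (T.rot.prod_rot.trans T.prod_rot)
  have T' := S.link_setup hx
  refine (M23.tri_notMem T' (a := pj la) (b := pj lb) (c := pj lc)
    ⟨pj_mem la, pj_mem lb, pj_mem lc, fun e => T.ab (S.pj_inj hx la lb e), fun e => T.ac (S.pj_inj hx la lc e),
      fun e => T.bc (S.pj_inj hx lb lc e), (S.pj_comm hx la lb).2 T.cab, (S.pj_comm hx la lc).2 T.cac,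
      (S.pj_comm hx lb lc).2 T.cbc⟩).1 ?_
  show ((⟨a * b * c, mul_mem (mul_mem (Subgroup.subset_closure la) (Subgroup.subset_closure lb))
    (Subgroup.subset_closure lc)⟩ : ↥(linkSub D x)) : Q D x) = 1
  exact (QuotientGroup.eq_one_iff _).2 (mem_center_of_commute fun y hy => hy.2.2)

/-- A product of two commuting members is not the product of a triple. -/
theorem pair_ne_tri {a b c d e : G} (ha : a ∈ D) (hb : b ∈ link D a) (T : Tri D c d e) :
    a * b ≠ c * d * e := by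
  intro h
  have haux : ∀ {c d e : G}, Tri D c d e → a * b = c * d * e → Commute a c ∧ a ≠ c ∧ Commute b c := by
    intro c d e T h
    have hc : Commute c (a * b) := h ▸ ((Commute.refl c).mul_right T.cab).mul_right T.cac
    obtain ⟨h1, h2⟩ := commute_both S ha hb.1 T.ha hb.2.2 hb.2.1.symm hc
    refine ⟨h1.symm, fun e' => ?_, h2.symm⟩
    subst e'
    rw [mul_assoc] at h
    exact (pair_notMem S T.hb (show e ∈ link D d from ⟨T.hc, T.bc.symm, T.cbc⟩)).2 (mul_left_cancel h ▸ hb.1)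
  obtain ⟨ac, nac, -⟩ := haux T h
  obtain ⟨ad, nad, -⟩ := haux T.rot (h.trans T.prod_rot.symm)
  obtain ⟨ae, nae, -⟩ := haux T.rot.rot (h.trans (T.rot.prod_rot.trans T.prod_rot).symm)
  have lc : c ∈ link D a := ⟨T.ha, nac.symm, ac⟩
  have ld : d ∈ link D a := ⟨T.hb, nad.symm, ad⟩
  have le : e ∈ link D a := ⟨T.hc, nae.symm, ae⟩
  have T' := S.link_setup ha
  refine (M23.tri_notMem T' (a := pj lc) (b := pj ld) (c := pj le)
    ⟨pj_mem lc, pj_mem ld, pj_mem le, fun e' => T.ab (S.pj_inj ha lc ld e'),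
      fun e' => T.ac (S.pj_inj ha lc le e'), fun e' => T.bc (S.pj_inj ha ld le e'),
      (S.pj_comm ha lc ld).2 T.cab, (S.pj_comm ha lc le).2 T.cac, (S.pj_comm ha ld le).2 T.cbc⟩).2 ?_
  have hprod : pj lc * pj ld * pj le = pj hb := by
    refine QuotientGroup.eq.2 (mem_center_of_commute fun y hy => ?_)
    show Commute ((c * d * e)⁻¹ * b) y
    rw [← h, show (a * b)⁻¹ * b = b⁻¹ * (a⁻¹ * b) by group, S.tt.inv_eq ha, hb.2.2.eq,
      show b⁻¹ * (b * a) = a by group]
    exact hy.2.2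
  rw [hprod]
  exact pj_mem hb

/-- Products of commuting pairs are conjugate. -/
theorem pair_conj {a b a' b' : G} (ha : a ∈ D) (hb : b ∈ link D a) (ha' : a' ∈ D) (hb' : b' ∈ link D a') :
    IsConj (a * b) (a' * b') := by
  obtain ⟨g, hg⟩ := S.cls ha ha'
  obtain ⟨h, hh, hhb⟩ := S.hyp.exists_conj_link ha' (hg ▸ link_conj S.tt g hb) hb'
  refine isConj_iff.2 ⟨h * g, ?_⟩
  calc h * g * (a * b) * (h * g)⁻¹ = h * (g * a * g⁻¹) * h⁻¹ * (h * (g * b * g⁻¹) * h⁻¹) := by group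
    _ = a' * b' := by rw [hg, hhb, (linkSub_commute hh).eq, mul_inv_cancel_right]

omit [Finite G] in
theorem quad_sq {a b c d : G} (U : Quad D a b c d) : (a * b * c * d) * (a * b * c * d) = 1 := by
  have h : Commute (a * b * c) d := ((U.hd.1.1.2.2).mul_left U.hd.1.2.2.2).mul_left U.hd.2.2.2
  rw [h.symm.mul_mul_mul_comm, tri_sq S U.tri, S.sqd U.hd.1.1.1, one_mul]

/-- Four members of a link, transported to its quotient, multiply like a triple. -/
theorem quad_to_tri {x a b c d : G} (hx : x ∈ D) (U : Quad D a b c d) (la : a ∈ link D x) (lb : b ∈ link D x)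
    (lc : c ∈ link D x) (ld : d ∈ link D x) :
    ∃ p q r, Tri (E D x) p q r ∧ p * q * r = pj la * pj lb * pj lc * pj ld :=
  M23.four_to_three (S.link_setup hx) (pj_mem la)
    ((S.pj_link hx la lb).2 U.tri.mem_link_b)
    ⟨(S.pj_link hx la lc).2 U.tri.mem_link_c, (S.pj_link hx lb lc).2 U.tri'.mem_link_b⟩
    ⟨⟨(S.pj_link hx la ld).2 U.hd.1.1, (S.pj_link hx lb ld).2 U.hd.1.2⟩, (S.pj_link hx lc ld).2 U.hd.2⟩

/-- A product of four commuting members is neither trivial nor a member. -/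
theorem quad_notMem {a b c d : G} (U : Quad D a b c d) : a * b * c * d ≠ 1 ∧ a * b * c * d ∉ D := by
  refine ⟨fun h => (tri_notMem S U.tri).2 ?_, fun hx => ?_⟩
  · rw [mul_eq_one_iff_eq_inv, S.tt.inv_eq U.hd.1.1.1] at h
    exact h ▸ U.hd.1.1.1
  set x := a * b * c * d with hxdef
  have haux : ∀ {a b c d : G}, Quad D a b c d → a * b * c * d = x → a ∈ link D x := by
    intro a b c d U he
    refine ⟨U.tri.ha, fun e => (tri_notMem S U.tri').1 ?_, ?_⟩
    · rw [← e, mul_assoc a, mul_assoc a, mul_eq_left] at he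
      exact he
    · rw [← he]
      exact ((((Commute.refl a).mul_right U.tri.cab).mul_right U.tri.cac).mul_right U.hd.1.1.2.2).symm
  have la := haux U rfl
  have lb := haux U.rot U.prod_rot
  have lc := haux U.rot.rot (U.rot.prod_rot.trans U.prod_rot)
  have ld := haux U.rot.rot.rot ((U.rot.rot.prod_rot.trans U.rot.prod_rot).trans U.prod_rot)
  obtain ⟨p, q, r, V, hV⟩ := quad_to_tri S hx U la lb lc ld
  refine (M23.tri_notMem (S.link_setup hx) V).1 (hV.trans ?_)
  show ((⟨a * b * c * d, mul_mem (mul_mem (mul_mem (Subgroup.subset_closure la) (Subgroup.subset_closure lb))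
    (Subgroup.subset_closure lc)) (Subgroup.subset_closure ld)⟩ : ↥(linkSub D x)) : Q D x) = 1
  exact (QuotientGroup.eq_one_iff _).2 (mem_center_of_commute fun y hy => hy.2.2)

/-- A member commuting with the product of three commuting members commutes with each of them. -/
theorem commute_three {a b c y : G} (T : Tri D a b c) (hy : y ∈ D) (h : Commute y (a * b * c)) :
    Commute y a ∧ Commute y b ∧ Commute y c := by
  have key : ∀ {a b c : G}, Tri D a b c → Commute y (a * b * c) → Commute y a →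
      Commute y a ∧ Commute y b ∧ Commute y c := by
    intro a b c T h ha
    have h' : Commute y (b * c) := by
      have := ha.mul_right h
      rwa [mul_assoc a, ← mul_assoc, S.sqd T.ha, one_mul] at this
    exact ⟨ha, commute_both S T.hb T.hc hy T.cbc T.bc h'⟩
  by_cases ha : Commute y a
  · exact key T h ha
  by_cases hb : Commute y b
  · obtain ⟨h1, h2, h3⟩ := key T.rot (T.prod_rot ▸ h) hb
    exact ⟨h3, h1, h2⟩
  by_cases hc : Commute y c
  · obtain ⟨h1, h2, h3⟩ := key T.rot.rot (by rw [T.rot.prod_rot, T.prod_rot]; exact h) hc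
    exact ⟨h2, h3, h1⟩
  exfalso
  -- two conjugates of `y` would agree, one commuting with `y` and one not
  have h1 := commute_pair_conj S.tt hy T.hb T.hc hb hc T.cbc
  have e : b * c * y * (b * c)⁻¹ = a * y * a := by
    have h2 : a * ((b * c) * y * (b * c)⁻¹) * a = y := by
      calc a * ((b * c) * y * (b * c)⁻¹) * a = a * b * c * y * (a⁻¹ * (b * c))⁻¹ := by group
        _ = a * b * c * y * (a * b * c)⁻¹ := by rw [S.tt.inv_eq T.ha, ← mul_assoc a b c]
        _ = y := by rw [h.symm.eq, mul_inv_cancel_right]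
    calc b * c * y * (b * c)⁻¹ = a * (a * ((b * c) * y * (b * c)⁻¹) * a) * a := by
          simp only [mul_assoc, cancel₂ (S.sqd T.ha), S.sqd T.ha, mul_one]
      _ = a * y * a := by rw [h2]
  rw [e] at h1
  exact S.tt.not_commute_cj_right T.ha hy (fun hh => ha hh.symm) h1

/-- A product of two commuting members is not the product of four. -/
theorem pair_ne_quad {a b c d e f : G} (ha : a ∈ D) (hb : b ∈ link D a) (U : Quad D c d e f) :
    a * b ≠ c * d * e * f := by
  intro h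
  have haux : ∀ {c d e f : G}, Quad D c d e f → a * b = c * d * e * f → c ∈ link D a := by
    intro c d e f U h
    have hc : Commute c (a * b) :=
      h ▸ (((Commute.refl c).mul_right U.tri.cab).mul_right U.tri.cac).mul_right U.hd.1.1.2.2
    obtain ⟨h1, -⟩ := commute_both S ha hb.1 U.tri.ha hb.2.2 hb.2.1.symm hc
    refine ⟨U.tri.ha, fun e' => ?_, h1.symm⟩
    subst e'
    rw [mul_assoc c, mul_assoc c] at h
    exact (tri_notMem S U.tri').2 (mul_left_cancel h ▸ hb.1)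
  have lc := haux U h
  have ld := haux U.rot (h.trans U.prod_rot.symm)
  have le := haux U.rot.rot (h.trans (U.rot.prod_rot.trans U.prod_rot).symm)
  have lf := haux U.rot.rot.rot (h.trans ((U.rot.rot.prod_rot.trans U.rot.prod_rot).trans U.prod_rot).symm)
  obtain ⟨p, q, r, V, hV⟩ := quad_to_tri S ha U lc ld le lf
  refine (M23.tri_notMem (S.link_setup ha) V).2 ?_
  have hprod : pj lc * pj ld * pj le * pj lf = pj hb := by
    refine QuotientGroup.eq.2 (mem_center_of_commute fun y hy => ?_)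
    show Commute ((c * d * e * f)⁻¹ * b) y
    rw [← h, show (a * b)⁻¹ * b = b⁻¹ * (a⁻¹ * b) by group, S.tt.inv_eq ha, hb.2.2.eq,
      show b⁻¹ * (b * a) = a by group]
    exact hy.2.2
  rw [hV, hprod]
  exact pj_mem hb

/-- A product of three commuting members is not the product of four. -/
theorem tri_ne_quad {a b c d e f g : G} (T : Tri D a b c) (U : Quad D d e f g) :
    a * b * c ≠ d * e * f * g := by
  intro h
  have ha := T.ha
  have haux : ∀ {d e f g : G}, Quad D d e f g → a * b * c = d * e * f * g → d ∈ link D a := by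
    intro d e f g U h
    obtain ⟨h1, -⟩ := commute_three S T U.tri.ha
      (h ▸ (((Commute.refl d).mul_right U.tri.cab).mul_right U.tri.cac).mul_right U.hd.1.1.2.2)
    refine ⟨U.tri.ha, fun e' => ?_, h1.symm⟩
    subst e'
    rw [mul_assoc d b, mul_assoc d, mul_assoc d] at h
    exact pair_ne_tri S T.hb (show c ∈ link D b from ⟨T.hc, T.bc.symm, T.cbc⟩) U.tri' (mul_left_cancel h)
  have ld := haux U h
  have le := haux U.rot (h.trans U.prod_rot.symm)
  have lf := haux U.rot.rot (h.trans (U.rot.prod_rot.trans U.prod_rot).symm)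
  have lg := haux U.rot.rot.rot (h.trans ((U.rot.rot.prod_rot.trans U.rot.prod_rot).trans U.prod_rot).symm)
  obtain ⟨p, q, r, V, hV⟩ := quad_to_tri S ha U ld le lf lg
  refine M23.pair_ne_tri (S.link_setup ha) (pj_mem T.mem_link_b)
    ((S.pj_link ha T.mem_link_b T.mem_link_c).2 ⟨T.hc, T.bc.symm, T.cbc⟩) V ?_
  rw [hV]
  refine (QuotientGroup.eq.2 (mem_center_of_commute fun y hy => ?_)).symm
  show Commute ((d * e * f * g)⁻¹ * (b * c)) y
  rw [← h, show (a * b * c)⁻¹ * (b * c) = (b * c)⁻¹ * (a⁻¹ * (b * c)) by group, S.tt.inv_eq ha,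
    (T.cab.mul_right T.cac).eq, inv_mul_cancel_left]
  exact hy.2.2

/-- The common neighbours of a commuting pair are conjugate under the group they generate. -/
theorem trans_common {a b c c' : G} (ha : a ∈ D) (hb : b ∈ link D a) (hc : c ∈ link D a ∩ link D b)
    (hc' : c' ∈ link D a ∩ link D b) :
    ∃ g ∈ Subgroup.closure (link D a ∩ link D b), g * c * g⁻¹ = c' := by
  obtain ⟨q, hq, hqc⟩ := (S.link_setup ha).hyp.exists_conj_link (pj_mem hb)
    ((S.pj_link ha hb hc.1).2 hc.2) ((S.pj_link ha hb hc'.1).2 hc'.2)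
  set π := QuotientGroup.mk' (Subgroup.center ↥(linkSub D a)) with hπ
  have hle : Subgroup.closure (link (E D a) (pj hb)) ≤
      ((Subgroup.closure (link D a ∩ link D b)).subgroupOf (linkSub D a)).map π := by
    rw [Subgroup.closure_le]
    intro x hx
    obtain ⟨f, lf, rfl⟩ := Setup.pj_surj hx.1
    exact ⟨⟨f, Subgroup.subset_closure lf⟩,
      Subgroup.subset_closure ⟨lf, (S.pj_link ha hb lf).1 hx⟩, rfl⟩
  obtain ⟨m, hm, rfl⟩ := Subgroup.mem_map.1 (hle hq)
  refine ⟨m, hm, S.pj_inj ha (S.link_conj_fix (linkSub_commute m.2) hc.1) hc'.1 ?_⟩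
  rw [← hqc]
  rfl

/-- Ordered triples are conjugate. -/
theorem tri_conj {a b c a' b' c' : G} (T : Tri D a b c) (T' : Tri D a' b' c') :
    ∃ g : G, g * a * g⁻¹ = a' ∧ g * b * g⁻¹ = b' ∧ g * c * g⁻¹ = c' := by
  obtain ⟨g₁, hg₁⟩ := S.cls T.ha T'.ha
  have lb : g₁ * b * g₁⁻¹ ∈ link D a' := hg₁ ▸ link_conj S.tt g₁ T.mem_link_b
  obtain ⟨g₂, hg₂, hg₂b⟩ := S.hyp.exists_conj_link T'.ha lb T'.mem_link_b
  have e1 : g₂ * g₁ * a * (g₂ * g₁)⁻¹ = a' := by
    rw [show g₂ * g₁ * a * (g₂ * g₁)⁻¹ = g₂ * (g₁ * a * g₁⁻¹) * g₂⁻¹ by group, hg₁,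
      (linkSub_commute hg₂).eq, mul_inv_cancel_right]
  have e2 : g₂ * g₁ * b * (g₂ * g₁)⁻¹ = b' := by rw [← hg₂b]; group
  have lc : g₂ * g₁ * c * (g₂ * g₁)⁻¹ ∈ link D a' ∩ link D b' :=
    ⟨e1 ▸ link_conj S.tt (g₂ * g₁) T.mem_link_c,
      e2 ▸ link_conj S.tt (g₂ * g₁) (show c ∈ link D b from ⟨T.hc, T.bc.symm, T.cbc⟩)⟩
  obtain ⟨g₃, hg₃m, hg₃⟩ := trans_common S T'.ha T'.mem_link_b lc
    ⟨T'.mem_link_c, T'.hc, T'.bc.symm, T'.cbc⟩
  have ga : Commute g₃ a' := linkSub_commute (Subgroup.closure_mono Set.inter_subset_left hg₃m)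
  have gb : Commute g₃ b' := linkSub_commute (Subgroup.closure_mono Set.inter_subset_right hg₃m)
  refine ⟨g₃ * (g₂ * g₁), ?_, ?_, ?_⟩
  · rw [show g₃ * (g₂ * g₁) * a * (g₃ * (g₂ * g₁))⁻¹ = g₃ * (g₂ * g₁ * a * (g₂ * g₁)⁻¹) * g₃⁻¹ by group, e1,
      ga.eq, mul_inv_cancel_right]
  · rw [show g₃ * (g₂ * g₁) * b * (g₃ * (g₂ * g₁))⁻¹ = g₃ * (g₂ * g₁ * b * (g₂ * g₁)⁻¹) * g₃⁻¹ by group, e2,
      gb.eq, mul_inv_cancel_right]
  · rw [← hg₃]; group

/-- Ordered quadruples are conjugate. -/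
theorem quad_conj {a b c d a' b' c' d' : G} (U : Quad D a b c d) (U' : Quad D a' b' c' d') :
    ∃ g : G, g * a * g⁻¹ = a' ∧ g * b * g⁻¹ = b' ∧ g * c * g⁻¹ = c' ∧ g * d * g⁻¹ = d' := by
  obtain ⟨g₁, ea, eb, ec⟩ := tri_conj S U.tri U'.tri
  have ha' := U'.tri.ha
  have ld : g₁ * d * g₁⁻¹ ∈ link D a' ∩ link D b' ∩ link D c' :=
    ⟨⟨ea ▸ link_conj S.tt g₁ U.hd.1.1, eb ▸ link_conj S.tt g₁ U.hd.1.2⟩, ec ▸ link_conj S.tt g₁ U.hd.2⟩
  have lb := U'.tri.mem_link_b
  have lc := U'.tri.mem_link_c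
  have tri : ∀ {x : G} (lx : x ∈ link D a' ∩ link D b' ∩ link D c'), Tri (E D a') (pj lb) (pj lc) (pj lx.1.1) := by
    intro x lx
    exact ⟨pj_mem lb, pj_mem lc, pj_mem lx.1.1, fun e => U'.tri.bc (S.pj_inj ha' lb lc e),
      fun e => lx.1.2.2.1 (S.pj_inj ha' lb lx.1.1 e).symm, fun e => lx.2.2.1 (S.pj_inj ha' lc lx.1.1 e).symm,
      (S.pj_comm ha' lb lc).2 U'.tri.cbc, (S.pj_comm ha' lb lx.1.1).2 lx.1.2.2.2,
      (S.pj_comm ha' lc lx.1.1).2 lx.2.2.2⟩
  obtain ⟨k, k1, k2, k3⟩ := M23.tri_conj (S.link_setup ha') (tri ld) (tri U'.hd)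
  obtain ⟨m, rfl⟩ := QuotientGroup.mk_surjective k
  have hm := linkSub_commute m.2
  have back : ∀ {x y : G} (lx : x ∈ link D a') (ly : y ∈ link D a'),
      (m : Q D a') * pj lx * (m : Q D a')⁻¹ = pj ly → (m : G) * x * (m : G)⁻¹ = y := fun {x y} lx ly e =>
    S.pj_inj ha' (S.link_conj_fix hm lx) ly (by rw [← e]; rfl)
  refine ⟨(m : G) * g₁, ?_, ?_, ?_, ?_⟩
  · rw [show (m : G) * g₁ * a * ((m : G) * g₁)⁻¹ = (m : G) * (g₁ * a * g₁⁻¹) * (m : G)⁻¹ by group, ea, hm.eq,
      mul_inv_cancel_right]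
  · rw [← back lb lb k1, ← eb]; group
  · rw [← back lc lc k2, ← ec]; group
  · rw [← back ld.1.1 U'.hd.1.1 k3]; group

/-- An involution is a product of at most four commuting members. -/
theorem invol_cases {t : G} (ht : orderOf t = 2) :
    t ∈ D ∨ (∃ a b, a ∈ D ∧ b ∈ link D a ∧ a * b = t) ∨ (∃ a b c, Tri D a b c ∧ a * b * c = t) ∨
      ∃ a b c d, Quad D a b c d ∧ a * b * c * d = t := by
  obtain ⟨a, ha, hta⟩ := exists_fixed S ht
  have htH : t ∈ linkSub D a := by
    rw [← centralizer_eq S ha]; exact Subgroup.mem_centralizer_singleton_iff.2 hta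
  set q : Q D a := ((⟨t, htH⟩ : ↥(linkSub D a)) : Q D a) with hq
  by_cases hq1 : q = 1
  · rcases pj_eq_one_cases S ha htH hq1 with h | h
    · rw [h, orderOf_one] at ht; norm_num at ht
    · exact Or.inl (h.symm ▸ ha)
  have htt : t * t = 1 := by rw [← pow_two, ← ht, pow_orderOf_eq_one]
  have hq2 : orderOf q = 2 := orderOf_eq_prime (by
    rw [pow_two, hq, ← QuotientGroup.mk_mul,
      show (⟨t, htH⟩ : ↥(linkSub D a)) * ⟨t, htH⟩ = 1 from Subtype.ext htt]
    rfl) hq1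
  have finish : ∀ (w : G) (hw : w ∈ linkSub D a), ((⟨w, hw⟩ : ↥(linkSub D a)) : Q D a) = q →
      t = w ∨ t = w * a := by
    intro w hw hwq
    rcases pj_eq_one_cases S ha (mul_mem (inv_mem hw) htH) (by
      rw [show (⟨w⁻¹ * t, mul_mem (inv_mem hw) htH⟩ : ↥(linkSub D a)) = ⟨w, hw⟩⁻¹ * ⟨t, htH⟩ from rfl,
        QuotientGroup.mk_mul, QuotientGroup.mk_inv, hwq, inv_mul_cancel]) with h | h
    · exact Or.inl (inv_mul_eq_one.1 h).symm
    · exact Or.inr (inv_mul_eq_iff_eq_mul.1 h)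
  rcases M23.invol_cases (S.link_setup ha) hq2 with h | ⟨x, y, hx, hy, hxy⟩ | ⟨x, y, z, U, hxyz⟩
  · obtain ⟨e, le, he⟩ := Setup.pj_surj h
    rcases finish e (Subgroup.subset_closure le) he with h' | h'
    · exact Or.inl (h' ▸ le.1)
    · exact Or.inr (Or.inl ⟨e, a, le.1, link_swap ha le, h'.symm⟩)
  · obtain ⟨e, le, rfl⟩ := Setup.pj_surj hx
    obtain ⟨f, lf, rfl⟩ := Setup.pj_surj hy.1
    have hef : f ∈ link D e := (S.pj_link ha le lf).1 hy
    rcases finish (e * f) (mul_mem (Subgroup.subset_closure le) (Subgroup.subset_closure lf)) hxy with h' | h'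
    · exact Or.inr (Or.inl ⟨e, f, le.1, hef, h'.symm⟩)
    · exact Or.inr (Or.inr (Or.inl ⟨e, f, a, ⟨le.1, lf.1, ha, hef.2.1.symm, le.2.1, lf.2.1, hef.2.2, le.2.2.symm,
        lf.2.2.symm⟩, h'.symm⟩))
  · obtain ⟨e, le, rfl⟩ := Setup.pj_surj U.ha
    obtain ⟨f, lf, rfl⟩ := Setup.pj_surj U.hb
    obtain ⟨g, lg, rfl⟩ := Setup.pj_surj U.hc
    have U' : Tri D e f g := ⟨le.1, lf.1, lg.1, fun h => U.ab (by subst h; rfl), fun h => U.ac (by subst h; rfl),
      fun h => U.bc (by subst h; rfl), (S.pj_comm ha le lf).1 U.cab, (S.pj_comm ha le lg).1 U.cac,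
      (S.pj_comm ha lf lg).1 U.cbc⟩
    rcases finish (e * f * g) (mul_mem (mul_mem (Subgroup.subset_closure le) (Subgroup.subset_closure lf))
      (Subgroup.subset_closure lg)) hxyz with h' | h'
    · exact Or.inr (Or.inr (Or.inl ⟨e, f, g, U', h'.symm⟩))
    · exact Or.inr (Or.inr (Or.inr ⟨e, f, g, a,
        ⟨U', ⟨link_swap ha le, link_swap ha lf⟩, link_swap ha lg⟩, h'.symm⟩))

omit [Finite G] S in
/-- A list of at most four distinct commuting members. -/
theorem list_cases {l : List G} {m : ℕ} {x : G} (h1 : 1 ≤ m) (h4 : m ≤ 4) (hnd : l.Nodup) (hlen : l.length = m)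
    (hD : ∀ a ∈ l, a ∈ D) (hc : ∀ a ∈ l, ∀ b ∈ l, Commute a b) (hx : l.prod = x) :
    (m = 1 ∧ x ∈ D) ∨ (m = 2 ∧ ∃ a b, a ∈ D ∧ b ∈ link D a ∧ a * b = x) ∨
      (m = 3 ∧ ∃ a b c, Tri D a b c ∧ a * b * c = x) ∨
      (m = 4 ∧ ∃ a b c d, Quad D a b c d ∧ a * b * c * d = x) := by
  by_cases hm : m ≤ 3
  · rcases M22.list_cases h1 hm hnd hlen hD hc hx with h | h | h
    · exact Or.inl h
    · exact Or.inr (Or.inl h)
    · exact Or.inr (Or.inr (Or.inl h))
  obtain rfl : m = 4 := by omega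
  obtain ⟨a, b, c, d, rfl⟩ : ∃ a b c d, l = [a, b, c, d] := by
    match l, hlen with
    | [a, b, c, d], _ => exact ⟨a, b, c, d, rfl⟩
  simp only [List.nodup_cons, List.mem_cons, List.not_mem_nil, or_false, not_or, List.nodup_nil,
    not_false_eq_true, and_true] at hnd
  obtain ⟨⟨nab, nac, nad⟩, ⟨nbc, nbd⟩, ncd⟩ := hnd
  refine Or.inr (Or.inr (Or.inr ⟨rfl, a, b, c, d, ⟨⟨hD a (by simp), hD b (by simp), hD c (by simp), nab, nac, nbc,
    hc a (by simp) b (by simp), hc a (by simp) c (by simp), hc b (by simp) c (by simp)⟩,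
    ⟨⟨hD d (by simp), Ne.symm nad, hc a (by simp) d (by simp)⟩, hD d (by simp), Ne.symm nbd, hc b (by simp) d (by simp)⟩,
    hD d (by simp), Ne.symm ncd, hc c (by simp) d (by simp)⟩, ?_⟩))
  simpa [mul_assoc] using hx

end CfsgLib.M24
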