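import Cfsg.Agent.Lib.ThreeTransp.M22PairAutLarge
import Cfsg.Prelude.Def_KGroupFacts

/-!
# Groups of type `M(22)`: the large extraspecial subgroup, in the form of the statement

The only input is that the automorphism group is twice as large as the group.
-/

set_option autoImplicit false

namespace CfsgLib.M22

/-- The automorphism group has twice the order of the group, from an isomorphism with a group whose outer
automorphism group has order two. -/
theorem card_mulAut_of_out {G H : Type*} [Group G] [Group H] [Finite G] {D : Set G} (S : Setup D)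
    {F : Type} [Field F] [Fintype F] (hF : Fintype.card F = 2 ^ 2) (hM : ∀ a ∈ D, Nonempty (Model D a F))
    (e : H ≃* G) (hH : Nat.card (Cfsg.Out H) = 2) : Nat.card (MulAut G) = 2 * Nat.card G := by
  have hinj : Function.Injective (MulAut.conj : H →* MulAut H) := fun x y hxy => e.injective
    (conj_aut_injective S hF hM (MulEquiv.ext fun t => by
      obtain ⟨t, rfl⟩ := e.surjective t
      have := congrArg e (DFunLike.congr_fun hxy t)
      simpa [MulAut.conj_apply] using this))
  rw [← Nat.card_congr e.toEquiv, ← Nat.card_congr (MulAut.congr e).toEquiv,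
    Subgroup.card_eq_card_quotient_mul_card_subgroup (Cfsg.Inn H)]
  rw [show Nat.card (MulAut H ⧸ Cfsg.Inn H) = 2 from hH]
  congr 1
  exact (Nat.card_congr (MonoidHom.ofInjective hinj).toEquiv).symm

/-- The centraliser of an inner involution of pair type in the automorphism group. -/
theorem pair_aut_statement {G : Type*} [Group G] [Finite G] {D : Set G} (S : Setup D)
    (hout : Nat.card (MulAut G) = 2 * Nat.card G) (d₁ d₂ : G) (h₁ : d₁ ∈ D) (h₂ : d₂ ∈ D)
    (hne : d₁ ≠ d₂) (hc : Commute d₁ d₂) (j : MulAut G) (hj : j = MulAut.conj (d₁ * d₂))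
    (Q : Subgroup (MulAut G))
    (hQ : Q = (Cfsg.generalizedFittingSubgroup ↥(Subgroup.centralizer ({j} : Set (MulAut G)))).map
      (Subgroup.centralizer ({j} : Set (MulAut G))).subtype) :
    Cfsg.IsLargeExtraspecial Q ∧ Nat.card Q = 2 ^ 11 ∧ Q ≤ Subgroup.centralizer ({j} : Set (MulAut G)) ∧
      ∃ (_ : (Q.subgroupOf (Subgroup.centralizer ({j} : Set (MulAut G)))).Normal) (F : Type) (_ : Field F)
        (_ : Fintype F), Fintype.card F = 4 ∧
        Nonempty (↥(Subgroup.centralizer ({j} : Set (MulAut G))) ⧸
          Q.subgroupOf (Subgroup.centralizer ({j} : Set (MulAut G))) ≃* MulAut (Cfsg.PSU 4 F 2)) := by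
  obtain ⟨F, _, _, hF, hM⟩ := S.exists_models
  subst hj
  obtain ⟨h1, h2', h3, hn, hiso⟩ := pair_aut_large S hF hM h₁
    (show d₂ ∈ CfsgLib.ThreeTransp.link D d₁ from ⟨h₂, hne.symm, hc⟩) hout Q hQ
  exact ⟨h1, h2', h3, hn, F, _, _, by rw [hF]; norm_num, hiso⟩

end CfsgLib.M22
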