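import Cfsg.Agent.Lib.ThreeTransp.M24Sign
import Cfsg.Agent.Lib.ThreeTransp.M23Pair
import Cfsg.Agent.Lib.Cores.Components
import Cfsg.Agent.Lib.KnownSimple.PSLAut.Basic

/-!
# Groups of type `M(24)`: the centraliser of a product of two commuting members

The joint centraliser of two commuting members is generated by their common link; its even part is
quasisimple over the group generated by the product and has index two in the even centraliser of the product.
-/

set_option autoImplicit false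

namespace CfsgLib.M24

open CfsgLib.ThreeTransp CfsgLib.SporMisc CfsgLib.ThreeTransp.Factor CfsgLib.CommProd
open CfsgLib.M23 (Q E pj pj_mem link_swap pairSub)
open scoped commutatorElement

variable {G : Type*} [Group G] {D : Set G}

/-- A perfect group over a simple group with central kernel is quasisimple, the kernel being the centre. -/
theorem quasisimple_of_surjective {K H : Type*} [Group K] [Group H] [IsSimpleGroup H] (hp : Group.IsPerfect K)
    (ψ : K →* H) (hs : Function.Surjective ψ) (hk : ψ.ker ≤ Subgroup.center K) (hH : Subgroup.center H = ⊥) :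
    Cfsg.IsQuasisimple K ∧ ψ.ker = Subgroup.center K := by
  have he : ψ.ker = Subgroup.center K := le_antisymm hk fun z hz => by
    rw [MonoidHom.mem_ker, ← Subgroup.mem_bot, ← hH, Subgroup.mem_center_iff]
    intro y
    obtain ⟨y, rfl⟩ := hs y
    rw [← map_mul, ← map_mul, Subgroup.mem_center_iff.1 hz y]
  let e := (QuotientGroup.quotientMulEquivOfEq he.symm).trans (QuotientGroup.quotientKerEquivOfSurjective ψ hs)
  haveI : Nontrivial (K ⧸ Subgroup.center K) := e.toEquiv.nontrivial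
  exact ⟨⟨hp, IsSimpleGroup.isSimpleGroup_of_surjective e.symm.toMonoidHom e.symm.surjective⟩, he⟩

/-- A commutator ignores central factors. -/
theorem commutator_mul_central {H : Type*} [Group H] (u v : H) {y z : H} (hy : y ∈ Subgroup.center H)
    (hz : z ∈ Subgroup.center H) : ⁅u * y, v * z⁆ = ⁅u, v⁆ := by
  have cy := Subgroup.mem_center_iff.1 hy
  have cz := Subgroup.mem_center_iff.1 hz
  calc ⁅u * y, v * z⁆ = u * (y * (v * z)) * y⁻¹ * u⁻¹ * (z⁻¹ * v⁻¹) := by rw [commutatorElement_def]; group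
    _ = u * (v * z) * (y * y⁻¹) * u⁻¹ * (z⁻¹ * v⁻¹) := by rw [← cy (v * z)]; group
    _ = u * v * (z * u⁻¹) * z⁻¹ * v⁻¹ := by group
    _ = ⁅u, v⁆ := by rw [← cz u⁻¹, commutatorElement_def]; group

variable [Finite G] (S : Setup D)
include S

/-- Twenty-four pairwise commuting members through a commuting pair. -/
theorem exists_base_pair {a b : G} (ha : a ∈ D) (hb : b ∈ link D a) :
    ∃ J : Finset G, IsClique D J ∧ J.card = 24 ∧ a ∈ J ∧ b ∈ J := by
  classical
  obtain ⟨X, hXD, -, hXc, hXn⟩ : ∃ X : Set G, X ⊆ D ∧ X.Finite ∧ (∀ x ∈ X, ∀ y ∈ X, Commute x y) ∧ X.ncard = 24 := by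
    have h := Nat.sSup_mem (s := {n : ℕ | ∃ X : Set G, X ⊆ D ∧ X.Finite ∧
      (∀ x ∈ X, ∀ y ∈ X, Commute x y) ∧ X.ncard = n}) ⟨0, ∅, Set.empty_subset _, Set.finite_empty, by simp, by simp⟩
      ⟨24, by rintro n ⟨E₁, hE₁, -, hc₁, rfl⟩; exact width_le S hE₁ hc₁⟩
    rwa [show sSup _ = 24 from width_eq S] at h
  obtain ⟨x, hx⟩ : X.Nonempty := (Set.ncard_pos (Set.toFinite _)).1 (by omega)
  obtain ⟨y, hy, hyx⟩ : (X \ {x}).Nonempty := by
    refine (Set.ncard_pos (Set.toFinite _)).1 ?_
    rw [Set.ncard_sdiff_singleton_of_mem hx]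
    omega
  obtain ⟨g, hg⟩ := S.cls (hXD hx) ha
  have ly : g * y * g⁻¹ ∈ link D a := hg ▸ link_conj S.tt g (show y ∈ link D x from ⟨hXD hy, hyx, hXc x hx y hy⟩)
  obtain ⟨h, hh, hhy⟩ := S.hyp.exists_conj_link ha ly hb
  refine ⟨X.toFinite.toFinset.image fun z => h * g * z * (h * g)⁻¹, ⟨?_, ?_⟩, ?_, ?_, ?_⟩
  · intro z hz
    obtain ⟨z', hz', rfl⟩ := Finset.mem_image.1 hz
    exact S.tt.conj _ z' (hXD (X.toFinite.mem_toFinset.1 hz'))
  · intro u hu v hv
    obtain ⟨u', hu', rfl⟩ := Finset.mem_image.1 hu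
    obtain ⟨v', hv', rfl⟩ := Finset.mem_image.1 hv
    exact (Commute.conj_iff _).2 (hXc u' (X.toFinite.mem_toFinset.1 hu') v' (X.toFinite.mem_toFinset.1 hv'))
  · rw [Finset.card_image_of_injective _ (fun u v e => mul_left_cancel (mul_right_cancel e)),
      ← Set.ncard_eq_toFinset_card X X.toFinite, hXn]
  · exact Finset.mem_image.2 ⟨x, X.toFinite.mem_toFinset.2 hx, by
      rw [show h * g * x * (h * g)⁻¹ = h * (g * x * g⁻¹) * h⁻¹ by group, hg, (linkSub_commute hh).eq,
        mul_inv_cancel_right]⟩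
  · exact Finset.mem_image.2 ⟨y, X.toFinite.mem_toFinset.2 hy, by rw [← hhy]; group⟩

/-- Each member of a commuting pair is generated by the common link. -/
theorem self_mem_pairSub {a b : G} (ha : a ∈ D) (hb : b ∈ link D a) : a ∈ pairSub D a b := by
  classical
  obtain ⟨J, hJ, h24, haJ, hbJ⟩ := exists_base_pair S ha hb
  have hSt := steiner S hJ h24
  set O := (J.powersetCard 8).filter fun X => prodSet X = 1 with hO
  have h1 := hSt.count (T := {a}) (t := 1) (by simpa using haJ) rfl (by norm_num)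
  have h2 := hSt.count (T := {a, b}) (t := 2) (by simp [Finset.insert_subset_iff, haJ, hbJ])
    (Finset.card_pair hb.2.1.symm) (by norm_num)
  norm_num [Nat.choose_eq_descFactorial_div_factorial, Nat.descFactorial] at h1 h2
  obtain ⟨B, hB, hab⟩ : ∃ B ∈ O.filter (fun B => a ∈ B), ¬ ({a, b} : Finset G) ⊆ B := by
    by_contra hcon
    push Not at hcon
    have hle : (O.filter fun B => a ∈ B).card ≤ (O.filter fun B => ({a, b} : Finset G) ⊆ B).card :=
      Finset.card_le_card fun B hB => Finset.mem_filter.2 ⟨(Finset.mem_filter.1 hB).1, hcon B hB⟩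
    omega
  rw [Finset.mem_filter, hO, Finset.mem_filter, Finset.mem_powersetCard] at hB
  obtain ⟨⟨⟨hBJ, -⟩, hBp⟩, haB⟩ := hB
  have hbB : b ∉ B := fun h => hab (by simp [Finset.insert_subset_iff, haB, h])
  have hmem : prodSet (B.erase a) ∈ pairSub D a b := prodSet_mem fun x hx => Subgroup.subset_closure (by
    rw [Finset.mem_erase] at hx
    exact ⟨⟨hJ.1 (hBJ hx.2), hx.1, hJ.2 a haJ x (hBJ hx.2)⟩, hJ.1 (hBJ hx.2), fun e => hbB (e ▸ hx.2),
      hJ.2 b hbJ x (hBJ hx.2)⟩)
  have he : a * prodSet (B.erase a) = 1 := by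
    rw [← prodSet_insert (Finset.notMem_erase a B) (by
      rw [Finset.insert_erase haB]; exact pairwise_of_subset hJ.2 (Finset.coe_subset.2 hBJ)),
      Finset.insert_erase haB]
    exact hBp
  have := inv_mem hmem
  rwa [← eq_inv_of_mul_eq_one_left he] at this

theorem other_mem_pairSub {a b : G} (ha : a ∈ D) (hb : b ∈ link D a) : b ∈ pairSub D a b := by
  have := self_mem_pairSub S hb.1 (link_swap ha hb)
  rwa [show pairSub D b a = pairSub D a b by rw [pairSub, pairSub, Set.inter_comm]] at this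

/-- The image of the group of the common link. -/
theorem map_pairSub {a b : G} (ha : a ∈ D) (hb : b ∈ link D a) :
    ((pairSub D a b).subgroupOf (linkSub D a)).map (QuotientGroup.mk' (Subgroup.center ↥(linkSub D a))) =
      Subgroup.closure (link (E D a) (pj hb)) := by
  have he : (pairSub D a b).subgroupOf (linkSub D a) =
      Subgroup.closure {x : ↥(linkSub D a) | (x : G) ∈ link D a ∩ link D b} := by
    apply Subgroup.map_injective (linkSub D a).subtype_injective
    rw [Subgroup.map_subgroupOf_eq_of_le (Subgroup.closure_mono Set.inter_subset_left), MonoidHom.map_closure]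
    congr 1
    ext x
    exact ⟨fun hx => ⟨⟨x, Subgroup.subset_closure hx.1⟩, hx, rfl⟩, fun ⟨y, hy, hyx⟩ => hyx ▸ hy⟩
  rw [he, MonoidHom.map_closure]
  congr 1
  ext q
  constructor
  · rintro ⟨x, hx, rfl⟩
    exact (S.pj_link ha hb hx.1).2 hx.2
  · intro hq
    obtain ⟨f, lf, rfl⟩ := Setup.pj_surj hq.1
    exact ⟨⟨f, Subgroup.subset_closure lf⟩, ⟨lf, (S.pj_link ha hb lf).1 hq⟩, rfl⟩

/-- The joint centraliser of a commuting pair is generated by the common link. -/
theorem pair_centralizer_eq {a b : G} (ha : a ∈ D) (hb : b ∈ link D a) :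
    Subgroup.centralizer ({a, b} : Set G) = pairSub D a b := by
  refine le_antisymm (fun g hg => ?_) ((Subgroup.closure_le _).2 fun y hy => Subgroup.mem_centralizer_iff.2 (by
    rintro x (rfl | rfl)
    · exact hy.1.2.2.eq
    · exact hy.2.2.2.eq))
  have hga : Commute g a := (Subgroup.mem_centralizer_iff.1 hg a (Set.mem_insert _ _)).symm
  have hgb : Commute g b := (Subgroup.mem_centralizer_iff.1 hg b (Set.mem_insert_of_mem _ rfl)).symm
  have hgH : g ∈ linkSub D a := by
    rw [← centralizer_eq S ha]; exact Subgroup.mem_centralizer_singleton_iff.2 hga.eq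
  have T := S.link_setup ha
  set π := QuotientGroup.mk' (Subgroup.center ↥(linkSub D a)) with hπ
  have hc : π ⟨g, hgH⟩ ∈ Subgroup.centralizer ({pj hb} : Set (Q D a)) := by
    have : Commute (⟨g, hgH⟩ : ↥(linkSub D a)) ⟨b, Subgroup.subset_closure hb⟩ := Subtype.ext hgb
    exact Subgroup.mem_centralizer_singleton_iff.2 (this.map π).eq
  rw [M23.centralizer_eq T (pj_mem hb)] at hc
  change π ⟨g, hgH⟩ ∈ Subgroup.closure (link (E D a) (pj hb)) at hc
  rw [← map_pairSub S ha hb] at hc
  obtain ⟨m, hm, hmg⟩ := Subgroup.mem_map.1 hc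
  have hker : ((m⁻¹ * ⟨g, hgH⟩ : ↥(linkSub D a)) : Q D a) = 1 := by
    show π (m⁻¹ * ⟨g, hgH⟩) = 1
    rw [map_mul, map_inv, hmg, inv_mul_cancel]
  have hm' : (m : G) ∈ pairSub D a b := hm
  rcases pj_eq_one_cases S ha (m⁻¹ * ⟨g, hgH⟩ : ↥(linkSub D a)).2 hker with h | h
  · have : g = (m : G) := (inv_mul_eq_one.1 (show (m : G)⁻¹ * g = 1 from h)).symm
    rwa [this]
  · rw [inv_mul_eq_iff_eq_mul.1 (show (m : G)⁻¹ * g = a from h)]
    exact mul_mem hm' (self_mem_pairSub S ha hb)

/-- The map onto the group of type `M(22)` downstairs, with the pair as kernel, injective on the common link. -/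
theorem exists_pair_hom {a b : G} (ha : a ∈ D) (hb : b ∈ link D a) :
    ∃ θ : ↥(pairSub D a b) →* Q (E D a) (pj hb), Function.Surjective θ ∧
      (∀ z : ↥(pairSub D a b), θ z = 1 → (z : G) = 1 ∨ (z : G) = a ∨ (z : G) = b ∨ (z : G) = a * b) ∧
      (∀ z : ↥(pairSub D a b), (z : G) = a ∨ (z : G) = b → θ z = 1) ∧
      ∀ (x y : G) (hx : x ∈ link D a ∩ link D b) (hy : y ∈ link D a ∩ link D b),
        θ ⟨x, Subgroup.subset_closure hx⟩ = θ ⟨y, Subgroup.subset_closure hy⟩ → x = y := by
  have T := S.link_setup ha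
  set π := QuotientGroup.mk' (Subgroup.center ↥(linkSub D a)) with hπ
  have hle : pairSub D a b ≤ linkSub D a := Subgroup.closure_mono Set.inter_subset_left
  let f : ↥(pairSub D a b) →* Q D a := π.comp (Subgroup.inclusion hle)
  have hf : ∀ z, f z ∈ Subgroup.closure (link (E D a) (pj hb)) := fun z => by
    rw [← map_pairSub S ha hb]
    exact Subgroup.mem_map_of_mem π (show Subgroup.inclusion hle z ∈ (pairSub D a b).subgroupOf _ from z.2)
  let θ : ↥(pairSub D a b) →* Q (E D a) (pj hb) := (QuotientGroup.mk' _).comp (f.codRestrict _ hf)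
  refine ⟨θ, ?_, ?_, ?_, ?_⟩
  · intro y
    obtain ⟨⟨q, hq⟩, rfl⟩ := QuotientGroup.mk_surjective y
    have hq' := hq
    change q ∈ Subgroup.closure (link (E D a) (pj hb)) at hq'
    rw [← map_pairSub S ha hb] at hq'
    obtain ⟨m, hm, rfl⟩ := Subgroup.mem_map.1 hq'
    exact ⟨⟨m, hm⟩, rfl⟩
  · intro z hz
    rcases M23.pj_eq_one_cases T (pj_mem hb) (hf z) hz with h | h
    · rcases pj_eq_one_cases S ha (hle z.2) h with h' | h'
      · exact Or.inl h'
      · exact Or.inr (Or.inl h')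
    · have hin : b⁻¹ * (z : G) ∈ linkSub D a := mul_mem (inv_mem (Subgroup.subset_closure hb)) (hle z.2)
      have : ((⟨_, hin⟩ : ↥(linkSub D a)) : Q D a) = 1 := by
        show (pj hb)⁻¹ * f z = 1
        rw [h, inv_mul_cancel]
      rcases pj_eq_one_cases S ha hin this with h' | h'
      · exact Or.inr (Or.inr (Or.inl (inv_mul_eq_one.1 h').symm))
      · exact Or.inr (Or.inr (Or.inr (by rw [inv_mul_eq_iff_eq_mul.1 h', hb.2.2.eq])))
  · intro z hz
    refine (QuotientGroup.eq_one_iff _).2 (Subgroup.mem_center_iff.2 ?_)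
    intro q
    refine Subtype.ext ?_
    obtain ⟨q, hq⟩ := q
    show q * f z = f z * q
    rcases hz with hz | hz
    · have : f z = 1 := (QuotientGroup.eq_one_iff _).2 (M23.mem_center_of_commute fun y hy => by
        show Commute (z : G) y
        rw [hz]; exact hy.2.2)
      rw [this, mul_one, one_mul]
    · have : f z = pj hb := congrArg π (Subtype.ext hz)
      rw [this]
      exact (linkSub_commute hq).eq
  · intro x y hx hy h
    exact S.pj_inj ha hx.1 hy.1 (T.pj_inj (pj_mem hb) ((S.pj_link ha hb hx.1).2 hx.2)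
      ((S.pj_link ha hb hy.1).2 hy.2) h)

/-- The even part of the joint centraliser is its derived group. -/
theorem pair_even {a b : G} (ha : a ∈ D) (hb : b ∈ link D a) {φ : G →* ℤˣ} (hφ : ∀ d ∈ D, φ d = -1) :
    ⁅pairSub D a b, pairSub D a b⁆ = pairSub D a b ⊓ φ.ker := by
  set X := pairSub D a b with hX
  have hle : ⁅X, X⁆ ≤ X := CfsgLib.Cores.commutator_self_le' X
  refine le_antisymm (le_inf hle ((Subgroup.commutator_le).2 fun u _ v _ => ?_)) ?_
  · rw [MonoidHom.mem_ker, map_commutatorElement]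
    exact commutatorElement_eq_one_iff_mul_comm.2 (mul_comm _ _)
  let π : ↥X →* Abelianization ↥X := Abelianization.of
  obtain ⟨e₀, he₀⟩ : (link D a ∩ link D b).Nonempty :=
    (Set.ncard_pos (Set.toFinite _)).1 (by rw [link_two_ncard S ha hb]; norm_num)
  set s := π ⟨e₀, Subgroup.subset_closure he₀⟩ with hsdef
  have hs : ∀ {e : G} (he : e ∈ link D a ∩ link D b), π ⟨e, Subgroup.subset_closure he⟩ = s := by
    intro e he
    obtain ⟨k, hk, hke⟩ := trans_common S ha hb he₀ he
    have : (⟨e, Subgroup.subset_closure he⟩ : ↥X) =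
        ⟨k, hk⟩ * ⟨e₀, Subgroup.subset_closure he₀⟩ * (⟨k, hk⟩ : ↥X)⁻¹ := Subtype.ext hke.symm
    rw [this, map_mul, map_mul, map_inv, mul_comm (π _), mul_inv_cancel_right]
  have hs2 : s * s = 1 := by
    rw [hsdef, ← map_mul, ← map_one π]
    exact congrArg π (Subtype.ext (S.sqd he₀.1.1))
  rintro x ⟨hx, hxφ⟩
  have hcases : ∀ (y : G) (hy : y ∈ X), (π ⟨y, hy⟩ = 1 ∧ φ y = 1) ∨ (π ⟨y, hy⟩ = s ∧ φ y = -1) := by
    intro y hy
    induction hy using Subgroup.closure_induction with
    | mem e he => exact Or.inr ⟨hs he, hφ e he.1.1⟩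
    | one => exact Or.inl ⟨map_one π, map_one φ⟩
    | mul u v hu hv i1 i2 =>
      have e : π ⟨u * v, mul_mem hu hv⟩ = π ⟨u, hu⟩ * π ⟨v, hv⟩ := map_mul π ⟨u, hu⟩ ⟨v, hv⟩
      rw [e, map_mul]
      rcases i1 with ⟨p1, q1⟩ | ⟨p1, q1⟩ <;> rcases i2 with ⟨p2, q2⟩ | ⟨p2, q2⟩ <;> rw [p1, q1, p2, q2]
      · exact Or.inl ⟨one_mul _, one_mul _⟩
      · exact Or.inr ⟨one_mul _, one_mul _⟩
      · exact Or.inr ⟨mul_one _, mul_one _⟩
      · exact Or.inl ⟨hs2, by decide⟩
    | inv u hu i1 =>
      have e : π ⟨u⁻¹, inv_mem hu⟩ = (π ⟨u, hu⟩)⁻¹ := map_inv π ⟨u, hu⟩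
      rw [e, map_inv]
      rcases i1 with ⟨p1, q1⟩ | ⟨p1, q1⟩ <;> rw [p1, q1]
      · exact Or.inl ⟨inv_one, inv_one⟩
      · exact Or.inr ⟨inv_eq_of_mul_eq_one_left hs2, by decide⟩
  rcases hcases x hx with ⟨h1, -⟩ | ⟨-, h1⟩
  · have hmem : (⟨x, hx⟩ : ↥X) ∈ commutator ↥X := by rw [← Abelianization.ker_of]; exact h1
    rw [← CfsgLib.Cores.map_commutator_top_le X]
    exact ⟨_, hmem, rfl⟩
  · exact absurd (h1.symm.trans (MonoidHom.mem_ker.1 hxφ)) (by decide)

/-- The even part of the joint centraliser is quasisimple, its centre generated by the product of the pair. -/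
theorem pair_quasisimple {a b : G} (ha : a ∈ D) (hb : b ∈ link D a) {φ : G →* ℤˣ} (hφ : ∀ d ∈ D, φ d = -1) :
    Cfsg.IsQuasisimple ↥(pairSub D a b ⊓ φ.ker) ∧
      (Subgroup.center ↥(pairSub D a b ⊓ φ.ker)).map (pairSub D a b ⊓ φ.ker).subtype = Subgroup.zpowers (a * b) ∧
      ∃ ψ : ↥(pairSub D a b ⊓ φ.ker) →* Q (E D a) (pj hb), Function.Surjective ψ ∧
        ψ.ker = Subgroup.center ↥(pairSub D a b ⊓ φ.ker) := by
  have T₂ := (S.link_setup ha).link_setup (pj_mem hb)
  obtain ⟨F, _, _, hF, hM⟩ := T₂.exists_models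
  haveI := M22.isSimple T₂ hF hM
  have hZ : Subgroup.center (Q (E D a) (pj hb)) = ⊥ := T₂.type.1
  set X := pairSub D a b with hX
  obtain ⟨θ, hsurj, hker, hab, -⟩ := exists_pair_hom S ha hb
  have heq := pair_even S ha hb hφ
  set K := X ⊓ φ.ker with hK
  have haX : a ∈ X := self_mem_pairSub S ha hb
  have hbX : b ∈ X := other_mem_pairSub S ha hb
  let ψ : ↥K →* Q (E D a) (pj hb) := θ.comp (Subgroup.inclusion inf_le_left)
  have habK : a * b ∈ K := ⟨mul_mem haX hbX, by
    show φ (a * b) = 1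
    rw [map_mul, hφ a ha, hφ b hb.1]; decide⟩
  have hθa : θ ⟨a, haX⟩ = 1 := hab ⟨a, haX⟩ (Or.inl rfl)
  have hθb : θ ⟨b, hbX⟩ = 1 := hab ⟨b, hbX⟩ (Or.inr rfl)
  have hsurjK : Function.Surjective ψ := by
    intro q
    obtain ⟨⟨x, hx⟩, rfl⟩ := hsurj q
    rcases Int.units_eq_one_or (φ x) with h | h
    · exact ⟨⟨x, hx, h⟩, rfl⟩
    · refine ⟨⟨x * a, mul_mem hx haX, ?_⟩, ?_⟩
      · show φ (x * a) = 1
        rw [map_mul, h, hφ a ha]; decide
      · show θ (⟨x, hx⟩ * ⟨a, haX⟩) = _
        rw [map_mul, hθa, mul_one]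
  have hkerK : ∀ z : ↥K, ψ z = 1 → (z : G) = 1 ∨ (z : G) = a * b := by
    intro z hz
    have hzφ : φ (z : G) = 1 := z.2.2
    rcases hker _ hz with h | h | h | h
    · exact Or.inl h
    · have h' : (z : G) = a := h
      rw [h', hφ a ha] at hzφ
      exact absurd hzφ (by decide)
    · have h' : (z : G) = b := h
      rw [h', hφ b hb.1] at hzφ
      exact absurd hzφ (by decide)
    · exact Or.inr h
  have hcentral : ∀ {y : G}, y ∈ X → Commute y (a * b) := fun hy =>
    (M23.pairSub_commute hy).1.mul_right (M23.pairSub_commute hy).2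
  have hkc : ψ.ker ≤ Subgroup.center ↥K := by
    intro z hz
    refine Subgroup.mem_center_iff.2 fun y => Subtype.ext ?_
    show (y : G) * z = z * y
    rcases hkerK z hz with h | h <;> rw [h]
    · rw [mul_one, one_mul]
    · exact (hcentral y.2.1).eq
  have hperf : Group.IsPerfect ↥K := by
    -- the second derived group covers everything downstairs
    set K₂ : Subgroup G := ⁅K, K⁆ with hK₂
    have hK₂le : K₂ ≤ K := CfsgLib.Cores.commutator_self_le' K
    have hK₂X : K₂ ≤ X := hK₂le.trans inf_le_left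
    have hKn : ∀ x ∈ X, ∀ k ∈ K, x * k * x⁻¹ ∈ K := fun x hx k hk => ⟨X.mul_mem (X.mul_mem hx hk.1) (X.inv_mem hx), by
      show φ (x * k * x⁻¹) = 1
      rw [map_mul, map_mul, map_inv, show φ k = 1 from hk.2, mul_one, mul_inv_cancel]⟩
    haveI hn : (K₂.subgroupOf X).Normal := ⟨fun z hz x => by
      rw [Subgroup.mem_subgroupOf] at hz ⊢
      have hnK : (x : G) ∈ Subgroup.normalizer (K : Set G) := Subgroup.mem_normalizer_iff.2 fun k =>
        ⟨fun hk => hKn x x.2 k hk, fun hk => by simpa [mul_assoc] using hKn (x : G)⁻¹ (inv_mem x.2) _ hk⟩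
      have hmap : K.map (MulAut.conj (x : G)).toMonoidHom = K := by
        apply le_antisymm
        · rintro _ ⟨k, hk, rfl⟩; exact hKn x x.2 k hk
        · intro k hk
          exact ⟨(x : G)⁻¹ * k * x, by simpa using hKn (x : G)⁻¹ (inv_mem x.2) k hk, by simp [mul_assoc]⟩
      have h2 : K₂.map (MulAut.conj (x : G)).toMonoidHom = K₂ := by rw [hK₂, Subgroup.map_commutator, hmap]
      rw [← h2]
      exact ⟨(z : G), hz, by simp⟩⟩
    have hcover : ∀ k ∈ K, k ∈ K₂ ∨ k * (a * b) ∈ K₂ := by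
      intro k hk
      have htop : (commutator ↥K).map ψ = ⊤ := by
        rw [commutator_def, Subgroup.map_commutator, ← MonoidHom.range_eq_map,
          MonoidHom.range_eq_top.2 hsurjK, ← commutator_def]
        exact (IsSimpleGroup.eq_bot_or_eq_top_of_normal (commutator (Q (E D a) (pj hb))) inferInstance).resolve_left
          fun hbot => by
            have hcomm : ∀ u v : Q (E D a) (pj hb), u * v = v * u := fun u v => by
              rw [← commutatorElement_eq_one_iff_mul_comm, ← Subgroup.mem_bot, ← hbot]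
              exact Subgroup.commutator_mem_commutator (Subgroup.mem_top u) (Subgroup.mem_top v)
            have : Subgroup.center (Q (E D a) (pj hb)) = ⊤ :=
              eq_top_iff.2 fun u _ => Subgroup.mem_center_iff.2 fun v => hcomm v u
            rw [hZ] at this
            exact bot_ne_top this
      obtain ⟨m, hm, hmk⟩ : ψ ⟨k, hk⟩ ∈ (commutator ↥K).map ψ := htop ▸ Subgroup.mem_top _
      have hm' : (m : G) ∈ K₂ := by
        rw [hK₂, ← CfsgLib.Cores.map_commutator_top_le K]; exact ⟨m, hm, rfl⟩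
      have h1 : ψ (m⁻¹ * ⟨k, hk⟩) = 1 := by rw [map_mul, map_inv, hmk, inv_mul_cancel]
      rcases hkerK _ h1 with h | h
      · exact Or.inl ((inv_mul_eq_one.1 (show (m : G)⁻¹ * k = 1 from h)) ▸ hm')
      · refine Or.inr ?_
        rw [inv_mul_eq_iff_eq_mul.1 (show (m : G)⁻¹ * k = a * b from h), mul_assoc,
          hb.2.2.symm.mul_mul_mul_comm, S.sqd ha, S.sqd hb.1, mul_one, mul_one]
        exact hm'
    set π := QuotientGroup.mk' (K₂.subgroupOf X) with hπ
    set G₀ : Set (↥X ⧸ K₂.subgroupOf X) := {π ⟨a, haX⟩, π ⟨a * b, mul_mem haX hbX⟩} with hG₀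
    have hgen : ∀ q : ↥X ⧸ K₂.subgroupOf X, q ∈ Subgroup.closure G₀ := by
      intro q
      obtain ⟨⟨x, hx⟩, rfl⟩ := QuotientGroup.mk_surjective q
      have m1 : π ⟨a, haX⟩ ∈ Subgroup.closure G₀ := Subgroup.subset_closure (Or.inl rfl)
      have m2 : π ⟨a * b, mul_mem haX hbX⟩ ∈ Subgroup.closure G₀ := Subgroup.subset_closure (Or.inr rfl)
      have step : ∀ (k : G) (hk : k ∈ K), π ⟨k, hk.1⟩ ∈ Subgroup.closure G₀ := by
        intro k hk
        rcases hcover k hk with h | h
        · rw [show π ⟨k, hk.1⟩ = 1 from (QuotientGroup.eq_one_iff _).2 h]; exact one_mem _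
        · have : π ⟨k, hk.1⟩ * π ⟨a * b, mul_mem haX hbX⟩ = 1 := (QuotientGroup.eq_one_iff _).2 h
          rw [eq_inv_of_mul_eq_one_left this]
          exact inv_mem m2
      rcases Int.units_eq_one_or (φ x) with h | h
      · exact step x ⟨hx, h⟩
      · have hxa : x * a ∈ K := ⟨mul_mem hx haX, by
          show φ (x * a) = 1
          rw [map_mul, h, hφ a ha]; decide⟩
        have : π ⟨x, hx⟩ = π ⟨x * a, hxa.1⟩ * (π ⟨a, haX⟩)⁻¹ := by
          rw [← map_inv, ← map_mul]; exact congrArg π (Subtype.ext (by simp))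
        show π ⟨x, hx⟩ ∈ _
        rw [this]
        exact mul_mem (step _ hxa) (inv_mem m1)
    have hgc : ∀ u ∈ G₀, ∀ v ∈ G₀, Commute u v := by
      have hc : Commute (⟨a, haX⟩ : ↥X) ⟨a * b, mul_mem haX hbX⟩ := Subtype.ext (hcentral haX).eq
      simp only [hG₀, Set.mem_insert_iff, Set.mem_singleton_iff]
      rintro u (rfl | rfl) v (rfl | rfl)
      exacts [Commute.refl _, hc.map π, (hc.map π).symm, Commute.refl _]
    have hcomm : ∀ u v : ↥X ⧸ K₂.subgroupOf X, u * v = v * u := by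
      intro u v
      have h1 : ∀ w ∈ G₀, Commute u w := fun w hw => by
        have hle : Subgroup.closure G₀ ≤ Subgroup.centralizer {w} := (Subgroup.closure_le _).2 fun t ht =>
          Subgroup.mem_centralizer_singleton_iff.2 (hgc t ht w hw).eq
        exact Subgroup.mem_centralizer_singleton_iff.1 (hle (hgen u))
      have hle : Subgroup.closure G₀ ≤ Subgroup.centralizer {u} := (Subgroup.closure_le _).2 fun t ht =>
        Subgroup.mem_centralizer_singleton_iff.2 (h1 t ht).symm.eq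
      exact (Subgroup.mem_centralizer_singleton_iff.1 (hle (hgen v))).symm
    have hKK₂ : K ≤ K₂ := by
      have h1 : ⁅X, X⁆ ≤ K₂ := (Subgroup.commutator_le).2 fun u hu v hv => by
        have h : π ⁅(⟨u, hu⟩ : ↥X), ⟨v, hv⟩⁆ = 1 := by
          rw [map_commutatorElement]; exact commutatorElement_eq_one_iff_mul_comm.2 (hcomm _ _)
        have h' : ⁅(⟨u, hu⟩ : ↥X), ⟨v, hv⟩⁆ ∈ K₂.subgroupOf X := (QuotientGroup.eq_one_iff _).1 h
        exact Subgroup.mem_subgroupOf.1 h'
      rw [← heq]; exact h1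
    constructor
    rw [← (Subgroup.map_injective K.subtype_injective).eq_iff,
      CfsgLib.Cores.map_commutator_top_le, ← MonoidHom.range_eq_map, Subgroup.range_subtype]
    exact le_antisymm hK₂le hKK₂
  obtain ⟨hq, he⟩ := quasisimple_of_surjective hperf ψ hsurjK hkc hZ
  refine ⟨hq, le_antisymm ?_ (Subgroup.zpowers_le.2 ?_), ψ, hsurjK, he⟩
  · rintro _ ⟨z, hz, rfl⟩
    rcases hkerK z (he.symm ▸ hz : z ∈ ψ.ker) with h | h
    · show (z : G) ∈ _
      rw [h]; exact one_mem _
    · show (z : G) ∈ _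
      rw [h]; exact Subgroup.mem_zpowers _
  · refine ⟨⟨a * b, habK⟩, Subgroup.mem_center_iff.2 fun y => Subtype.ext (hcentral y.2.1).eq, rfl⟩

/-- An element commuting with the product of a pair fixes or exchanges the pair. -/
theorem conj_pair_cases {a b x : G} (ha : a ∈ D) (hb : b ∈ link D a) (hx : Commute x (a * b)) :
    (Commute x a ∧ Commute x b) ∨ (x * a * x⁻¹ = b ∧ x * b * x⁻¹ = a) := by
  set c := x * a * x⁻¹ with hc
  set d := x * b * x⁻¹ with hd
  have hcD : c ∈ D := S.tt.conj x a ha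
  have hdD : d ∈ D := S.tt.conj x b hb.1
  have hcd : c * d = a * b := by
    calc c * d = x * (a * b) * x⁻¹ := by rw [hc, hd]; group
      _ = a * b := by rw [hx.eq, mul_inv_cancel_right]
  have hcab : Commute c (a * b) := by
    rw [← hcd]
    exact (Commute.refl c).mul_right ((Commute.conj_iff x).2 hb.2.2)
  by_cases h1 : c = a
  · have hdb : d = b := mul_left_cancel (h1 ▸ hcd)
    exact Or.inl ⟨mul_inv_eq_iff_eq_mul.1 h1, mul_inv_eq_iff_eq_mul.1 hdb⟩
  by_cases h2 : c = b
  · refine Or.inr ⟨h2, mul_left_cancel (a := c) ?_⟩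
    rw [hcd, h2, hb.2.2.eq]
  exfalso
  obtain ⟨ca, cb⟩ := commute_both S ha hb.1 hcD hb.2.2 hb.2.1.symm hcab
  apply (tri_notMem S (a := c) (b := a) (c := b) ⟨hcD, ha, hb.1, h1, h2, hb.2.1.symm, ca, cb, hb.2.2⟩).2
  rw [mul_assoc, ← hcd, cancel₂ (S.sqd hcD)]
  exact hdD

/-- An element exchanging a commuting pair. -/
theorem exists_swap {a b : G} (ha : a ∈ D) (hb : b ∈ link D a) :
    ∃ t : G, t * a * t⁻¹ = b ∧ t * b * t⁻¹ = a := by
  obtain ⟨f, hfa, hfb⟩ : (link D a ∩ link D b).Nonempty :=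
    (Set.ncard_pos (Set.toFinite _)).1 (by rw [link_two_ncard S ha hb]; norm_num)
  obtain ⟨t, -, hta, htb⟩ := swapper S ha hb hfa hfb
  exact ⟨t, hta, htb⟩

/-- The even centraliser of the product of a pair. -/
def evenProdCent (φ : G →* ℤˣ) (a b : G) : Subgroup G := φ.ker ⊓ Subgroup.centralizer ({a * b} : Set G)

omit S in
/-- The derived group is the kernel of a sign that is `-1` on all members. -/
theorem commutator_eq_ker (htt : IsTT D) (hgen : Subgroup.closure D = ⊤)
    (hcls : ∀ ⦃x y : G⦄, x ∈ D → y ∈ D → ∃ g : G, g * x * g⁻¹ = y) {φ : G →* ℤˣ} (hφ : ∀ d ∈ D, φ d = -1)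
    {a : G} (ha : a ∈ D) : commutator G = φ.ker := by
  refine le_antisymm (Abelianization.commutator_subset_ker φ) fun g hg => ?_
  have key : ∀ y ∈ Subgroup.closure D, (Abelianization.of y = 1 ∧ φ y = 1) ∨
      (Abelianization.of y = Abelianization.of a ∧ φ y = -1) := by
    have ha2 : Abelianization.of a * Abelianization.of a = 1 := by
      rw [← map_mul, htt.sq a ha, map_one]
    intro y hy
    induction hy using Subgroup.closure_induction with
    | mem e he =>
      obtain ⟨k, hk⟩ := hcls ha he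
      refine Or.inr ⟨?_, hφ e he⟩
      rw [← hk, map_mul, map_mul, map_inv, mul_comm (Abelianization.of k), mul_inv_cancel_right]
    | one => exact Or.inl ⟨map_one _, map_one φ⟩
    | mul u v _ _ i1 i2 =>
      rw [map_mul, map_mul]
      rcases i1 with ⟨p1, q1⟩ | ⟨p1, q1⟩ <;> rcases i2 with ⟨p2, q2⟩ | ⟨p2, q2⟩ <;> rw [p1, q1, p2, q2]
      · exact Or.inl ⟨one_mul _, one_mul _⟩
      · exact Or.inr ⟨one_mul _, one_mul _⟩
      · exact Or.inr ⟨mul_one _, mul_one _⟩
      · exact Or.inl ⟨ha2, by decide⟩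
    | inv u _ i1 =>
      rw [map_inv, map_inv]
      rcases i1 with ⟨p1, q1⟩ | ⟨p1, q1⟩ <;> rw [p1, q1]
      · exact Or.inl ⟨inv_one, inv_one⟩
      · exact Or.inr ⟨inv_eq_of_mul_eq_one_left ha2, by decide⟩
  rcases key g (hgen ▸ Subgroup.mem_top g) with ⟨h, -⟩ | ⟨-, h⟩
  · rw [← Abelianization.ker_of]; exact h
  · exact absurd ((MonoidHom.mem_ker.1 hg).symm.trans h) (by decide)

variable {a b : G} {φ : G →* ℤˣ}

theorem pairEven_le_prodCent (ha : a ∈ D) (hb : b ∈ link D a) :
    pairSub D a b ⊓ φ.ker ≤ evenProdCent φ a b := fun x hx => ⟨hx.2, Subgroup.mem_centralizer_singleton_iff.2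
      ((M23.pairSub_commute hx.1).1.mul_right (M23.pairSub_commute hx.1).2).eq⟩

/-- An element of the even centraliser of the product lies in the joint centraliser or exchanges the pair. -/
theorem prodCent_cases (ha : a ∈ D) (hb : b ∈ link D a) {x : G} (hx : x ∈ evenProdCent φ a b) :
    x ∈ pairSub D a b ⊓ φ.ker ∨ (x * a * x⁻¹ = b ∧ x * b * x⁻¹ = a) := by
  rcases conj_pair_cases S ha hb (Subgroup.mem_centralizer_singleton_iff.1 hx.2) with ⟨h1, h2⟩ | h
  · refine Or.inl ⟨(pair_centralizer_eq S ha hb).le (Subgroup.mem_centralizer_iff.2 ?_), hx.1⟩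
    rintro y (rfl | rfl)
    exacts [h1.symm.eq, h2.symm.eq]
  · exact Or.inr h

/-- An even element exchanging the pair. -/
theorem exists_even_swap (ha : a ∈ D) (hb : b ∈ link D a) (hφ : ∀ d ∈ D, φ d = -1) :
    ∃ t : G, t ∈ evenProdCent φ a b ∧ t * a * t⁻¹ = b ∧ t * b * t⁻¹ = a := by
  obtain ⟨t, hta, htb⟩ := exists_swap S ha hb
  have aux : ∀ u : G, φ u = 1 → u * a * u⁻¹ = b → u * b * u⁻¹ = a → u ∈ evenProdCent φ a b := by
    intro u h0 h1 h2
    refine ⟨h0, Subgroup.mem_centralizer_singleton_iff.2 ?_⟩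
    have : u * (a * b) * u⁻¹ = a * b := by
      calc u * (a * b) * u⁻¹ = (u * a * u⁻¹) * (u * b * u⁻¹) := by group
        _ = a * b := by rw [h1, h2, hb.2.2.eq]
    exact mul_inv_eq_iff_eq_mul.1 this
  rcases Int.units_eq_one_or (φ t) with h | h
  · exact ⟨t, aux t h hta htb, hta, htb⟩
  · have h1 : (t * a) * a * (t * a)⁻¹ = b := by rw [← hta]; group
    have h2 : (t * a) * b * (t * a)⁻¹ = a := by
      rw [show t * a * b * (t * a)⁻¹ = t * (a * b * a⁻¹) * t⁻¹ by group, hb.2.2.eq, mul_inv_cancel_right, htb]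
    refine ⟨t * a, aux _ ?_ h1 h2, h1, h2⟩
    rw [map_mul, h, hφ a ha]; decide

/-- The even part of the joint centraliser has index two. -/
theorem pairEven_index (ha : a ∈ D) (hb : b ∈ link D a) (hφ : ∀ d ∈ D, φ d = -1) :
    ((pairSub D a b ⊓ φ.ker).subgroupOf (evenProdCent φ a b)).index = 2 := by
  obtain ⟨t, ht, hta, htb⟩ := exists_even_swap S ha hb hφ
  rw [Subgroup.index_eq_two_iff]
  refine ⟨⟨t, ht⟩, fun x => ?_⟩
  have hnot : ∀ {u : G}, u * a * u⁻¹ = b → u ∉ pairSub D a b ⊓ φ.ker := fun {u} h hu => by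
    rw [(M23.pairSub_commute hu.1).1.eq, mul_inv_cancel_right] at h
    exact hb.2.1 h.symm
  simp only [Subgroup.mem_subgroupOf, Subgroup.coe_mul]
  rcases prodCent_cases S ha hb x.2 with h | ⟨h1, h2⟩
  · refine Or.inr ⟨h, fun hxt => hnot hta ?_⟩
    have := mul_mem (inv_mem h) hxt
    rwa [inv_mul_cancel_left] at this
  · refine Or.inl ⟨?_, hnot h1⟩
    rcases prodCent_cases S ha hb ((evenProdCent φ a b).mul_mem x.2 ht) with h' | ⟨h', -⟩
    · exact h'
    · rw [show (x : G) * t * a * ((x : G) * t)⁻¹ = x * (t * a * t⁻¹) * (x : G)⁻¹ by group, hta, h2] at h'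
      exact absurd h'.symm hb.2.1

/-- Only the group generated by the product centralises the even part. -/
theorem mem_zpowers_of_centralizes (ha : a ∈ D) (hb : b ∈ link D a) (hφ : ∀ d ∈ D, φ d = -1) {x : G}
    (hx : x ∈ evenProdCent φ a b) (hc : ∀ k ∈ pairSub D a b ⊓ φ.ker, Commute x k) :
    x ∈ Subgroup.zpowers (a * b) := by
  rcases prodCent_cases S ha hb hx with h | ⟨h1, -⟩
  · rw [← (pair_quasisimple S ha hb hφ).2.1]
    exact ⟨⟨x, h⟩, Subgroup.mem_center_iff.2 fun k => Subtype.ext (hc k k.2).symm.eq, rfl⟩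
  · exfalso
    obtain ⟨e, he⟩ : (link D a ∩ link D b).Nonempty :=
      (Set.ncard_pos (Set.toFinite _)).1 (by rw [link_two_ncard S ha hb]; norm_num)
    have hea : e * a ∈ pairSub D a b ⊓ φ.ker := ⟨mul_mem (Subgroup.subset_closure he) (self_mem_pairSub S ha hb), by
      show φ (e * a) = 1
      rw [map_mul, hφ e he.1.1, hφ a ha]; decide⟩
    have h := hc _ hea
    have h' : x * e * x⁻¹ = e * a * b := by
      have h3 : x * (e * a) * x⁻¹ = e * a := by rw [h.eq, mul_inv_cancel_right]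
      rw [show x * (e * a) * x⁻¹ = (x * e * x⁻¹) * (x * a * x⁻¹) by group, h1] at h3
      rw [← h3, mul_assoc (x * e * x⁻¹) b b, S.sqd hb.1, mul_one]
    exact (tri_notMem S (a := e) (b := a) (c := b) ⟨he.1.1, ha, hb.1, he.1.2.1, he.2.2.1, hb.2.1.symm,
      he.1.2.2.symm, he.2.2.2.symm, hb.2.2⟩).2 (h' ▸ S.tt.conj x e he.1.1)

/-- The generalised Fitting subgroup of the even centraliser of the product. -/
theorem genFitting_prodCent (ha : a ∈ D) (hb : b ∈ link D a) (hφ : ∀ d ∈ D, φ d = -1) :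
    (Cfsg.generalizedFittingSubgroup ↥(evenProdCent φ a b)).map (evenProdCent φ a b).subtype =
      pairSub D a b ⊓ φ.ker := by
  set C := evenProdCent φ a b with hC
  set K := pairSub D a b ⊓ φ.ker with hKdef
  have hle : K ≤ C := pairEven_le_prodCent S ha hb
  haveI hn : (K.subgroupOf C).Normal := Subgroup.normal_of_index_eq_two (pairEven_index S ha hb hφ)
  have hcomp : Cfsg.IsComponent (K.subgroupOf C) := ⟨hn.isSubnormal,
    CfsgLib.Cores.isQuasisimple_of_equiv (Subgroup.subgroupOfEquivOfLe hle).symm (pair_quasisimple S ha hb hφ).1⟩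
  have hcent : ∀ M : Subgroup ↥C, ⁅M, K.subgroupOf C⁆ = ⊥ → M ≤ K.subgroupOf C := by
    intro M hM x hx
    rw [Subgroup.mem_subgroupOf]
    have hxz : (x : G) ∈ Subgroup.zpowers (a * b) := mem_zpowers_of_centralizes S ha hb hφ x.2 fun k hk => by
      have h1 := Subgroup.commutator_mem_commutator hx (show (⟨k, hle hk⟩ : ↥C) ∈ K.subgroupOf C from hk)
      rw [hM, Subgroup.mem_bot, commutatorElement_eq_one_iff_mul_comm] at h1
      exact congrArg Subtype.val h1
    refine Subgroup.zpowers_le.2 (show a * b ∈ K from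
      ⟨(pairSub D a b).mul_mem (self_mem_pairSub S ha hb) (other_mem_pairSub S ha hb), ?_⟩) hxz
    show φ (a * b) = 1
    rw [map_mul, hφ a ha, hφ b hb.1]; decide
  have heq : Cfsg.generalizedFittingSubgroup ↥C = K.subgroupOf C := by
    refine le_antisymm (sup_le (CfsgLib.Cores.layer_le_iff.2 fun M hM => ?_) ?_)
      (le_trans (CfsgLib.Cores.component_le_layer hcomp) le_sup_left)
    · rcases CfsgLib.Cores.component_le_or_commutator_eq_bot hM hn.isSubnormal with h | h
      exacts [h, hcent M h]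
    · exact hcent _ (by rw [Subgroup.commutator_comm]; exact CfsgLib.Cores.component_commutator_fittingSubgroup hcomp)
  rw [heq, Subgroup.map_subgroupOf_eq_of_le hle]

/-- The even centraliser of the product, modulo the product, is the automorphism group of the group of
type `M(22)`, once that group has twice as many automorphisms as elements. -/
theorem nonempty_prodCent_aut (ha : a ∈ D) (hb : b ∈ link D a) (hφ : ∀ d ∈ D, φ d = -1)
    {T : Type*} [Group T] (e : T ≃* Q (E D a) (pj hb)) (hout : Nat.card (MulAut T) = 2 * Nat.card T)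
    [hn : ((Subgroup.zpowers (a * b)).subgroupOf (evenProdCent φ a b)).Normal] :
    Nonempty (↥(evenProdCent φ a b) ⧸ (Subgroup.zpowers (a * b)).subgroupOf (evenProdCent φ a b) ≃* MulAut T) := by
  set C := evenProdCent φ a b with hC
  set K := pairSub D a b ⊓ φ.ker with hKdef
  obtain ⟨hq, hz, ψ, hψ, hψk⟩ := pair_quasisimple S ha hb hφ
  have hle : K ≤ C := pairEven_le_prodCent S ha hb
  haveI hnK : (K.subgroupOf C).Normal := Subgroup.normal_of_index_eq_two (pairEven_index S ha hb hφ)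
  let i : ↥(K.subgroupOf C) ≃* ↥K := Subgroup.subgroupOfEquivOfLe hle
  have hq' : Cfsg.IsQuasisimple ↥(K.subgroupOf C) := CfsgLib.Cores.isQuasisimple_of_equiv i.symm hq
  have hkf : (ψ.comp i.toMonoidHom).ker = Subgroup.center ↥(K.subgroupOf C) := by
    ext z
    rw [MonoidHom.mem_ker, MonoidHom.comp_apply, ← MonoidHom.mem_ker, hψk, Subgroup.mem_center_iff,
      Subgroup.mem_center_iff]
    exact ⟨fun h y => i.injective (by rw [map_mul, map_mul]; exact h (i y)), fun h y => by
      have h' := congrArg i (h (i.symm y))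
      rwa [map_mul, map_mul, MulEquiv.apply_symm_apply] at h'⟩
  let j : ↥(K.subgroupOf C) ⧸ Subgroup.center ↥(K.subgroupOf C) ≃* T :=
    ((QuotientGroup.quotientMulEquivOfEq hkf.symm).trans
      (QuotientGroup.quotientKerEquivOfSurjective (ψ.comp i.toMonoidHom) (hψ.comp i.surjective))).trans e.symm
  let f : ↥C →* MulAut T :=
    (MulAut.congr j).toMonoidHom.comp ((CfsgLib.PSLAut.descend _).comp MulAut.conjNormal)
  have hzk : ∀ z : G, z ∈ Subgroup.zpowers (a * b) → z ∈ K ∧ ∀ k ∈ K, Commute z k := by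
    intro z hz'
    rw [← hz] at hz'
    obtain ⟨w, hw, rfl⟩ := hz'
    exact ⟨w.2, fun k hk => (congrArg Subtype.val (Subgroup.mem_center_iff.1 hw ⟨k, hk⟩)).symm⟩
  have hker : f.ker = (Subgroup.zpowers (a * b)).subgroupOf C := by
    ext x
    rw [MonoidHom.mem_ker, Subgroup.mem_subgroupOf]
    constructor
    · intro hx
      have h1 : CfsgLib.PSLAut.descend _ (MulAut.conjNormal x : MulAut ↥(K.subgroupOf C)) = 1 :=
        (MulAut.congr j).injective (hx.trans (map_one (MulAut.congr j)).symm)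
      set σ : MulAut ↥(K.subgroupOf C) := MulAut.conjNormal x
      have hmod : ∀ k, k⁻¹ * σ k ∈ Subgroup.center ↥(K.subgroupOf C) := fun k => by
        have h := DFunLike.congr_fun h1 (QuotientGroup.mk k)
        rw [CfsgLib.PSLAut.descend_mk, MulAut.one_apply] at h
        exact QuotientGroup.eq.1 h.symm
      haveI := hq'.1
      have hσ : ∀ k, σ k = k := by
        have hle' : commutator ↥(K.subgroupOf C) ≤ MonoidHom.eqLocus σ.toMonoidHom (MonoidHom.id _) := by
          rw [commutator_def, Subgroup.commutator_le]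
          intro u _ v _
          show σ ⁅u, v⁆ = ⁅u, v⁆
          obtain ⟨zu, hzu, eu⟩ : ∃ zu ∈ Subgroup.center ↥(K.subgroupOf C), σ u = u * zu :=
            ⟨_, hmod u, (mul_inv_cancel_left u (σ u)).symm⟩
          obtain ⟨zv, hzv, ev⟩ : ∃ zv ∈ Subgroup.center ↥(K.subgroupOf C), σ v = v * zv :=
            ⟨_, hmod v, (mul_inv_cancel_left v (σ v)).symm⟩
          rw [map_commutatorElement, eu, ev]
          exact commutator_mul_central u v hzu hzv
        intro k
        refine hle' ?_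
        rw [Group.IsPerfect.commutator_eq_top]
        trivial
      refine mem_zpowers_of_centralizes S ha hb hφ x.2 fun k hk => ?_
      have h := congrArg Subtype.val (hσ ⟨⟨k, hle hk⟩, Subgroup.mem_subgroupOf.2 hk⟩)
      rw [MulAut.conjNormal_apply] at h
      have h' := congrArg Subtype.val h
      exact mul_inv_eq_iff_eq_mul.1 (show (x : G) * k * (x : G)⁻¹ = k from h')
    · intro hx
      have : (MulAut.conjNormal x : MulAut ↥(K.subgroupOf C)) = 1 := MulEquiv.ext fun k => Subtype.ext (Subtype.ext (by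
        show ((MulAut.conjNormal x k : ↥(K.subgroupOf C)) : ↥C).1 = ((k : ↥C) : G)
        rw [MulAut.conjNormal_apply]
        show (x : G) * (k : ↥C).1 * (x : G)⁻¹ = (k : ↥C).1
        rw [((hzk _ hx).2 _ (Subgroup.mem_subgroupOf.1 k.2)).eq, mul_inv_cancel_right]))
      show (MulAut.congr j) (CfsgLib.PSLAut.descend _ (MulAut.conjNormal x)) = 1
      rw [this, map_one, map_one]
  have hz2 : Nat.card ↥((Subgroup.zpowers (a * b)).subgroupOf C) = Nat.card ↥(Subgroup.center ↥(K.subgroupOf C)) := by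
    rw [Nat.card_congr (Subgroup.subgroupOfEquivOfLe ((fun z hz' => hle (hzk z hz').1) :
      Subgroup.zpowers (a * b) ≤ C)).toEquiv, ← hz, Subgroup.card_map_of_injective K.subtype_injective,
      Nat.card_congr (Subgroup.centerCongr i).toEquiv]
  have hcard : Nat.card (↥C ⧸ f.ker) = Nat.card (MulAut T) := by
    have e1 := Subgroup.card_mul_index (K.subgroupOf C)
    rw [pairEven_index S ha hb hφ,
      (Subgroup.card_eq_card_quotient_mul_card_subgroup (Subgroup.center ↥(K.subgroupOf C))),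
      Nat.card_congr j.toEquiv, Subgroup.card_eq_card_quotient_mul_card_subgroup f.ker,
      show Nat.card ↥f.ker = _ from (congrArg (fun H : Subgroup ↥C => Nat.card ↥H) hker).trans hz2] at e1
    rw [hout]
    refine Nat.eq_of_mul_eq_mul_right (Nat.card_pos (α := ↥(Subgroup.center ↥(K.subgroupOf C)))) ?_
    rw [← e1]; ring
  haveI : Finite (MulAut T) := Nat.finite_of_card_ne_zero (by rw [← hcard]; exact Nat.card_pos.ne')
  exact ⟨(QuotientGroup.quotientMulEquivOfEq hker.symm).trans (MulEquiv.ofBijective (QuotientGroup.kerLift f)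
    ((Nat.bijective_iff_injective_and_card _).2 ⟨QuotientGroup.kerLift_injective f, hcard⟩))⟩

end CfsgLib.M24
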