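import Cfsg.Agent.Lib.ThreeTransp.Factor.TwinFree

/-!
# Primitivity from a simple link quotient and a connected commuting graph
-/

set_option autoImplicit false

namespace CfsgLib.ThreeTransp.Factor

open CfsgLib.SporMisc

variable {G : Type*} [Group G] [Finite G] {D : Set G}

/-- An equivariant key on a link whose quotient is simple is injective or constant. -/
theorem link_key_dichotomy (hD : IsTT D) {a : G}
    [hs : IsSimpleGroup (↥(linkSub D a) ⧸ Subgroup.center ↥(linkSub D a))]
    (hnc : ∀ x ∈ linkIn D a, ∃ y ∈ linkIn D a, ¬Commute x y) {α : Type*} {key : G → α}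
    (he : Equivariant D key) :
    (∀ x ∈ link D a, ∀ y ∈ link D a, key x = key y → x = y) ∨
      (∀ x ∈ link D a, ∀ y ∈ link D a, key x = key y) := by
  have hT := linkIn_tt hD a
  let k : ↥(linkSub D a) → α := fun x => key (x : G)
  have hek : Equivariant (linkIn D a) k := fun g x hx y hy h => he (g : G) x hx.1 y hy.1 h
  haveI hN : (keyKer (linkIn D a) k).Normal := hT.keyKer_normal hek
  set π := QuotientGroup.mk' (Subgroup.center ↥(linkSub D a)) with hπ
  haveI hn : ((keyKer (linkIn D a) k).map π).Normal :=
    hN.map π (QuotientGroup.mk'_surjective _)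
  rcases hn.eq_bot_or_eq_top with h | h
  · left
    intro x hx y hy hxy
    let x₀ : ↥(linkSub D a) := ⟨x, Subgroup.subset_closure hx⟩
    let y₀ : ↥(linkSub D a) := ⟨y, Subgroup.subset_closure hy⟩
    have hm : x₀ * y₀ ∈ Subgroup.center ↥(linkSub D a) := by
      rw [← QuotientGroup.eq_one_iff]
      exact Subgroup.mem_bot.1 (h ▸ Subgroup.mem_map_of_mem π
        (mul_mem_keyKer (show x₀ ∈ linkIn D a from hx) (show y₀ ∈ linkIn D a from hy) hxy))
    obtain ⟨z, hz, hxz⟩ := hnc x₀ hx
    have hcz : Commute z (x₀ * y₀) := Subgroup.mem_center_iff.1 hm z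
    have hzy : ¬Commute z y₀ := by
      intro hc
      refine hxz (Commute.symm ?_)
      have := hcz.mul_right hc
      rwa [mul_assoc, hT.sq y₀ hy, mul_one] at this
    exact congrArg Subtype.val
      (eq_of_commute_mul hT hz hx hy (fun hc => hxz hc.symm) hzy hcz)
  · right
    have hfix : ∀ g : ↥(linkSub D a), ∀ x ∈ linkIn D a, k (g * x * g⁻¹) = k x := by
      intro g x hx
      obtain ⟨n, hn', hne⟩ := Subgroup.mem_map.1 (h ▸ Subgroup.mem_top (π g))
      have hm : n⁻¹ * g ∈ Subgroup.center ↥(linkSub D a) := QuotientGroup.eq.1 hne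
      have hcx : (n⁻¹ * g) * x * (n⁻¹ * g)⁻¹ = x := by
        rw [← Subgroup.mem_center_iff.1 hm x, mul_inv_cancel_right]
      rw [show g * x * g⁻¹ = n * ((n⁻¹ * g) * x * (n⁻¹ * g)⁻¹) * n⁻¹ by group, hcx]
      exact hT.key_conj_of_mem_keyKer (keyFixing_of_equivariant hT hek) hn' hx
    have hcomm : ∀ x ∈ linkIn D a, ∀ y ∈ linkIn D a, k x ≠ k y → Commute x y := by
      intro x hx y hy hne
      by_contra hc
      have e1 : k (x * y * x) = k y := by
        have := hfix x y hy
        rwa [hT.inv_eq hx] at this
      have e2 : k (y * x * y) = k x := by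
        have := hfix y x hx
        rwa [hT.inv_eq hy] at this
      rw [hT.braid hx hy hc, e2] at e1
      exact hne e1
    intro x hx y hy
    by_contra hne
    let x₀ : ↥(linkSub D a) := ⟨x, Subgroup.subset_closure hx⟩
    let y₀ : ↥(linkSub D a) := ⟨y, Subgroup.subset_closure hy⟩
    -- the members with the key of `x` generate a normal subgroup
    set C : Set ↥(linkSub D a) := {z | z ∈ linkIn D a ∧ k z = k x₀} with hC
    haveI hCn : (Subgroup.closure C).Normal := normal_closure_of_invariant (by
      rintro g z ⟨hz, hzk⟩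
      exact ⟨hT.conj g z hz, (hfix g z hz).trans hzk⟩)
    haveI hCm : ((Subgroup.closure C).map π).Normal :=
      hCn.map π (QuotientGroup.mk'_surjective _)
    have hyc : Subgroup.closure C ≤ Subgroup.centralizer {y₀} := by
      rw [Subgroup.closure_le]
      rintro z ⟨hz, hzk⟩
      exact Subgroup.mem_centralizer_singleton_iff.2
        (hcomm z hz y₀ hy (fun e => hne (hzk.symm.trans e))).eq
    rcases hCm.eq_bot_or_eq_top with h' | h'
    · obtain ⟨z, hz, hxz⟩ := hnc x₀ hx
      have hm : x₀ ∈ Subgroup.center ↥(linkSub D a) := by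
        rw [← QuotientGroup.eq_one_iff]
        exact Subgroup.mem_bot.1 (h' ▸ Subgroup.mem_map_of_mem π
          (Subgroup.subset_closure (show x₀ ∈ C from ⟨hx, rfl⟩)))
      exact hxz (Subgroup.mem_center_iff.1 hm z).symm
    · obtain ⟨z, hz, hyz⟩ := hnc y₀ hy
      obtain ⟨n, hn', hne'⟩ := Subgroup.mem_map.1 (h' ▸ Subgroup.mem_top (π z))
      have hm : n⁻¹ * z ∈ Subgroup.center ↥(linkSub D a) := QuotientGroup.eq.1 hne'
      have c1 : Commute y₀ n := (Subgroup.mem_centralizer_singleton_iff.1 (hyc hn')).symm
      have c2 : Commute y₀ (n⁻¹ * z) := Subgroup.mem_center_iff.1 hm y₀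
      exact hyz (by simpa using c1.mul_right c2)

/-- A simple link quotient and a connected commuting graph give primitivity. -/
theorem primitive_of_simple_link (h : TTC D) {d : G} (hd : d ∈ D)
    (hs : IsSimpleGroup (↥(linkSub D d) ⧸ Subgroup.center ↥(linkSub D d)))
    (hconn : ∀ a ∈ D, ∀ b ∈ D, comp D Commute a = comp D Commute b) :
    Cfsg.IsPrimitiveUnderConj D := by
  obtain ⟨hpi, -⟩ := twinFree_of_simple h hd hs
  haveI := hs
  have hnc : ∀ x ∈ linkIn D d, ∃ y ∈ linkIn D d, ¬Commute x y := by
    intro w hw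
    by_contra hcon
    push Not at hcon
    have hle : perp D d ⊆ perp D (w : G) := by
      intro e he
      refine ⟨he.1, ?_⟩
      by_cases hed : e = d
      · subst hed; exact hw.2.2.symm
      · exact commute_coe_iff.2 (hcon ⟨e, Subgroup.subset_closure ⟨he.1, hed, he.2⟩⟩
          ⟨he.1, hed, he.2⟩)
    have hcard : (perp D (w : G)).ncard ≤ (perp D d).ncard := by
      obtain ⟨k, hk⟩ := h.cls d hd w hw.1
      refine Set.ncard_le_ncard_of_injOn (fun t => k⁻¹ * t * k) ?_
        (fun u _ v _ huv => by simpa using huv) (Set.toFinite _)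
      intro t ht
      refine ⟨by simpa using h.tt.conj k⁻¹ t ht.1, ?_⟩
      have h2 := ht.2
      rw [← hk] at h2
      rw [← Commute.conj_iff k]
      simpa [mul_assoc] using h2
    have heq := Set.eq_of_subset_of_ncard_le hle hcard (Set.toFinite _)
    exact hw.2.1 (hpi d hd w hw.1 fun t ht =>
      ⟨fun hc => IsTT.commute_of_perp_eq ht heq hc,
        fun hc => IsTT.commute_of_perp_eq ht heq.symm hc⟩).symm
  refine primitive_of_keys h.tt h.cls h.nontriv fun key he => ?_
  have move : ∀ {x y : G}, x ∈ D → y ∈ D → ∀ g : G,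
      (key (g * x * g⁻¹) = key (g * y * g⁻¹) ↔ key x = key y) := by
    intro x y hx hy g
    refine ⟨fun e => ?_, he g x hx y hy⟩
    simpa [mul_assoc] using he g⁻¹ _ (h.tt.conj g x hx) _ (h.tt.conj g y hy) e
  by_cases hex : ∃ a ∈ D, ∃ b ∈ link D a, key a = key b
  · right
    obtain ⟨a, ha, b, hb, hab⟩ := hex
    obtain ⟨g, hg⟩ := h.cls a ha d hd
    set b' := g * b * g⁻¹ with hb'
    have lb : b' ∈ link D d := hg ▸ link_conj h.tt g hb
    have hdb : key d = key b' := hg ▸ (move ha hb.1 g).2 hab
    rcases link_key_dichotomy h.tt hnc he with hinj | hconst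
    · exfalso
      -- `d` and `b'` are twins
      have hcomm := keyFixing_of_equivariant h.tt he
      have hsub : ∀ {u v : G}, u ∈ link D d → v = b' → u ≠ v → Commute u v := by
        intro u v hu hv huv
        subst hv
        by_contra hc
        have hne : key u ≠ key d := fun e => huv (hinj u hu b' lb (e.trans hdb))
        -- conjugating by `u` moves `b'` but fixes `d`
        have e1 := (move hd lb.1 u).2 hdb
        rw [show u * d * u⁻¹ = d by rw [hu.2.2.symm.eq, mul_inv_cancel_right]] at e1
        have lc : u * b' * u⁻¹ ∈ link D d := by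
          have := link_conj h.tt u lb
          rwa [show u * d * u⁻¹ = d by rw [hu.2.2.symm.eq, mul_inv_cancel_right]] at this
        exact hc (mul_inv_eq_iff_eq_mul.1 (hinj _ lc b' lb (e1.symm.trans hdb)))
      have hle : perp D d ⊆ perp D b' := by
        intro e he'
        refine ⟨he'.1, ?_⟩
        by_cases hed : e = d
        · subst hed; exact lb.2.2.symm
        by_cases heb : e = b'
        · subst heb; exact Commute.refl _
        exact (hsub ⟨he'.1, hed, he'.2⟩ rfl heb).symm
      have hcard : (perp D b').ncard ≤ (perp D d).ncard := by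
        obtain ⟨k, hk⟩ := h.cls d hd b' lb.1
        refine Set.ncard_le_ncard_of_injOn (fun t => k⁻¹ * t * k) ?_
          (fun u _ v _ huv => by simpa using huv) (Set.toFinite _)
        intro t ht
        refine ⟨by simpa using h.tt.conj k⁻¹ t ht.1, ?_⟩
        have h2 := ht.2
        rw [← hk] at h2
        rw [← Commute.conj_iff k]
        simpa [mul_assoc] using h2
      have heq := Set.eq_of_subset_of_ncard_le hle hcard (Set.toFinite _)
      exact lb.2.1 (hpi d hd b' lb.1 fun t ht =>
        ⟨fun hc => IsTT.commute_of_perp_eq ht heq hc,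
          fun hc => IsTT.commute_of_perp_eq ht heq.symm hc⟩).symm
    · -- all links lie in one key class
      have hd' : ∀ y ∈ link D d, key y = key d := fun y hy => (hconst y hy b' lb).trans hdb.symm
      have hall : ∀ x ∈ D, ∀ y ∈ link D x, key y = key x := by
        intro x hx y hy
        obtain ⟨k, hk⟩ := h.cls x hx d hd
        have := hd' _ (hk ▸ link_conj h.tt k hy)
        rw [← hk] at this
        exact (move hy.1 hx k).1 this
      intro x hx y hy
      have hy' : y ∈ comp D Commute x := hconn x hx y hy ▸ mem_comp_self _ _ _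
      change Relation.ReflTransGen _ x y at hy'
      clear hy
      induction hy' with
      | refl => rfl
      | @tail u v _ huv ih =>
        refine ih.trans ?_
        by_cases hvu : v = u
        · rw [hvu]
        · exact (hall u huv.1 v ⟨huv.2.1, hvu, huv.2.2⟩).symm
  · left
    intro a ha b hb hab
    by_contra hne
    have hnab : ¬Commute a b := fun hc => hex ⟨a, ha, b, ⟨hb, Ne.symm hne, hc⟩, hab⟩
    -- a member commuting with both
    obtain ⟨z, hz⟩ : (link D a).Nonempty := by
      obtain ⟨k, hk⟩ := h.cls d hd a ha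
      obtain ⟨x, hx⟩ : (linkIn D d).Nonempty := by
        by_contra he0
        rw [Set.not_nonempty_iff_eq_empty] at he0
        obtain ⟨u, v, huv⟩ := exists_pair_ne (↥(linkSub D d) ⧸ Subgroup.center ↥(linkSub D d))
        have hg := linkIn_gen D d
        rw [he0, Subgroup.closure_empty] at hg
        obtain ⟨u, rfl⟩ := QuotientGroup.mk_surjective u
        obtain ⟨v, rfl⟩ := QuotientGroup.mk_surjective v
        have hall : ∀ w : ↥(linkSub D d), w = 1 := fun w =>
          Subgroup.mem_bot.1 (hg ▸ Subgroup.mem_top w)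
        rw [hall u, hall v] at huv
        exact huv rfl
      exact ⟨_, hk ▸ link_conj h.tt k hx⟩
    have hzb : Commute z b := by
      by_contra hc
      have e1 := (move ha hb z).2 hab
      rw [show z * a * z⁻¹ = a by rw [hz.2.2.symm.eq, mul_inv_cancel_right]] at e1
      -- `b` and its conjugate by `z` have one key
      set b' := z * b * z⁻¹ with hb'
      have hbb : key b = key b' := hab.symm.trans e1
      by_cases hzz : key z = key a
      · exact hex ⟨a, ha, z, hz, hzz.symm⟩
      · apply hzz
        have hb'e : b' = b * z * b := by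
          rw [hb', h.tt.inv_eq hz.1]; exact h.tt.braid hz.1 hb hc
        have e2 := (move hb (show b' ∈ D from h.tt.conj z b hb) b).2 hbb
        rw [mul_inv_cancel_right, hb'e, h.tt.inv_eq hb,
          show b * (b * z * b) * b = z by
            simp only [mul_assoc, cancel₂ (h.tt.sq b hb), h.tt.sq b hb, mul_one]] at e2
        exact e2.symm.trans hab.symm
    obtain ⟨k, hk⟩ := h.cls z hz.1 d hd
    have hzb' : z ≠ b := fun e => hnab (e ▸ hz.2.2)
    have la : k * a * k⁻¹ ∈ link D d :=
      hk ▸ link_conj h.tt k (show a ∈ link D z from ⟨ha, hz.2.1.symm, hz.2.2.symm⟩)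
    have lb : k * b * k⁻¹ ∈ link D d :=
      hk ▸ link_conj h.tt k (show b ∈ link D z from ⟨hb, hzb'.symm, hzb⟩)
    have hkk := (move ha hb k).2 hab
    rcases link_key_dichotomy h.tt hnc he with hinj | hconst
    · exact hne (by simpa using hinj _ la _ lb hkk)
    · -- no two members of the link commute
      refine not_isSolvable_of_simple_noncomm (linkIn_tt h.tt d) (x := ⟨_, Subgroup.subset_closure la⟩)
        (z := ⟨_, Subgroup.subset_closure lb⟩) la lb
        (fun hc => hnab ((Commute.conj_iff k).1 (commute_coe_iff.2 hc))) ?_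
      have hpair : ∀ u ∈ linkIn D d, ∀ v ∈ linkIn D d, u ≠ v → ¬Commute u v := fun u hu v hv huv hc =>
        hex ⟨u, hu.1, v, ⟨hv.1, fun e => huv (Subtype.ext e).symm, commute_coe_iff.2 hc⟩,
          hconst u hu v hv⟩
      have hcl : ∀ u ∈ linkIn D d, ∀ v ∈ linkIn D d, u * v * u ∈ linkIn D d := fun u hu v hv =>
        (linkIn_tt h.tt d).cj_mem hu hv
      have hsol := IsW1.isSolvable_closure ((linkIn_tt h.tt d).mono_w1 (subset_refl _) hpair hcl)
      rw [linkIn_gen] at hsol
      haveI := hsol
      have : Group.IsSolvable ↥(linkSub D d) := Group.isSolvable_of_surjective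
        (f := (⊤ : Subgroup ↥(linkSub D d)).subtype) fun w => ⟨⟨w, Subgroup.mem_top w⟩, rfl⟩
      exact Group.isSolvable_of_surjective (f := QuotientGroup.mk' _) (QuotientGroup.mk'_surjective _)

end CfsgLib.ThreeTransp.Factor
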