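import Mathlib

/-!
# Sets of commuting involutions, gluing of characters, and the sign of a transfer

The products over subsets of a set of pairwise commuting involutions; a character of a product of two subgroups
from characters of the factors; a character of a subgroup of odd index transfers to a sign on the involutions
all whose conjugates in the subgroup have sign `-1`.
-/

set_option autoImplicit false

namespace CfsgLib.CommProd

variable {G : Type*} [Group G]

/-- The product over a finite set, for pairwise commuting elements. -/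
noncomputable def prodSet (A : Finset G) : G := by
  classical
  exact if h : (A : Set G).Pairwise Commute then A.noncommProd id h else 1

theorem prodSet_eq {A : Finset G} (h : (A : Set G).Pairwise Commute) : prodSet A = A.noncommProd id h := by
  classical
  rw [prodSet, dif_pos h]

theorem prodSet_empty : prodSet (∅ : Finset G) = 1 := by
  rw [prodSet_eq (by simp)]; exact Finset.noncommProd_empty _ _

theorem prodSet_singleton (a : G) : prodSet ({a} : Finset G) = a := by
  rw [prodSet_eq (by simp)]; simp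

variable [DecidableEq G]

theorem prodSet_insert {a : G} {A : Finset G} (ha : a ∉ A) (h : ((insert a A : Finset G) : Set G).Pairwise Commute) :
    prodSet (insert a A) = a * prodSet A := by
  rw [prodSet_eq h, prodSet_eq (h.mono (by simp)), Finset.noncommProd_insert_of_notMem _ _ _ _ ha]
  rfl

variable {J : Set G}

omit [DecidableEq G] in
theorem pairwise_of_subset (hc : ∀ x ∈ J, ∀ y ∈ J, Commute x y) {A : Finset G} (hA : (A : Set G) ⊆ J) :
    (A : Set G).Pairwise Commute := fun x hx y hy _ => hc x (hA hx) y (hA hy)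

omit [DecidableEq G] in
theorem prodSet_mem {H : Subgroup G} {A : Finset G} (hA : ∀ x ∈ A, x ∈ H) : prodSet A ∈ H := by
  classical
  by_cases h : (A : Set G).Pairwise Commute
  · rw [prodSet_eq h]; exact Subgroup.noncommProd_mem H _ fun x hx => hA x hx
  · rw [prodSet, dif_neg h]; exact one_mem _

theorem prodSet_union (hc : ∀ x ∈ J, ∀ y ∈ J, Commute x y) {A B : Finset G} (hA : (A : Set G) ⊆ J)
    (hB : (B : Set G) ⊆ J) (hd : Disjoint A B) : prodSet (A ∪ B) = prodSet A * prodSet B := by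
  have h : ((A ∪ B : Finset G) : Set G) ⊆ J := by rw [Finset.coe_union]; exact Set.union_subset hA hB
  rw [prodSet_eq (pairwise_of_subset hc h), prodSet_eq (pairwise_of_subset hc hA),
    prodSet_eq (pairwise_of_subset hc hB)]
  exact Finset.noncommProd_union_of_disjoint hd id _

omit [DecidableEq G] in
theorem prodSet_commute (hc : ∀ x ∈ J, ∀ y ∈ J, Commute x y) {A : Finset G} (hA : (A : Set G) ⊆ J) {z : G}
    (hz : ∀ x ∈ A, Commute z x) : Commute z (prodSet A) := by
  rw [prodSet_eq (pairwise_of_subset hc hA)]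
  exact Finset.noncommProd_commute A id _ z hz

theorem prodSet_sq (hc : ∀ x ∈ J, ∀ y ∈ J, Commute x y) (hs : ∀ x ∈ J, x * x = 1) {A : Finset G}
    (hA : (A : Set G) ⊆ J) : prodSet A * prodSet A = 1 := by
  induction A using Finset.induction_on with
  | empty => rw [prodSet_empty, one_mul]
  | insert a B ha ih =>
    have hB : (B : Set G) ⊆ J := (Finset.coe_subset.2 (Finset.subset_insert a B)).trans hA
    have haJ : a ∈ J := hA (by simp)
    have hcm : Commute a (prodSet B) := prodSet_commute hc hB fun x hx => hc a haJ x (hB hx)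
    rw [prodSet_insert ha (pairwise_of_subset hc hA), hcm.symm.mul_mul_mul_comm, ih hB, hs a haJ, one_mul]

/-- Products over symmetric differences. -/
theorem prodSet_symmDiff (hc : ∀ x ∈ J, ∀ y ∈ J, Commute x y) (hs : ∀ x ∈ J, x * x = 1) {A B : Finset G}
    (hA : (A : Set G) ⊆ J) (hB : (B : Set G) ⊆ J) : prodSet (symmDiff A B) = prodSet A * prodSet B := by
  have sub : ∀ {X : Finset G}, X ⊆ A ∨ X ⊆ B → (X : Set G) ⊆ J := fun h =>
    h.elim (fun h => (Finset.coe_subset.2 h).trans hA) fun h => (Finset.coe_subset.2 h).trans hB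
  have h1 : prodSet A = prodSet (A \ B) * prodSet (A ∩ B) := by
    rw [← prodSet_union hc (sub (Or.inl Finset.sdiff_subset)) (sub (Or.inl Finset.inter_subset_left))
      (Finset.disjoint_sdiff_inter A B), Finset.sdiff_union_inter]
  have h2 : prodSet B = prodSet (A ∩ B) * prodSet (B \ A) := by
    rw [← prodSet_union hc (sub (Or.inl Finset.inter_subset_left)) (sub (Or.inr Finset.sdiff_subset))
      (Finset.disjoint_left.2 fun x hx hx' => (Finset.mem_sdiff.1 hx').2 (Finset.mem_inter.1 hx).1),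
      Finset.inter_comm, Finset.union_comm, Finset.sdiff_union_inter]
  rw [symmDiff_def, Finset.sup_eq_union, prodSet_union hc (sub (Or.inl Finset.sdiff_subset))
    (sub (Or.inr Finset.sdiff_subset)) disjoint_sdiff_sdiff, h1, h2, mul_assoc (prodSet (A \ B)),
    ← mul_assoc (prodSet (A ∩ B)), prodSet_sq hc hs (sub (Or.inl Finset.inter_subset_left)), one_mul]

/-- Every element of the group of commuting involutions is a product over a subset. -/
theorem exists_prodSet [Finite G] (hc : ∀ x ∈ J, ∀ y ∈ J, Commute x y) (hs : ∀ x ∈ J, x * x = 1) {g : G}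
    (hg : g ∈ Subgroup.closure J) : ∃ A : Finset G, (A : Set G) ⊆ J ∧ prodSet A = g := by
  induction hg using Subgroup.closure_induction with
  | mem z hz => exact ⟨{z}, by simpa using hz, prodSet_singleton z⟩
  | one => exact ⟨∅, by simp, prodSet_empty⟩
  | mul u v _ _ i1 i2 =>
    obtain ⟨A, hA, rfl⟩ := i1
    obtain ⟨B, hB, rfl⟩ := i2
    exact ⟨symmDiff A B, fun x hx => (Finset.mem_symmDiff.1 hx).elim (fun h => hA h.1) fun h => hB h.1,
      prodSet_symmDiff hc hs hA hB⟩
  | inv u _ i1 =>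
    obtain ⟨A, hA, rfl⟩ := i1
    exact ⟨A, hA, eq_inv_of_mul_eq_one_left (prodSet_sq hc hs hA)⟩

omit [DecidableEq G] in
theorem neg_one_pow_eq_of {m n : ℕ} (h : Even (m + n)) : (-1 : ℤˣ) ^ m = (-1) ^ n := by
  have h2 : (-1 : ℤˣ) ^ (m + n) = 1 := h.neg_one_pow
  rw [pow_add] at h2
  have := eq_inv_of_mul_eq_one_left h2
  rwa [Int.units_inv_eq_self] at this

/-- The parity of the number of factors, when no odd subset has product one. -/
theorem exists_parity [Finite G] (hc : ∀ x ∈ J, ∀ y ∈ J, Commute x y) (hs : ∀ x ∈ J, x * x = 1)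
    (heven : ∀ A : Finset G, (A : Set G) ⊆ J → prodSet A = 1 → Even A.card) :
    ∃ p : ↥(Subgroup.closure J) →* ℤˣ, ∀ (A : Finset G), (A : Set G) ⊆ J →
      ∀ h : prodSet A ∈ Subgroup.closure J, p ⟨prodSet A, h⟩ = (-1) ^ A.card := by
  classical
  choose f hf hfe using fun g : ↥(Subgroup.closure J) => exists_prodSet hc hs g.2
  have key : ∀ {A B : Finset G}, (A : Set G) ⊆ J → (B : Set G) ⊆ J → prodSet A = prodSet B →
      (-1 : ℤˣ) ^ A.card = (-1) ^ B.card := by
    intro A B hA hB h
    refine neg_one_pow_eq_of ?_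
    have he := heven _ (fun x hx => (Finset.mem_symmDiff.1 hx).elim (fun h => hA h.1) fun h => hB h.1)
      (show prodSet (symmDiff A B) = 1 by rw [prodSet_symmDiff hc hs hA hB, h, prodSet_sq hc hs hB])
    have h1 : (symmDiff A B).card + 2 * (A ∩ B).card = A.card + B.card := by
      rw [symmDiff_def, Finset.sup_eq_union, Finset.card_union_of_disjoint disjoint_sdiff_sdiff]
      have h2 := Finset.card_sdiff_add_card_inter A B
      have h3 := Finset.card_sdiff_add_card_inter B A
      rw [Finset.inter_comm B] at h3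
      omega
    rw [← h1]
    exact he.add (even_two_mul _)
  refine ⟨MonoidHom.mk' (fun g => (-1) ^ (f g).card) fun g g' => ?_, fun A hA h => key (hf _) hA (hfe _)⟩
  rw [key (hf _) (fun x hx => (Finset.mem_symmDiff.1 hx).elim (fun h => hf g h.1) fun h => hf g' h.1)
    (show prodSet (f (g * g')) = prodSet (symmDiff (f g) (f g')) by
      rw [prodSet_symmDiff hc hs (hf _) (hf _), hfe, hfe, hfe, Subgroup.coe_mul]), ← pow_add]
  refine neg_one_pow_eq_of ?_
  rw [symmDiff_def, Finset.sup_eq_union, Finset.card_union_of_disjoint disjoint_sdiff_sdiff]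
  have h2 := Finset.card_sdiff_add_card_inter (f g) (f g')
  have h3 := Finset.card_sdiff_add_card_inter (f g') (f g)
  rw [Finset.inter_comm (f g')] at h3
  exact ⟨(f g \ f g').card + (f g' \ f g).card + (f g ∩ f g').card, by omega⟩

omit [DecidableEq G] in
/-- Conjugation of a product over a subset. -/
theorem prodSet_conj [DecidableEq G] (hc : ∀ x ∈ J, ∀ y ∈ J, Commute x y) {A : Finset G} (hA : (A : Set G) ⊆ J)
    (g : G) : g * prodSet A * g⁻¹ = prodSet (A.image fun x => g * x * g⁻¹) := by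
  induction A using Finset.induction_on with
  | empty => simp [prodSet_empty]
  | insert a B ha ih =>
    have hB : (B : Set G) ⊆ J := (Finset.coe_subset.2 (Finset.subset_insert a B)).trans hA
    rw [prodSet_insert ha (pairwise_of_subset hc hA), Finset.image_insert, prodSet_insert ?_ ?_, ← ih hB]
    · group
    · intro h
      obtain ⟨b, hb, e⟩ := Finset.mem_image.1 h
      exact ha ((mul_left_cancel (mul_right_cancel e)) ▸ hb)
    · rw [← Finset.image_insert (fun x => g * x * g⁻¹) a B]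
      intro x hx y hy _
      obtain ⟨x', hx', rfl⟩ := Finset.mem_image.1 hx
      obtain ⟨y', hy', rfl⟩ := Finset.mem_image.1 hy
      exact (Commute.conj_iff g).2 (hc x' (hA hx') y' (hA hy'))

omit [DecidableEq G] in
/-- A character of a product of two subgroups, one normalised by the other. -/
theorem exists_glue {V : Type*} [CommGroup V] {R A B : Subgroup G} (hA : A ≤ R) (hB : B ≤ R)
    (hnorm : ∀ b ∈ B, ∀ a ∈ A, b * a * b⁻¹ ∈ A) (hR : ∀ r ∈ R, ∃ a ∈ A, ∃ b ∈ B, r = a * b)
    (f : ↥A →* V) (g : ↥B →* V) (hfg : ∀ (x : G) (ha : x ∈ A) (hb : x ∈ B), f ⟨x, ha⟩ = g ⟨x, hb⟩)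
    (hinv : ∀ (b a : G) (hb : b ∈ B) (ha : a ∈ A), f ⟨b * a * b⁻¹, hnorm b hb a ha⟩ = f ⟨a, ha⟩) :
    ∃ h : ↥R →* V, (∀ (a : G) (ha : a ∈ A), h ⟨a, hA ha⟩ = f ⟨a, ha⟩) ∧
      ∀ (b : G) (hb : b ∈ B), h ⟨b, hB hb⟩ = g ⟨b, hb⟩ := by
  choose α hα β hβ heq using fun r : ↥R => hR r r.2
  set h : ↥R → V := fun r => f ⟨α r, hα r⟩ * g ⟨β r, hβ r⟩ with hh
  have key : ∀ (a b : G) (ha : a ∈ A) (hb : b ∈ B) (hr : a * b ∈ R),
      h ⟨a * b, hr⟩ = f ⟨a, ha⟩ * g ⟨b, hb⟩ := by
    intro a b ha hb hr
    set r : ↥R := ⟨a * b, hr⟩ with hr'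
    have e : a⁻¹ * α r = b * (β r)⁻¹ := by
      have := heq r
      rw [inv_mul_eq_iff_eq_mul, ← mul_assoc, eq_mul_inv_iff_mul_eq]
      exact this.symm
    have hx : a⁻¹ * α r ∈ B := e ▸ mul_mem hb (inv_mem (hβ r))
    have h1 := hfg _ (mul_mem (inv_mem ha) (hα r)) hx
    have h2 : f ⟨α r, hα r⟩ = f ⟨a, ha⟩ * g ⟨a⁻¹ * α r, hx⟩ := by
      rw [← h1, ← map_mul]; congr 1; ext; simp
    have h3 : g ⟨a⁻¹ * α r, hx⟩ * g ⟨β r, hβ r⟩ = g ⟨b, hb⟩ := by
      rw [← map_mul]; congr 1; ext; simp [e]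
    rw [hh]
    simp only
    rw [h2, mul_assoc, h3]
  refine ⟨MonoidHom.mk' h fun r r' => ?_, fun a ha => ?_, fun b hb => ?_⟩
  · have e : ((r * r' : ↥R) : G) = (α r * (β r * α r' * (β r)⁻¹)) * (β r * β r') := by
      rw [Subgroup.coe_mul, heq r, heq r']; group
    have hm := mul_mem (hα r) (hnorm _ (hβ r) _ (hα r'))
    have := key _ _ hm (mul_mem (hβ r) (hβ r')) (e ▸ (r * r').2)
    rw [show r * r' = ⟨_, e ▸ (r * r').2⟩ from Subtype.ext e, this, hh]
    simp only
    rw [show (⟨α r * (β r * α r' * (β r)⁻¹), hm⟩ : ↥A) = ⟨α r, hα r⟩ * ⟨_, hnorm _ (hβ r) _ (hα r')⟩ from rfl,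
      map_mul, hinv _ _ (hβ r) (hα r'),
      show (⟨β r * β r', mul_mem (hβ r) (hβ r')⟩ : ↥B) = ⟨β r, hβ r⟩ * ⟨β r', hβ r'⟩ from rfl, map_mul]
    rw [mul_mul_mul_comm]
  · show h ⟨a, hA ha⟩ = _
    have := key a 1 ha (one_mem _) (by simpa using hA ha)
    simp only [mul_one] at this
    rw [this, show (⟨1, one_mem B⟩ : ↥B) = 1 from rfl, map_one, mul_one]
  · show h ⟨b, hB hb⟩ = _
    have := key 1 b (one_mem _) hb (by simpa using hB hb)
    simp only [one_mul] at this
    rw [this, show (⟨1, one_mem A⟩ : ↥A) = 1 from rfl, map_one, one_mul]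

omit [DecidableEq G] in
/-- The transfer of a sign on a subgroup of odd index. -/
theorem exists_sign [Finite G] {D : Set G} (hconj : ∀ d ∈ D, ∀ g : G, g * d * g⁻¹ ∈ D) (hsq : ∀ d ∈ D, d * d = 1)
    {S : Subgroup G} (hodd : Odd S.index) (σ : ↥S →* ℤˣ)
    (hσ : ∀ d ∈ D, ∀ h : d ∈ S, σ ⟨d, h⟩ = -1) : ∃ φ : G →* ℤˣ, ∀ d ∈ D, φ d = -1 := by
  classical
  let := S.fintypeQuotientOfFiniteIndex
  refine ⟨MonoidHom.transfer σ, fun d hd => ?_⟩
  let _ : Fintype (Quotient (MulAction.orbitRel (Subgroup.zpowers d) (G ⧸ S))) := Fintype.ofFinite _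
  rw [MonoidHom.transfer_eq_prod_quotient_orbitRel_zpowers_quot, ← hodd.neg_one_pow (α := ℤˣ),
    Subgroup.index_eq_sum_minimalPeriod S d, ← Finset.prod_pow_eq_pow_sum]
  refine Finset.prod_congr rfl fun q _ => ?_
  generalize_proofs pf
  rcases Nat.even_or_odd (Function.minimalPeriod (fun x => d • x) q.out) with ⟨m, hm⟩ | ⟨m, hm⟩
  · rw [(show Even (Function.minimalPeriod (fun x => d • x) q.out) from ⟨m, hm⟩).neg_one_pow, ← map_one σ]
    congr 1
    refine Subtype.ext ?_
    show (Quotient.out q.out)⁻¹ * d ^ Function.minimalPeriod (fun x => d • x) q.out * Quotient.out q.out = 1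
    rw [hm, ← two_mul, pow_mul, pow_two, hsq d hd, one_pow, mul_one, inv_mul_cancel]
  · rw [(show Odd (Function.minimalPeriod (fun x => d • x) q.out) from ⟨m, hm⟩).neg_one_pow]
    refine hσ _ ?_ _
    rw [hm, pow_succ, pow_mul, pow_two, hsq d hd, one_pow, one_mul]
    have := hconj d hd (Quotient.out q.out)⁻¹
    rwa [inv_inv] at this

end CfsgLib.CommProd
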