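import Cfsg.Agent.Lib.ThreeTransp.U6Lines

/-!
# Hyperovals of isotropic planes, and pairs of points with the same perp inside a perp

The transvection points of a hyperoval through a triangle have product one modulo scalars.
-/

set_option autoImplicit false

namespace CfsgLib.U6

open Matrix Cfsg
open CfsgLib.PSUAut
open CfsgLib.UnitarySpec (sigma_sigma sigma_ne psuMk)

variable {F : Type} [Field F] [Fintype F]

local notation "V6" => Fin 6 → F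
local notation "H6" => Cfsg.hermForm 6 F 2
local notation "SU6" => (Cfsg.SU 6 F 2)
local notation "PSU6" => (Cfsg.PSU 6 F 2)

variable (hF : Fintype.card F = 2 ^ 2)
include hF

theorem exists_iso_off {u : V6} (hu : u ≠ 0) : ∃ z, Isot 2 z ∧ H6 z u ≠ 0 := by
  obtain ⟨σ, hσ⟩ := exists_sigma hF
  obtain ⟨z, hz, hzu, -⟩ := CfsgLib.Transvec.Unitary.exists_iso_avoid (hU (n := 6) hF hσ)
    (by simp) hu hu
  exact ⟨z, ⟨fun h => hzu (by rw [h, zero_left hF]), hz⟩, hzu⟩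

/-- If `u` is off the span of `y₁`, `y₂` then some isotropic vector is orthogonal to both and not to `u`. -/
theorem exists_iso_perp_pair {u y₁ y₂ : V6} (hu : Isot 2 u) (h₁ : Isot 2 y₁) (h₂ : Isot 2 y₂)
    (h : u ∉ Submodule.span F {y₁, y₂}) :
    ∃ s, Isot 2 s ∧ H6 s y₁ = 0 ∧ H6 s y₂ = 0 ∧ H6 s u ≠ 0 := by
  by_contra hcon
  push Not at hcon
  exact h ((mem_span_iff hF h₁ h₂ hu).2 hcon)

/-- An isotropic vector of the span of `u`, `y` not orthogonal to `u`, for non-orthogonal `u`, `y`. -/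
theorem chord_cases {u y z : V6} (hu : Isot 2 u) (hy : Isot 2 y) (hz : Isot 2 z) (hyu : H6 y u ≠ 0)
    (hzu : H6 z u ≠ 0) (h : z ∈ Submodule.span F {u, y}) :
    ∃ b : F, b ≠ 0 ∧ (z = b • y ∨ z = b • (y + H6 y u • u)) := by
  have := charTwo hF
  obtain ⟨a, b, rfl⟩ := Submodule.mem_span_pair.1 h
  have hb : b ≠ 0 := fun hb => hzu (by
    rw [hb, zero_smul, add_zero, smul_left hF, hu.2, mul_zero])
  refine ⟨b, hb, ?_⟩
  set c := H6 y u with hc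
  have huy : H6 u y = c ^ 2 := conj_form hF y u
  have e := hz.2
  simp only [add_left hF, add_right hF, smul_left hF, smul_right hF, hu.2, hy.2, ← hc, huy] at e
  have e' : a * b * c * (b * c + a) = 0 := by linear_combination e
  simp only [mul_eq_zero, hb, hyu, or_false] at e'
  rcases e' with e' | e'
  · left; rw [e', zero_smul, zero_add]
  · right
    rw [show a = b * c from (CharTwo.add_eq_zero.1 e').symm, smul_add, smul_smul, add_comm]

/-- Two points with the same orthogonal inside the orthogonal of `u` lie on a chord through `u`. -/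
theorem mem_span_of_same_perp {u y z : V6} (hu : Isot 2 u) (hy : Isot 2 y) (hz : Isot 2 z)
    (h : ∀ s, Isot 2 s → H6 s u = 0 → (H6 s y = 0 ↔ H6 s z = 0)) : z ∈ Submodule.span F {u, y} :=
  (mem_span_iff hF hu hy hz).2 fun s hs h1 h2 => (h s hs h1).1 h2

/-- An isotropic vector orthogonal to `u`, `v` and off their span. -/
theorem exists_plane {u v : V6} (hu : Isot 2 u) (hv : v ∉ Submodule.span F {u}) :
    ∃ w, Isot 2 w ∧ H6 w u = 0 ∧ H6 w v = 0 ∧ w ∉ Submodule.span F {u, v} := by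
  obtain ⟨σ, hσ⟩ := exists_sigma hF
  obtain ⟨y, hy⟩ := exists_partner hF hσ hu.1
  obtain ⟨y', hy'u, hy'v⟩ : ∃ y', H6 y' u = 0 ∧ H6 y' v ≠ 0 := by
    by_contra hcon
    push Not at hcon
    exact hv (mem_span_single_of_perp hF hσ hcon)
  obtain ⟨e, he0, he⟩ := exists_perp hF hσ ![u, v, y, y'] (by norm_num)
  obtain ⟨f, hf0, hf⟩ := exists_perp hF hσ ![u, v, y, y', e] (by norm_num)
  have heu : H6 e u = 0 := he 0
  have hev : H6 e v = 0 := he 1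
  have hey : H6 e y = 0 := he 2
  have hey' : H6 e y' = 0 := he 3
  have hfu : H6 f u = 0 := hf 0
  have hfv : H6 f v = 0 := hf 1
  have hfy : H6 f y = 0 := hf 2
  have hfy' : H6 f y' = 0 := hf 3
  have hfe : H6 f e = 0 := hf 4
  have fin : ∀ w : V6, w ≠ 0 → H6 w w = 0 → H6 w u = 0 → H6 w v = 0 → H6 w y = 0 → H6 w y' = 0 →
      ∃ w, Isot 2 w ∧ H6 w u = 0 ∧ H6 w v = 0 ∧ w ∉ Submodule.span F {u, v} := by
    intro w h0 hww hwu hwv hwy hwy'
    refine ⟨w, ⟨h0, hww⟩, hwu, hwv, fun hm => h0 ?_⟩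
    obtain ⟨p, q, rfl⟩ := Submodule.mem_span_pair.1 hm
    have huy' : H6 u y' = 0 := (comm_zero hF).1 hy'u
    have hvy' : H6 v y' ≠ 0 := fun h => hy'v ((comm_zero hF).1 h)
    have huy : H6 u y ≠ 0 := fun h => by rw [(comm_zero hF).1 h] at hy; exact zero_ne_one hy
    rw [add_left hF, smul_left hF, smul_left hF, huy', mul_zero, zero_add] at hwy'
    have hq : q = 0 := (mul_eq_zero.1 hwy').resolve_right hvy'
    rw [hq, zero_smul, add_zero, smul_left hF] at hwy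
    rw [hq, (mul_eq_zero.1 hwy).resolve_right huy, zero_smul, zero_smul, add_zero]
  by_cases hee : H6 e e = 0
  · exact fin e he0 hee heu hev hey hey'
  by_cases hff : H6 f f = 0
  · exact fin f hf0 hff hfu hfv hfy hfy'
  have hN : ∀ z : V6, H6 z z ≠ 0 → H6 z z = 1 := by
    intro z hz
    have h2 := conj_form hF z z
    have : H6 z z * (H6 z z - 1) = 0 := by linear_combination -h2
    exact sub_eq_zero.1 ((mul_eq_zero.1 this).resolve_left hz)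
  refine fin (e + f) (fun h0 => ?_) ?_ ?_ ?_ ?_ ?_
  · have := congrArg (fun z => H6 z e) h0
    simp only [add_left hF, hfe, add_zero, zero_left hF] at this
    exact hee this
  · rw [add_left hF, add_right hF, add_right hF, hN e hee, hN f hff, hfe, (comm_zero hF).1 hfe, add_zero,
      zero_add]
    exact add_self hF 1
  all_goals simp only [add_left hF, heu, hfu, hev, hfv, hey, hfy, hey', hfy', add_zero]

/-- The vector with coordinates `(1, s, t)` in the basis `u₁, u₂, u₃`. -/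
def vec3 (u₁ u₂ u₃ : V6) (s t : F) : V6 := u₁ + s • u₂ + t • u₃

/-- Three independent vectors spanning a totally isotropic plane. -/
structure IsPlane (u₁ u₂ u₃ : Fin 6 → F) : Prop where
  h₁₁ : Cfsg.hermForm 6 F 2 u₁ u₁ = 0
  h₂₂ : Cfsg.hermForm 6 F 2 u₂ u₂ = 0
  h₃₃ : Cfsg.hermForm 6 F 2 u₃ u₃ = 0
  h₁₂ : Cfsg.hermForm 6 F 2 u₁ u₂ = 0
  h₁₃ : Cfsg.hermForm 6 F 2 u₁ u₃ = 0
  h₂₃ : Cfsg.hermForm 6 F 2 u₂ u₃ = 0
  hu₁ : u₁ ≠ 0
  hi₂ : u₂ ∉ Submodule.span F {u₁}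
  hi₃ : u₃ ∉ Submodule.span F {u₁, u₂}

theorem coord_eq_zero {u₁ u₂ u₃ : V6} (P : IsPlane u₁ u₂ u₃) {p q r : F}
    (h : p • u₁ + q • u₂ + r • u₃ = 0) : p = 0 ∧ q = 0 ∧ r = 0 := by
  obtain ⟨-, -, -, -, -, -, hu₁, hi₂, hi₃⟩ := P
  have _ := hF
  have hr : r = 0 := by
    by_contra hr
    refine hi₃ (Submodule.mem_span_pair.2 ⟨-(r⁻¹ * p), -(r⁻¹ * q), ?_⟩)
    have := congrArg (fun z => r⁻¹ • z) h
    simp only [smul_add, smul_smul, smul_zero, inv_mul_cancel₀ hr, one_smul] at this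
    linear_combination (norm := module) -this
  rw [hr, zero_smul, add_zero] at h
  have hli : LinearIndependent F ![u₁, u₂] := by
    rw [LinearIndependent.pair_iff' hu₁]
    exact fun c hc => hi₂ (Submodule.mem_span_singleton.2 ⟨c, hc⟩)
  exact ⟨(LinearIndependent.pair_iff.1 hli _ _ h).1, (LinearIndependent.pair_iff.1 hli _ _ h).2, hr⟩

theorem IsPt.vec3_inj {u₁ u₂ u₃ : V6} (P : IsPlane u₁ u₂ u₃) {x : PSU6} {s t s' t' : F} (h : IsPt x (vec3 u₁ u₂ u₃ s t))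
    (h' : IsPt x (vec3 u₁ u₂ u₃ s' t')) : s = s' ∧ t = t' := by
  obtain ⟨a, -, ha⟩ := IsPt.span_eq hF h h'
  have h0 : (a - 1) • u₁ + (a * s - s') • u₂ + (a * t - t') • u₃ = 0 := by
    unfold vec3 at ha
    linear_combination (norm := module) -ha
  obtain ⟨e1, e2, e3⟩ := coord_eq_zero hF P h0
  rw [sub_eq_zero.1 e1, one_mul] at e2 e3
  exact ⟨sub_eq_zero.1 e2, sub_eq_zero.1 e3⟩

theorem IsPt.vec3_ne {u₁ u₂ u₃ : V6} (P : IsPlane u₁ u₂ u₃) {x : PSU6} {s t : F} {w : V6} (h : IsPt x (vec3 u₁ u₂ u₃ s t))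
    (hs : s ≠ 0) {y : PSU6} (hy : IsPt y w) (hw : w = u₁ ∨ w = u₂ ∨ w = u₃) : x ≠ y := by
  rintro rfl
  obtain ⟨a, -, ha⟩ := IsPt.span_eq hF h hy
  unfold vec3 at ha
  rcases hw with rfl | rfl | rfl
  · obtain ⟨e1, e2, -⟩ := coord_eq_zero hF P (p := a - 1) (q := a * s) (r := a * t)
      (by linear_combination (norm := module) -ha)
    rw [sub_eq_zero.1 e1, one_mul] at e2
    exact hs e2
  · obtain ⟨e1, e2, -⟩ := coord_eq_zero hF P (p := a) (q := a * s - 1) (r := a * t)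
      (by linear_combination (norm := module) -ha)
    rw [e1, zero_mul, zero_sub, neg_eq_zero] at e2
    exact one_ne_zero e2
  · obtain ⟨e1, -, e3⟩ := coord_eq_zero hF P (p := a) (q := a * s) (r := a * t - 1)
      (by linear_combination (norm := module) -ha)
    rw [e1, zero_mul, zero_sub, neg_eq_zero] at e3
    exact one_ne_zero e3

theorem perp_comb {u₁ u₂ u₃ : V6} (P : IsPlane u₁ u₂ u₃) (p q r p' q' r' : F) :
    H6 (p • u₁ + q • u₂ + r • u₃) (p' • u₁ + q' • u₂ + r' • u₃) = 0 := by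
  obtain ⟨h₁₁, h₂₂, h₃₃, h₁₂, h₁₃, h₂₃, -, -, -⟩ := P
  simp only [add_left hF, add_right hF, smul_left hF, smul_right hF, h₁₁, h₂₂, h₃₃, h₁₂, h₁₃, h₂₃,
    (comm_zero hF).1 h₁₂, (comm_zero hF).1 h₁₃, (comm_zero hF).1 h₂₃, mul_zero, add_zero]

theorem isot_vec3 {u₁ u₂ u₃ : V6} (P : IsPlane u₁ u₂ u₃) (s t : F) : Isot 2 (vec3 u₁ u₂ u₃ s t) := by
  refine ⟨fun h => ?_, ?_⟩
  · have := (coord_eq_zero hF P (p := 1) (q := s) (r := t) (by rw [one_smul]; exact h)).1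
    exact one_ne_zero this
  · have := perp_comb hF P 1 s t 1 s t
    rwa [one_smul] at this

/-- The six points of a hyperoval through the triangle have product one. -/
theorem oval_prod {u₁ u₂ u₃ : V6} (P : IsPlane u₁ u₂ u₃) {ω κ : F} (hω0 : ω ≠ 0) (hω : ω ^ 2 + ω + 1 = 0) (hκ : κ ≠ 0)
    {x₁ x₂ x₃ p q r : PSU6} (hx₁ : IsPt x₁ u₁) (hx₂ : IsPt x₂ u₂) (hx₃ : IsPt x₃ u₃)
    (hp : IsPt p (vec3 u₁ u₂ u₃ 1 κ)) (hq : IsPt q (vec3 u₁ u₂ u₃ ω (κ * ω ^ 2)))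
    (hr : IsPt r (vec3 u₁ u₂ u₃ (ω ^ 2) (κ * ω))) : x₁ * x₂ * x₃ * (p * q * r) = 1 := by
  have h₁₂ := P.h₁₂
  have h₁₃ := P.h₁₃
  have h₂₃ := P.h₂₃
  obtain ⟨-, t₁, k₁, rfl⟩ := hx₁
  obtain ⟨-, t₂, k₂, rfl⟩ := hx₂
  obtain ⟨-, t₃, k₃, rfl⟩ := hx₃
  obtain ⟨-, t₄, k₄, rfl⟩ := hp
  obtain ⟨-, t₅, k₅, rfl⟩ := hq
  obtain ⟨-, t₆, k₆, rfl⟩ := hr
  have hc : ∀ p q r p' q' r' : F, H6 (p • u₁ + q • u₂ + r • u₃) (p' • u₁ + q' • u₂ + r' • u₃) = 0 :=
    perp_comb hF P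
  have e₁ : u₁ = (1 : F) • u₁ + (0 : F) • u₂ + (0 : F) • u₃ := by module
  have e₂ : u₂ = (0 : F) • u₁ + (1 : F) • u₂ + (0 : F) • u₃ := by module
  have e₃ : u₃ = (0 : F) • u₁ + (0 : F) • u₂ + (1 : F) • u₃ := by module
  have ev : ∀ s t : F, vec3 u₁ u₂ u₃ s t = (1 : F) • u₁ + s • u₂ + t • u₃ := fun s t => by
    rw [one_smul]; rfl
  have hv : ∀ s t s' t' : F, H6 (vec3 u₁ u₂ u₃ s t) (vec3 u₁ u₂ u₃ s' t') = 0 := fun s t s' t' => by
    rw [ev, ev]; exact hc _ _ _ _ _ _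
  have hv₁ : ∀ s t : F, H6 (vec3 u₁ u₂ u₃ s t) u₁ = 0 := fun s t => by
    rw [ev]; nth_rw 2 [e₁]; exact hc _ _ _ _ _ _
  have hv₂ : ∀ s t : F, H6 (vec3 u₁ u₂ u₃ s t) u₂ = 0 := fun s t => by
    rw [ev]; nth_rw 2 [e₂]; exact hc _ _ _ _ _ _
  have hv₃ : ∀ s t : F, H6 (vec3 u₁ u₂ u₃ s t) u₃ = 0 := fun s t => by
    rw [ev]; nth_rw 2 [e₃]; exact hc _ _ _ _ _ _
  rw [← map_mul, ← map_mul, ← map_mul, ← map_mul, ← map_mul,
    show t₁ * t₂ * t₃ * (t₄ * t₅ * t₆) = 1 from act_ext fun z => ?_, map_one]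
  rw [act_mul, act_mul3 hF k₁ k₂ k₃ ((comm_zero hF).1 h₁₂) ((comm_zero hF).1 h₁₃) ((comm_zero hF).1 h₂₃),
    act_mul3 hF k₄ k₅ k₆ (hv _ _ _ _) (hv _ _ _ _) (hv _ _ _ _), act_one]
  simp only [add_left hF, smul_left hF, hv₁, hv₂, hv₃, mul_zero, add_zero]
  unfold vec3
  simp only [add_right hF, smul_right hF]
  have := charTwo hF
  have two : (2 : F) = 0 := CharTwo.two_eq_zero
  have w3 := cube_eq_one hF hω0
  have k3 := cube_eq_one hF hκ
  match_scalars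
  · ring
  · linear_combination 2 * H6 z u₁ * two + H6 z u₂ * hω + κ ^ 2 * H6 z u₃ * hω
      + ω * H6 z u₂ * w3 + κ ^ 2 * ω * H6 z u₃ * w3
  · linear_combination H6 z u₁ * hω + 2 * H6 z u₂ * two + κ ^ 2 * H6 z u₃ * hω
      + (1 + (ω ^ 3 + 1)) * H6 z u₂ * w3 + κ ^ 2 * ω * H6 z u₃ * (ω + 1) * w3
  · linear_combination κ * H6 z u₁ * hω + κ * H6 z u₂ * hω + 2 * H6 z u₃ * two
      + κ * ω * H6 z u₂ * (ω + 1) * w3 + (1 + (ω ^ 3 + 1)) * H6 z u₃ * κ ^ 3 * w3 + 3 * H6 z u₃ * k3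

end CfsgLib.U6
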