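import Cfsg.Agent.Lib.ThreeTransp.M22Order

/-!
# Groups of type `M(22)`: triples of commuting members

Ordered triples of distinct pairwise commuting members are conjugate; the products of such triples form one
class of `36486450` elements.
-/

set_option autoImplicit false

namespace CfsgLib.M22

open CfsgLib.ThreeTransp CfsgLib.SporMisc
open CfsgLib.U6 (IsPt)
open CfsgLib.PSUAut (Isot)

variable {G : Type*} [Group G] {D : Set G}
variable [Finite G] (S : Setup D) {F : Type} [Field F] [Fintype F] (hF : Fintype.card F = 2 ^ 2)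
  (hM : ∀ a ∈ D, Nonempty (Model D a F))
include S hF hM

/-- The common neighbours of a commuting pair are conjugate under elements fixing the pair. -/
theorem trans_common {a b c c' : G} (ha : a ∈ D) (hb : b ∈ link D a) (hc : c ∈ link D a ∩ link D b)
    (hc' : c' ∈ link D a ∩ link D b) : ∃ g : G, Commute g a ∧ Commute g b ∧ g * c * g⁻¹ = c' := by
  have key : ∀ {c c' : G}, c ∈ link D a ∩ link D b → c' ∈ link D a ∩ link D b → ¬ Commute c c' →
      ∃ g : G, Commute g a ∧ Commute g b ∧ g * c * g⁻¹ = c' := fun {c c'} h h' hn =>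
    ⟨c * c' * c, (h.1.2.2.symm.mul_left h'.1.2.2.symm).mul_left h.1.2.2.symm,
      (h.2.2.2.symm.mul_left h'.2.2.2.symm).mul_left h.2.2.2.symm, by
      rw [S.tt.inv_eq (S.tt.cj_mem h.1.1 h'.1.1)]; exact S.tt.cj_conj_self h.1.1 h'.1.1 hn⟩
  by_cases hne : c = c'
  · exact ⟨1, Commute.one_left a, Commute.one_left b, by rw [hne]; group⟩
  by_cases hcc : Commute c c'
  swap
  · exact key hc hc' hcc
  obtain ⟨A⟩ := hM a ha
  obtain ⟨u, hu⟩ := A.exists_pt_of_link S hF ha hb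
  obtain ⟨v, hv⟩ := A.exists_pt_of_link S hF ha hc.1
  obtain ⟨v', hv'⟩ := A.exists_pt_of_link S hF ha hc'.1
  have hvu : Cfsg.hermForm 6 F 2 v u = 0 := (A.comm_iff S hF ha hc.1 hb hv hu).1 hc.2.2.2.symm
  have hvv : Cfsg.hermForm 6 F 2 v v' = 0 := (A.comm_iff S hF ha hc.1 hc'.1 hv hv').1 hcc
  have avoid : ∀ {t : Fin 6 → F}, t ∉ Submodule.span F {u} →
      ∃ g₁, Cfsg.hermForm 6 F 2 g₁ u = 0 ∧ Cfsg.hermForm 6 F 2 g₁ t ≠ 0 := by
    intro t ht
    obtain ⟨g₁, h1, h2⟩ := U6.exists_perp_ne hF ![u] (z := t) (by simpa using ht)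
    exact ⟨g₁, h1 0, by rw [h2]; exact one_ne_zero⟩
  obtain ⟨g₁, g₁u, g₁v⟩ := avoid (A.notMem S hF ha hb hc.1 hu hv hc.2.2.1.symm)
  obtain ⟨g₂, g₂u, g₂v⟩ := avoid (A.notMem S hF ha hb hc'.1 hu hv' hc'.2.2.1.symm)
  obtain ⟨g₃, g₃u, g₃v, g₃v'⟩ : ∃ g₃, Cfsg.hermForm 6 F 2 g₃ u = 0 ∧ Cfsg.hermForm 6 F 2 g₃ v ≠ 0 ∧
      Cfsg.hermForm 6 F 2 g₃ v' ≠ 0 := by
    by_cases h1 : Cfsg.hermForm 6 F 2 g₁ v' = 0
    · by_cases h2 : Cfsg.hermForm 6 F 2 g₂ v = 0
      · exact ⟨g₁ + g₂, by rw [U6.add_left hF, g₁u, g₂u, add_zero],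
          by rwa [U6.add_left hF, h2, add_zero], by rwa [U6.add_left hF, h1, zero_add]⟩
      · exact ⟨g₂, g₂u, h2, g₂v⟩
    · exact ⟨g₁, g₁u, g₁v, h1⟩
  set g₄ := (Cfsg.hermForm 6 F 2 g₃ v)⁻¹ • g₃ with hg₄
  obtain ⟨σ, hσ⟩ := U6.exists_sigma hF
  obtain ⟨t, ht1, ht2, ht3⟩ := PSUAut.exists_iso_shift hF hσ hv.1.2 (y := g₄)
    (by rw [hg₄, U6.smul_left hF, inv_mul_cancel₀ g₃v])
  obtain ⟨W, hW⟩ := U6.exists_pt hF (v := g₄ + t • v) ⟨ht3, ht1⟩
  obtain ⟨m, lm, rfl⟩ := A.exists_link_of_pt S hF ha hW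
  have cmb : Commute m b := (A.comm_iff S hF ha lm hb hW hu).2 (by
    rw [hg₄, U6.add_left hF, U6.smul_left hF, U6.smul_left hF, g₃u, hvu, mul_zero, mul_zero, add_zero])
  have ncmc : ¬ Commute m c := fun h => by
    rw [(A.comm_iff S hF ha lm hc.1 hW hv).1 h] at ht2
    exact zero_ne_one ht2
  have ncmc' : ¬ Commute m c' := fun h => by
    have := (A.comm_iff S hF ha lm hc'.1 hW hv').1 h
    rw [hg₄, U6.add_left hF, U6.smul_left hF, U6.smul_left hF, hvv, mul_zero, add_zero, mul_eq_zero] at this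
    exact this.elim (inv_ne_zero g₃v) g₃v'
  have lm' : m ∈ link D a ∩ link D b :=
    ⟨lm, lm.1, fun h => ncmc (h ▸ hc.2.2.2), cmb.symm⟩
  obtain ⟨g, ga, gb, hg⟩ := key hc lm' fun h => ncmc h.symm
  obtain ⟨g', ga', gb', hg'⟩ := key lm' hc' ncmc'
  exact ⟨g' * g, ga'.mul_left ga, gb'.mul_left gb, by rw [← hg', ← hg]; group⟩

/-- Ordered triples are conjugate. -/
theorem tri_conj {a b c a' b' c' : G} (T : Tri D a b c) (T' : Tri D a' b' c') :
    ∃ g : G, g * a * g⁻¹ = a' ∧ g * b * g⁻¹ = b' ∧ g * c * g⁻¹ = c' := by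
  obtain ⟨g₁, hg₁⟩ := S.cls T.ha T'.ha
  obtain ⟨A⟩ := hM a' T'.ha
  have lb : g₁ * b * g₁⁻¹ ∈ link D a' := hg₁ ▸ link_conj S.tt g₁ T.mem_link_b
  obtain ⟨g₂, hg₂, hg₂b⟩ := A.link_conj_of_mem S hF T'.ha lb T'.mem_link_b
  have hfix : g₂ * a' * g₂⁻¹ = a' := by
    rw [← (commute_link_closure hg₂).eq, mul_inv_cancel_right]
  have e1 : g₂ * g₁ * a * (g₂ * g₁)⁻¹ = a' := by
    rw [show g₂ * g₁ * a * (g₂ * g₁)⁻¹ = g₂ * (g₁ * a * g₁⁻¹) * g₂⁻¹ by group, hg₁, hfix]
  have e2 : g₂ * g₁ * b * (g₂ * g₁)⁻¹ = b' := by rw [← hg₂b]; group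
  have lc : g₂ * g₁ * c * (g₂ * g₁)⁻¹ ∈ link D a' ∩ link D b' :=
    ⟨e1 ▸ link_conj S.tt (g₂ * g₁) T.mem_link_c,
      e2 ▸ link_conj S.tt (g₂ * g₁) (show c ∈ link D b from ⟨T.hc, T.bc.symm, T.cbc⟩)⟩
  obtain ⟨g₃, ga, gb, hg₃⟩ := trans_common S hF hM T'.ha T'.mem_link_b lc
    ⟨T'.mem_link_c, T'.hc, T'.bc.symm, T'.cbc⟩
  refine ⟨g₃ * (g₂ * g₁), ?_, ?_, ?_⟩
  · rw [show g₃ * (g₂ * g₁) * a * (g₃ * (g₂ * g₁))⁻¹ = g₃ * (g₂ * g₁ * a * (g₂ * g₁)⁻¹) * g₃⁻¹ by group, e1,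
      ga.eq, mul_inv_cancel_right]
  · rw [show g₃ * (g₂ * g₁) * b * (g₃ * (g₂ * g₁))⁻¹ = g₃ * (g₂ * g₁ * b * (g₂ * g₁)⁻¹) * g₃⁻¹ by group, e2,
      gb.eq, mul_inv_cancel_right]
  · rw [← hg₃]; group

/-- The products of two members completing a triple with `d`. -/
theorem pair_products_ncard {d : G} (hd : d ∈ D) :
    {w | ∃ b c, Tri D d b c ∧ b * c = w}.ncard = 62370 := by
  have h := count_pairs (s := link D d) (t := {w | ∃ b c, Tri D d b c ∧ b * c = w})
    (fun b w => ∃ c, Tri D d b c ∧ b * c = w) (m := 180) (n := 2) (fun b hb => ?_) (fun w hw => ?_)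
  · rw [link_ncard_eq S hF hM hd] at h
    omega
  · rw [← link_two_ncard S hF hM hd hb, ← Set.ncard_image_of_injective (link D d ∩ link D b) (mul_right_injective b)]
    congr 1
    ext w
    constructor
    · rintro ⟨-, c, T, rfl⟩
      exact ⟨c, ⟨T.mem_link_c, T.hc, T.bc.symm, T.cbc⟩, rfl⟩
    · rintro ⟨c, ⟨hc1, hc2⟩, rfl⟩
      have T : Tri D d b c := ⟨hd, hb.1, hc1.1, hb.2.1.symm, hc1.2.1.symm, hc2.2.1.symm, hb.2.2, hc1.2.2, hc2.2.2⟩
      exact ⟨⟨b, c, T, rfl⟩, c, T, rfl⟩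
  · obtain ⟨b, c, T, rfl⟩ := hw
    rw [show {x | x ∈ link D d ∧ ∃ c', Tri D d x c' ∧ x * c' = b * c} = {b, c} from ?_, Set.ncard_pair T.bc]
    ext x
    constructor
    · rintro ⟨-, c', T', he⟩
      rcases pair_unique S hF hM T'.hb T'.hc T.hb T.hc T'.bc T.bc T'.cbc T.cbc he with ⟨h, -⟩ | ⟨h, -⟩
      · exact Or.inl h
      · exact Or.inr h
    · rintro (rfl | rfl)
      · exact ⟨T.mem_link_b, c, T, rfl⟩
      · exact ⟨T.mem_link_c, b, ⟨T.ha, T.hc, T.hb, T.ac, T.ab, T.bc.symm, T.cac, T.cab, T.cbc.symm⟩,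
          T.cbc.symm.eq⟩

/-- There are `36486450` products of triples. -/
theorem triple_products_ncard : {z | ∃ a b c, Tri D a b c ∧ a * b * c = z}.ncard = 36486450 := by
  classical
  have h := count_pairs (s := D) (t := {z | ∃ a b c, Tri D a b c ∧ a * b * c = z})
    (fun a z => ∃ b c, Tri D a b c ∧ a * b * c = z) (m := 62370) (n := 6) (fun a ha => ?_) (fun z hz => ?_)
  · rw [ncard_eq S hF hM] at h
    omega
  · rw [← pair_products_ncard S hF hM ha,
      ← Set.ncard_image_of_injective {w | ∃ b c, Tri D a b c ∧ b * c = w} (mul_right_injective a)]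
    congr 1
    ext z
    constructor
    · rintro ⟨-, b, c, T, rfl⟩
      exact ⟨b * c, ⟨b, c, T, rfl⟩, (mul_assoc a b c).symm⟩
    · rintro ⟨-, ⟨b, c, T, rfl⟩, rfl⟩
      exact ⟨⟨a, b, c, T, mul_assoc a b c⟩, b, c, T, mul_assoc a b c⟩
  · obtain ⟨a, b, c, T, rfl⟩ := hz
    obtain ⟨p, q, r, T', hp, hne, hall⟩ := exists_partner_triple S hF hM T
    have hset : {x | x ∈ D ∧ ∃ y z, Tri D x y z ∧ x * y * z = a * b * c} =
        (↑([a, b, c, p, q, r].toFinset) : Set G) := by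
      ext x
      simp only [List.coe_toFinset, List.mem_cons, List.not_mem_nil, or_false, Set.mem_setOf_eq]
      constructor
      · rintro ⟨-, y, z, Tx, hx⟩
        rcases hall x y z Tx hx with h | h
        · have := (h x).1 List.mem_cons_self
          simp only [List.mem_cons, List.not_mem_nil, or_false] at this
          tauto
        · have := (h x).1 List.mem_cons_self
          simp only [List.mem_cons, List.not_mem_nil, or_false] at this
          tauto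
      · rintro (rfl | rfl | rfl | rfl | rfl | rfl)
        · exact ⟨T.ha, _, _, T, rfl⟩
        · exact ⟨T.hb, _, _, T.rot, T.prod_rot⟩
        · exact ⟨T.hc, _, _, T.rot.rot, T.rot.prod_rot.trans T.prod_rot⟩
        · exact ⟨T'.ha, _, _, T', hp⟩
        · exact ⟨T'.hb, _, _, T'.rot, T'.prod_rot.trans hp⟩
        · exact ⟨T'.hc, _, _, T'.rot.rot, (T'.rot.prod_rot.trans T'.prod_rot).trans hp⟩
    have dis : ∀ x ∈ [a, b, c], x ∉ [p, q, r] := by
      intro x hx hx'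
      apply hne
      have rotS : ∀ {d e f a b c : G}, SameTri e f d a b c → SameTri d e f a b c := by
        intro d e f a b c h x
        rw [← h x]; simp only [List.mem_cons, List.not_mem_nil, or_false]; tauto
      have rotS' : ∀ {d e f a b c : G}, SameTri d e f b c a → SameTri d e f a b c := by
        intro d e f a b c h x
        rw [h x]; simp only [List.mem_cons, List.not_mem_nil, or_false]; tauto
      have first : ∀ {d g h : G}, Tri D d g h → d * g * h = p * q * r → d ∈ [p, q, r] →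
          SameTri d g h p q r := by
        intro d g h T₀ hp₀ hd
        simp only [List.mem_cons, List.not_mem_nil, or_false] at hd
        rcases hd with hd | hd | hd
        · exact share S hF hM T₀ T' hd hp₀
        · exact rotS' (share S hF hM T₀ T'.rot hd (hp₀.trans T'.prod_rot.symm))
        · exact rotS' (rotS' (share S hF hM T₀ T'.rot.rot hd (hp₀.trans (T'.rot.prod_rot.trans T'.prod_rot).symm)))
      simp only [List.mem_cons, List.not_mem_nil, or_false] at hx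
      rcases hx with rfl | rfl | rfl
      · exact first T hp.symm hx'
      · exact rotS (first T.rot (T.prod_rot.trans hp.symm) hx')
      · exact rotS (rotS (first T.rot.rot ((T.rot.prod_rot.trans T.prod_rot).trans hp.symm) hx'))
    rw [hset, Set.ncard_coe_finset, List.toFinset_card_of_nodup]
    · rfl
    · simp only [List.mem_cons, List.not_mem_nil, or_false, forall_eq_or_imp, forall_eq, not_or] at dis
      simp only [List.nodup_cons, List.mem_cons, List.not_mem_nil, or_false, not_or, List.nodup_nil,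
        not_false_eq_true, and_true]
      obtain ⟨⟨a1, a2, a3⟩, ⟨b1, b2, b3⟩, c1, c2, c3⟩ := dis
      exact ⟨⟨T.ab, T.ac, a1, a2, a3⟩, ⟨T.bc, b1, b2, b3⟩, ⟨c1, c2, c3⟩, ⟨T'.ab, T'.ac⟩, T'.bc⟩

/-- The centraliser of a product of a triple. -/
theorem card_centralizer_triple {a b c : G} (T : Tri D a b c) :
    Nat.card ↥(Subgroup.centralizer ({a * b * c} : Set G)) = 2 ^ 16 * 3 ^ 3 := by
  have horb : MulAction.orbit (ConjAct G) (a * b * c) = {z | ∃ a b c, Tri D a b c ∧ a * b * c = z} := by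
    ext z
    rw [MulAction.mem_orbit_iff]
    constructor
    · rintro ⟨g, rfl⟩
      obtain ⟨h, rfl⟩ : ∃ h : G, ConjAct.toConjAct h = g := ⟨ConjAct.ofConjAct g, rfl⟩
      have hc : ∀ {x y : G}, Commute x y → Commute (h * x * h⁻¹) (h * y * h⁻¹) := fun e => (Commute.conj_iff h).2 e
      refine ⟨h * a * h⁻¹, h * b * h⁻¹, h * c * h⁻¹, ⟨S.tt.conj h a T.ha, S.tt.conj h b T.hb, S.tt.conj h c T.hc,
        by simpa using T.ab, by simpa using T.ac, by simpa using T.bc, hc T.cab, hc T.cac, hc T.cbc⟩, ?_⟩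
      show _ = h * (a * b * c) * h⁻¹
      group
    · rintro ⟨a', b', c', T', rfl⟩
      obtain ⟨g, e1, e2, e3⟩ := tri_conj S hF hM T T'
      refine ⟨ConjAct.toConjAct g, ?_⟩
      show g * (a * b * c) * g⁻¹ = _
      rw [← e1, ← e2, ← e3]; group
  have h := MulAction.index_stabilizer (G := ConjAct G) (a * b * c)
  rw [horb, triple_products_ncard S hF hM] at h
  have h' := Subgroup.index_mul_card (MulAction.stabilizer (ConjAct G) (a * b * c))
  rw [h, Nat.card_congr (ConjAct.ofConjAct (G := G)).toEquiv, card_eq S hF hM] at h'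
  have hst : Nat.card (MulAction.stabilizer (ConjAct G) (a * b * c)) =
      Nat.card ↥(Subgroup.centralizer ({a * b * c} : Set G)) := by
    refine Nat.card_congr ⟨fun g => ⟨ConjAct.ofConjAct g.1, Subgroup.mem_centralizer_singleton_iff.2 ?_⟩,
      fun g => ⟨ConjAct.toConjAct g.1, ?_⟩, fun g => rfl, fun g => rfl⟩
    · exact mul_inv_eq_iff_eq_mul.1 (MulAction.mem_stabilizer_iff.1 g.2)
    · refine MulAction.mem_stabilizer_iff.2 ?_
      show g.1 * (a * b * c) * g.1⁻¹ = a * b * c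
      rw [Subgroup.mem_centralizer_singleton_iff.1 g.2, mul_inv_cancel_right]
  rw [hst] at h'
  norm_num at h' ⊢
  omega

end CfsgLib.M22
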