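import Cfsg.Agent.Lib.ThreeTransp.M22Model

/-!
# Groups of type `M(22)`: products of commuting transpositions

A product of two commuting members of the class determines the pair; a product of three arises from exactly
two triples.
-/

set_option autoImplicit false

namespace CfsgLib.M22

open CfsgLib.ThreeTransp CfsgLib.SporMisc
open CfsgLib.U6 (IsPt)

variable {G : Type*} [Group G] {D : Set G}

/-- An ordered triple of distinct pairwise commuting members. -/
structure Tri (D : Set G) (a b c : G) : Prop where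
  ha : a ∈ D
  hb : b ∈ D
  hc : c ∈ D
  ab : a ≠ b
  ac : a ≠ c
  bc : b ≠ c
  cab : Commute a b
  cac : Commute a c
  cbc : Commute b c

namespace Tri

variable {a b c : G}

theorem rot (T : Tri D a b c) : Tri D b c a :=
  ⟨T.hb, T.hc, T.ha, T.bc, T.ab.symm, T.ac.symm, T.cbc, T.cab.symm, T.cac.symm⟩

theorem prod_rot (T : Tri D a b c) : b * c * a = a * b * c := by
  rw [mul_assoc a b c]
  exact (T.cab.mul_right T.cac).eq.symm

theorem swap₁₂ (T : Tri D a b c) : Tri D b a c :=
  ⟨T.hb, T.ha, T.hc, T.ab.symm, T.bc, T.ac, T.cab.symm, T.cbc, T.cac⟩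

theorem sq (T : Tri D a b c) (S : Setup D) : (a * b * c) * (a * b * c) = 1 := by
  have h : Commute (a * b) c := T.cac.mul_left T.cbc
  calc (a * b * c) * (a * b * c) = (a * b) * (a * b) * (c * c) := h.symm.mul_mul_mul_comm _ _
    _ = (a * a) * (b * b) * (c * c) := by rw [T.cab.symm.mul_mul_mul_comm]
    _ = 1 := by rw [S.sqd T.ha, S.sqd T.hb, S.sqd T.hc, one_mul, one_mul]

theorem mem_link_b (T : Tri D a b c) : b ∈ link D a := ⟨T.hb, T.ab.symm, T.cab⟩

theorem mem_link_c (T : Tri D a b c) : c ∈ link D a := ⟨T.hc, T.ac.symm, T.cac⟩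

end Tri

/-- The two triples agree as sets. -/
def SameTri (a b c d e f : G) : Prop := ∀ x : G, x ∈ [a, b, c] ↔ x ∈ [d, e, f]

variable [Finite G] (S : Setup D) {F : Type} [Field F] [Fintype F] (hF : Fintype.card F = 2 ^ 2)
  (hM : ∀ a ∈ D, Nonempty (Model D a F))
include S hF hM

/-- Nothing non-trivial centralises the links of two commuting members. -/
theorem centralizes_eq_one {a b z : G} (ha : a ∈ D) (hb : b ∈ link D a)
    (h1 : ∀ x ∈ link D a, Commute z x) (h2 : ∀ x ∈ link D b, Commute z x) : z = 1 := by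
  obtain ⟨A⟩ := hM a ha
  obtain ⟨B⟩ := hM b hb.1
  have hab := link_swap ha hb
  set M := Subgroup.closure (link D a ∪ link D b) with hMdef
  have hMa : Subgroup.closure (link D a) ≤ M := Subgroup.closure_mono Set.subset_union_left
  have hMb : Subgroup.closure (link D b) ≤ M := Subgroup.closure_mono Set.subset_union_right
  let K : Set G := {x | ∃ m ∈ M, m * a * m⁻¹ = x}
  obtain ⟨f, hfa, hfb⟩ := A.exists_third S hF ha hb
  have hKb : link D b ⊆ K := fun x hx => by
    obtain ⟨m, hm, rfl⟩ := B.link_conj_of_mem S hF hb.1 hab hx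
    exact ⟨m, hMb hm, rfl⟩
  have hKa : link D a ⊆ K := fun x hx => by
    obtain ⟨m, hm, rfl⟩ := A.link_conj_of_mem S hF ha hfa hx
    obtain ⟨m', hm', hm'f⟩ := hKb hfb
    exact ⟨m * m', mul_mem (hMa hm) hm', by rw [← hm'f]; group⟩
  have hKstep : ∀ x ∈ K, ∀ y ∈ D, Commute x y → y ∈ K := by
    rintro x ⟨m, hm, rfl⟩ y hy hc
    by_cases hxy : y = m * a * m⁻¹
    · exact ⟨m, hm, hxy.symm⟩
    have hl : m⁻¹ * y * m ∈ link D a := by
      have := link_conj S.tt m⁻¹ (show y ∈ link D (m * a * m⁻¹) from ⟨hy, hxy, hc⟩)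
      simpa [mul_assoc] using this
    obtain ⟨n, hn, hne⟩ := hKa hl
    exact ⟨m * n, mul_mem hm hn, by rw [show m * n * a * (m * n)⁻¹ = m * (n * a * n⁻¹) * m⁻¹ by group, hne]; group⟩
  have hKD : D ⊆ K := by
    intro y hy
    have hy' : y ∈ comp D Commute a := by
      rw [S.comp_eq ⟨a, ha, b, hb⟩ ha hy]
      exact mem_comp_self _ _ _
    change Relation.ReflTransGen _ a y at hy'
    clear hy
    induction hy' with
    | refl => exact ⟨1, one_mem _, by group⟩
    | tail _ h ih => exact hKstep _ ih _ h.2.1 h.2.2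
  have hzM : ∀ m ∈ M, Commute z m := by
    intro m hm
    induction hm using Subgroup.closure_induction with
    | mem x hx => exact hx.elim (h1 x) (h2 x)
    | one => exact Commute.one_right z
    | mul x y _ _ e1 e2 => exact e1.mul_right e2
    | inv x _ e => exact e.inv_right
  refine S.center_trivial fun x hx => ?_
  obtain ⟨m, hm, rfl⟩ := hKD hx
  exact hzM _ (mul_mem (mul_mem hm (Subgroup.subset_closure (Or.inr hab))) (inv_mem hm))

/-- A pair is determined by its product. -/
theorem pair_unique {a b c d : G} (ha : a ∈ D) (hb : b ∈ D) (hc : c ∈ D) (hd : d ∈ D) (hab : a ≠ b)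
    (hcd : c ≠ d) (cab : Commute a b) (ccd : Commute c d) (h : a * b = c * d) :
    (a = c ∧ b = d) ∨ (a = d ∧ b = c) := by
  by_cases h1 : a = c
  · exact Or.inl ⟨h1, mul_left_cancel (h1 ▸ h)⟩
  by_cases h2 : a = d
  · refine Or.inr ⟨h2, mul_left_cancel (a := a) ?_⟩
    rw [h, h2, ccd.eq]
  exfalso
  have hac : Commute a (c * d) := h ▸ (Commute.refl a).mul_right cab
  obtain ⟨k1, k2⟩ := S.commute_both hc hd ha ccd hcd hac
  have hbc : Commute b (c * d) := h ▸ cab.symm.mul_right (Commute.refl b)
  obtain ⟨k3, k4⟩ := S.commute_both hc hd hb ccd hcd hbc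
  have hbne : b ≠ c := by
    intro e
    apply h2
    have : a * c = d * c := by rw [← ccd.eq, ← h, e]
    exact mul_right_cancel this
  have hbne' : b ≠ d := by
    intro e
    apply h1
    have : a * d = c * d := by rw [← h, e]
    exact mul_right_cancel this
  have lb : b ∈ link D a := ⟨hb, hab.symm, cab⟩
  have lc : c ∈ link D a := ⟨hc, Ne.symm h1, k1⟩
  have ld : d ∈ link D a := ⟨hd, Ne.symm h2, k2⟩
  obtain ⟨M⟩ := hM a ha
  obtain ⟨u, hu⟩ := M.exists_pt_of_link S hF ha lb
  obtain ⟨v, hv⟩ := M.exists_pt_of_link S hF ha lc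
  obtain ⟨w, hw⟩ := M.exists_pt_of_link S hF ha ld
  refine U6.three_ne_one hF hu hv hw ((IsPt.commute_iff hF hu hv).1 (M.img_commute lb lc k3))
    ((IsPt.commute_iff hF hu hw).1 (M.img_commute lb ld k4))
    ((IsPt.commute_iff hF hv hw).1 (M.img_commute lc ld ccd))
    (fun e => hbne (M.img_inj S ha lb lc e)) (fun e => hbne' (M.img_inj S ha lb ld e)) ?_
  have hmem : b * c * d ∈ Subgroup.closure (link D a) :=
    mul_mem (mul_mem (Subgroup.subset_closure lb) (Subgroup.subset_closure lc)) (Subgroup.subset_closure ld)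
  have hz : (⟨b * c * d, hmem⟩ : ↥(Subgroup.closure (link D a))) ∈ Subgroup.center _ := by
    refine mem_center_of_commute fun x hx => ?_
    rw [show b * c * d = a by rw [mul_assoc, ← h, ← mul_assoc, ← cab.eq, mul_assoc, S.sqd hb, mul_one]]
    exact hx.2.2
  rw [Model.img, Model.img, Model.img, ← map_mul, ← map_mul]
  exact (M.ker _).2 hz

/-- A member commuting with the product of a triple, and with none of its members, does not exist. -/
theorem commute_all {x d e f : G} (hx : x ∈ D) (T : Tri D d e f) (h : Commute x (d * e * f)) :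
    Commute x d ∧ Commute x e ∧ Commute x f := by
  have aux : ∀ {d e f : G}, Tri D d e f → Commute x (d * e * f) → Commute x f →
      Commute x d ∧ Commute x e ∧ Commute x f := by
    intro d e f T h hf
    have : Commute x (d * e) := by
      have h' := h.mul_right hf.inv_right
      rwa [mul_inv_cancel_right] at h'
    obtain ⟨h1, h2⟩ := S.commute_both T.ha T.hb hx T.cab T.ab this
    exact ⟨h1, h2, hf⟩
  by_cases hf : Commute x f
  · exact aux T h hf
  by_cases hd : Commute x d
  · obtain ⟨h1, h2, h3⟩ := aux T.rot (T.prod_rot ▸ h) hd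
    exact ⟨h3, h1, h2⟩
  by_cases he : Commute x e
  · obtain ⟨h1, h2, h3⟩ := aux T.rot.rot ((T.rot.prod_rot.trans T.prod_rot) ▸ h) he
    exact ⟨h2, h3, h1⟩
  exfalso
  have hxx := S.sqd hx
  have hee := S.sqd T.hb
  have hdd := S.sqd T.ha
  set z := e * x * d * x * e with hz
  -- `z` is the conjugate of `f`
  have hzf : z = x * f * x := by
    have h1 : d * e * f = x * (d * e * f) * x := by rw [h.eq, mul_assoc (d * e * f), hxx, mul_one]
    have h2 : x * (d * e * f) * x = x * (d * e) * x * (x * f * x) := by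
      simp only [mul_assoc, cancel₂ hxx]
    have h3 : f = (e * d) * (x * (d * e) * x * (x * f * x)) := by
      rw [← h2, ← h1]
      simp only [mul_assoc, cancel₂ hdd, cancel₂ hee]
    -- rewrite the middle
    have h4 : (e * d) * (x * (d * e) * x) = z * x := by
      calc (e * d) * (x * (d * e) * x) = e * (d * x * d) * (e * x) := by simp only [mul_assoc]
        _ = e * (x * d * x) * (e * x) := by rw [S.tt.braid hx T.ha hd]
        _ = z * x := by rw [hz]; simp only [mul_assoc]
    rw [← mul_assoc, h4] at h3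
    calc z = z * x * (x * f * x) * (x * f * x)⁻¹ * x := by
          rw [mul_inv_cancel_right, mul_assoc, hxx, mul_one]
      _ = f * (x * f * x)⁻¹ * x := by rw [← h3]
      _ = x * f * x := by
          have : (x * f * x)⁻¹ = x * f * x := inv_eq_self (S.sqd (S.tt.cj_mem hx T.hc))
          rw [this]
          have hb := S.tt.braid hx T.hc hf
          rw [hb]
          simp only [mul_assoc, cancel₂ (S.sqd T.hc)]
          rw [← mul_assoc, ← mul_assoc, hb]
  have hfix : x * z * x = z := by
    have hb := S.tt.braid hx T.hb he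
    calc x * z * x = (x * e * x) * d * (x * e * x) := by rw [hz]; simp only [mul_assoc]
      _ = e * x * (e * d * e) * x * e := by rw [hb]; simp only [mul_assoc]
      _ = z := by rw [← T.cab.eq, mul_assoc d e e, hee, mul_one, hz]
  rw [hzf] at hfix
  refine hf ?_
  have h5 : f = x * f * x := by
    rw [← hfix]
    simp only [mul_assoc, cancel₂ hxx, hxx, mul_one]
  show x * f = f * x
  conv_rhs => rw [h5, mul_assoc, hxx, mul_one]

/-- Two triples with equal product sharing the first member agree. -/
theorem share {a b c d e f : G} (T : Tri D a b c) (T' : Tri D d e f) (h : a = d)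
    (hp : a * b * c = d * e * f) : SameTri a b c d e f := by
  subst h
  rw [mul_assoc, mul_assoc] at hp
  rcases pair_unique S hF hM T.hb T.hc T'.hb T'.hc T.bc T'.bc T.cbc T'.cbc (mul_left_cancel hp) with ⟨rfl, rfl⟩ | ⟨rfl, rfl⟩
  · exact fun x => Iff.rfl
  · intro x; simp only [List.mem_cons, List.not_mem_nil, or_false]; tauto

set_option maxHeartbeats 800000 in
/-- The partner triple. -/
theorem exists_partner_triple {a b c : G} (T : Tri D a b c) :
    ∃ p q r : G, Tri D p q r ∧ p * q * r = a * b * c ∧ ¬ SameTri a b c p q r ∧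
      ∀ d e f : G, Tri D d e f → d * e * f = a * b * c → SameTri d e f a b c ∨ SameTri d e f p q r := by
  have hb := T.mem_link_b
  have hc := T.mem_link_c
  obtain ⟨A⟩ := hM a T.ha
  obtain ⟨B⟩ := hM b T.hb
  obtain ⟨u, hu⟩ := A.exists_pt_of_link S hF T.ha hb
  obtain ⟨v, hv⟩ := A.exists_pt_of_link S hF T.ha hc
  have huv : U6.IsPt (A.img hb) u := hu
  have hperp : Cfsg.hermForm 6 F 2 u v = 0 := (IsPt.commute_iff hF hu hv).1 (A.img_commute hb hc T.cbc)
  have hneI : A.img hb ≠ A.img hc := fun e => T.bc (A.img_inj S T.ha hb hc e)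
  obtain ⟨x₂, x₃, x₄, w₂, w₃, w₄, h₂, h₃, h₄, s₂, s₃, s₄, hnd, hprod, hall⟩ :=
    U6.exists_line hF hu hv hperp hneI
  obtain ⟨p, lp, rfl⟩ := A.exists_link_of_pt S hF T.ha h₂
  obtain ⟨q, lq, rfl⟩ := A.exists_link_of_pt S hF T.ha h₃
  obtain ⟨r, lr, rfl⟩ := A.exists_link_of_pt S hF T.ha h₄
  simp only [List.nodup_cons, List.mem_cons, List.not_mem_nil, or_false, not_or, List.nodup_nil,
    not_false_eq_true, and_true] at hnd
  obtain ⟨⟨-, nbp, nbq, nbr⟩, ⟨ncp, ncq, ncr⟩, ⟨npq, npr⟩, nqr⟩ := hnd
  have ne' : ∀ {e f : G} (he : e ∈ link D a) (hf : f ∈ link D a), A.img he ≠ A.img hf → e ≠ f := by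
    intro e f he hf h hef
    subst hef
    exact h rfl
  have bp := ne' hb lp nbp
  have bq := ne' hb lq nbq
  have br := ne' hb lr nbr
  have cp := ne' hc lp ncp
  have cq := ne' hc lq ncq
  have cr := ne' hc lr ncr
  have pq := ne' lp lq npq
  have pr := ne' lp lr npr
  have qr := ne' lq lr nqr
  have hspu : u ∈ Submodule.span F {u, v} := Submodule.subset_span (Set.mem_insert _ _)
  have hspv : v ∈ Submodule.span F {u, v} := Submodule.subset_span (Set.mem_insert_of_mem _ rfl)
  have cm : ∀ {e f : G} (he : e ∈ link D a) (hf : f ∈ link D a) {s t : Fin 6 → F}, IsPt (A.img he) s →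
      IsPt (A.img hf) t → s ∈ Submodule.span F {u, v} → t ∈ Submodule.span F {u, v} → Commute e f := by
    intro e f he hf s t hs ht hs' ht'
    exact A.commute_of_img S T.ha he hf ((IsPt.commute_iff hF hs ht).2
      (U6.perp_of_mem_span hF hu.1.2 hv.1.2 hperp hs' ht'))
  have cbp := cm hb lp hu h₂ hspu s₂
  have cbq := cm hb lq hu h₃ hspu s₃
  have cbr := cm hb lr hu h₄ hspu s₄
  have ccp := cm hc lp hv h₂ hspv s₂
  have ccq := cm hc lq hv h₃ hspv s₃
  have ccr := cm hc lr hv h₄ hspv s₄
  have cpq := cm lp lq h₂ h₃ s₂ s₃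
  have cpr := cm lp lr h₂ h₄ s₂ s₄
  have cqr := cm lq lr h₃ h₄ s₃ s₄
  have Tp : Tri D p q r := ⟨lp.1, lq.1, lr.1, pq, pr, qr, cpq, cpr, cqr⟩
  -- view from `b`
  have la' : a ∈ link D b := link_swap T.ha hb
  have lc' : c ∈ link D b := ⟨T.hc, T.bc.symm, T.cbc⟩
  have lp' : p ∈ link D b := ⟨lp.1, bp.symm, cbp⟩
  have lq' : q ∈ link D b := ⟨lq.1, bq.symm, cbq⟩
  have lr' : r ∈ link D b := ⟨lr.1, br.symm, cbr⟩
  obtain ⟨u', hu'⟩ := B.exists_pt_of_link S hF T.hb la'
  obtain ⟨v', hv'⟩ := B.exists_pt_of_link S hF T.hb lc'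
  obtain ⟨z₂, z₃, z₄, _, _, _, -, -, -, -, -, -, hnd', hprod', hall'⟩ := U6.exists_line hF hu' hv'
    ((IsPt.commute_iff hF hu' hv').1 (B.img_commute la' lc' T.cac))
    (fun e => T.ac (B.img_inj S T.hb la' lc' e))
  have inB : ∀ {y : G} (ly : y ∈ link D a) (ly' : y ∈ link D b) {w : Fin 6 → F}, IsPt (A.img ly) w →
      w ∈ Submodule.span F {u, v} → y ≠ c → B.img ly' ∈ [z₂, z₃, z₄] := by
    intro y ly ly' w hw hws hyc
    obtain ⟨w', hw'⟩ := B.exists_pt_of_link S hF T.hb ly'
    have hmem : w' ∈ Submodule.span F {u', v'} := by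
      refine (U6.mem_span_iff hF hu'.1 hv'.1 hw'.1).2 fun s hs hsu hsv => ?_
      obtain ⟨x, hx⟩ := U6.exists_pt hF hs
      obtain ⟨e, le, rfl⟩ := B.exists_link_of_pt S hF T.hb hx
      have cea := B.commute_of_img S T.hb le la' ((IsPt.commute_iff hF hx hu').2 hsu)
      have cec := B.commute_of_img S T.hb le lc' ((IsPt.commute_iff hF hx hv').2 hsv)
      refine (IsPt.commute_iff hF hx hw').1 (B.img_commute le ly' ?_)
      by_cases hea : e = a
      · rw [hea]; exact ly.2.2
      have le' : e ∈ link D a := ⟨le.1, hea, cea.symm⟩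
      obtain ⟨t, ht⟩ := A.exists_pt_of_link S hF T.ha le'
      exact A.commute_of_img S T.ha le' ly ((IsPt.commute_iff hF ht hw).2 (U6.perp_span_right hF hws
        ((IsPt.commute_iff hF ht hu).1 (A.img_commute le' hb le.2.2.symm))
        ((IsPt.commute_iff hF ht hv).1 (A.img_commute le' hc cec))))
    have h := hall' _ _ hw' hmem
    rcases List.mem_cons.1 h with h | h
    · exact absurd (B.img_inj S T.hb ly' la' h) ly.2.1
    rcases List.mem_cons.1 h with h | h
    · exact absurd (B.img_inj S T.hb ly' lc' h) hyc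
    exact h
  have hperm : List.Perm [B.img lp', B.img lq', B.img lr'] [z₂, z₃, z₄] := by
    refine (List.subperm_of_subset ?_ ?_).perm_of_length_le (by simp)
    · simp only [List.nodup_cons, List.mem_cons, List.not_mem_nil, or_false, not_or, List.nodup_nil,
        not_false_eq_true, and_true]
      exact ⟨⟨fun e => pq (B.img_inj S T.hb lp' lq' e), fun e => pr (B.img_inj S T.hb lp' lr' e)⟩,
        fun e => qr (B.img_inj S T.hb lq' lr' e)⟩
    · intro x hx
      simp only [List.mem_cons, List.not_mem_nil, or_false] at hx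
      rcases hx with rfl | rfl | rfl
      · exact inB lp lp' h₂ s₂ cp.symm
      · exact inB lq lq' h₃ s₃ cq.symm
      · exact inB lr lr' h₄ s₄ cr.symm
  have hprodB : B.img lp' * B.img lq' * B.img lr' = z₂ * z₃ * z₄ := by
    have := hperm.prod_eq' (by
      simp only [List.pairwise_cons, List.mem_cons, List.not_mem_nil, or_false, forall_eq_or_imp, forall_eq,
        List.Pairwise.nil, and_true, false_implies, implies_true]
      exact ⟨⟨B.img_commute lp' lq' cpq, B.img_commute lp' lr' cpr⟩, B.img_commute lq' lr' cqr⟩)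
    simpa [mul_assoc] using this
  -- the product of the six
  set P := b * c * p * q * r with hP
  have hPmem : P ∈ Subgroup.closure (link D a) := mul_mem (mul_mem (mul_mem (mul_mem (Subgroup.subset_closure hb)
    (Subgroup.subset_closure hc)) (Subgroup.subset_closure lp)) (Subgroup.subset_closure lq))
    (Subgroup.subset_closure lr)
  have hPc : (⟨P, hPmem⟩ : ↥(Subgroup.closure (link D a))) ∈ Subgroup.center _ := by
    refine (A.ker _).1 ?_
    rw [← hprod]
    simp only [Model.img, ← map_mul]
    rfl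
  set Q := a * c * p * q * r with hQ
  have hQmem : Q ∈ Subgroup.closure (link D b) := mul_mem (mul_mem (mul_mem (mul_mem (Subgroup.subset_closure la')
    (Subgroup.subset_closure lc')) (Subgroup.subset_closure lp')) (Subgroup.subset_closure lq'))
    (Subgroup.subset_closure lr')
  have hQc : (⟨Q, hQmem⟩ : ↥(Subgroup.closure (link D b))) ∈ Subgroup.center _ := by
    refine (B.ker _).1 ?_
    rw [← hprod', show B.img la' * B.img lc' * z₂ * z₃ * z₄ = B.img la' * B.img lc' * (z₂ * z₃ * z₄) by
      simp only [mul_assoc], ← hprodB]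
    simp only [Model.img, ← map_mul]
    congr 1
    exact Subtype.ext (by simp [hQ, mul_assoc])
  have hone : a * P = 1 := by
    refine centralizes_eq_one S hF hM T.ha hb (fun x hx => ?_) fun x hx => ?_
    · exact Commute.mul_left hx.2.2 (commute_of_mem_center hPc hx)
    · rw [show a * P = b * Q by simp only [hP, hQ, ← mul_assoc, T.cab.eq]]
      exact Commute.mul_left hx.2.2 (commute_of_mem_center hQc hx)
  have hpqr : p * q * r = a * b * c := by
    have h1 : a * b * c * (p * q * r) = 1 := by rw [← hone, hP]; simp only [mul_assoc]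
    rw [mul_eq_one_iff_eq_inv, inv_eq_self (Tp.sq S)] at h1
    exact h1.symm
  refine ⟨p, q, r, Tp, hpqr, ?_, ?_⟩
  · intro h
    have := (h a).1 List.mem_cons_self
    simp only [List.mem_cons, List.not_mem_nil, or_false] at this
    rcases this with e | e | e
    · exact lp.2.1 e.symm
    · exact lq.2.1 e.symm
    · exact lr.2.1 e.symm
  intro d e f T' hp
  by_cases hshare : ∃ x, x ∈ [a, b, c] ∧ x ∈ [d, e, f]
  · left
    have rotS : ∀ {d e f a b c : G}, SameTri e f d a b c → SameTri d e f a b c := by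
      intro d e f a b c h x
      rw [← h x]; simp only [List.mem_cons, List.not_mem_nil, or_false]; tauto
    have rotS' : ∀ {d e f a b c : G}, SameTri d e f b c a → SameTri d e f a b c := by
      intro d e f a b c h x
      rw [h x]; simp only [List.mem_cons, List.not_mem_nil, or_false]; tauto
    obtain ⟨x, hx, hx'⟩ := hshare
    have first : ∀ {d e f : G}, Tri D d e f → d * e * f = a * b * c → d ∈ [a, b, c] → SameTri d e f a b c := by
      intro d e f T' hp hd
      simp only [List.mem_cons, List.not_mem_nil, or_false] at hd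
      rcases hd with hd | hd | hd
      · exact share S hF hM T' T hd hp
      · exact rotS' (share S hF hM T' T.rot hd (hp.trans T.prod_rot.symm))
      · exact rotS' (rotS' (share S hF hM T' T.rot.rot hd (hp.trans (T.rot.prod_rot.trans T.prod_rot).symm)))
    simp only [List.mem_cons, List.not_mem_nil, or_false] at hx'
    rcases hx' with rfl | rfl | rfl
    · exact first T' hp hx
    · exact rotS (first T'.rot (T'.prod_rot.trans hp) hx)
    · exact rotS (rotS (first T'.rot.rot ((T'.rot.prod_rot.trans T'.prod_rot).trans hp) hx))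
  · right
    push Not at hshare
    have hcom : ∀ x, x ∈ [a, b, c] → Commute x (a * b * c) := by
      intro x hx
      simp only [List.mem_cons, List.not_mem_nil, or_false] at hx
      rcases hx with rfl | rfl | rfl
      · exact ((Commute.refl _).mul_right T.cab).mul_right T.cac
      · exact (T.cab.symm.mul_right (Commute.refl _)).mul_right T.cbc
      · exact (T.cac.symm.mul_right T.cbc.symm).mul_right (Commute.refl _)
    obtain ⟨a1, a2, a3⟩ := commute_all S hF hM T.ha T' (hp ▸ hcom a (by simp))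
    obtain ⟨b1, b2, b3⟩ := commute_all S hF hM T.hb T' (hp ▸ hcom b (by simp))
    obtain ⟨c1, c2, c3⟩ := commute_all S hF hM T.hc T' (hp ▸ hcom c (by simp))
    have na : ∀ y ∈ [d, e, f], y ≠ a ∧ y ≠ b ∧ y ≠ c := by
      intro y hy
      exact ⟨fun h => hshare a (by simp) (h ▸ hy), fun h => hshare b (by simp) (h ▸ hy),
        fun h => hshare c (by simp) (h ▸ hy)⟩
    obtain ⟨da, db, dc⟩ := na d (by simp)
    obtain ⟨ea, eb, ec⟩ := na e (by simp)
    obtain ⟨fa, fb, fc⟩ := na f (by simp)
    have ld : d ∈ link D a := ⟨T'.ha, da, a1⟩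
    have le : e ∈ link D a := ⟨T'.hb, ea, a2⟩
    have lf : f ∈ link D a := ⟨T'.hc, fa, a3⟩
    have hbc : b * c * (d * e * f) = a := by
      rw [hp]
      calc b * c * (a * b * c) = b * c * (b * c * a) := by rw [T.prod_rot]
        _ = a := by
          rw [← mul_assoc, T.cbc.symm.mul_mul_mul_comm, S.sqd T.hb, S.sqd T.hc, one_mul, one_mul]
    have hmem : b * c * d * e * f ∈ Subgroup.closure (link D a) :=
      mul_mem (mul_mem (mul_mem (mul_mem (Subgroup.subset_closure hb) (Subgroup.subset_closure hc))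
        (Subgroup.subset_closure ld)) (Subgroup.subset_closure le)) (Subgroup.subset_closure lf)
    have hz : (⟨b * c * d * e * f, hmem⟩ : ↥(Subgroup.closure (link D a))) ∈ Subgroup.center _ := by
      refine mem_center_of_commute fun x hx => ?_
      rw [show b * c * d * e * f = b * c * (d * e * f) by simp only [mul_assoc], hbc]
      exact hx.2.2
    have himg : A.img hb * A.img hc * A.img ld * A.img le * A.img lf = 1 := by
      simp only [Model.img, ← map_mul]
      exact (A.ker _).2 hz
    obtain ⟨wd, hwd⟩ := A.exists_pt_of_link S hF T.ha ld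
    obtain ⟨we, hwe⟩ := A.exists_pt_of_link S hF T.ha le
    obtain ⟨wf, hwf⟩ := A.exists_pt_of_link S hF T.ha lf
    have P0 : ∀ {s t : G} (ls : s ∈ link D a) (lt : t ∈ link D a) {x y : Fin 6 → F}, IsPt (A.img ls) x →
        IsPt (A.img lt) y → Commute s t → Cfsg.hermForm 6 F 2 x y = 0 :=
      fun ls lt _ _ hx hy h => (IsPt.commute_iff hF hx hy).1 (A.img_commute ls lt h)
    obtain ⟨m1, m2, m3⟩ := U6.five_on_line hF hu hv hwd hwe hwf hneI (P0 hc hb hv hu T.cbc.symm)
      (P0 ld hb hwd hu b1.symm) (P0 ld hc hwd hv c1.symm) (P0 le hb hwe hu b2.symm) (P0 le hc hwe hv c2.symm)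
      (P0 le ld hwe hwd T'.cab.symm) (P0 lf hb hwf hu b3.symm) (P0 lf hc hwf hv c3.symm)
      (P0 lf ld hwf hwd T'.cac.symm) (P0 lf le hwf hwe T'.cbc.symm) himg
    have inY : ∀ {y : G} (ly : y ∈ link D a) {w : Fin 6 → F}, IsPt (A.img ly) w →
        w ∈ Submodule.span F {u, v} → y ≠ b → y ≠ c → y ∈ [p, q, r] := by
      intro y ly w hw hws hyb hyc
      have h := hall _ _ hw hws
      simp only [List.mem_cons, List.not_mem_nil, or_false] at h ⊢
      rcases h with h | h | h | h | h
      · exact absurd (A.img_inj S T.ha ly hb h) hyb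
      · exact absurd (A.img_inj S T.ha ly hc h) hyc
      · exact Or.inl (A.img_inj S T.ha ly lp h)
      · exact Or.inr (Or.inl (A.img_inj S T.ha ly lq h))
      · exact Or.inr (Or.inr (A.img_inj S T.ha ly lr h))
    have hsub : [d, e, f] ⊆ [p, q, r] := by
      intro x hx
      simp only [List.mem_cons, List.not_mem_nil, or_false] at hx
      rcases hx with rfl | rfl | rfl
      · exact inY ld hwd m1 db dc
      · exact inY le hwe m2 eb ec
      · exact inY lf hwf m3 fb fc
    have hperm' : List.Perm [d, e, f] [p, q, r] :=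
      (List.subperm_of_subset (by simp [T'.ab, T'.ac, T'.bc]) hsub).perm_of_length_le (by simp)
    exact fun x => hperm'.mem_iff

end CfsgLib.M22
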