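import Cfsg.Agent.Lib.ThreeTransp.M22PairSwap
import Cfsg.Agent.Lib.Classical.AutOrder.PSU

/-!
# Groups of type `M(22)`: the centraliser of a product of two commuting members

Modulo the kernel on lines the centraliser of `a * b` is the automorphism group of `PSU₄(2)`.
-/

set_option autoImplicit false

namespace CfsgLib.M22

open CfsgLib.ThreeTransp CfsgLib.SporMisc
open CfsgLib.U6 (IsPt PtFrame)
open CfsgLib.UnitarySpec (psuMk)

variable {G : Type*} [Group G] {D : Set G}
variable [Finite G] {F : Type} [Field F] [Fintype F] {a b : G}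
variable (S : Setup D) (hF : Fintype.card F = 2 ^ 2) (hM : ∀ a ∈ D, Nonempty (Model D a F))
  (ha : a ∈ D) (hb : b ∈ link D a)
include S hF hM ha hb

omit S hM ha hb [Finite G] in
theorem psuMk_four_bijective : Function.Bijective (psuMk (F := F) (n := 4) (q := 2)) := by
  refine ⟨(MonoidHom.ker_eq_bot_iff _).1 ?_, QuotientGroup.mk'_surjective _⟩
  show (QuotientGroup.mk' (Subgroup.center (Cfsg.SU 4 F 2))).ker = ⊥
  rw [QuotientGroup.ker_mk', ← Subgroup.card_eq_one,
    CfsgLib.Classical.card_center_su (n := 4) (F := F) (q := 2) hF (by norm_num)]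
  rfl

theorem lineKer_le_cent : lineKer D S a b ≤ Subgroup.centralizer ({a * b} : Set G) := fun k hk => by
  have _ := hF; have _ := hM; have _ := ha; have _ := hb
  obtain ⟨h1, h2⟩ := mem_pairCent.1 (lineKer_le hk)
  exact Subgroup.mem_centralizer_singleton_iff.2 (h1.mul_right h2).eq

theorem pairCent_le_cent : pairCent a b ≤ Subgroup.centralizer ({a * b} : Set G) := fun k hk => by
  have _ := hF; have _ := hM; have _ := ha; have _ := hb; have _ := S
  obtain ⟨h1, h2⟩ := mem_pairCent.1 hk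
  exact Subgroup.mem_centralizer_singleton_iff.2 (h1.mul_right h2).eq

theorem card_cent_pair : Nat.card ↥(Subgroup.centralizer ({a * b} : Set G)) = 53084160 := by
  have h := Subgroup.card_mul_index ((pairCent a b).subgroupOf (Subgroup.centralizer ({a * b} : Set G)))
  rw [pair_cent_index S hF hM ha hb,
    Nat.card_congr (Subgroup.subgroupOfEquivOfLe (pairCent_le_cent S hF hM ha hb)).toEquiv,
    card_pairCent S hF hM ha hb] at h
  omega

/-- The centraliser of the product maps onto the automorphism group of `PSU₄(2)` with the kernel on lines as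
kernel. -/
theorem exists_theta : ∃ θ : ↥(Subgroup.centralizer ({a * b} : Set G)) →* MulAut (Cfsg.PSU 4 F 2),
    Function.Surjective θ ∧ θ.ker = (lineKer D S a b).subgroupOf (Subgroup.centralizer ({a * b} : Set G)) := by
  classical
  obtain ⟨A⟩ := hM a ha
  obtain ⟨u, hu⟩ := A.exists_pt_of_link S hF ha hb
  obtain ⟨P⟩ := U6.exists_frame hF hu.1
  obtain ⟨ρ, hρ, hrel⟩ := exists_pair_rho S hF hM ha hb A hu P
  set C := Subgroup.centralizer ({a * b} : Set G) with hC
  have hker : ∀ k : ↥(pairCent a b), ρ k = 1 ↔ (k : G) ∈ lineKer D S a b := fun k => by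
    rw [mem_lineKer_iff S hF hM ha hb A hu P]
    exact ⟨fun h => ⟨k.2, h ▸ hrel k⟩, fun h => rel_unique S hF ha hb A hu P (hrel k) h.2⟩
  have hcm : ∀ c : ↥C, Commute (c : G) (a * b) := fun c => Subgroup.mem_centralizer_singleton_iff.1 c.2
  let cj : ↥C → ↥(pairCent a b) → ↥(pairCent a b) := fun c k =>
    ⟨(c : G) * k * (c : G)⁻¹, (conj_sym S hF hM ha hb (hcm c)).2 k k.2⟩
  have cj_mul : ∀ c d k, cj (c * d) k = cj c (cj d k) := fun c d k => Subtype.ext (by
    show (c : G) * d * k * ((c : G) * d)⁻¹ = c * ((d : G) * k * (d : G)⁻¹) * (c : G)⁻¹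
    group)
  have cj_one : ∀ k, cj 1 k = k := fun k => Subtype.ext (by simp [cj])
  have cj_hom : ∀ c k l, cj c (k * l) = cj c k * cj c l := fun c k l => Subtype.ext (by
    show (c : G) * (k * l) * (c : G)⁻¹ = c * k * (c : G)⁻¹ * (c * l * (c : G)⁻¹)
    group)
  have hwd : ∀ c k l, ρ k = ρ l → ρ (cj c k) = ρ (cj c l) := by
    intro c k l hkl
    have h1 : ρ (k⁻¹ * l) = 1 := by rw [map_mul, map_inv, hkl, inv_mul_cancel]
    have h2 : ρ (cj c (k⁻¹ * l)) = 1 := (hker _).2 (lineKer_conj S hF hM ha hb (hcm c) ((hker _).1 h1))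
    calc ρ (cj c k) = ρ (cj c k) * ρ (cj c (k⁻¹ * l)) := by rw [h2, mul_one]
      _ = ρ (cj c l) := by rw [← map_mul, ← cj_hom, mul_inv_cancel_left]
  let φ : ↥C → Cfsg.SU 4 F 2 → Cfsg.SU 4 F 2 := fun c B => ρ (cj c (Function.surjInv hρ B))
  have hφ : ∀ c k, φ c (ρ k) = ρ (cj c k) := fun c k => hwd c _ _ (Function.surjInv_eq hρ _)
  have hφmul : ∀ c d B, φ (c * d) B = φ c (φ d B) := fun c d B => by
    obtain ⟨k, rfl⟩ := hρ B
    rw [hφ d k, hφ (c * d) k, hφ c (cj d k), cj_mul]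
  have hφone : ∀ B, φ 1 B = B := fun B => by
    obtain ⟨k, rfl⟩ := hρ B
    rw [hφ, cj_one]
  let θ₀ : ↥C → MulAut (Cfsg.SU 4 F 2) := fun c =>
    { toFun := φ c
      invFun := φ c⁻¹
      left_inv := fun B => by rw [← hφmul, inv_mul_cancel, hφone]
      right_inv := fun B => by rw [← hφmul, mul_inv_cancel, hφone]
      map_mul' := fun B B' => by
        obtain ⟨k, rfl⟩ := hρ B
        obtain ⟨l, rfl⟩ := hρ B'
        rw [← map_mul, hφ, hφ, hφ, cj_hom, map_mul] }
  let θ₁ : ↥C →* MulAut (Cfsg.SU 4 F 2) :=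
    MonoidHom.mk' θ₀ fun c d => MulEquiv.ext fun B => hφmul c d B
  let e : Cfsg.SU 4 F 2 ≃* Cfsg.PSU 4 F 2 := MulEquiv.ofBijective _ (psuMk_four_bijective hF)
  let θ : ↥C →* MulAut (Cfsg.PSU 4 F 2) := (MulAut.congr e).toMonoidHom.comp θ₁
  have hθker : θ.ker = (lineKer D S a b).subgroupOf C := by
    ext c
    rw [MonoidHom.mem_ker, Subgroup.mem_subgroupOf]
    show MulAut.congr e (θ₁ c) = 1 ↔ _
    rw [map_eq_one_iff _ (MulAut.congr e).injective]
    constructor
    · intro h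
      refine mem_lineKer_of_trivial S hF hM ha hb (hcm c) fun k hk => ?_
      have h1 : φ c (ρ ⟨k, hk⟩) = ρ ⟨k, hk⟩ := DFunLike.congr_fun h (ρ ⟨k, hk⟩)
      rw [hφ] at h1
      exact (hker (cj c ⟨k, hk⟩ * ⟨k, hk⟩⁻¹)).1 (by rw [map_mul, map_inv, h1, mul_inv_cancel])
    · intro h
      refine MulEquiv.ext fun B => ?_
      obtain ⟨k, rfl⟩ := hρ B
      show φ c (ρ k) = ρ k
      rw [hφ]
      have hcK : (c : G) ∈ pairCent a b := lineKer_le h
      rw [show cj c k = ⟨c, hcK⟩ * k * ⟨c, hcK⟩⁻¹ from rfl, map_mul, map_mul, map_inv,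
        (hker ⟨c, hcK⟩).2 h, one_mul, inv_one, mul_one]
  refine ⟨θ, MonoidHom.range_eq_top.1 (Subgroup.eq_top_of_card_eq _ ?_), hθker⟩
  have h1 := Subgroup.card_mul_index θ.ker
  rw [Subgroup.index_ker, hθker, Nat.card_congr (Subgroup.subgroupOfEquivOfLe
    (lineKer_le_cent S hF hM ha hb)).toEquiv, card_lineKer S hF hM ha hb, card_cent_pair S hF hM ha hb] at h1
  have h2 := CfsgLib.Classical.AutOrder.card_mulaut_psu (K := F) 2 1 le_rfl (pow_one 2).symm hF 4
    (by norm_num) (by norm_num)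
  rw [← Nat.card_congr (psuMk_four_bijective hF |> Equiv.ofBijective _), card_su_four hF] at h2
  norm_num at h2
  omega

end CfsgLib.M22
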