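import Cfsg.Agent.Lib.ThreeTransp.Transitive

/-!
# Fischer's lemmas: transitivity on links, maximal commuting sets
-/

set_option autoImplicit false

namespace CfsgLib.ThreeTransp

variable {G : Type*} [Group G] {D : Set G}

/-- Two members of one non-commuting component are conjugate in the subgroup they generate. -/
theorem IsTT.exists_conj_of_mem_comp (hD : IsTT D) {E : Set G} (hE : E ⊆ D) {a b : G}
    (h : b ∈ comp E NC a) : ∃ g ∈ Subgroup.closure E, g * a * g⁻¹ = b := by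
  induction h with
  | refl => exact ⟨1, Subgroup.one_mem _, by group⟩
  | @tail u v _ huv ih =>
    obtain ⟨g, hg, hgu⟩ := ih
    refine ⟨u * v * g, Subgroup.mul_mem _ (Subgroup.mul_mem _ (Subgroup.subset_closure huv.1)
      (Subgroup.subset_closure huv.2.1)) hg, ?_⟩
    have hu := hE huv.1
    have hv := hE huv.2.1
    calc u * v * g * a * (u * v * g)⁻¹ = u * v * (g * a * g⁻¹) * v⁻¹ * u⁻¹ := by group
      _ = v := by
        rw [hgu, hD.inv_eq hu, hD.inv_eq hv, show u * v * u * v * u = u * (v * u * v) * u by group,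
          ← hD.braid hu hv huv.2.2]
        simp [mul_assoc, cancel₂ (hD.sq u hu), hD.sq u hu]

/-- The hypotheses of Fischer's theorem, bundled. -/
structure FischerHyp (D : Set G) : Prop where
  tt : IsTT D
  gen : Subgroup.closure D = ⊤
  sol : ∀ N : Subgroup G, N.Normal → Group.IsSolvable N → N = ⊥
  perf : ⁅commutator G, commutator G⁆ = commutator G
  isClass : ∀ a ∈ D, ∀ b ∈ D, ∃ g : G, g * a * g⁻¹ = b

theorem FischerHyp.of_class [Finite G]
    (hsol : ∀ N : Subgroup G, N.Normal → Group.IsSolvable N → N = ⊥)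
    (hperf : ⁅commutator G, commutator G⁆ = commutator G)
    (hD : Cfsg.IsThreeTranspositionClass D) : FischerHyp D := by
  refine ⟨isTT_of_class hD, hD.2.2, hsol, hperf, fun a ha b hb => ?_⟩
  obtain ⟨d, -, hd⟩ := hD.2.1
  rw [hd] at ha hb
  exact isConj_iff.mp ((show IsConj d a from ha).symm.trans (show IsConj d b from hb))

/-- Fischer's transitivity lemma. -/
theorem FischerHyp.exists_conj_link [Finite G] (h : FischerHyp D) {x y y' : G} (hx : x ∈ D)
    (hy : y ∈ link D x) (hy' : y' ∈ link D x) :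
    ∃ g ∈ Subgroup.closure (link D x), g * y * g⁻¹ = y' :=
  h.tt.exists_conj_of_mem_comp (fun _ hu => hu.1)
    (h.tt.lcomp_eq h.gen h.sol h.isClass
      (fun _ ha _ hb => h.tt.comp_eq_comp h.gen h.perf h.isClass ha hb) hx hy hy')

/-- A maximum commuting subset. -/
structure IsMaxComm (D E : Set G) : Prop where
  subset : E ⊆ D
  comm : ∀ a ∈ E, ∀ b ∈ E, Commute a b
  max : ∀ E' : Set G, E' ⊆ D → (∀ a ∈ E', ∀ b ∈ E', Commute a b) → E'.ncard ≤ E.ncard

theorem IsTT.commute_of_mem_two_group (hD : IsTT D) {P : Subgroup G} (hP : IsPGroup 2 P) {a b : G}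
    (ha : a ∈ D) (hb : b ∈ D) (haP : a ∈ P) (hbP : b ∈ P) : Commute a b := by
  by_contra hc
  have h3 := pow_three_eq_one (hD.sq a ha) (hD.sq b hb) (hD.braid ha hb hc)
  obtain ⟨k, hk⟩ := hP ⟨a * b, P.mul_mem haP hbP⟩
  have hk' : (a * b) ^ 2 ^ k = 1 := by simpa using congrArg Subtype.val hk
  have h1 : orderOf (a * b) ∣ Nat.gcd 3 (2 ^ k) :=
    Nat.dvd_gcd (orderOf_dvd_of_pow_eq_one h3) (orderOf_dvd_of_pow_eq_one hk')
  have : Nat.gcd 3 (2 ^ k) = 1 := Nat.Coprime.pow_right k (by norm_num)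
  rw [this, Nat.dvd_one, orderOf_eq_one_iff] at h1
  have hab : a = b := by rw [← hD.inv_eq hb]; exact eq_inv_of_mul_eq_one_left h1
  exact hc (hab ▸ Commute.refl a)

theorem IsMaxComm.isPGroup_closure (hD : IsTT D) {E : Set G} (hE : IsMaxComm D E) :
    IsPGroup 2 (Subgroup.closure E) := by
  intro x
  refine ⟨1, Subtype.ext ?_⟩
  simp only [pow_one, SubmonoidClass.coe_pow, Subgroup.coe_one]
  have hx := x.2
  suffices h : (x : G) * x = 1 ∧ ∀ e ∈ E, Commute (x : G) e by rw [pow_two]; exact h.1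
  refine Subgroup.closure_induction
    (p := fun x _ => x * x = 1 ∧ ∀ e ∈ E, Commute x e) ?_ ?_ ?_ ?_ hx
  · exact fun e he => ⟨hD.sq e (hE.subset he), fun f hf => hE.comm e he f hf⟩
  · exact ⟨by simp, fun e _ => Commute.one_left e⟩
  · intro u v hu hv hu' hv'
    refine ⟨?_, fun e he => (hu'.2 e he).mul_left (hv'.2 e he)⟩
    have huv : Commute u v := by
      refine Subgroup.closure_induction (p := fun v _ => Commute u v) ?_ (Commute.one_right u)
        (fun _ _ _ _ h1 h2 => h1.mul_right h2) (fun _ _ h1 => h1.inv_right) hv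
      exact hu'.2
    rw [show u * v * (u * v) = u * (v * u) * v by group, ← huv.eq,
      show u * (u * v) * v = (u * u) * (v * v) by group, hu'.1, hv'.1, one_mul]
  · intro u _ hu
    refine ⟨?_, fun e he => (hu.2 e he).inv_left⟩
    rw [← mul_inv_rev, hu.1, inv_one]

variable [Finite G]

theorem IsMaxComm.eq_inter (hD : IsTT D) {E : Set G} (hE : IsMaxComm D E) {P : Subgroup G}
    (hP : IsPGroup 2 P) (hEP : E ⊆ P) : E = {d | d ∈ D ∧ d ∈ P} :=
  Set.eq_of_subset_of_ncard_le (fun e he => ⟨hE.subset he, hEP he⟩)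
    (hE.max _ (fun d hd => hd.1)
      fun a ha b hb => hD.commute_of_mem_two_group hP ha.1 hb.1 ha.2 hb.2)
    (Set.toFinite _)

theorem IsMaxComm.sylow_le_normalizer (hD : IsTT D) {E : Set G} (hE : IsMaxComm D E) :
    ∃ P : Sylow 2 G, (P : Subgroup G) ≤ Subgroup.normalizer E := by
  obtain ⟨P, hP⟩ := (hE.isPGroup_closure hD).exists_le_sylow
  have hEq := hE.eq_inter hD P.isPGroup' fun e he => hP (Subgroup.subset_closure he)
  refine ⟨P, fun g hg => ?_⟩
  show ∀ n, n ∈ E ↔ g * n * g⁻¹ ∈ E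
  intro n
  rw [hEq]
  refine ⟨fun hn => ⟨hD.conj g n hn.1, mul_mem (mul_mem hg hn.2) (inv_mem hg)⟩, fun hn => ?_⟩
  have h1 := hD.conj g⁻¹ _ hn.1
  have h2 := mul_mem (mul_mem (inv_mem hg) hn.2) hg
  simp only [inv_inv, mul_assoc, inv_mul_cancel_left, inv_mul_cancel, mul_one] at h1 h2
  exact ⟨h1, h2⟩

/-- Two maximum commuting subsets inside `L` are conjugate in `L`. -/
theorem IsMaxComm.exists_conj (hD : IsTT D) {E E' : Set G} (hE : IsMaxComm D E)
    (hE' : IsMaxComm D E') (L : Subgroup G) (hEL : E ⊆ L) (hE'L : E' ⊆ L) :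
    ∃ l ∈ L, (fun x => l * x * l⁻¹) '' E' = E := by
  haveI : Fact (Nat.Prime 2) := ⟨Nat.prime_two⟩
  have hle : ∀ {E : Set G}, IsMaxComm D E → E ⊆ L → ∃ P : Sylow 2 L,
      E = {d | d ∈ D ∧ d ∈ (P : Subgroup L).map L.subtype} := by
    intro E hE hEL
    have hcl : Subgroup.closure E ≤ L := (Subgroup.closure_le _).mpr hEL
    obtain ⟨P, hP⟩ := ((hE.isPGroup_closure hD).of_equiv
      (Subgroup.subgroupOfEquivOfLe hcl).symm).exists_le_sylow
    exact ⟨P, hE.eq_inter hD (P.isPGroup'.map _) fun e he =>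
      ⟨⟨e, hEL he⟩, hP (Subgroup.mem_subgroupOf.mpr (Subgroup.subset_closure he)), rfl⟩⟩
  obtain ⟨P, hP⟩ := hle hE hEL
  obtain ⟨P', hP'⟩ := hle hE' hE'L
  obtain ⟨l, hl⟩ := MulAction.exists_smul_eq L P' P
  refine ⟨(l : G), l.2, ?_⟩
  have hmem : ∀ x : L, x ∈ (P : Subgroup L) ↔ l⁻¹ * x * l ∈ (P' : Subgroup L) := by
    intro x
    rw [← hl, Sylow.coe_subgroup_smul, Subgroup.mem_pointwise_smul_iff_inv_smul_mem]
    simp [MulAut.smul_def]
  rw [hP, hP']
  ext d
  constructor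
  · rintro ⟨x, ⟨hxD, y, hy, rfl⟩, rfl⟩
    exact ⟨hD.conj _ _ hxD, l * y * l⁻¹, (hmem _).mpr (by simpa [mul_assoc, SetLike.mem_coe] using (show y ∈ (P' : Subgroup L) from hy)), rfl⟩
  · rintro ⟨hdD, y, hy, rfl⟩
    refine ⟨(l : G)⁻¹ * y * l, ⟨?_, l⁻¹ * y * l, (hmem y).mp hy, rfl⟩, by
      simp [mul_assoc]⟩
    simpa using hD.conj (l : G)⁻¹ _ hdD

omit [Finite G] in
theorem IsMaxComm.map (hD : IsTT D) {E : Set G} (hE : IsMaxComm D E) (k : G) :
    IsMaxComm D ((fun x => k * x * k⁻¹) '' E) := by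
  have hinj : Function.Injective fun x : G => k * x * k⁻¹ := fun x y h => by simpa using h
  refine ⟨?_, ?_, fun E' h1 h2 => ?_⟩
  · rintro _ ⟨x, hx, rfl⟩; exact hD.conj k x (hE.subset hx)
  · rintro _ ⟨x, hx, rfl⟩ _ ⟨y, hy, rfl⟩; exact (Commute.conj_iff k).mpr (hE.comm x hx y hy)
  · rw [Set.ncard_image_of_injective _ hinj]; exact hE.max E' h1 h2

theorem mem_normalizer_of_image_eq {E : Set G} {n : G}
    (h : (fun x => n * x * n⁻¹) '' E = E) : n ∈ Subgroup.normalizer E := by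
  show ∀ x, x ∈ E ↔ n * x * n⁻¹ ∈ E
  intro x
  constructor
  · exact fun hx => h ▸ ⟨x, hx, rfl⟩
  · intro hx
    rw [← h] at hx
    obtain ⟨y, hy, hyx⟩ := hx
    have : y = x := by simpa using hyx
    exact this ▸ hy

/-- The normalizer of a maximum commuting subset is doubly transitive on it. -/
theorem FischerHyp.two_transitive (h : FischerHyp D) {E : Set G} (hE : IsMaxComm D E)
    {a b c d : G} (ha : a ∈ E) (hb : b ∈ E) (hc : c ∈ E) (hd : d ∈ E) (hab : a ≠ b)
    (hcd : c ≠ d) : ∃ g ∈ Subgroup.normalizer E, g * a * g⁻¹ = c ∧ g * b * g⁻¹ = d := by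
  obtain ⟨k, hk⟩ := h.isClass a (hE.subset ha) c (hE.subset hc)
  have hE1 := hE.map h.tt k
  obtain ⟨l, hl, hl1⟩ := hE.exists_conj h.tt hE1 (Subgroup.centralizer ({c} : Set G))
    (fun e he => Subgroup.mem_centralizer_singleton_iff.mpr (hE.comm e he c hc).eq)
    (fun e he => Subgroup.mem_centralizer_singleton_iff.mpr
      (hE1.comm e he c ⟨a, ha, hk⟩).eq)
  have hnN : (fun x => (l * k) * x * (l * k)⁻¹) '' E = E := by
    conv_rhs => rw [← hl1, Set.image_image]
    exact Set.image_congr fun x _ => by group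
  have hna : (l * k) * a * (l * k)⁻¹ = c := by
    calc (l * k) * a * (l * k)⁻¹ = l * (k * a * k⁻¹) * l⁻¹ := by group
      _ = c := by rw [hk, (Subgroup.mem_centralizer_singleton_iff.mp hl)]; group
  have hd0E : (l * k) * b * (l * k)⁻¹ ∈ E := by
    exact hnN ▸ (⟨b, hb, rfl⟩ : (l * k) * b * (l * k)⁻¹ ∈ (fun x => (l * k) * x * (l * k)⁻¹) '' E)
  have hd0 : (l * k) * b * (l * k)⁻¹ ∈ link D c := by
    refine ⟨hE.subset hd0E, fun e' => hab ?_, hE.comm c hc _ hd0E⟩
    rw [← hna] at e'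
    exact (by simpa using e' : b = a).symm
  obtain ⟨m, hm, hmd⟩ := h.exists_conj_link (hE.subset hc) hd0
    ⟨hE.subset hd, hcd.symm, hE.comm c hc d hd⟩
  have hmc : Commute m c := by
    refine Subgroup.closure_induction (p := fun z _ => Commute z c) ?_ (Commute.one_left c)
      (fun _ _ _ _ h1 h2 => h1.mul_left h2) (fun _ _ h1 => h1.inv_left) hm
    exact fun z hz => hz.2.2.symm
  have hmcc : m * c * m⁻¹ = c := by rw [hmc.eq]; group
  have hE2 := hE.map h.tt m
  obtain ⟨l2, hl2, hl21⟩ := hE.exists_conj h.tt hE2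
    (Subgroup.centralizer ({c} : Set G) ⊓ Subgroup.centralizer ({d} : Set G))
    (fun e he => ⟨Subgroup.mem_centralizer_singleton_iff.mpr (hE.comm e he c hc).eq,
      Subgroup.mem_centralizer_singleton_iff.mpr (hE.comm e he d hd).eq⟩)
    (fun e he => ⟨Subgroup.mem_centralizer_singleton_iff.mpr (hE2.comm e he c ⟨c, hc, hmcc⟩).eq,
      Subgroup.mem_centralizer_singleton_iff.mpr (hE2.comm e he d ⟨_, hd0E, hmd⟩).eq⟩)
  have hl2c := Subgroup.mem_centralizer_singleton_iff.mp hl2.1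
  have hl2d := Subgroup.mem_centralizer_singleton_iff.mp hl2.2
  refine ⟨l2 * m * (l * k), mem_normalizer_of_image_eq ?_, ?_, ?_⟩
  · conv_rhs => rw [← hl21, ← hnN, Set.image_image, Set.image_image]
    exact Set.image_congr fun x _ => by group
  · calc l2 * m * (l * k) * a * (l2 * m * (l * k))⁻¹
        = l2 * (m * ((l * k) * a * (l * k)⁻¹) * m⁻¹) * l2⁻¹ := by group
      _ = c := by rw [hna, hmcc, hl2c]; group
  · calc l2 * m * (l * k) * b * (l2 * m * (l * k))⁻¹
        = l2 * (m * ((l * k) * b * (l * k)⁻¹) * m⁻¹) * l2⁻¹ := by group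
      _ = d := by rw [hmd, hl2d]; group

end CfsgLib.ThreeTransp
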