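import Cfsg.Agent.Lib.CosetCert.Basic

/-!
# Certificate: four conjugates in a width-one 3-transposition set

The 81-point coset table of four involutions `a b c e` all whose relevant products have order
dividing three.
-/

set_option autoImplicit false

namespace CfsgLib.ThreeTransp.FourCert

/-- The coset table: four neighbours for each of the 81 points. -/
def tblList : List ℕ :=
  [0, 54, 18, 6, 2, 56, 20, 8, 1, 55, 19, 7, 6, 60, 24, 3, 8, 62, 26, 5, 7, 61, 25, 4, 3, 57,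
    21, 0, 5, 59, 23, 2, 4, 58, 22, 1, 18, 72, 9, 24, 20, 74, 11, 26, 19, 73, 10, 25, 24, 78,
    15, 21, 26, 80, 17, 23, 25, 79, 16, 22, 21, 75, 12, 18, 23, 77, 14, 20, 22, 76, 13, 19, 9,
    63, 0, 15, 11, 65, 2, 17, 10, 64, 1, 16, 15, 69, 6, 12, 17, 71, 8, 14, 16, 70, 7, 13, 12,
    66, 3, 9, 14, 68, 5, 11, 13, 67, 4, 10, 54, 27, 72, 60, 56, 29, 74, 62, 55, 28, 73, 61, 60,
    33, 79, 57, 62, 35, 78, 59, 61, 34, 80, 58, 57, 30, 77, 54, 59, 32, 76, 56, 58, 31, 75, 55,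
    72, 45, 63, 80, 74, 47, 65, 79, 73, 46, 64, 78, 78, 51, 70, 77, 80, 53, 69, 76, 79, 52, 71,
    75, 75, 48, 68, 74, 77, 50, 67, 73, 76, 49, 66, 72, 63, 36, 54, 70, 65, 38, 56, 69, 64, 37,
    55, 71, 69, 42, 61, 67, 71, 44, 60, 66, 70, 43, 62, 68, 66, 39, 59, 64, 68, 41, 58, 63, 67,
    40, 57, 65, 27, 0, 45, 33, 29, 2, 47, 35, 28, 1, 46, 34, 33, 6, 53, 30, 35, 8, 52, 32, 34,
    7, 51, 31, 30, 3, 49, 27, 32, 5, 48, 29, 31, 4, 50, 28, 45, 18, 36, 52, 47, 20, 38, 51, 46,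
    19, 37, 53, 51, 24, 44, 49, 53, 26, 43, 48, 52, 25, 42, 50, 48, 21, 40, 46, 50, 23, 39, 45,
    49, 22, 41, 47, 36, 9, 27, 44, 38, 11, 29, 43, 37, 10, 28, 42, 42, 15, 35, 41, 44, 17, 34,
    40, 43, 16, 33, 39, 39, 12, 31, 38, 41, 14, 30, 37, 40, 13, 32, 36]

/-- Representative words. -/
def repList : List (List ℕ) :=
  [[], [2, 1, 3, 2, 1, 3], [2, 3, 1, 2, 3, 1], [3, 0], [2, 1, 3, 2, 1, 0], [2, 1, 3, 0, 1, 2],
    [3], [1, 2, 3, 1, 2], [2, 1, 3, 2, 1], [2, 0], [2, 3, 1, 0, 3, 1], [2, 1, 3, 0, 1, 3], [2,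
    3, 2], [2, 1, 2, 3, 1], [1, 3, 1, 2, 1], [2, 3], [1, 3, 2, 1], [2, 0, 1, 3, 0, 1], [2], [3,
    1, 2, 3, 1], [1, 3, 2, 1, 3], [3, 2], [2, 1, 3, 1, 2, 1], [1, 2, 3, 1], [2, 0, 3], [2, 1,
    3, 0, 1], [3, 1, 2, 0, 1], [1, 0], [2, 3, 1, 0, 3, 2], [2, 3, 1, 2, 3, 0], [1, 3, 1], [2,
    3, 2, 1, 2], [2, 1, 3, 2, 3], [1, 3], [2, 0, 1, 3, 0, 2], [2, 3, 1, 2], [2, 1, 2], [1, 3,
    1, 2, 3], [2, 3, 2, 1, 3], [1, 2, 3, 2], [3, 1, 2, 1], [2, 1, 3, 1], [2, 3, 1, 0], [1, 3,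
    2, 0], [2, 0, 1, 3], [1, 2], [3, 2, 1, 3], [2, 1, 3, 1, 2, 3], [3, 2, 1, 0], [1, 0, 3, 2],
    [1, 2, 3, 0], [2, 0, 3, 1, 0], [2, 1, 3], [3, 1, 2], [1], [2, 3, 1, 2, 3], [3, 2, 1, 3, 2],
    [3, 1], [2, 1, 3, 2], [2, 0, 3, 1, 0, 2], [1, 0, 3], [3, 2, 1, 0, 2], [1, 2, 3, 0, 2], [2,
    1], [2, 0, 3, 1, 0, 3], [3, 1, 2, 3], [2, 0, 3, 1], [3, 1, 2, 0], [2, 1, 3, 0], [3, 2, 1],
    [1, 2, 3], [2, 1, 3, 1, 2], [2, 0, 1], [1, 3, 2, 0, 3], [2, 3, 1, 0, 3], [2, 3, 1], [2, 0,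
    1, 3, 0], [1, 3, 2], [2, 3, 2, 1], [1, 3, 1, 2], [2, 1, 2, 3]]

/-- The spanning tree. -/
def treeList : List (ℕ × ℕ) :=
  [(0, 2), (0, 1), (0, 3), (18, 0), (18, 1), (18, 3), (54, 0), (54, 2), (54, 3), (6, 1), (6,
    0), (6, 2), (9, 3), (9, 1), (63, 3), (63, 2), (15, 2), (15, 1), (27, 3), (45, 3), (33, 1),
    (33, 2), (57, 2), (21, 1), (24, 1), (72, 3), (52, 1), (52, 0), (52, 2), (36, 3), (12, 1),
    (75, 2), (75, 0), (60, 2), (70, 1), (70, 0), (70, 2), (30, 2), (77, 0), (77, 1), (53, 0),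
    (53, 1), (53, 3), (69, 3), (69, 0), (66, 0), (44, 0), (41, 2), (68, 1), (58, 1), (58, 3),
    (80, 1), (78, 3), (78, 2), (35, 3), (42, 3), (23, 2), (50, 2), (79, 3), (79, 1), (43, 3),
    (16, 3), (67, 1), (65, 1), (46, 2), (48, 2), (51, 2), (51, 3), (76, 1), (76, 2), (71, 3),
    (71, 1), (25, 3), (25, 2), (8, 3), (8, 0), (55, 1), (55, 0), (74, 2), (74, 1)]

/-- The deductions. -/
def stepList : List (ℕ × ℕ × ℕ) :=
  [(0, 45, 0), (0, 46, 2), (0, 47, 3), (0, 48, 3), (0, 0, 3), (0, 1, 3), (0, 2, 3), (0, 3, 2),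
    (0, 4, 3), (0, 5, 3), (0, 22, 6), (0, 42, 4), (54, 9, 8), (54, 10, 8), (54, 36, 2), (54,
    40, 2), (72, 31, 4), (72, 35, 5), (9, 11, 4), (9, 31, 4), (9, 34, 7), (9, 38, 6), (18, 14,
    7), (60, 30, 4), (60, 35, 3), (3, 30, 4), (3, 37, 7), (6, 18, 7), (24, 0, 3), (24, 30, 3),
    (24, 31, 3), (45, 2, 3), (45, 17, 5), (36, 10, 8), (36, 33, 8), (63, 24, 5), (63, 33, 13),
    (33, 1, 3), (33, 32, 5), (30, 1, 2), (30, 30, 4), (30, 35, 2), (30, 39, 12), (57, 18, 4),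
    (57, 22, 2), (57, 39, 13), (15, 22, 5), (15, 24, 5), (15, 42, 3), (12, 9, 8), (12, 17, 2),
    (12, 27, 6), (12, 32, 11), (12, 42, 5), (21, 17, 4), (21, 22, 7), (21, 34, 6), (21, 42, 4),
    (70, 3, 2), (70, 9, 8), (70, 17, 2), (70, 22, 4), (70, 30, 4), (70, 31, 3), (70, 35, 2),
    (70, 42, 4), (39, 2, 2), (39, 10, 8), (39, 14, 7), (39, 20, 8), (39, 27, 5), (39, 33, 12),
    (39, 36, 14), (39, 40, 13), (51, 2, 4), (51, 18, 3), (51, 20, 3), (51, 25, 4), (51, 33, 6),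
    (51, 39, 9), (59, 0, 3), (59, 14, 2), (59, 24, 5), (41, 39, 4)]

/-- Free reduction for involutive letters. -/
def red : List ℕ → List ℕ
  | [] => []
  | g :: w => match red w with
    | [] => [g]
    | h :: t => if h = g then t else g :: h :: t

/-- The six pairs of distinct generators. -/
def pairs : List (ℕ × ℕ) := [(0, 1), (0, 2), (0, 3), (1, 2), (1, 3), (2, 3)]

/-- Words denoting members of the set, in the 45 pairs used as relations. -/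
def relPairs : List (List ℕ × List ℕ) :=
  let lv1 := pairs.map fun p => [p.1, p.2, p.1]
  (pairs.map fun p => ([p.1], [p.2])) ++
    (([0, 1, 2, 3] : List ℕ).flatMap fun x => lv1.map fun w => ([x], w)) ++
    ((List.range 6).flatMap fun i => (List.range 6).flatMap fun j =>
      if i < j then [(lv1.getD i [], lv1.getD j [])] else [])

/-- The relators. -/
def relList : List (List ℕ) :=
  relPairs.map fun p => red (p.1 ++ p.2 ++ p.1 ++ p.2 ++ p.1 ++ p.2)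

/-- Subgroup words: each fixes the first generator under conjugation. -/
def subList : List (List ℕ) :=
  [[0], [1, 0, 2, 1, 0, 2], [1, 0, 3, 1, 0, 3], [2, 0, 3, 2, 0, 3]]

/-- The certificate. -/
def data : CosetCert.Data where
  n := 81
  ng := 4
  iv := id
  tbl := fun i g => tblList.getD (4 * i + g) 0
  rep := fun i => repList.getD i []
  rels := relList
  subs := subList

theorem data_check : CosetCert.check data treeList stepList = true := by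
  decide +kernel

end CfsgLib.ThreeTransp.FourCert
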