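import Cfsg.Agent.Lib.ThreeTransp.Basic
import Cfsg.Agent.Lib.ThreeTransp.FourCertData

/-!
# Four members of a width-one set: the products generate a 3-group
-/

set_option autoImplicit false

namespace CfsgLib.ThreeTransp

open FourCert CosetCert

/-- Coordinates of the certificate's points. -/
abbrev Q3 : Type := ZMod 3 × ZMod 3 × ZMod 3

/-- Index of a coordinate vector. -/
def enc (x : Q3) (r : ZMod 3) : ℕ := ((x.1.val * 3 + x.2.1.val) * 3 + x.2.2.val) * 3 + r.val

/-- Translation vector of the product of the first generator with generator `g`. -/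
def shift (g : ℕ) : Q3 :=
  (if g = 1 then 1 else 0, if g = 2 then 1 else 0, if g = 3 then 1 else 0)

/-- Image of a point under the product of the first generator with generator `g`. -/
def move (g : ℕ) (i : ℕ) : ℕ := data.tbl (data.tbl i g) 0

/-- Fibre translation of the product of the first generator with generator `g`. -/
def delta (g : ℕ) (x : Q3) : ZMod 3 := (move g (enc x 0) % 3 : ℕ)

theorem move_spec : ∀ (g : Fin 4) (x : Q3) (r : ZMod 3), g.val ≠ 0 →
    move g.val (enc x r) = enc (x + shift g.val) (r + delta g.val x) := by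
  decide +kernel

theorem enc_lt : ∀ x r, enc x r < data.n := by
  show ∀ x r, enc x r < 81
  decide +kernel

theorem gen_point : ∀ g : Fin 4, ∃ x r,
    List.foldl data.tbl 0 (if g.val = 0 then [] else [0, g.val, 0, g.val]) = enc x r := by
  decide +kernel

theorem data_n_pos : 0 < data.n := by show 0 < 81; omega

theorem data_ng : data.ng = 4 := rfl

theorem data_subs : data.subs = subList := rfl

theorem data_rels : data.rels = relList := rfl

theorem data_iv (g : ℕ) : data.iv g = g := rfl

theorem relPairs_shape : ∀ q ∈ relPairs, (q.1.length = 1 ∧ q.2.length = 1) ∨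
    (q.1.length = 1 ∧ q.2.length = 3 ∧ q.2[0]? = q.2[2]?) ∨
    ((q.1.length = 3 ∧ q.1[0]? = q.1[2]?) ∧ (q.2.length = 3 ∧ q.2[0]? = q.2[2]?)) := by
  decide +kernel

attribute [local irreducible] FourCert.data enc FourCert.relPairs

variable {G : Type*} [Group G]

/-- Value of a word in four elements, as a product. -/
def wordProd (e : ℕ → G) : List ℕ → G
  | [] => 1
  | g :: w => wordProd e w * e g

theorem wordProd_append (e : ℕ → G) (u w : List ℕ) :
    wordProd e (u ++ w) = wordProd e w * wordProd e u := by
  induction u with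
  | nil => simp [wordProd]
  | cons g u ih => rw [List.cons_append, wordProd, wordProd, ih, mul_assoc]

theorem wordProd_red (e : ℕ → G) (he : ∀ g, e g * e g = 1) :
    ∀ w : List ℕ, wordProd e (red w) = wordProd e w
  | [] => rfl
  | g :: w => by
    have ih := wordProd_red e he w
    simp only [red]
    split
    · rename_i h
      rw [h] at ih
      simp only [wordProd] at ih ⊢
      rw [← ih]
    · rename_i h t hh
      rw [hh] at ih
      simp only [wordProd] at ih ⊢
      split
      · rename_i hg
        subst hg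
        rw [← ih]
        simp [mul_assoc, he]
      · simp only [wordProd, ← ih]

theorem act_toConjAct (e : ℕ → G) :
    ∀ w : List ℕ, act (fun g => ConjAct.toConjAct (e g)) w = ConjAct.toConjAct (wordProd e w)
  | [] => by simp [act, wordProd]
  | g :: w => by simp [act, wordProd, act_toConjAct e w]

theorem isPGroup_of_pow_mem_center [Finite G] {p k : ℕ} [hp : Fact p.Prime] (T : Set G)
    (hgen : Subgroup.closure T = ⊤) (hT : ∀ t ∈ T, t ^ p = 1)
    (hc : ∀ g : G, g ^ p ^ k ∈ Subgroup.center G) : IsPGroup p G := by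
  have hq : IsPGroup p (G ⧸ Subgroup.center G) := by
    intro g
    obtain ⟨g, rfl⟩ := QuotientGroup.mk_surjective g
    exact ⟨k, by rw [← QuotientGroup.mk_pow, QuotientGroup.eq_one_iff]; exact hc g⟩
  have hn : Group.IsNilpotent G := Group.of_quotient_center_nilpotent hq.isNilpotent
  obtain ⟨P⟩ := (inferInstance : Nonempty (Sylow p G))
  have hP : (P : Subgroup G).Normal :=
    ((Group.isNilpotent_of_finite_tfae (G := G)).out 0 3 (a := Group.IsNilpotent G)
      (b := ∀ (p : ℕ) (_hp : Fact p.Prime) (P : Sylow p G), (↑P : Subgroup G).Normal) rfl rfl).mp hn p hp P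
  have : (P : Subgroup G) = ⊤ := by
    rw [eq_top_iff, ← hgen, Subgroup.closure_le]
    intro t ht
    have hz : IsPGroup p (Subgroup.zpowers t) := by
      intro x
      obtain ⟨x, i, rfl⟩ := x
      refine ⟨1, Subtype.ext ?_⟩
      simp only [pow_one, SubmonoidClass.coe_pow, Subgroup.coe_one]
      rw [← zpow_natCast, ← zpow_mul, mul_comm, zpow_mul, zpow_natCast, hT t ht, one_zpow]
    obtain ⟨R, hR⟩ := hz.exists_le_sylow
    have : R = P := by
      obtain ⟨g, rfl⟩ := MulAction.exists_smul_eq G P R
      exact Sylow.smul_eq_of_normal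
    exact this ▸ hR (Subgroup.mem_zpowers t)
  intro g
  obtain ⟨j, hj⟩ := P.isPGroup' ⟨g, this ▸ Subgroup.mem_top g⟩
  exact ⟨j, congrArg Subtype.val hj⟩

theorem IsW1.pow_three {S : Set G} (hS : IsW1 S) {x y : G} (hx : x ∈ S) (hy : y ∈ S) :
    (x * y) ^ 3 = 1 :=
  pow_three_eq_one (hS.sq x hx) (hS.sq y hy) (hS.braid x hx y hy)

theorem IsW1.relPairs_mem {S : Set G} (hS : IsW1 S) (e : ℕ → G) (heS : ∀ g, e g ∈ S)
    (q : List ℕ × List ℕ) (hq : q ∈ relPairs) :
    wordProd e q.1 ∈ S ∧ wordProd e q.2 ∈ S := by
  have h1 : ∀ l : List ℕ, l.length = 1 → wordProd e l ∈ S := by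
    intro l hl
    obtain ⟨i, rfl⟩ := List.length_eq_one_iff.mp hl
    simp only [wordProd, one_mul]
    exact heS i
  have h3 : ∀ l : List ℕ, l.length = 3 → l[0]? = l[2]? → wordProd e l ∈ S := by
    intro l hl h02
    match l, hl with
    | [i, j, k], _ =>
      simp only [List.getElem?_cons_zero, List.getElem?_cons_succ, Option.some.injEq] at h02
      subst h02
      simp only [wordProd, one_mul]
      exact hS.closed _ (heS i) _ (heS j)
  rcases relPairs_shape q hq with ⟨h, h'⟩ | ⟨h, h', h''⟩ | ⟨⟨h, h'⟩, ⟨h'', h'''⟩⟩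
  · exact ⟨h1 _ h, h1 _ h'⟩
  · exact ⟨h1 _ h, h3 _ h' h''⟩
  · exact ⟨h3 _ h h', h3 _ h'' h'''⟩

theorem IsW1.rel_eq_one {S : Set G} (hS : IsW1 S) (e : ℕ → G) (heS : ∀ g, e g ∈ S)
    (w : List ℕ) (hw : w ∈ data.rels) :
    act (fun g => ConjAct.toConjAct (e g)) w = 1 := by
  rw [data_rels] at hw
  obtain ⟨q, hq, rfl⟩ := List.mem_map.mp hw
  obtain ⟨hx, hy⟩ := hS.relPairs_mem e heS q hq
  rw [act_toConjAct, wordProd_red e fun g => hS.sq _ (heS g), wordProd_append, wordProd_append,
    wordProd_append, wordProd_append, wordProd_append, ← map_one ConjAct.toConjAct]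
  congr 1
  have := hS.pow_three hy hx
  simpa [pow_succ, mul_assoc] using this

theorem IsW1.plane {S : Set G} (hS : IsW1 S) {x y z : G} (hx : x ∈ S) (hy : y ∈ S)
    (hz : z ∈ S) : x * (z * x * y * z * x * y) = z * x * y * z * x * y * x := by
  have e1 := hS.braid x hx z hz
  have e2 := hS.braid x hx y hy
  have e3 := hS.braid y hy z hz
  have h : x * (z * x * y * z * x * y) * x = z * x * y * z * x * y := by
    calc x * (z * x * y * z * x * y) * x = (x * z * x) * y * z * (x * y * x) := by
          simp [mul_assoc]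
      _ = (z * x * z) * y * z * (y * x * y) := by rw [e1, e2]
      _ = z * x * (z * y * z) * y * x * y := by simp [mul_assoc]
      _ = z * x * (y * z * y) * y * x * y := by rw [← e3]
      _ = z * x * y * z * x * y := by simp [mul_assoc, cancel₂ (hS.sq y hy)]
  calc x * (z * x * y * z * x * y)
      = x * (z * x * y * z * x * y) * x * x := by simp [mul_assoc, hS.sq x hx]
    _ = _ := by rw [h]

/-- The four elements as a function on labels. -/
def four (a b c d : G) : ℕ → G := fun g =>
  if g = 1 then b else if g = 2 then c else if g = 3 then d else a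

theorem IsW1.sub_fix {S : Set G} (hS : IsW1 S) {a b c d : G} (ha : a ∈ S) (hb : b ∈ S)
    (hc : c ∈ S) (hd : d ∈ S) (w : List ℕ) (hw : w ∈ data.subs) :
    act (fun g => ConjAct.toConjAct (four a b c d g)) w • a = a := by
  rw [act_toConjAct, ConjAct.smul_def, ConjAct.ofConjAct_toConjAct, mul_inv_eq_iff_eq_mul]
  simp only [data_subs, subList, List.mem_cons, List.not_mem_nil, or_false] at hw
  rcases hw with rfl | rfl | rfl | rfl
  · simp [wordProd, four]
  · simpa [wordProd, four] using (hS.plane ha hb hc).symm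
  · simpa [wordProd, four] using (hS.plane ha hb hd).symm
  · simpa [wordProd, four] using (hS.plane ha hc hd).symm

/-- `t` acts on the points `f` as a triangular map. -/
def Compat (f : Q3 → ZMod 3 → G) (t : G) : Prop :=
  ∃ (v : Q3) (dl : Q3 → ZMod 3), ∀ x r,
    ConjAct.toConjAct t • f x r = f (x + v) (r + dl x)

/-- The triangular maps form a subgroup. -/
def compatGroup (f : Q3 → ZMod 3 → G) : Subgroup G where
  carrier := {t | Compat f t}
  one_mem' := ⟨0, 0, fun x r => by simp⟩
  mul_mem' := by
    rintro s t ⟨v, dl, h⟩ ⟨v', dl', h'⟩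
    exact ⟨v' + v, fun x => dl' x + dl (x + v'), fun x r => by
      rw [map_mul, mul_smul, h', h, add_assoc, add_assoc]⟩
  inv_mem' := by
    rintro s ⟨v, dl, h⟩
    exact ⟨-v, fun x => -dl (x - v), fun x r => by
      rw [map_inv, inv_smul_eq_iff, h]
      simp [sub_eq_add_neg]⟩

theorem compat_pow_nine {f : Q3 → ZMod 3 → G} {t : G} (ht : Compat f t) (x : Q3) (r : ZMod 3) :
    ConjAct.toConjAct (t ^ 9) • f x r = f x r := by
  obtain ⟨v, dl, h⟩ := ht
  have h3z : ∀ z : ZMod 3, z + z + z = 0 := by decide
  have hv : ∀ x : Q3, x + v + v + v = x := by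
    intro x
    have : v + v + v = 0 := by ext <;> simp [h3z]
    rw [add_assoc, add_assoc, ← add_assoc v, this, add_zero]
  have h3 : ∀ x r, ConjAct.toConjAct (t ^ 3) • f x r
      = f x (r + (dl x + dl (x + v) + dl (x + v + v))) := by
    intro x r
    rw [pow_succ, pow_succ, pow_one, map_mul, map_mul, mul_smul, mul_smul, h, h, h, hv]
    congr 1; ring
  rw [show (9 : ℕ) = 3 * 3 from rfl, pow_mul, pow_succ, pow_succ, pow_one, map_mul, map_mul,
    mul_smul, mul_smul, h3, h3, h3]
  have h3z' : ∀ z r : ZMod 3, r + z + z + z = r := by decide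
  rw [h3z']

theorem IsW1.pow_nine_commute [Finite G] {S : Set G} (hS : IsW1 S) {a b c d : G} (ha : a ∈ S)
    (hb : b ∈ S) (hc : c ∈ S) (hd : d ∈ S) {t : G}
    (ht : t ∈ Subgroup.closure ({a * b, a * c, a * d} : Set G)) (i : Fin 4) :
    Commute (t ^ 9) (four a b c d i.val) := by
  classical
  let e : ℕ → G := four a b c d
  have heS : ∀ g, e g ∈ S := by intro g; simp only [e, four]; split_ifs <;> assumption
  have he2 : ∀ g, e g * e g = 1 := fun g => hS.sq _ (heS g)
  have e0 : e 0 = a := by simp [e, four]
  let gen : ℕ → ConjAct G := fun g => ConjAct.toConjAct (e g)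
  have hiv : ∀ g, g < data.ng → gen (data.iv g) = (gen g)⁻¹ := by
    intro g _
    simp only [data_iv, gen, ← map_inv, inv_eq_self (he2 g)]
  obtain ⟨h0, hT⟩ := check_sound (X := G) data_check hiv
    (hS.rel_eq_one e heS) (hS.sub_fix ha hb hc hd)
  let f : Q3 → ZMod 3 → G := fun x r => pt data gen a (enc x r)
  have hmove : ∀ g : Fin 4, g.val ≠ 0 → a * e g.val ∈ compatGroup f := by
    intro g hg
    refine ⟨shift g.val, delta g.val, fun x r => ?_⟩
    have h1 := hT (enc x r) g.val (enc_lt x r) (lt_of_lt_of_eq g.isLt data_ng.symm)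
    have h2 := hT (data.tbl (enc x r) g.val) 0 h1.1 (lt_of_lt_of_eq (Nat.succ_pos 3) data_ng.symm)
    show ConjAct.toConjAct (a * e g.val) • pt data gen a (enc x r) = _
    have ha0 : ConjAct.toConjAct a = gen 0 := by simp only [gen, e0]
    rw [map_mul, mul_smul, ha0]
    show gen 0 • gen g.val • pt data gen a (enc x r) = _
    rw [h1.2, h2.2]
    exact congrArg (pt data gen a) (move_spec g x r hg)
  have hle : Subgroup.closure ({a * b, a * c, a * d} : Set G) ≤ compatGroup f := by
    rw [Subgroup.closure_le]
    intro t ht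
    simp only [Set.mem_insert_iff, Set.mem_singleton_iff] at ht
    rcases ht with rfl | rfl | rfl
    · simpa [e, four] using hmove 1 (by decide)
    · simpa [e, four] using hmove 2 (by decide)
    · simpa [e, four] using hmove 3 (by decide)
  obtain ⟨x, r, hxr⟩ := gen_point i
  have key := compat_pow_nine (hle ht) x r
  simp only [f] at key
  rw [← hxr] at key
  have hw' : ∀ g ∈ (if i.val = 0 then [] else [0, i.val, 0, i.val]), g < data.ng := by
    rw [data_ng]
    intro g hg
    have := i.isLt
    split_ifs at hg <;> simp at hg <;> omega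
  rw [← (table_act hT _ data_n_pos hw').2, h0] at key
  have hei : act gen (if i.val = 0 then [] else [0, i.val, 0, i.val]) • a = e i.val := by
    rw [act_toConjAct, ConjAct.smul_def, ConjAct.ofConjAct_toConjAct]
    split_ifs with hi0
    · rw [hi0, e0]; simp [wordProd]
    · have hai : a * e i.val * a = e i.val * a * e i.val := hS.braid a ha _ (heS i.val)
      have ha2 := hS.sq a ha
      simp only [wordProd, one_mul, e0, mul_inv_rev, inv_eq_self ha2, inv_eq_self (he2 i.val)]
      calc e i.val * a * e i.val * a * a * (a * (e i.val * (a * e i.val)))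
          = (e i.val * a * e i.val) * (a * e i.val * a) * e i.val := by
            simp [mul_assoc, cancel₂ ha2]
        _ = e i.val := by
            rw [hai]; simp [mul_assoc, cancel₂ (he2 i.val), cancel₂ ha2, he2 i.val]
  rw [hei, ConjAct.smul_def, ConjAct.ofConjAct_toConjAct, mul_inv_eq_iff_eq_mul] at key
  exact key

theorem isPGroup_closure_of_pow_commute [Finite G] {p k : ℕ} [Fact p.Prime] (T : Set G)
    (hT : ∀ t ∈ T, t ^ p = 1)
    (hc : ∀ g ∈ Subgroup.closure T, ∀ t ∈ T, Commute (g ^ p ^ k) t) :
    IsPGroup p (Subgroup.closure T) := by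
  refine isPGroup_of_pow_mem_center (p := p) (k := k)
    (((↑) : Subgroup.closure T → G) ⁻¹' T) Subgroup.closure_closure_coe_preimage ?_ ?_
  · intro t ht
    exact Subtype.ext (by simpa using hT t ht)
  · intro g
    rw [Subgroup.mem_center_iff]
    intro s
    apply Subtype.ext
    have h : Subgroup.closure T ≤ Subgroup.centralizer ({(g : G) ^ p ^ k} : Set G) := by
      rw [Subgroup.closure_le]
      intro t ht
      rw [SetLike.mem_coe, Subgroup.mem_centralizer_singleton_iff]
      exact (hc g g.2 t ht).symm.eq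
    have := Subgroup.mem_centralizer_singleton_iff.mp (h s.2)
    simpa using this

/-- The products of four members of a width-one set generate a 3-group. -/
theorem IsW1.isPGroup_four [Finite G] {S : Set G} (hS : IsW1 S) {a b c d : G} (ha : a ∈ S)
    (hb : b ∈ S) (hc : c ∈ S) (hd : d ∈ S) :
    IsPGroup 3 (Subgroup.closure ({a * b, a * c, a * d} : Set G)) := by
  refine isPGroup_closure_of_pow_commute (k := 2) _ ?_ ?_
  · intro t ht
    simp only [Set.mem_insert_iff, Set.mem_singleton_iff] at ht
    rcases ht with rfl | rfl | rfl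
    exacts [hS.pow_three ha hb, hS.pow_three ha hc, hS.pow_three ha hd]
  · intro g hg t ht
    have h : ∀ i : Fin 4, Commute (g ^ 9) (four a b c d i.val) :=
      hS.pow_nine_commute ha hb hc hd hg
    have ha' : Commute (g ^ 9) a := h ⟨0, by omega⟩
    have hb' : Commute (g ^ 9) b := h ⟨1, by omega⟩
    have hc' : Commute (g ^ 9) c := h ⟨2, by omega⟩
    have hd' : Commute (g ^ 9) d := h ⟨3, by omega⟩
    simp only [Set.mem_insert_iff, Set.mem_singleton_iff] at ht
    rcases ht with rfl | rfl | rfl
    exacts [ha'.mul_right hb', ha'.mul_right hc', ha'.mul_right hd']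

end CfsgLib.ThreeTransp
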