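import Mathlib
import Cfsg.Prelude.Def_SporadicB
import Cfsg.Prelude.Def_CaseTheorems
import Cfsg.Agent.Lib.Cores.Basic
import Cfsg.Agent.Lib.SporMisc.S5Hom

/-!
Sets of 3-transpositions whose local groups are symmetric of degree 3.
-/

set_option linter.style.haveILetI false
set_option linter.unusedSectionVars false

namespace CfsgLib.ThreeTransp.LocalSymThree

open Subgroup Cfsg

variable {G : Type*} [Group G] [Finite G] {D : Set G}

/-- The members of `D` commuting with `d`, other than `d`. -/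
def nb (D : Set G) (d : G) : Set G := {y | y ∈ D ∧ y ≠ d ∧ Commute d y}

/-- The local hypothesis. -/
structure Hyp (D : Set G) : Prop where
  tt : IsThreeTranspositionSet D
  conj : ∀ g : G, ∀ d ∈ D, g * d * g⁻¹ ∈ D
  local_sym : ∀ d ∈ D, Nonempty (↥(closure (nb D d)) ≃* Equiv.Perm (Fin 3))
  core : ∀ d ∈ D, Nat.card (pCore 3 ↥(centralizer ({d} : Set G))) = 3

/-- Two triangles of the commuting graph forming a complete bipartite component. -/
def Sq (D A B : Set G) : Prop :=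
  A ⊆ D ∧ B ⊆ D ∧ A.Nonempty ∧ B.Nonempty ∧ (∀ p ∈ A, nb D p = B) ∧ ∀ p ∈ B, nb D p = A

/-- The products of two members of a triangle. -/
def W0 (D : Set G) : Set G := {t | ∃ A B, Sq D A B ∧ ∃ p ∈ A, ∃ q ∈ A, t = p * q}

theorem Sq.symm {A B : Set G} (h : Sq D A B) : Sq D B A :=
  ⟨h.2.1, h.1, h.2.2.2.1, h.2.2.1, h.2.2.2.2.2, h.2.2.2.2.1⟩

theorem Sq.comm {A B : Set G} (h : Sq D A B) {p q : G} (hp : p ∈ A) (hq : q ∈ B) : Commute p q := by
  rw [← h.2.2.2.2.1 p hp] at hq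
  exact hq.2.2

set_option synthInstance.maxSize 2000 in
theorem s3_comm : ∀ σ τ : Equiv.Perm (Fin 3), σ * σ = 1 → τ * τ = 1 → σ ≠ 1 → τ ≠ 1 →
    σ * τ = τ * σ → σ = τ := by decide

set_option synthInstance.maxSize 2000 in
theorem s3_third : ∀ σ τ ρ : Equiv.Perm (Fin 3), σ * σ = 1 → τ * τ = 1 → ρ * ρ = 1 → σ ≠ 1 → τ ≠ 1 →
    ρ ≠ 1 → σ ≠ τ → ρ = σ ∨ ρ = τ ∨ ρ = σ * τ * σ := by decide

theorem s3_center : ∀ σ : Equiv.Perm (Fin 3), (∀ τ, σ * τ = τ * σ) → σ = 1 := by decide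

namespace Hyp

variable (h : Hyp D)

include h

theorem sq {d : G} (hd : d ∈ D) : d * d = 1 := by
  rw [← pow_two, ← h.tt.1 d hd, pow_orderOf_eq_one]

theorem inv_eq {d : G} (hd : d ∈ D) : d⁻¹ = d := inv_eq_of_mul_eq_one_right (h.sq hd)

theorem ne_one {d : G} (hd : d ∈ D) : d ≠ 1 := fun e => by
  have := h.tt.1 d hd; rw [e, orderOf_one] at this; omega

theorem cube {u v : G} (hu : u ∈ D) (hv : v ∈ D) (hn : ¬ Commute u v) : (u * v) ^ 3 = 1 := by
  refine (h.tt.2 u hu v hv).resolve_left fun e => hn ?_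
  rw [pow_two, mul_eq_one_iff_eq_inv, mul_inv_rev, h.inv_eq hu, h.inv_eq hv] at e
  exact e

theorem braid {u v : G} (hu : u ∈ D) (hv : v ∈ D) (hn : ¬ Commute u v) : u * v * u = v * u * v := by
  have h' : (u * v * u) * (v * u * v) = 1 := by
    rw [← h.cube hu hv hn, pow_succ, pow_two]; group
  rw [mul_eq_one_iff_eq_inv] at h'
  rw [h', mul_inv_rev, mul_inv_rev, h.inv_eq hu, h.inv_eq hv, mul_assoc]

theorem nb_ne {d a b : G} (hd : d ∈ D) (ha : a ∈ nb D d) (hb : b ∈ nb D d) (hab : a ≠ b) :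
    ¬ Commute a b := by
  intro hc
  obtain ⟨e⟩ := h.local_sym d hd
  have hA : ∀ {x : G} (hx : x ∈ nb D d), e ⟨x, subset_closure hx⟩ * e ⟨x, subset_closure hx⟩ = 1 ∧
      e ⟨x, subset_closure hx⟩ ≠ 1 := fun {x} hx =>
    ⟨by rw [← map_mul, e.map_eq_one_iff]; exact Subtype.ext (h.sq hx.1),
      fun he => h.ne_one hx.1 (congrArg Subtype.val (e.map_eq_one_iff.1 he))⟩
  exact hab (congrArg Subtype.val (e.injective (s3_comm _ _ (hA ha).1 (hA hb).1 (hA ha).2 (hA hb).2
    (by rw [← map_mul, ← map_mul]; exact congrArg e (Subtype.ext hc.eq)))))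

theorem nb_conj {d a b : G} (ha : a ∈ nb D d) (hb : b ∈ nb D d) : a * b * a ∈ nb D d := by
  have hcb : Commute d (a * b * a) := (ha.2.2.mul_right hb.2.2).mul_right ha.2.2
  have hD' : a * b * a ∈ D := by
    have := h.conj a b hb.1
    rwa [h.inv_eq ha.1] at this
  refine ⟨hD', fun e => hb.2.1 ?_, hcb⟩
  have h1 : b = a * d * a := by
    rw [← e]
    calc b = (a * a) * b * (a * a) := by rw [h.sq ha.1]; simp
      _ = a * (a * b * a) * a := by group
  rw [h1, ← ha.2.2.eq, mul_assoc, h.sq ha.1, mul_one]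

theorem nb_eq {d a b : G} (hd : d ∈ D) (ha : a ∈ nb D d) (hb : b ∈ nb D d) (hab : a ≠ b) :
    nb D d = {a, b, a * b * a} := by
  obtain ⟨e⟩ := h.local_sym d hd
  refine Set.Subset.antisymm (fun y hy => ?_) ?_
  · have hA : ∀ {x : G} (hx : x ∈ nb D d), e ⟨x, subset_closure hx⟩ * e ⟨x, subset_closure hx⟩ = 1 ∧
        e ⟨x, subset_closure hx⟩ ≠ 1 := fun {x} hx =>
      ⟨by rw [← map_mul, e.map_eq_one_iff]; exact Subtype.ext (h.sq hx.1),
        fun he => h.ne_one hx.1 (congrArg Subtype.val (e.map_eq_one_iff.1 he))⟩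
    have hne : e ⟨a, subset_closure ha⟩ ≠ e ⟨b, subset_closure hb⟩ :=
      fun he => hab (congrArg Subtype.val (e.injective he))
    rcases s3_third _ _ _ (hA ha).1 (hA hb).1 (hA hy).1 (hA ha).2 (hA hb).2 (hA hy).2 hne with he | he | he
    · exact .inl (congrArg Subtype.val (e.injective he))
    · exact .inr (.inl (congrArg Subtype.val (e.injective he)))
    · rw [← map_mul, ← map_mul] at he
      exact .inr (.inr (congrArg Subtype.val (e.injective he)))
  · rintro y (rfl | rfl | rfl)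
    exacts [ha, hb, h.nb_conj ha hb]

theorem nb_three {a b : G} (ha : a ∈ D) (_hb : b ∈ D) (hab : ¬ Commute a b) :
    a ≠ b ∧ a * b * a ≠ a ∧ a * b * a ≠ b := by
  refine ⟨fun e => hab (e ▸ Commute.refl a), fun e => ?_, fun e => ?_⟩
  · rw [eq_inv_of_mul_eq_one_right (mul_eq_right.1 e)] at hab
    exact hab (Commute.refl a).inv_right
  · refine hab ?_
    show a * b = b * a
    calc a * b = (a * b * a) * a⁻¹ := by group
      _ = b * a := by rw [e, h.inv_eq ha]

theorem exists_two {d : G} (hd : d ∈ D) : ∃ a ∈ nb D d, ∃ b ∈ nb D d, a ≠ b := by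
  by_contra! hall
  obtain ⟨e⟩ := h.local_sym d hd
  have hcard : Nat.card ↥(closure (nb D d)) = 6 := by
    rw [Nat.card_congr e.toEquiv, Nat.card_eq_fintype_card]; rfl
  rcases (nb D d).eq_empty_or_nonempty with h0 | ⟨a, ha⟩
  · rw [h0, Subgroup.closure_empty, card_bot] at hcard
    omega
  · have h1 : nb D d = {a} := Set.eq_singleton_iff_unique_mem.2 ⟨ha, fun y hy => hall y hy a ha⟩
    rw [h1, ← zpowers_eq_closure, Nat.card_zpowers, h.tt.1 a ha.1] at hcard
    omega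

theorem sq_conj {A B : Set G} (hS : Sq D A B) (g : G) :
    Sq D (MulAut.conj g '' A) (MulAut.conj g '' B) := by
  obtain ⟨hA, hB, hA0, hB0, hAB, hBA⟩ := hS
  have key : ∀ p, nb D (MulAut.conj g p) = MulAut.conj g '' nb D p := by
    intro p
    refine Set.ext fun y => ⟨fun hy => ⟨(MulAut.conj g).symm y, ⟨?_, fun e => hy.2.1 ?_, ?_⟩,
      (MulAut.conj g).apply_symm_apply y⟩, ?_⟩
    · have := h.conj g⁻¹ y hy.1
      simpa using this
    · rw [← e, MulEquiv.apply_symm_apply]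
    · have := hy.2.2.map (MulAut.conj g).symm
      rwa [MulEquiv.symm_apply_apply] at this
    · rintro ⟨y, hy, rfl⟩
      exact ⟨h.conj g y hy.1, fun e => hy.2.1 ((MulAut.conj g).injective e), hy.2.2.map _⟩
  refine ⟨?_, ?_, hA0.image _, hB0.image _, ?_, ?_⟩
  · rintro _ ⟨y, hy, rfl⟩; exact h.conj g y (hA hy)
  · rintro _ ⟨y, hy, rfl⟩; exact h.conj g y (hB hy)
  · rintro _ ⟨p, hp, rfl⟩; rw [key, hAB p hp]
  · rintro _ ⟨p, hp, rfl⟩; rw [key, hBA p hp]

theorem noncomm_of_outside {A B : Set G} (hS : Sq D A B) {y : G} (hy : y ∈ D) (hyA : y ∉ A)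
    (hyB : y ∉ B) : ∀ p ∈ A, ¬ Commute p y := fun p hp hc =>
  hyB (hS.2.2.2.2.1 p hp ▸ ⟨hy, fun e => hyA (e ▸ hp), hc⟩)

theorem step {A B A' B' : Set G} (hS : Sq D A B) (hS' : Sq D A' B') {p a y : G} (hp : p ∈ A)
    (ha : a ∈ B) (hy : y ∈ A') (hyA : y ∉ A) (hyB : y ∉ B) : p * a * y * (p * a)⁻¹ ∈ B' := by
  have hyD := hS'.1 hy
  have e1 := h.braid (hS.1 hp) hyD (h.noncomm_of_outside hS hyD hyA hyB p hp)
  have e2 := h.braid (hS.2.1 ha) hyD (h.noncomm_of_outside hS.symm hyD hyB hyA a ha)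
  have hpa : Commute p a := hS.comm hp ha
  have hne : p ≠ a := by
    intro e
    have := hS.2.2.2.2.1 p hp ▸ ha
    exact this.2.1 e.symm
  have hc : Commute (p * y * p) (a * y * a) := by
    rw [e1, e2]
    have hh := hpa.map (MulAut.conj y)
    simp only [MulAut.conj_apply, h.inv_eq hyD] at hh
    exact hh
  have hd : p * y * p ≠ a * y * a := by
    rw [e1, e2]
    exact fun e => hne (mul_left_cancel (mul_right_cancel e))
  rw [← hS'.2.2.2.2.1 y hy]
  have hz : p * a * y * (p * a)⁻¹ = p * (a * y * a) * p := by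
    rw [mul_inv_rev, h.inv_eq (hS.1 hp), h.inv_eq (hS.2.1 ha)]; group
  have hy' : y = p * (p * y * p) * p := by
    calc y = (p * p) * y * (p * p) := by rw [h.sq (hS.1 hp)]; simp
      _ = p * (p * y * p) * p := by group
  refine ⟨h.conj _ y hyD, fun e => hd ?_, ?_⟩
  · have e' := hz.symm.trans e
    calc p * y * p = p * (p * (a * y * a) * p) * p := by rw [e']
      _ = (p * p) * (a * y * a) * (p * p) := by group
      _ = a * y * a := by rw [h.sq (hS.1 hp)]; simp
  · rw [hz]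
    have hh := hc.map (MulAut.conj p)
    simp only [MulAut.conj_apply, h.inv_eq (hS.1 hp)] at hh
    rwa [← hy'] at hh

theorem fixes {A B : Set G} (hS : Sq D A B) {p q : G} (hp : p ∈ A) (hq : q ∈ A) {A' B' : Set G}
    (hS' : Sq D A' B') : ∀ y ∈ A', p * q * y * (p * q)⁻¹ ∈ A' := by
  obtain ⟨a, ha⟩ := hS.2.2.2.1
  intro y hy
  have hyD := hS'.1 hy
  by_cases hyA : y ∈ A
  · obtain ⟨b, hb⟩ := hS'.2.2.2.1
    have hAB' : B' = B := (hS'.2.2.2.2.1 y hy).symm.trans (hS.2.2.2.2.1 y hyA)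
    have hbA : nb D a = A' := hS'.2.2.2.2.2 a (hAB' ▸ ha)
    rw [← hbA] at hy ⊢
    have hpa : Commute a p := (hS.comm hp ha).symm
    have hqa : Commute a q := (hS.comm hq ha).symm
    refine ⟨h.conj _ y hy.1, fun e => hy.2.1 ?_, ((hpa.mul_right hqa).mul_right hy.2.2).mul_right
      (hpa.mul_right hqa).inv_right⟩
    calc y = (p * q)⁻¹ * (p * q * y * (p * q)⁻¹) * (p * q) := by group
      _ = a := by rw [e, mul_assoc, (hpa.mul_right hqa).eq, inv_mul_cancel_left]
  by_cases hyB : y ∈ B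
  · rw [((hS.comm hp hyB).mul_left (hS.comm hq hyB)).eq, mul_inv_cancel_right]
    exact hy
  have h1 : a * q * y * (a * q)⁻¹ ∈ B' := h.step hS.symm hS' ha hq hy hyB hyA
  obtain ⟨w, hw⟩ : ∃ w, w = a * q * y * (a * q)⁻¹ := ⟨_, rfl⟩
  rw [← hw] at h1
  have houtA : w ∉ A := by
    intro hwA
    have hA'B : A' = B := (hS'.2.2.2.2.2 w h1).symm.trans (hS.2.2.2.2.1 w hwA)
    exact hyB (hA'B ▸ hy)
  have houtB : w ∉ B := by
    intro hwB
    have hA'A : A' = A := (hS'.2.2.2.2.2 w h1).symm.trans (hS.2.2.2.2.2 w hwB)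
    exact hyA (hA'A ▸ hy)
  have h2 := h.step hS hS'.symm hp ha h1 houtA houtB
  have e : p * a * (a * q * y * (a * q)⁻¹) * (p * a)⁻¹ = p * q * y * (p * q)⁻¹ := by
    calc p * a * (a * q * y * (a * q)⁻¹) * (p * a)⁻¹
        = p * (a * a) * q * y * (p * (a * a) * q)⁻¹ := by group
      _ = p * q * y * (p * q)⁻¹ := by rw [h.sq (hS.2.1 ha), mul_one]
  rwa [hw, e] at h2

theorem W0_pow {t : G} (ht : t ∈ W0 D) : t ^ 3 = 1 := by
  obtain ⟨A, B, hS, p, hp, q, hq, rfl⟩ := ht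
  by_cases hpq : p = q
  · rw [hpq, h.sq (hS.1 hq), one_pow]
  · obtain ⟨b, hb⟩ := hS.2.2.2.1
    rw [← hS.2.2.2.2.2 b hb] at hp hq
    exact h.cube hp.1 hq.1 (h.nb_ne (hS.2.1 hb) hp hq hpq)

theorem W0_comm {t t' : G} (ht : t ∈ W0 D) (ht' : t' ∈ W0 D) : Commute t t' := by
  have ht3 := h.W0_pow ht
  obtain ⟨A, B, hS, a, ha, b, hb, rfl⟩ := ht
  obtain ⟨A', B', hS', p, hp, q, hq, rfl⟩ := ht'
  by_cases hpq : p = q
  · rw [hpq, h.sq (hS'.1 hq)]; exact Commute.one_right _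
  obtain ⟨t, htdef⟩ : ∃ t, t = a * b := ⟨_, rfl⟩
  rw [← htdef] at ht3 ⊢
  obtain ⟨β, hβ⟩ := hS'.2.2.2.1
  have hpβ : p ∈ nb D β := hS'.2.2.2.2.2 β hβ ▸ hp
  have hqβ : q ∈ nb D β := hS'.2.2.2.2.2 β hβ ▸ hq
  have hnc := h.nb_ne (hS'.2.1 hβ) hpβ hqβ hpq
  have hA' : A' = {p, q, p * q * p} := (hS'.2.2.2.2.2 β hβ).symm.trans (h.nb_eq (hS'.2.1 hβ) hpβ hqβ hpq)
  have hfix : ∀ y ∈ A', t * y * t⁻¹ ∈ A' := fun y hy => htdef ▸ h.fixes hS ha hb hS' y hy
  obtain ⟨hpq', hrp, hrq⟩ := h.nb_three hpβ.1 hqβ.1 hnc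
  have hbr := h.braid hpβ.1 hqβ.1 hnc
  let f := MulAut.conj t
  have hf3 : ∀ x, f (f (f x)) = x := by
    intro x
    have e : t⁻¹ * t⁻¹ * t⁻¹ = 1 := by
      calc t⁻¹ * t⁻¹ * t⁻¹ = (t ^ 3)⁻¹ := by group
        _ = 1 := by rw [ht3, inv_one]
    show t * (t * (t * x * t⁻¹) * t⁻¹) * t⁻¹ = x
    calc t * (t * (t * x * t⁻¹) * t⁻¹) * t⁻¹ = t * t * t * x * (t⁻¹ * t⁻¹ * t⁻¹) := by group
      _ = x := by rw [show t * t * t = 1 by rw [← ht3, pow_succ, pow_two], e, one_mul, mul_one]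
  have hfm : ∀ x y z, f (x * y * z) = f x * f y * f z := fun x y z => by rw [map_mul, map_mul]
  have hp' : f p = p ∨ f p = q ∨ f p = p * q * p := by
    have := hfix p hp
    rwa [hA'] at this
  have hq' : f q = p ∨ f q = q ∨ f q = p * q * p := by
    have := hfix q hq
    rwa [hA'] at this
  have hne : f p ≠ f q := fun e => hpq (f.injective e)
  have hgoal : f (p * q) = p * q := by
    rw [map_mul]
    rcases hp' with e1 | e1 | e1 <;> rcases hq' with e2 | e2 | e2
    · exact absurd (e1.trans e2.symm) hne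
    · rw [e1, e2]
    · exfalso
      have e3 : f (p * q * p) = q := by
        rw [hfm, e1, e2]
        calc p * (p * q * p) * p = (p * p) * q * (p * p) := by group
          _ = q := by rw [h.sq hpβ.1]; simp
      exact hrq (by have := hf3 q; rwa [e2, e3, e2] at this)
    · exfalso
      exact hpq (by have := hf3 p; rw [e1, e2, e1] at this; exact this.symm)
    · exact absurd (e1.trans e2.symm) hne
    · rw [e1, e2]
      calc q * (p * q * p) = q * (q * p * q) := by rw [hbr]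
        _ = (q * q) * (p * q) := by group
        _ = p * q := by rw [h.sq hqβ.1, one_mul]
    · rw [e1, e2, mul_assoc (p * q) p p, h.sq hpβ.1, mul_one]
    · exfalso
      have e3 : f (p * q * p) = p := by
        rw [hfm, e1, e2]
        conv_lhs => rw [hbr]
        calc q * p * q * q * (q * p * q) = q * p * (q * q) * q * p * q := by group
          _ = (q * p * q) * p * q := by rw [h.sq hqβ.1]; group
          _ = p * q * (p * p) * q := by rw [← hbr]; group
          _ = p * (q * q) := by rw [h.sq hpβ.1]; group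
          _ = p := by rw [h.sq hqβ.1, mul_one]
      exact hrp (by have := hf3 p; rwa [e1, e3, e1] at this)
    · exact absurd (e1.trans e2.symm) hne
  show t * (p * q) = p * q * t
  exact mul_inv_eq_iff_eq_mul.1 hgoal

theorem closure_facts : (∀ t ∈ closure (W0 D), ∀ t' ∈ closure (W0 D), Commute t t') ∧
    (∀ t ∈ closure (W0 D), t ^ 3 = 1) ∧ (closure (W0 D)).Normal := by
  have h1 : ∀ t ∈ closure (W0 D), ∀ t' ∈ closure (W0 D), Commute t t' := by
    intro t ht t' ht'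
    induction ht using closure_induction with
    | mem x hx =>
      induction ht' using closure_induction with
      | mem y hy => exact h.W0_comm hx hy
      | one => exact Commute.one_right _
      | mul y z _ _ i1 i2 => exact i1.mul_right i2
      | inv y _ i1 => exact i1.inv_right
    | one => exact Commute.one_left _
    | mul y z _ _ i1 i2 => exact i1.mul_left i2
    | inv y _ i1 => exact i1.inv_left
  refine ⟨h1, fun t ht => ?_, ⟨fun t ht g => ?_⟩⟩
  · induction ht using closure_induction with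
    | mem x hx => exact h.W0_pow hx
    | one => simp
    | mul y z hy hz i1 i2 => rw [(h1 y hy z hz).mul_pow, i1, i2, one_mul]
    | inv y _ i1 => rw [inv_pow, i1, inv_one]
  · have : (closure (W0 D)).map (MulAut.conj g).toMonoidHom ≤ closure (W0 D) := by
      rw [MonoidHom.map_closure]
      refine closure_mono ?_
      rintro _ ⟨_, ⟨A, B, hS, p, hp, q, hq, rfl⟩, rfl⟩
      exact ⟨_, _, h.sq_conj hS g, _, ⟨p, hp, rfl⟩, _, ⟨q, hq, rfl⟩, by simp⟩
    exact this ⟨t, ht, rfl⟩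

theorem stab {t : G} (ht : t ∈ closure (W0 D)) {A B : Set G} (hS : Sq D A B) :
    ∀ y ∈ A, t * y * t⁻¹ ∈ A := by
  induction ht using closure_induction with
  | mem x hx => obtain ⟨A', B', hS', p, hp, q, hq, rfl⟩ := hx; exact h.fixes hS' hp hq hS
  | one => intro y hy; simpa using hy
  | mul x z _ _ i1 i2 =>
    intro y hy
    simpa [mul_assoc] using i1 _ (i2 y hy)
  | inv x hx i1 =>
    intro y hy
    have e : x⁻¹ = x * x := by
      have := h.closure_facts.2.1 x hx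
      rw [pow_succ, pow_two, mul_eq_one_iff_eq_inv] at this
      exact this.symm
    rw [e]
    simpa [mul_assoc] using i1 _ (i1 y hy)

theorem fixed_cases {A B : Set G} (hS : Sq D A B) {d : G} (hd : d ∈ A) {a b : G} (ha : a ∈ B)
    (hb : b ∈ B) (hab : a ≠ b) :
    ∀ t ∈ closure (W0 D), Commute d t → t ∈ zpowers (a * b) := by
  obtain ⟨hcom, hexp, hn⟩ := h.closure_facts
  haveI : Fact (Nat.Prime 3) := ⟨Nat.prime_three⟩
  have hdD := hS.1 hd
  obtain ⟨N, hN⟩ : ∃ N, N = (closure (W0 D)).subgroupOf (centralizer ({d} : Set G)) := ⟨_, rfl⟩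
  haveI := hn
  haveI : N.Normal := hN ▸ inferInstance
  have hNp : IsPGroup 3 N := fun x => ⟨1, Subtype.ext (Subtype.ext (by
    simpa using hexp _ (mem_subgroupOf.1 (hN ▸ x.2))))⟩
  have hle : Nat.card N ≤ 3 := h.core d hdD ▸ card_le_of_le (CfsgLib.Cores.le_pCore hNp)
  have hd' : Commute d (a * b) := (hS.comm hd ha).mul_right (hS.comm hd hb)
  have haB : a ∈ nb D d := hS.2.2.2.2.1 d hd ▸ ha
  have hbB : b ∈ nb D d := hS.2.2.2.2.1 d hd ▸ hb
  have hord : orderOf (a * b) = 3 := orderOf_eq_prime (h.cube haB.1 hbB.1 (h.nb_ne hdD haB hbB hab))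
    (fun e => hab ((mul_eq_one_iff_eq_inv.1 e).trans (h.inv_eq hbB.1)))
  let w : centralizer ({d} : Set G) := ⟨a * b, mem_centralizer_singleton_iff.2 hd'.eq.symm⟩
  have hw : w ∈ N := hN ▸ mem_subgroupOf.2 (subset_closure ⟨B, A, hS.symm, a, ha, b, hb, rfl⟩)
  have heq : N = zpowers w := (eq_of_le_of_card_ge (zpowers_le.2 hw) (by
    rw [Nat.card_zpowers, Subgroup.orderOf_mk, hord]; exact hle)).symm
  intro t ht hdt
  have htN : (⟨t, mem_centralizer_singleton_iff.2 hdt.eq.symm⟩ : centralizer ({d} : Set G)) ∈ N :=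
    hN ▸ mem_subgroupOf.2 ht
  rw [heq] at htN
  obtain ⟨k, hk⟩ := mem_zpowers_iff.1 htN
  exact mem_zpowers_iff.2 ⟨k, congrArg Subtype.val hk⟩

/-- Inverted elements of one member are inverted by another. -/
theorem inverted {A B A' B' : Set G} (hS : Sq D A B) (hS' : Sq D A' B') {d y : G} (hd : d ∈ A)
    (hy : y ∈ A') (hyA : y ∉ A) (hyB : y ∉ B) {a b : G} (ha : a ∈ B) (hb : b ∈ B) (hab : a ≠ b)
    (hnw : ¬ Commute y (a * b)) :
    ∀ t ∈ closure (W0 D), y * t * y = t⁻¹ → d * t * d = t⁻¹ := by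
  obtain ⟨hcom, hexp, hn⟩ := h.closure_facts
  haveI := hn
  have hdD := hS.1 hd
  have hyD := hS'.1 hy
  have hdd := h.sq hdD
  have hyy := h.sq hyD
  intro t ht hty
  have ht3 : t * t * t = 1 := by rw [← hexp t ht, pow_succ, pow_two]
  have hs : d * t * d ∈ closure (W0 D) := by
    have := Normal.conj_mem hn t ht d; rwa [h.inv_eq hdD] at this
  obtain ⟨s, hsdef⟩ : ∃ s, s = d * t * d := ⟨_, rfl⟩
  rw [← hsdef] at hs ⊢
  have hyt : y * t = t * y * t⁻¹ := by
    calc y * t = y * t * (y * y) := by rw [hyy, mul_one]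
      _ = (y * t * y) * y := by group
      _ = t⁻¹ * y := by rw [hty]
      _ = (t * t * t) * (t⁻¹ * y) := by rw [ht3, one_mul]
      _ = t * (t * y) := by group
      _ = t * y * (y * t * y) := by
        rw [show t * y * (y * t * y) = t * (y * y) * t * y by group, hyy, mul_one, mul_assoc]
      _ = t * y * t⁻¹ := by rw [hty]
  have hytD : y * t ∈ D := hyt ▸ h.conj t y hyD
  have hnc : ¬ Commute d (y * t) := by
    intro hc
    have hti : t⁻¹ ∈ closure (W0 D) := inv_mem ht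
    have hback : ∀ {X Y : Set G}, Sq D X Y → y * t ∈ X → y ∈ X := fun hX hX' => by
      have := h.stab hti hX _ hX'
      rw [hyt] at this
      simpa [mul_assoc] using this
    by_cases he : y * t = d
    · exact hyA (hback hS (he ▸ hd))
    · exact hyB (hback hS.symm (hS.2.2.2.2.1 d hd ▸ ⟨hytD, he, hc⟩))
  have hc3 := h.cube hdD hytD hnc
  have hdy := h.cube hdD hyD (fun hc => h.noncomm_of_outside hS hyD hyA hyB d hd hc)
  have hs' : d * y * t * y * d = s⁻¹ := by
    calc d * y * t * y * d = d * (y * t * y) * d := by group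
      _ = d⁻¹ * t⁻¹ * d⁻¹ := by rw [hty, h.inv_eq hdD]
      _ = s⁻¹ := by rw [hsdef]; group
  have e1 : d * y * s⁻¹ * y * d = s * t⁻¹ := by
    have e : s⁻¹ * (d * y * s⁻¹ * y * d) * t = 1 := by
      calc s⁻¹ * (d * y * s⁻¹ * y * d) * t
          = d * y * t * y * d * (d * y * (d * y * t * y * d) * y * d) * t := by rw [hs']
        _ = d * y * t * (y * (d * d) * y) * (d * y * t * (y * d * y * d)) * t := by group
        _ = d * y * t * (d * y * t) * (y * d * y * d) * t := by rw [hdd, mul_one, hyy, mul_one]; group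
        _ = d * y * t * (d * y * t) * (d * y * t) := by
          have hz : y * d * y * d = d * y := by
            calc y * d * y * d = (y * d * y) * d := rfl
              _ = (d * y * d) * d := by rw [h.braid hdD hyD fun hc =>
                  h.noncomm_of_outside hS hyD hyA hyB d hd hc]
              _ = d * y * (d * d) := by group
              _ = d * y := by rw [hdd, mul_one]
          rw [hz]; group
        _ = (d * (y * t)) ^ 3 := by rw [pow_succ, pow_two]; group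
        _ = 1 := hc3
    calc d * y * s⁻¹ * y * d = s * (s⁻¹ * (d * y * s⁻¹ * y * d) * t) * t⁻¹ := by group
      _ = s * t⁻¹ := by rw [e, mul_one]
  have hti : d * s * d = t := by
    rw [hsdef]
    calc d * (d * t * d) * d = (d * d) * t * (d * d) := by group
      _ = t := by rw [hdd]; simp
  have e2 : y * s⁻¹ * y = t * s⁻¹ := by
    calc y * s⁻¹ * y = (d * d) * (y * s⁻¹ * y) * (d * d) := by rw [hdd]; simp
      _ = d * (d * y * s⁻¹ * y * d) * d := by group
      _ = d * (s * t⁻¹) * d := by rw [e1]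
      _ = (d * s * d) * (d⁻¹ * t⁻¹ * d) := by group
      _ = t * s⁻¹ := by
        rw [hti, hsdef, mul_inv_rev, mul_inv_rev, h.inv_eq hdD, mul_assoc d]
  obtain ⟨c, hc⟩ : ∃ c, c = t * s := ⟨_, rfl⟩
  have hcW : c ∈ closure (W0 D) := hc ▸ mul_mem ht hs
  have hdc : d * c * d = c := by
    calc d * c * d = (d * t * d) * (d⁻¹ * s * d) := by rw [hc]; group
      _ = s * t := by rw [← hsdef, h.inv_eq hdD, hti]
      _ = c := by rw [hc]; exact (hcom s hs t ht).eq
  have hyc : y * c * y = c := by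
    have e3 : y * s * y = s * t⁻¹ := by
      have := congrArg (·⁻¹) e2
      simp only [mul_inv_rev, inv_inv, h.inv_eq hyD, ← mul_assoc] at this
      exact this
    calc y * c * y = (y * t * y) * (y⁻¹ * s * y) := by rw [hc]; group
      _ = t⁻¹ * (s * t⁻¹) := by rw [hty, h.inv_eq hyD, e3]
      _ = t⁻¹ * t⁻¹ * s := by rw [(hcom s hs t⁻¹ (inv_mem ht)).eq]; group
      _ = (t * t * t) * (t⁻¹ * t⁻¹) * s := by rw [ht3, one_mul]
      _ = c := by rw [hc]; group
  have hcd : Commute d c := by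
    show d * c = c * d
    calc d * c = d * c * (d * d) := by rw [hdd, mul_one]
      _ = (d * c * d) * d := by group
      _ = c * d := by rw [hdc]
  by_contra hne
  have hc1 : c ≠ 1 := fun e => hne (eq_inv_of_mul_eq_one_right (hc ▸ e))
  have hcyc : Commute y c := by
    show y * c = c * y
    calc y * c = y * c * (y * y) := by rw [hyy, mul_one]
      _ = (y * c * y) * y := by group
      _ = c * y := by rw [hyc]
  refine hnw ?_
  have hw : a * b ∈ zpowers c := by
    have hz := h.fixed_cases hS hd ha hb hab c hcW hcd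
    have hle : zpowers c ≤ zpowers (a * b) := zpowers_le.2 hz
    have haB : a ∈ nb D d := hS.2.2.2.2.1 d hd ▸ ha
    have hbB : b ∈ nb D d := hS.2.2.2.2.1 d hd ▸ hb
    have heq : zpowers c = zpowers (a * b) := eq_of_le_of_card_ge hle (by
      rw [Nat.card_zpowers, Nat.card_zpowers, orderOf_eq_prime (p := 3) (hexp c hcW) hc1]
      exact Nat.le_of_dvd (by norm_num)
        (orderOf_dvd_of_pow_eq_one (h.cube haB.1 hbB.1 (h.nb_ne hdD haB hbB hab))))
    exact heq ▸ mem_zpowers _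
  obtain ⟨k, hk⟩ := mem_zpowers_iff.1 hw
  exact hk ▸ hcyc.zpow_right k

theorem square_case {d : G} (hd : d ∈ D) {a b e : G} (ha : a ∈ nb D d) (hb : b ∈ nb D d)
    (hab : a ≠ b) (hed : e ≠ d) (hea : e ∈ nb D a) (heb : e ∈ nb D b) :
    Nonempty (↥(closure D) ≃* Equiv.Perm (Fin 3) × Equiv.Perm (Fin 3)) := by
  have hflip : ∀ {p q : G}, q ∈ nb D p → p ∈ D → p ∈ nb D q := fun hq hp =>
    ⟨hp, hq.2.1.symm, hq.2.2.symm⟩
  have hda : d ∈ nb D a := hflip ha hd
  have hdb : d ∈ nb D b := hflip hb hd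
  have hB := h.nb_eq hd ha hb hab
  obtain ⟨B, hBdef⟩ : ∃ B, B = nb D d := ⟨_, rfl⟩
  have hBe : nb D e = B :=
    (h.nb_eq hea.1 (hflip hea ha.1) (hflip heb hb.1) hab).trans (hB.symm.trans hBdef.symm)
  obtain ⟨A, hAdef⟩ : ∃ A, A = nb D a := ⟨_, rfl⟩
  have hA := h.nb_eq ha.1 hda hea hed.symm
  have hdA : d ∈ A := hAdef ▸ hda
  have heA : e ∈ A := hAdef ▸ hea
  have hAB : ∀ p ∈ B, nb D p = A := by
    intro p hp
    have h1 : d ∈ nb D p := hflip (hBdef ▸ hp) hd
    have h2 : e ∈ nb D p := hflip (hBe.symm ▸ hp) hea.1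
    exact ((h.nb_eq (hBdef ▸ hp : p ∈ nb D d).1 h1 h2 hed.symm).trans hA.symm).trans hAdef.symm
  have hBA : ∀ p ∈ A, nb D p = B := by
    intro p hp
    have hbA : p ∈ nb D b := (hAB b (hBdef ▸ hb)).symm ▸ hp
    have hpa : p ∈ nb D a := hAdef ▸ hp
    exact ((h.nb_eq hpa.1 (hflip hpa ha.1) (hflip hbA hb.1) hab).trans hB.symm).trans hBdef.symm
  have haB : a ∈ B := hBdef ▸ ha
  have hbB : b ∈ B := hBdef ▸ hb
  have hS : Sq D A B := ⟨fun p hp => (hAdef ▸ hp : p ∈ nb D a).1, fun p hp => (hBdef ▸ hp : p ∈ nb D d).1,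
    ⟨d, hdA⟩, ⟨a, haB⟩, hBA, hAB⟩
  obtain ⟨hcom, hexp, hn⟩ := h.closure_facts
  have hw : a * b ∈ closure (W0 D) := subset_closure ⟨B, A, hS.symm, a, haB, b, hbB, rfl⟩
  have hx : d * e ∈ closure (W0 D) := subset_closure ⟨A, B, hS, d, hdA, e, heA, rfl⟩
  have hinv : ∀ {p q : G}, p ∈ D → q ∈ D → p * (p * q) * p = (p * q)⁻¹ := fun hp hq => by
    rw [← mul_assoc, h.sq hp, one_mul, mul_inv_rev, h.inv_eq hp, h.inv_eq hq]
  have hw3 : (a * b) * (a * b) ≠ 1 := fun e => h.nb_ne hd ha hb hab (by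
    rw [mul_eq_one_iff_eq_inv, mul_inv_rev, h.inv_eq ha.1, h.inv_eq hb.1] at e; exact e)
  have hx3 : (d * e) * (d * e) ≠ 1 := fun e' => h.nb_ne ha.1 hda hea hed.symm (by
    rw [mul_eq_one_iff_eq_inv, mul_inv_rev, h.inv_eq hd, h.inv_eq hea.1] at e'; exact e')
  have hD : D = A ∪ B := by
    refine Set.Subset.antisymm (fun y hy => ?_) (Set.union_subset hS.1 hS.2.1)
    by_contra hyAB
    rw [Set.mem_union, not_or] at hyAB
    obtain ⟨hyA, hyB⟩ := hyAB
    have hdy := h.noncomm_of_outside hS hy hyA hyB d hdA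
    have hS' := h.sq_conj hS (d * y)
    have hy' : y ∈ MulAut.conj (d * y) '' A := ⟨d, hdA, by
      show d * y * d * (d * y)⁻¹ = y
      rw [h.braid hd hy hdy]; group⟩
    obtain ⟨A', hA'⟩ : ∃ A', A' = MulAut.conj (d * y) '' A := ⟨_, rfl⟩
    obtain ⟨B', hB'⟩ : ∃ B', B' = MulAut.conj (d * y) '' B := ⟨_, rfl⟩
    rw [← hA', ← hB'] at hS'
    rw [← hA'] at hy'
    obtain ⟨a', ha', b', hb', hab'⟩ := h.exists_two hy
    rw [hS'.2.2.2.2.1 y hy'] at ha' hb'
    -- the involution `y` cannot fix both products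
    have hyw : ∀ {t}, t ∈ closure (W0 D) → ∀ {p : G}, p ∈ D → p * t * p = t⁻¹ → t * t ≠ 1 →
        ¬ (Commute p t) := fun {t} _ {p} hp e ht hc => ht (by
      rw [hc.eq, mul_assoc, h.sq hp, mul_one] at e
      nth_rewrite 1 [e]
      exact inv_mul_cancel t)
    have houtd : d ∉ A' ∧ d ∉ B' := by
      constructor
      · intro hdA'
        exact hyA ((hS.2.2.2.2.2 a haB) ▸ (hS'.2.2.2.2.2 a ((hS'.2.2.2.2.1 d hdA').symm.trans
          (hS.2.2.2.2.1 d hdA) ▸ haB : a ∈ B')) ▸ hy')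
      · intro hdB'
        have := (hS'.2.2.2.2.2 d hdB').symm.trans (hS.2.2.2.2.1 d hdA)
        exact hyB (this ▸ hy')
    have houta : a ∉ A' ∧ a ∉ B' := by
      constructor
      · intro haA'
        have := (hS'.2.2.2.2.1 a haA').symm.trans (hS.2.2.2.2.2 a haB)
        exact houtd.2 (this.symm ▸ hdA)
      · intro haB'
        have := (hS'.2.2.2.2.2 a haB').symm.trans (hS.2.2.2.2.2 a haB)
        exact hyA (this ▸ hy')
    -- transfer of inverted elements, both ways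
    have hIy : ∀ {P Q : Set G}, Sq D P Q → ∀ {p : G}, p ∈ P → p ∉ A' → p ∉ B' → y ∉ P → y ∉ Q →
        ∀ {r s : G}, r ∈ Q → s ∈ Q → r ≠ s → ¬ Commute y (r * s) →
          ∀ t ∈ closure (W0 D), p * t * p = t⁻¹ → y * t * y = t⁻¹ := by
      intro P Q hPQ p hp hpA' hpB' hyP hyQ r s hr hs hrs hnc
      refine h.inverted hS' hPQ hy' hp hpA' hpB' ha' hb' hab' fun hc => hnc ?_
      have hw' : a' * b' ∈ closure (W0 D) := subset_closure ⟨B', A', hS'.symm, a', ha', b', hb', rfl⟩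
      have hmem := h.fixed_cases hPQ hp hr hs hrs _ hw' hc
      have hy'' : Commute y (a' * b') := (hS'.comm hy' ha').mul_right (hS'.comm hy' hb')
      have hr' : r ∈ nb D p := hPQ.2.2.2.2.1 p hp ▸ hr
      have hs' : s ∈ nb D p := hPQ.2.2.2.2.1 p hp ▸ hs
      have ha'' : a' ∈ nb D y := (hS'.2.2.2.2.1 y hy').symm ▸ ha'
      have hb'' : b' ∈ nb D y := (hS'.2.2.2.2.1 y hy').symm ▸ hb'
      have heq : zpowers (a' * b') = zpowers (r * s) := eq_of_le_of_card_ge (zpowers_le.2 hmem) (by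
        haveI : Fact (Nat.Prime 3) := ⟨Nat.prime_three⟩
        rw [Nat.card_zpowers, Nat.card_zpowers, orderOf_eq_prime (h.cube ha''.1 hb''.1
          (h.nb_ne hy ha'' hb'' hab')) (fun e => hab' ((mul_eq_one_iff_eq_inv.1 e).trans
            (h.inv_eq hb''.1)))]
        exact Nat.le_of_dvd (by norm_num) (orderOf_dvd_of_pow_eq_one
          (h.cube hr'.1 hs'.1 (h.nb_ne (hPQ.1 hp) hr' hs' hrs))))
      obtain ⟨k, hk⟩ := mem_zpowers_iff.1 (heq ▸ mem_zpowers (r * s) : r * s ∈ zpowers (a' * b'))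
      exact hk ▸ hy''.zpow_right k
    by_cases hcw : Commute y (a * b)
    · by_cases hcx : Commute y (d * e)
      · -- both products fixed
        have h1 := h.fixed_cases hS' hy' ha' hb' hab' _ hw hcw
        have h2 := h.fixed_cases hS' hy' ha' hb' hab' _ hx hcx
        have ha'' : a' ∈ nb D y := (hS'.2.2.2.2.1 y hy').symm ▸ ha'
        have hb'' : b' ∈ nb D y := (hS'.2.2.2.2.1 y hy').symm ▸ hb'
        have hle : ∀ {t}, t ∈ zpowers (a' * b') → t ≠ 1 → zpowers t = zpowers (a' * b') := by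
          intro t ht ht1
          refine eq_of_le_of_card_ge (zpowers_le.2 ht) ?_
          haveI : Fact (Nat.Prime 3) := ⟨Nat.prime_three⟩
          have ht' : t ∈ closure (W0 D) :=
            (zpowers_le.2 (show a' * b' ∈ closure (W0 D) from
              subset_closure ⟨B', A', hS'.symm, a', ha', b', hb', rfl⟩)) ht
          rw [Nat.card_zpowers, Nat.card_zpowers, orderOf_eq_prime (hexp t ht') ht1]
          exact Nat.le_of_dvd (by norm_num) (orderOf_dvd_of_pow_eq_one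
            (h.cube ha''.1 hb''.1 (h.nb_ne hy ha'' hb'' hab')))
        have : a * b ∈ zpowers (d * e) := by
          rw [hle h2 (fun e' => hx3 (by rw [e', one_mul])), ← hle h1 (fun e' => hw3 (by rw [e', one_mul]))]
          exact mem_zpowers _
        obtain ⟨k, hk⟩ := mem_zpowers_iff.1 this
        refine hyw hw ha.1 (hinv ha.1 hb.1) hw3 (hk ▸ ?_)
        exact ((hS.comm hdA haB).symm.mul_right (hS.comm heA haB).symm).zpow_right k
      · refine hyw hw hy ?_ hw3 hcw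
        exact hIy hS.symm haB houta.1 houta.2 hyB hyA hdA heA hed.symm hcx _ hw (hinv ha.1 hb.1)
    · by_cases hcx : Commute y (d * e)
      · refine hyw hx hy ?_ hx3 hcx
        exact hIy hS hdA houtd.1 houtd.2 hyA hyB haB hbB hab hcw _ hx (hinv hd hea.1)
      · have h1 := hIy hS hdA houtd.1 houtd.2 hyA hyB haB hbB hab hcw _ hx (hinv hd hea.1)
        have h2 := h.inverted hS.symm hS' haB hy' hyB hyA hdA heA hed.symm hcx _ hx h1
        exact hyw hx ha.1 h2 hx3 ((hS.comm hdA haB).symm.mul_right (hS.comm heA haB).symm)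
  obtain ⟨HA, hHA⟩ : ∃ H, H = closure A := ⟨_, rfl⟩
  obtain ⟨HB, hHB⟩ : ∃ H, H = closure B := ⟨_, rfl⟩
  have eA : Nonempty (HA ≃* Equiv.Perm (Fin 3)) := by
    rw [hHA, hAdef]; exact h.local_sym a ha.1
  have eB : Nonempty (HB ≃* Equiv.Perm (Fin 3)) := by
    rw [hHB, hBdef]; exact h.local_sym d hd
  have hc : HA ≤ centralizer (HB : Set G) := by
    rw [hHA, hHB, centralizer_closure, closure_le]
    exact fun p hp => mem_centralizer_iff.2 fun q hq => (hS.comm hp hq).eq.symm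
  let f : HA × HB →* G := HA.subtype.noncommCoprod HB.subtype fun p q =>
    (mem_centralizer_iff.1 (hc p.2) q q.2).symm
  have hf : Function.Injective f := by
    rw [injective_iff_map_eq_one]
    rintro ⟨p, q⟩ hpq
    have hpq' : (p : G) * q = 1 := hpq
    have hp : p = 1 := by
      obtain ⟨φ⟩ := eA
      have hc' : ∀ r : HA, p * r = r * p := fun r => Subtype.ext (by
        have hpB : (p : G) ∈ HB := eq_inv_of_mul_eq_one_left hpq' ▸ inv_mem q.2
        exact mem_centralizer_iff.1 (hc r.2) p hpB)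
      refine φ.map_eq_one_iff.1 (s3_center _ fun τ => ?_)
      obtain ⟨r, rfl⟩ := φ.surjective τ
      rw [← map_mul, ← map_mul, hc' r]
    subst hp
    exact Prod.ext rfl (Subtype.ext (by simpa using hpq'))
  have hrange : f.range = closure D := by
    rw [show f.range = HA ⊔ HB from
      (MonoidHom.noncommCoprod_range _ _ _).trans (by rw [range_subtype, range_subtype]), hHA, hHB, ← Subgroup.closure_union, ← hD]
  obtain ⟨φA⟩ := eA
  obtain ⟨φB⟩ := eB
  exact ⟨((MonoidHom.ofInjective hf).trans (MulEquiv.subgroupCongr hrange)).symm.trans (φA.prodCongr φB)⟩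

theorem petersen_case
    (hns : ∀ d ∈ D, ∀ a ∈ nb D d, ∀ b ∈ nb D d, a ≠ b → ∀ e ∈ nb D a, e ∈ nb D b → e = d)
    {d : G} (hd : d ∈ D) : Nonempty (↥(closure D) ≃* Equiv.Perm (Fin 5)) := by
  obtain ⟨a, ha, b, hb, hab⟩ := h.exists_two hd
  obtain ⟨p, hp, q, hq, hpq⟩ := h.exists_two ha.1
  obtain ⟨c, hc, hcd⟩ : ∃ c ∈ nb D a, c ≠ d := by
    by_cases hpd : p = d
    · exact ⟨q, hq, fun e => hpq (hpd.trans e.symm)⟩
    · exact ⟨p, hp, hpd⟩
  have hda : d ∈ nb D a := ⟨hd, ha.2.1.symm, ha.2.2.symm⟩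
  have nab := h.nb_ne hd ha hb hab
  have ncd : ¬ Commute c d := h.nb_ne ha.1 hc hda hcd
  have nbc : ¬ Commute b c := by
    intro hbc
    have hcb : c ≠ b := fun e => nab (e ▸ hc.2.2)
    exact hcd (hns d hd a ha b hb hab c hc ⟨hc.1, hcb, hbc⟩)
  obtain ⟨φ, h0, h1, h2, h3⟩ := CfsgLib.SporMisc.exists_hom_symm5 (h.sq ha.1) (h.sq hb.1) (h.sq hc.1)
    (h.sq hd) (h.braid ha.1 hb.1 nab) (h.braid hb.1 hc.1 nbc) (h.braid hc.1 hd ncd)
    hc.2.2.eq ha.2.2.symm.eq hb.2.2.symm.eq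
  have hpair : ∀ i j k l : Fin 5, i ≠ j → k ≠ l → Equiv.swap i j ≠ Equiv.swap k l →
      ∃ g : Equiv.Perm (Fin 5), Equiv.swap (g i) (g j) = Equiv.swap 0 1 ∧
        (Equiv.swap (g k) (g l) = Equiv.swap 1 2 ∨ Equiv.swap (g k) (g l) = Equiv.swap 2 3) := by
    decide +kernel
  have hg : ∀ (g : Equiv.Perm (Fin 5)) p q, φ (Equiv.swap (g p) (g q)) =
      φ g * φ (Equiv.swap p q) * (φ g)⁻¹ := fun g p q => by
    rw [Equiv.swap_apply_apply, map_mul, map_mul, map_inv]
  have hdist : ∀ i j k l : Fin 5, i ≠ j → k ≠ l →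
      φ (Equiv.swap i j) = φ (Equiv.swap k l) → Equiv.swap i j = Equiv.swap k l := by
    intro i j k l hij hkl he
    by_contra hne
    obtain ⟨g, hg1, hg2⟩ := hpair i j k l hij hkl hne
    have hh := congrArg (fun t => φ g * t * (φ g)⁻¹) he
    simp only [← hg, hg1, h0] at hh
    rcases hg2 with hg2 | hg2 <;> rw [hg2] at hh
    · rw [h1] at hh; exact hab hh
    · rw [h2] at hh; exact hc.2.1 hh.symm
  have hinj : Function.Injective φ := by
    rw [injective_iff_map_eq_one]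
    intro σ hσ
    by_contra hne
    obtain ⟨i, hi⟩ : ∃ i, σ i ≠ i := by
      by_contra! hh; exact hne (Equiv.ext hh)
    obtain ⟨j, hji, hjσ⟩ : ∃ j : Fin 5, j ≠ i ∧ j ≠ σ i :=
      (by decide : ∀ p q : Fin 5, ∃ r, r ≠ p ∧ r ≠ q) i (σ i)
    have hconj : φ (Equiv.swap (σ i) (σ j)) = φ (Equiv.swap i j) := by
      rw [hg, hσ, one_mul, inv_one, mul_one]
    have := hdist _ _ _ _ (fun hh => hji (σ.injective hh).symm) (Ne.symm hji) hconj
    have hh' := congrArg (fun t : Equiv.Perm (Fin 5) => t (σ i)) this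
    simp only [Equiv.swap_apply_left] at hh'
    rw [Equiv.swap_apply_of_ne_of_ne hi (Ne.symm hjσ)] at hh'
    exact hji (σ.injective hh')
  obtain ⟨D₀, hD₀⟩ : ∃ D₀ : Set G, D₀ = {t | ∃ i j : Fin 5, i ≠ j ∧ t = φ (Equiv.swap i j)} := ⟨_, rfl⟩
  have hmem : ∀ i j : Fin 5, i ≠ j → φ (Equiv.swap i j) ∈ D := by
    intro i j hij
    obtain ⟨g, hg1, hg2⟩ := (by decide +kernel : ∀ i j : Fin 5, i ≠ j →
      ∃ g : Equiv.Perm (Fin 5), g 0 = i ∧ g 1 = j) i j hij
    rw [← hg1, ← hg2, hg, h0]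
    exact h.conj _ a ha.1
  have hclosed : ∀ t ∈ D₀, ∀ y ∈ nb D t, y ∈ D₀ := by
    rw [hD₀]
    rintro _ ⟨i, j, hij, rfl⟩ y hy
    obtain ⟨k, l, m, hkl, hkm, hlm, hik, hil, him, hjk, hjl, hjm⟩ := (by decide +kernel :
      ∀ i j : Fin 5, i ≠ j → ∃ k l m : Fin 5, k ≠ l ∧ k ≠ m ∧ l ≠ m ∧ i ≠ k ∧ i ≠ l ∧ i ≠ m ∧
        j ≠ k ∧ j ≠ l ∧ j ≠ m) i j hij
    have hd1 := (by decide +kernel : ∀ i j k l : Fin 5, i ≠ j → k ≠ l → i ≠ k → i ≠ l → j ≠ k → j ≠ l →
      Equiv.swap i j * Equiv.swap k l = Equiv.swap k l * Equiv.swap i j ∧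
        Equiv.swap k l ≠ Equiv.swap i j)
    have hd2 := (by decide +kernel : ∀ k l m : Fin 5, k ≠ l → k ≠ m → l ≠ m →
      Equiv.swap k l ≠ Equiv.swap k m ∧
        Equiv.swap k l * Equiv.swap k m * Equiv.swap k l = Equiv.swap l m)
    have hn : ∀ k l : Fin 5, k ≠ l → i ≠ k → i ≠ l → j ≠ k → j ≠ l →
        φ (Equiv.swap k l) ∈ nb D (φ (Equiv.swap i j)) := fun k l h1 h2 h3 h4 h5 =>
      ⟨hmem k l h1, fun e => (hd1 i j k l hij h1 h2 h3 h4 h5).2 (hinj e),
        by show _ * _ = _ * _; rw [← map_mul, ← map_mul, (hd1 i j k l hij h1 h2 h3 h4 h5).1]⟩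
    have heq := h.nb_eq (hmem i j hij) (hn k l hkl hik hil hjk hjl) (hn k m hkm hik him hjk hjm)
      (fun e => (hd2 k l m hkl hkm hlm).1 (hinj e))
    rw [heq] at hy
    rcases hy with rfl | rfl | rfl
    · exact ⟨k, l, hkl, rfl⟩
    · exact ⟨k, m, hkm, rfl⟩
    · exact ⟨l, m, hlm, by rw [← map_mul, ← map_mul, (hd2 k l m hkl hkm hlm).2]⟩
  have hDD : D = D₀ := by
    refine Set.Subset.antisymm (fun y hy => ?_) (by rw [hD₀]; rintro _ ⟨i, j, hij, rfl⟩; exact hmem i j hij)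
    by_contra hy0
    have hnc : ∀ t ∈ D₀, ¬ Commute t y := fun t ht hc =>
      hy0 (hclosed t ht y ⟨hy, fun e => hy0 (e ▸ ht), hc⟩)
    have hnby : ∀ i j k l : Fin 5, i ≠ j → k ≠ l → Equiv.swap i j ≠ Equiv.swap k l →
        Commute (Equiv.swap i j) (Equiv.swap k l) →
        φ (Equiv.swap i j * Equiv.swap k l) * y * (φ (Equiv.swap i j * Equiv.swap k l))⁻¹ ∈ nb D y := by
      intro i j k l hij hkl hne hc'
      obtain ⟨s, hs⟩ : ∃ s, s = φ (Equiv.swap i j) := ⟨_, rfl⟩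
      obtain ⟨t, ht⟩ : ∃ t, t = φ (Equiv.swap k l) := ⟨_, rfl⟩
      have hsD : s ∈ D := hs ▸ hmem i j hij
      have htD : t ∈ D := ht ▸ hmem k l hkl
      have e1 := h.braid hsD hy (hnc s (hD₀ ▸ ⟨i, j, hij, hs⟩))
      have e2 := h.braid htD hy (hnc t (hD₀ ▸ ⟨k, l, hkl, ht⟩))
      have hst : Commute s t := hs ▸ ht ▸ hc'.map φ
      have hne' : s ≠ t := fun e => hne (hinj (hs ▸ ht ▸ e))
      have hc'' : Commute (s * y * s) (t * y * t) := by
        rw [e1, e2]
        have hh := hst.map (MulAut.conj y)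
        simp only [MulAut.conj_apply, h.inv_eq hy] at hh
        exact hh
      have hd' : s * y * s ≠ t * y * t := by
        rw [e1, e2]
        exact fun e => hne' (mul_left_cancel (mul_right_cancel e))
      rw [map_mul, ← hs, ← ht, mul_inv_rev, h.inv_eq hsD, h.inv_eq htD,
        show s * t * y * (t * s) = s * (t * y * t) * s by group]
      have hyy : y = s * (s * y * s) * s := by
        calc y = (s * s) * y * (s * s) := by rw [h.sq hsD]; simp
          _ = s * (s * y * s) * s := by group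
      refine ⟨?_, fun e => hd' ?_, ?_⟩
      · have := h.conj s _ (h.conj t y hy)
        rwa [h.inv_eq hsD, h.inv_eq htD] at this
      · calc s * y * s = s * (s * (t * y * t) * s) * s := by rw [e]
          _ = (s * s) * (t * y * t) * (s * s) := by group
          _ = t * y * t := by rw [h.sq hsD]; simp
      · have hh := hc''.map (MulAut.conj s)
        simp only [MulAut.conj_apply, h.inv_eq hsD] at hh
        rwa [← hyy] at hh
    have k1 := hnby 0 1 2 3 (by decide) (by decide) (by decide) (by unfold Commute SemiconjBy; decide)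
    have k2 := hnby 0 2 1 3 (by decide) (by decide) (by decide) (by unfold Commute SemiconjBy; decide)
    have k3 := hnby 0 3 1 2 (by decide) (by decide) (by decide) (by unfold Commute SemiconjBy; decide)
    obtain ⟨u, hu⟩ : ∃ u, u = φ (Equiv.swap (0 : Fin 5) 1 * Equiv.swap 2 3) := ⟨_, rfl⟩
    obtain ⟨v, hv⟩ : ∃ v, v = φ (Equiv.swap (0 : Fin 5) 2 * Equiv.swap 1 3) := ⟨_, rfl⟩
    have huv : u⁻¹ * v = φ (Equiv.swap (0 : Fin 5) 3 * Equiv.swap 1 2) := by
      rw [hu, hv, ← map_inv, ← map_mul]; exact congrArg φ (by decide)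
    rw [← huv] at k3
    rw [← hu] at k1
    rw [← hv] at k2
    have hne : u * y * u⁻¹ ≠ v * y * v⁻¹ := fun e => k3.2.1 (by
      calc u⁻¹ * v * y * (u⁻¹ * v)⁻¹ = u⁻¹ * (v * y * v⁻¹) * u := by group
        _ = y := by rw [← e]; group)
    refine h.nb_ne hy k1 k2 hne ?_
    have hh := k3.2.2.map (MulAut.conj u)
    simp only [MulAut.conj_apply] at hh
    convert hh using 1
    group
  have hrange : φ.range = closure D := by
    refine le_antisymm ?_ ((closure_le _).2 ?_)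
    · rw [MonoidHom.range_eq_map, ← Equiv.Perm.closure_isSwap, MonoidHom.map_closure, closure_le]
      rintro _ ⟨_, ⟨i, j, hij, rfl⟩, rfl⟩
      exact subset_closure (hmem i j hij)
    · rw [hDD, hD₀]
      rintro _ ⟨i, j, -, rfl⟩
      exact ⟨_, rfl⟩
  exact ⟨((MonoidHom.ofInjective hinj).trans (MulEquiv.subgroupCongr hrange)).symm⟩

theorem main (hne : D.Nonempty) : Nonempty (↥(closure D) ≃* Equiv.Perm (Fin 5)) ∨
    Nonempty (↥(closure D) ≃* Equiv.Perm (Fin 3) × Equiv.Perm (Fin 3)) := by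
  obtain ⟨d, hd⟩ := hne
  by_cases hs : ∀ d ∈ D, ∀ a ∈ nb D d, ∀ b ∈ nb D d, a ≠ b → ∀ e ∈ nb D a, e ∈ nb D b → e = d
  · exact .inl (h.petersen_case hs hd)
  · push Not at hs
    obtain ⟨d', hd', a, ha, b, hb, hab, e, hea, heb, hed⟩ := hs
    exact .inr (h.square_case hd' ha hb hab hed hea heb)

end Hyp

end CfsgLib.ThreeTransp.LocalSymThree
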