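import Cfsg.Agent.Lib.ThreeTransp.M22Graph

/-!
# Groups of type `M(22)`: transitivity on non-commuting pairs

Two non-commuting members have a common neighbour, every neighbour of one of them commutes with one of the
common neighbours, and the group of a link is transitive on the members not commuting with its centre.
-/

set_option autoImplicit false

namespace CfsgLib.M22

open CfsgLib.ThreeTransp CfsgLib.SporMisc
open CfsgLib.U6 (IsPt IsPlane vec3)
open CfsgLib.PSUAut (Isot act)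

variable {G : Type*} [Group G] {D : Set G}
variable [Finite G] (S : Setup D) {F : Type} [Field F] [Fintype F] (hF : Fintype.card F = 2 ^ 2)
  (hM : ∀ a ∈ D, Nonempty (Model D a F))
include S hF hM

/-- The common neighbours of `a`, `c` in a plane of the link of `a` through three of them form a hyperoval. -/
theorem oval {a c : G} (ha : a ∈ D) (hc : c ∈ D) (hnc : ¬ Commute a c) (A : Model D a F) {x q p : G}
    (hx : x ∈ link D a) (hq : q ∈ link D a) (hp : p ∈ link D a) (cx : Commute c x) (cq : Commute c q)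
    (cp : Commute c p) {e vq v : Fin 6 → F} (he : IsPt (A.img hx) e) (hvq : IsPt (A.img hq) vq)
    (hv : IsPt (A.img hp) v) (hxq : Commute x q) (hxp : Commute x p) (hqp : Commute q p)
    (nxq : x ≠ q) (nxp : x ≠ p) (nqp : q ≠ p) :
    ∃ κ : F, κ ≠ 0 ∧ ∀ s : F, s ≠ 0 → ∃ (r : G) (lr : r ∈ link D a), r ∈ link D c ∧ r ∈ link D x ∧
      IsPt (A.img lr) (vec3 e vq v s (κ * s ^ 2)) := by
  classical
  have ncx : c ≠ x := fun h => hnc (h ▸ hx.2.2)
  have ncq : c ≠ q := fun h => hnc (h ▸ hq.2.2)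
  have ncp : c ≠ p := fun h => hnc (h ▸ hp.2.2)
  have heq : Cfsg.hermForm 6 F 2 e vq = 0 := (A.comm_iff S hF ha hx hq he hvq).1 hxq
  have hev : Cfsg.hermForm 6 F 2 e v = 0 := (A.comm_iff S hF ha hx hp he hv).1 hxp
  have hqv : Cfsg.hermForm 6 F 2 vq v = 0 := (A.comm_iff S hF ha hq hp hvq hv).1 hqp
  have hi₃ : v ∉ Submodule.span F {e, vq} := fun h =>
    (line_two S hF hM ha hc hnc A hx hq hp cx cq cp he hvq hv hxq nxq h).elim nxp.symm nqp.symm
  have P : IsPlane e vq v := ⟨he.1.2, hvq.1.2, hv.1.2, heq, hev, hqv, he.1.1,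
    A.notMem S hF ha hx hq he hvq nxq, hi₃⟩
  have T : Tri D x q p := ⟨hx.1, hq.1, hp.1, nxq, nxp, nqp, hxq, hxp, hqp⟩
  obtain ⟨r₁, r₂, r₃, T', hr, hne', -⟩ := exists_partner_triple S hF hM T
  have nshare : ∀ i ∈ [x, q, p], i ∉ [r₁, r₂, r₃] := by
    intro i hi hi'
    apply hne'
    have rotS : ∀ {d e f a b c : G}, SameTri e f d a b c → SameTri d e f a b c := by
      intro d e f a b c h x
      rw [← h x]; simp only [List.mem_cons, List.not_mem_nil, or_false]; tauto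
    have rotS' : ∀ {d e f a b c : G}, SameTri d e f b c a → SameTri d e f a b c := by
      intro d e f a b c h x
      rw [h x]; simp only [List.mem_cons, List.not_mem_nil, or_false]; tauto
    have first : ∀ {d g h : G}, Tri D d g h → d * g * h = r₁ * r₂ * r₃ → d ∈ [r₁, r₂, r₃] →
        SameTri d g h r₁ r₂ r₃ := by
      intro d g h T₀ hp₀ hd
      simp only [List.mem_cons, List.not_mem_nil, or_false] at hd
      rcases hd with hd | hd | hd
      · exact share S hF hM T₀ T' hd hp₀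
      · exact rotS' (share S hF hM T₀ T'.rot hd (hp₀.trans T'.prod_rot.symm))
      · exact rotS' (rotS' (share S hF hM T₀ T'.rot.rot hd (hp₀.trans (T'.rot.prod_rot.trans T'.prod_rot).symm)))
    simp only [List.mem_cons, List.not_mem_nil, or_false] at hi
    rcases hi with rfl | rfl | rfl
    · exact first T hr.symm hi'
    · exact rotS (first T.rot (T.prod_rot.trans hr.symm) hi')
    · exact rotS (rotS (first T.rot.rot ((T.rot.prod_rot.trans T.prod_rot).trans hr.symm) hi'))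
  -- each of them has all coordinates non-zero
  have hcom : ∀ i, i ∈ D → Commute i x → Commute i q → Commute i p →
      Commute i r₁ ∧ Commute i r₂ ∧ Commute i r₃ := fun i hi h1 h2 h3 =>
    commute_all S hF hM hi T' (hr ▸ (h1.mul_right h2).mul_right h3)
  obtain ⟨ar₁, ar₂, ar₃⟩ := hcom a ha hx.2.2 hq.2.2 hp.2.2
  obtain ⟨cr₁, cr₂, cr₃⟩ := hcom c hc cx cq cp
  obtain ⟨xr₁, xr₂, xr₃⟩ := hcom x hx.1 (Commute.refl x) hxq hxp
  obtain ⟨qr₁, qr₂, qr₃⟩ := hcom q hq.1 hxq.symm (Commute.refl q) hqp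
  obtain ⟨pr₁, pr₂, pr₃⟩ := hcom p hp.1 hxp.symm hqp.symm (Commute.refl p)
  have mk : ∀ r ∈ [r₁, r₂, r₃], r ∈ D → Commute a r → Commute c r → Commute x r → Commute q r → Commute p r →
      ∃ (lr : r ∈ link D a) (s t : F), r ∈ link D c ∧ r ∈ link D x ∧ s ≠ 0 ∧ t ≠ 0 ∧
        IsPt (A.img lr) (vec3 e vq v s t) := by
    intro r hmem hrD car ccr cxr cqr cpr
    have hrx : r ≠ x := fun h => nshare x (by simp) (h ▸ hmem)
    have hrq : r ≠ q := fun h => nshare q (by simp) (h ▸ hmem)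
    have hrp : r ≠ p := fun h => nshare p (by simp) (h ▸ hmem)
    have hra : r ≠ a := fun h => hnc (h ▸ ccr).symm
    have hrc : r ≠ c := fun h => hnc (h ▸ car)
    have lr : r ∈ link D a := ⟨hrD, hra, car⟩
    obtain ⟨w, hw⟩ := A.exists_pt_of_link S hF ha lr
    obtain ⟨α, β, γ, hwe⟩ := P.mem_of_perp hF ((A.comm_iff S hF ha lr hx hw he).1 cxr.symm)
      ((A.comm_iff S hF ha lr hq hw hvq).1 cqr.symm) ((A.comm_iff S hF ha lr hp hw hv).1 cpr.symm)
    have hα : α ≠ 0 := fun h => (line_two S hF hM ha hc hnc A hq hp lr cq cp ccr hvq hv hw hqp nqp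
      (Submodule.mem_span_pair.2 ⟨β, γ, by rw [hwe, h, zero_smul, zero_add]⟩)).elim hrq hrp
    have hβ : β ≠ 0 := fun h => (line_two S hF hM ha hc hnc A hx hp lr cx cp ccr he hv hw hxp nxp
      (Submodule.mem_span_pair.2 ⟨α, γ, by rw [hwe, h, zero_smul, add_zero]⟩)).elim hrx hrp
    have hγ : γ ≠ 0 := fun h => (line_two S hF hM ha hc hnc A hx hq lr cx cq ccr he hvq hw hxq nxq
      (Submodule.mem_span_pair.2 ⟨α, β, by rw [hwe, h, zero_smul, add_zero]⟩)).elim hrx hrq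
    refine ⟨lr, α⁻¹ * β, α⁻¹ * γ, ⟨hrD, hrc, ccr⟩, ⟨hrD, hrx, cxr⟩, mul_ne_zero (inv_ne_zero hα) hβ,
      mul_ne_zero (inv_ne_zero hα) hγ, ?_⟩
    have := hw.smul hF (inv_ne_zero hα)
    rwa [hwe, smul_add, smul_add, inv_smul_smul₀ hα, smul_smul, smul_smul] at this
  obtain ⟨l₁, s₁, t₁, k₁, k₁', hs₁, ht₁, h₁⟩ := mk r₁ (by simp) T'.ha ar₁ cr₁ xr₁ qr₁ pr₁
  obtain ⟨l₂, s₂, t₂, k₂, k₂', hs₂, ht₂, h₂⟩ := mk r₂ (by simp) T'.hb ar₂ cr₂ xr₂ qr₂ pr₂
  obtain ⟨l₃, s₃, t₃, k₃, k₃', hs₃, ht₃, h₃⟩ := mk r₃ (by simp) T'.hc ar₃ cr₃ xr₃ qr₃ pr₃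
  obtain ⟨ω, hω0, hω1, hω, hall⟩ := U6.exists_omega hF
  have := U6.charTwo hF
  have pair : ∀ {r r' : G} (lr : r ∈ link D a) (lr' : r' ∈ link D a) {s t s' t' : F}, Commute c r →
      Commute c r' → Commute p r → Commute q r → Commute x r → r ≠ p → r ≠ q → r ≠ x → r' ≠ p → r' ≠ q →
      r' ≠ x → r ≠ r' → s ≠ 0 → t ≠ 0 → s' ≠ 0 → t' ≠ 0 → IsPt (A.img lr) (vec3 e vq v s t) →
      IsPt (A.img lr') (vec3 e vq v s' t') → s ≠ s' ∧ t * s = t' * s' := by
    intro r r' lr lr' s t s' t' ccr ccr' cpr cqr cxr nrp nrq nrx nrp' nrq' nrx' nrr hs ht hs' ht' h h'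
    have n1 : s ≠ s' := fun e1 => (line_two S hF hM ha hc hnc A lr hp lr' ccr cp ccr' h hv h' cpr.symm nrp
      (Submodule.mem_span_pair.2 ⟨1, t' - t, by subst e1; unfold vec3; module⟩)).elim (Ne.symm nrr) nrp'
    have n2 : t ≠ t' := fun e1 => (line_two S hF hM ha hc hnc A lr hq lr' ccr cq ccr' h hvq h' cqr.symm nrq
      (Submodule.mem_span_pair.2 ⟨1, s' - s, by subst e1; unfold vec3; module⟩)).elim (Ne.symm nrr) nrq'
    have n3 : t * s' ≠ t' * s := fun e1 => (line_two S hF hM ha hc hnc A lr hx lr' ccr cx ccr' h he h' cxr.symm nrx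
      (Submodule.mem_span_pair.2 ⟨s' / s, 1 - s' / s, by
        unfold vec3
        match_scalars
        · ring
        · field_simp
        · field_simp; linear_combination e1⟩)).elim (Ne.symm nrr) nrx'
    refine ⟨n1, ?_⟩
    obtain ⟨i, rfl⟩ : ∃ i, s' = i * s := ⟨s' / s, (div_mul_cancel₀ _ hs).symm⟩
    obtain ⟨j, rfl⟩ : ∃ j, t' = j * t := ⟨t' / t, (div_mul_cancel₀ _ ht).symm⟩
    have hij : i ≠ j := fun h => n3 (by rw [h]; ring)
    have hw3 := U6.cube_eq_one hF hω0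
    rcases hall i with rfl | rfl | rfl | rfl
    · exact absurd (zero_mul s) hs'
    · exact absurd (one_mul s).symm n1
    · rcases hall j with rfl | rfl | rfl | rfl
      · exact absurd (zero_mul t) ht'
      · exact absurd (one_mul t).symm n2
      · exact absurd rfl hij
      · linear_combination -(t * s) * hw3
    · rcases hall j with rfl | rfl | rfl | rfl
      · exact absurd (zero_mul t) ht'
      · exact absurd (one_mul t).symm n2
      · linear_combination -(t * s) * hw3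
      · exact absurd rfl hij
  obtain ⟨n12, k12⟩ := pair l₁ l₂ cr₁ cr₂ pr₁ qr₁ xr₁ (fun h => nshare p (by simp) (by simp [h]))
    (fun h => nshare q (by simp) (by simp [h])) k₁'.2.1 (fun h => nshare p (by simp) (by simp [h]))
    (fun h => nshare q (by simp) (by simp [h])) k₂'.2.1 T'.ab hs₁ ht₁ hs₂ ht₂ h₁ h₂
  obtain ⟨n13, k13⟩ := pair l₁ l₃ cr₁ cr₃ pr₁ qr₁ xr₁ (fun h => nshare p (by simp) (by simp [h]))
    (fun h => nshare q (by simp) (by simp [h])) k₁'.2.1 (fun h => nshare p (by simp) (by simp [h]))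
    (fun h => nshare q (by simp) (by simp [h])) k₃'.2.1 T'.ac hs₁ ht₁ hs₃ ht₃ h₁ h₃
  obtain ⟨n23, -⟩ := pair l₂ l₃ cr₂ cr₃ pr₂ qr₂ xr₂ (fun h => nshare p (by simp) (by simp [h]))
    (fun h => nshare q (by simp) (by simp [h])) k₂'.2.1 (fun h => nshare p (by simp) (by simp [h]))
    (fun h => nshare q (by simp) (by simp [h])) k₃'.2.1 T'.bc hs₂ ht₂ hs₃ ht₃ h₂ h₃
  refine ⟨t₁ * s₁, mul_ne_zero ht₁ hs₁, fun s hs => ?_⟩
  have hsub : ({s₁, s₂, s₃} : Finset F) = Finset.univ.erase 0 := by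
    refine Finset.eq_of_subset_of_card_le (fun i hi => ?_) ?_
    · simp only [Finset.mem_insert, Finset.mem_singleton] at hi
      rcases hi with rfl | rfl | rfl <;> simp [hs₁, hs₂, hs₃]
    · rw [Finset.card_erase_of_mem (Finset.mem_univ _), Finset.card_univ, hF,
        Finset.card_eq_three.2 ⟨s₁, s₂, s₃, n12, n13, n23, rfl⟩]
      norm_num
  have hkt : ∀ {s t : F}, s ≠ 0 → t * s = t₁ * s₁ → t = t₁ * s₁ * s ^ 2 := fun {s t} hs h => by
    linear_combination -t * U6.cube_eq_one hF hs + s ^ 2 * h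
  have hmem : s ∈ ({s₁, s₂, s₃} : Finset F) := by rw [hsub]; simp [hs]
  simp only [Finset.mem_insert, Finset.mem_singleton] at hmem
  rcases hmem with rfl | rfl | rfl
  · exact ⟨r₁, l₁, k₁, k₁', by rw [← hkt hs₁ rfl]; exact h₁⟩
  · exact ⟨r₂, l₂, k₂, k₂', by rw [← hkt hs₂ k12.symm]; exact h₂⟩
  · exact ⟨r₃, l₃, k₃, k₃', by rw [← hkt hs₃ k13.symm]; exact h₃⟩

/-- For a common neighbour `x` of a non-commuting pair `a`, `c`, every neighbour of `a` not commuting with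
`x` commutes with a common neighbour of `a`, `c`, `x`. -/
theorem exists_commuting {a c x y : G} (ha : a ∈ D) (hc : c ∈ D) (hnc : ¬ Commute a c) (hx : x ∈ link D a)
    (hxc : x ∈ link D c) (hy : y ∈ link D a) (hxy : ¬ Commute x y) :
    ∃ m, m ∈ link D a ∧ m ∈ link D c ∧ m ∈ link D x ∧ Commute m y := by
  classical
  by_contra hcon
  push Not at hcon
  obtain ⟨A⟩ := hM a ha
  obtain ⟨X⟩ := hM x hx.1
  have lax := link_swap ha hx
  have lcx := link_swap hc hxc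
  obtain ⟨ua, hua⟩ := X.exists_pt_of_link S hF hx.1 lax
  obtain ⟨uc, huc⟩ := X.exists_pt_of_link S hF hx.1 lcx
  have hac : Cfsg.hermForm 6 F 2 ua uc ≠ 0 := fun h => hnc ((X.comm_iff S hF hx.1 lax lcx hua huc).2 h)
  have hca : Cfsg.hermForm 6 F 2 uc ua ≠ 0 := fun h => hac ((U6.comm_zero hF).1 h)
  have ind2 : ∀ α β : F, Cfsg.hermForm 6 F 2 (α • ua + β • uc) ua = 0 →
      Cfsg.hermForm 6 F 2 (α • ua + β • uc) uc = 0 → α = 0 ∧ β = 0 := by
    intro α β h1 h2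
    rw [U6.add_left hF, U6.smul_left hF, U6.smul_left hF, hua.1.2, mul_zero, zero_add] at h1
    rw [U6.add_left hF, U6.smul_left hF, U6.smul_left hF, huc.1.2, mul_zero, add_zero] at h2
    exact ⟨(mul_eq_zero.1 h2).resolve_right hac, (mul_eq_zero.1 h1).resolve_right hca⟩
  -- the vectors in the link of `x`
  obtain ⟨zq, hzq, pq⟩ := U6.exists_iso_perp_of hF ![ua, uc] (by norm_num)
  obtain ⟨y₀, hy₀, py₀, hy₀q⟩ := U6.exists_iso_pairing hF ![ua, uc] hzq.2 pq (fun h => by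
    rw [Matrix.range_cons, Matrix.range_cons, Matrix.range_empty, Set.union_empty, Set.singleton_union] at h
    obtain ⟨α, β, hαβ⟩ := Submodule.mem_span_pair.1 h
    obtain ⟨e1, e2⟩ := ind2 α β (hαβ ▸ pq 0) (hαβ ▸ pq 1)
    exact hzq.1 (by rw [← hαβ, e1, e2, zero_smul, zero_smul, add_zero]))
  obtain ⟨zp, hzp, pp⟩ := U6.exists_iso_perp_of hF ![ua, uc, zq, y₀] (by norm_num)
  obtain ⟨zp', hzp', pp', hpp'⟩ := U6.exists_iso_pairing hF ![ua, uc, zq] hzp.2
    (fun i => by fin_cases i; exacts [pp 0, pp 1, pp 2]) (fun h => by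
      rw [Matrix.range_cons, Matrix.range_cons, Matrix.range_cons, Matrix.range_empty, Set.union_empty,
        Set.singleton_union, Set.singleton_union, Submodule.mem_span_insert] at h
      obtain ⟨α, z, hz, hzeq⟩ := h
      obtain ⟨β, γ, rfl⟩ := Submodule.mem_span_pair.1 hz
      have hqy : Cfsg.hermForm 6 F 2 zq y₀ = 1 := U6.comm_one hF hy₀q
      have h3 := pp 3
      simp only [hzeq, Matrix.cons_val, U6.add_left hF, U6.smul_left hF] at h3
      have hay₀ : Cfsg.hermForm 6 F 2 ua y₀ = 0 := (U6.comm_zero hF).1 (py₀ 0)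
      have hcy₀ : Cfsg.hermForm 6 F 2 uc y₀ = 0 := (U6.comm_zero hF).1 (py₀ 1)
      rw [hay₀, hcy₀, hqy] at h3
      simp only [mul_zero, mul_one, zero_add] at h3
      rw [h3, zero_smul, add_zero] at hzeq
      obtain ⟨e1, e2⟩ := ind2 α β (hzeq ▸ pp 0) (hzeq ▸ pp 1)
      exact hzp.1 (by rw [hzeq, e1, e2, zero_smul, zero_smul, add_zero]))
  have mkpt : ∀ {z : Fin 6 → F}, Isot 2 z → Cfsg.hermForm 6 F 2 z ua = 0 → Cfsg.hermForm 6 F 2 z uc = 0 →
      ∃ (e : G) (le : e ∈ link D x), e ∈ link D a ∧ e ∈ link D c ∧ IsPt (X.img le) z := by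
    intro z hz hza hzc
    obtain ⟨Z, hZ⟩ := U6.exists_pt hF hz
    obtain ⟨e, le, rfl⟩ := X.exists_link_of_pt S hF hx.1 hZ
    have c1 := (X.comm_iff S hF hx.1 le lax hZ hua).2 hza
    have c2 := (X.comm_iff S hF hx.1 le lcx hZ huc).2 hzc
    exact ⟨e, le, ⟨le.1, fun h => hnc (h ▸ c2), c1.symm⟩, ⟨le.1, fun h => hnc (h ▸ c1).symm, c2.symm⟩, hZ⟩
  obtain ⟨q, lqx, lqa, lqc, hq⟩ := mkpt hzq (pq 0) (pq 1)
  obtain ⟨p, lpx, lpa, lpc, hp⟩ := mkpt hzp (pp 0) (pp 1)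
  obtain ⟨p', lp'x, lp'a, lp'c, hp'⟩ := mkpt hzp' (pp' 0) (pp' 1)
  have cqp : Commute q p := ((X.comm_iff S hF hx.1 lpx lqx hp hq).2 (pp 2)).symm
  have cqp' : Commute q p' := ((X.comm_iff S hF hx.1 lp'x lqx hp' hq).2 (pp' 2)).symm
  have npp' : ¬ Commute p p' := fun h => by
    rw [(X.comm_iff S hF hx.1 lp'x lpx hp' hp).1 h.symm] at hpp'
    exact zero_ne_one hpp'
  have nqp : q ≠ p := fun h => npp' (h ▸ cqp')
  have nqp' : q ≠ p' := fun h => npp' (h ▸ cqp).symm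
  -- now in the link of `a`
  obtain ⟨e, he⟩ := A.exists_pt_of_link S hF ha hx
  obtain ⟨vq, hvq⟩ := A.exists_pt_of_link S hF ha lqa
  obtain ⟨v, hv⟩ := A.exists_pt_of_link S hF ha lpa
  obtain ⟨v₀', hv₀'⟩ := A.exists_pt_of_link S hF ha lp'a
  set h₀ := Cfsg.hermForm 6 F 2 v v₀' with hh₀
  have h₀ne : h₀ ≠ 0 := fun h => npp' ((A.comm_iff S hF ha lpa lp'a hv hv₀').2 h)
  set v' := h₀ • v₀' with hv'def
  have hv' : IsPt (A.img lp'a) v' := hv₀'.smul hF h₀ne
  have hvv' : Cfsg.hermForm 6 F 2 v v' = 1 := by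
    rw [hv'def, U6.smul_right hF, ← hh₀, ← pow_succ]; exact U6.cube_eq_one hF h₀ne
  have hv'v : Cfsg.hermForm 6 F 2 v' v = 1 := U6.comm_one hF hvv'
  obtain ⟨lp''a, hv''⟩ := A.conj_vec S hF lp'a lpa hv' hv
  rw [hv'v, one_smul] at hv''
  have cp''x : Commute x (p * p' * p) := (lpx.2.2.mul_right lp'x.2.2).mul_right lpx.2.2
  have cp''c : Commute c (p * p' * p) := (lpc.2.2.mul_right lp'c.2.2).mul_right lpc.2.2
  have cp''q : Commute q (p * p' * p) := (cqp.mul_right cqp').mul_right cqp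
  have heqv : ∀ {m : G} (lm : m ∈ link D a) {u : Fin 6 → F}, IsPt (A.img lm) u → Commute x m →
      Cfsg.hermForm 6 F 2 e u = 0 := fun lm _ hu h => (A.comm_iff S hF ha hx lm he hu).1 h
  have hqv : ∀ {m : G} (lm : m ∈ link D a) {u : Fin 6 → F}, IsPt (A.img lm) u → Commute q m →
      Cfsg.hermForm 6 F 2 vq u = 0 := fun lm _ hu h => (A.comm_iff S hF ha lqa lm hvq hu).1 h
  obtain ⟨κ, hκ, hov⟩ := oval S hF hM ha hc hnc A hx lqa lpa hxc.2.2 lqc.2.2 lpc.2.2 he hvq hv lqx.2.2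
    lpx.2.2 cqp lqx.2.1.symm lpx.2.1.symm nqp
  -- transport the hyperoval by `p''` and by `p`
  have hvw : Cfsg.hermForm 6 F 2 v (v' + v) = 1 := by rw [U6.add_right hF, hvv', hv.1.2, add_zero]
  have conjOval : ∀ {m : G} (lm : m ∈ link D a) {w u u' : Fin 6 → F}, IsPt (A.img lm) w → Commute x m →
      Commute c m → Commute q m → u + Cfsg.hermForm 6 F 2 u w • w = u' →
      (∀ s : F, s ≠ 0 → ∃ (r : G) (lr : r ∈ link D a), r ∈ link D c ∧ r ∈ link D x ∧
        IsPt (A.img lr) (vec3 e vq u s (κ * s ^ 2))) →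
      ∀ s : F, s ≠ 0 → ∃ (r : G) (lr : r ∈ link D a), r ∈ link D c ∧ r ∈ link D x ∧
        IsPt (A.img lr) (vec3 e vq u' s (κ * s ^ 2)) := by
    intro m lm w u u' hw cxm ccm cqm hu hov s hs
    obtain ⟨r, lr, lrc, lrx, hr⟩ := hov s hs
    obtain ⟨lm', hvm⟩ := A.conj_vec S hF lr lm hr hw
    refine ⟨m * r * m, lm', ⟨lm'.1, fun h => hnc (h ▸ lm'.2.2), (ccm.mul_right lrc.2.2).mul_right ccm⟩,
      ⟨lm'.1, fun h => lrx.2.1 ?_, (cxm.mul_right lrx.2.2).mul_right cxm⟩, ?_⟩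
    · calc r = m * (m * r * m) * m := by simp only [mul_assoc, cancel₂ (S.sqd lm.1), S.sqd lm.1, mul_one]
        _ = x := by rw [h, cxm.symm.eq, mul_assoc, S.sqd lm.1, mul_one]
    · convert hvm using 1
      rw [← hu]
      simp only [vec3, U6.add_left hF, U6.smul_left hF, heqv lm hw cxm, hqv lm hw cqm, mul_zero, zero_add]
      module
  have hov' := conjOval lp''a hv'' cp''x cp''c cp''q
    (show v + Cfsg.hermForm 6 F 2 v (v' + v) • (v' + v) = v' by
      rw [hvw, one_smul, add_comm v' v, ← add_assoc, U6.vadd_self hF, zero_add]) hov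
  have hov'' := conjOval lpa hv lpx.2.2 lpc.2.2 cqp
    (show v' + Cfsg.hermForm 6 F 2 v' v • v = v' + v by rw [hv'v, one_smul]) hov'
  -- none of them commutes with `y`
  obtain ⟨w₀, hw₀⟩ := A.exists_pt_of_link S hF ha hy
  set g₀ := Cfsg.hermForm 6 F 2 e w₀ with hg₀
  have g₀ne : g₀ ≠ 0 := fun h => hxy ((A.comm_iff S hF ha hx hy he hw₀).2 h)
  set w := g₀ • w₀ with hwdef
  have hw : IsPt (A.img hy) w := hw₀.smul hF g₀ne
  have hew : Cfsg.hermForm 6 F 2 e w = 1 := by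
    rw [hwdef, U6.smul_right hF, ← hg₀, ← pow_succ]; exact U6.cube_eq_one hF g₀ne
  have far : ∀ {m : G} (lm : m ∈ link D a) {u : Fin 6 → F}, IsPt (A.img lm) u → m ∈ link D c → m ∈ link D x →
      Cfsg.hermForm 6 F 2 u w ≠ 0 :=
    fun lm _ hu lmc lmx h => hcon _ lm lmc lmx ((A.comm_iff S hF ha lm hy hu hw).2 h)
  set α := Cfsg.hermForm 6 F 2 vq w with hα
  have hα0 : α ≠ 0 := far lqa hvq lqc lqx
  obtain ⟨ω, hω0, hω1, hω, hall⟩ := U6.exists_omega hF
  have := U6.charTwo hF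
  have step : ∀ {u : Fin 6 → F}, (∀ s : F, s ≠ 0 → ∃ (r : G) (lr : r ∈ link D a), r ∈ link D c ∧ r ∈ link D x ∧
      IsPt (A.img lr) (vec3 e vq u s (κ * s ^ 2))) → ∀ K : F, K * α ^ 2 = κ * Cfsg.hermForm 6 F 2 u w →
      ∀ r : F, r ≠ 0 → 1 + r + K * r ^ 2 ≠ 0 := by
    intro u hov K hK r hr h0
    obtain ⟨m, lm, lmc, lmx, hm⟩ := hov (r / α) (div_ne_zero hr hα0)
    refine far lm hm lmc lmx ?_
    rw [vec3, U6.add_left hF, U6.add_left hF, U6.smul_left hF, U6.smul_left hF, hew, ← hα]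
    field_simp
    linear_combination α ^ 2 * h0 - r ^ 2 * hK
  set β := Cfsg.hermForm 6 F 2 v w with hβ
  set β' := Cfsg.hermForm 6 F 2 v' w with hβ'
  have hβ0 : β ≠ 0 := far lpa hv lpc lpx
  have hβ'0 : β' ≠ 0 := far lp'a hv' lp'c lp'x
  have hβ''0 : β' + β ≠ 0 := by
    rw [hβ, hβ', ← U6.add_left hF]
    exact far lp''a hv'' ⟨lp''a.1, fun h => hnc (h ▸ lp''a.2.2), cp''c⟩
      ⟨lp''a.1, fun h => lp'x.2.1 (by
        calc p' = p * (p * p' * p) * p := by simp only [mul_assoc, cancel₂ (S.sqd lpa.1), S.sqd lpa.1, mul_one]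
          _ = x := by rw [h, lpx.2.2.symm.eq, mul_assoc, S.sqd lpa.1, mul_one]), cp''x⟩
  set K := κ * β / α ^ 2 with hK
  set K' := κ * β' / α ^ 2 with hK'
  have hα2 : α ^ 2 ≠ 0 := pow_ne_zero 2 hα0
  have cases' : ∀ {K : F}, K ≠ 0 → (∀ r : F, r ≠ 0 → 1 + r + K * r ^ 2 ≠ 0) → K = ω ∨ K = ω ^ 2 := by
    intro K hK0 h
    rcases hall K with rfl | rfl | h' | h'
    · exact absurd rfl hK0
    · exact absurd (by linear_combination hω) (h ω hω0)
    · exact Or.inl h'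
    · exact Or.inr h'
  have k1 := cases' (div_ne_zero (mul_ne_zero hκ hβ0) hα2) (step hov K (div_mul_cancel₀ _ hα2))
  have k2 := cases' (div_ne_zero (mul_ne_zero hκ hβ'0) hα2) (step hov' K' (div_mul_cancel₀ _ hα2))
  have hsum : (K' + K) * α ^ 2 = κ * Cfsg.hermForm 6 F 2 (v' + v) w := by
    rw [U6.add_left hF, ← hβ, ← hβ', add_mul, hK, hK', div_mul_cancel₀ _ hα2, div_mul_cancel₀ _ hα2, mul_add]
  have hne0 : K' + K ≠ 0 := fun h => by
    rw [h, zero_mul, U6.add_left hF, ← hβ, ← hβ'] at hsum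
    exact mul_ne_zero hκ hβ''0 hsum.symm
  have k3 := cases' hne0 (step hov'' _ hsum)
  rcases k1 with e1 | e1 <;> rcases k2 with e2 | e2 <;> rw [hK, hK', e1, e2] at k3 hne0
  · exact hne0 (U6.add_self hF ω)
  · rcases k3 with e3 | e3
    · exact hω0 (by
        have : ω ^ 2 = 0 := by linear_combination e3
        exact pow_eq_zero_iff two_ne_zero |>.1 this)
    · exact hω0 (by linear_combination e3)
  · rcases k3 with e3 | e3
    · exact hω0 (by
        have : ω ^ 2 = 0 := by linear_combination e3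
        exact pow_eq_zero_iff two_ne_zero |>.1 this)
    · exact hω0 (by linear_combination e3)
  · exact hne0 (U6.add_self hF (ω ^ 2))

/-- Two non-commuting members have a common neighbour. -/
theorem exists_common {a c : G} (ha : a ∈ D) (hc : c ∈ D) (hnc : ¬ Commute a c) :
    ∃ x, x ∈ link D a ∧ x ∈ link D c := by
  obtain ⟨A⟩ := hM a ha
  let K : Set G := {y | y = a ∨ Commute a y ∨ ∃ x, x ∈ link D a ∧ x ∈ link D y}
  have hstep : ∀ b ∈ D, ∀ e ∈ D, Commute b e → b ∈ K → e ∈ K := by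
    intro b hb e he hbe hbK
    by_cases hae : Commute a e
    · exact Or.inr (Or.inl hae)
    have nea : e ≠ a := fun h => hae (h ▸ Commute.refl a)
    by_cases hab : Commute a b
    · have nba : b ≠ a := fun h => hae (h ▸ hbe)
      exact Or.inr (Or.inr ⟨b, ⟨hb, nba, hab⟩, hb, fun h => hae (h ▸ hab), hbe.symm⟩)
    rcases hbK with h | h | ⟨x, hxa, hxb⟩
    · exact absurd (h ▸ Commute.refl a) hab
    · exact absurd h hab
    have hnba : ¬ Commute b a := fun h => hab h.symm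
    by_cases hxe : Commute x e
    · exact Or.inr (Or.inr ⟨x, hxa, hxb.1, fun h => hae (h ▸ hxa.2.2), hxe.symm⟩)
    have leb : e ∈ link D b := ⟨he, fun h => hxe (h ▸ hxb.2.2.symm), hbe⟩
    obtain ⟨m, hmb, hma, -, hme⟩ := exists_commuting S hF hM hb ha hnba hxb hxa leb hxe
    exact Or.inr (Or.inr ⟨m, hma, hmb.1, fun h => hae (h ▸ hma.2.2), hme.symm⟩)
  obtain ⟨b, hb⟩ := A.link_nonempty hF
  have hc' : c ∈ comp D Commute a := by
    rw [S.comp_eq ⟨a, ha, b, hb⟩ ha hc]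
    exact mem_comp_self _ _ _
  have hcK : c ∈ K := by
    change Relation.ReflTransGen _ a c at hc'
    clear hc hnc
    induction hc' with
    | refl => exact Or.inl rfl
    | tail _ h ih => exact hstep _ h.1 _ h.2.1 h.2.2 ih
  rcases hcK with h | h | h
  · exact absurd (h ▸ Commute.refl a) hnc
  · exact absurd h hnc
  · exact h

/-- Every neighbour of `a` commutes with some common neighbour of `a` and `c`. -/
theorem exists_commuting' {a c y : G} (ha : a ∈ D) (hc : c ∈ D) (hnc : ¬ Commute a c) (hy : y ∈ link D a) :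
    ∃ m, m ∈ link D a ∧ m ∈ link D c ∧ Commute m y := by
  obtain ⟨x, hxa, hxc⟩ := exists_common S hF hM ha hc hnc
  by_cases h : Commute x y
  · exact ⟨x, hxa, hxc, h⟩
  · obtain ⟨m, h1, h2, -, h3⟩ := exists_commuting S hF hM ha hc hnc hxa hxc hy h
    exact ⟨m, h1, h2, h3⟩

/-- Members of the link of `x` not commuting with its neighbour `a` are conjugate under the group of the link
of `a`, by an element fixing `x`. -/
theorem trans_at {a x c c' : G} (ha : a ∈ D) (hx : x ∈ link D a) (hc : c ∈ link D x) (hc' : c' ∈ link D x)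
    (hnc : ¬ Commute a c) (hnc' : ¬ Commute a c') :
    ∃ h ∈ Subgroup.closure (link D a), Commute h x ∧ h * c * h⁻¹ = c' := by
  obtain ⟨X⟩ := hM x hx.1
  have lax := link_swap ha hx
  obtain ⟨u, hu⟩ := X.exists_pt_of_link S hF hx.1 lax
  have norm1 : ∀ {e : G} (le : e ∈ link D x), ¬ Commute a e → ∃ z, IsPt (X.img le) z ∧
      Cfsg.hermForm 6 F 2 z u = 1 := by
    intro e le hne
    obtain ⟨z, hz⟩ := X.exists_pt_of_link S hF hx.1 le
    have h0 : Cfsg.hermForm 6 F 2 z u ≠ 0 := fun h => hne ((X.comm_iff S hF hx.1 le lax hz hu).2 h).symm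
    exact ⟨(Cfsg.hermForm 6 F 2 z u)⁻¹ • z, hz.smul hF (inv_ne_zero h0),
      by rw [U6.smul_left hF, inv_mul_cancel₀ h0]⟩
  obtain ⟨z, hz, hzu⟩ := norm1 hc hnc
  obtain ⟨z', hz', hz'u⟩ := norm1 hc' hnc'
  refine U6.orbit hF (![] : Fin 0 → Fin 6 → F) (by norm_num) (fun w hw _ => by simpa using hw) hu.1.2 hz.1.2
    hz'.1.2 hzu hz'u (fun i => i.elim0) (fun i => i.elim0) (fun i => i.elim0)
    (fun w => ∀ (y : G) (ly : y ∈ link D x), IsPt (X.img ly) w →
      ∃ h ∈ Subgroup.closure (link D a), Commute h x ∧ h * c * h⁻¹ = y) ?_ ?_ c' hc' hz'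
  · intro d w hd _ hdu hQ y ly hy
    obtain ⟨Z, hZ⟩ := U6.exists_pt hF hd
    obtain ⟨f, lf, rfl⟩ := X.exists_link_of_pt S hF hx.1 hZ
    obtain ⟨lm, hm⟩ := X.conj_vec S hF ly lf hy hZ
    rw [show w + Cfsg.hermForm 6 F 2 w d • d + Cfsg.hermForm 6 F 2 (w + Cfsg.hermForm 6 F 2 w d • d) d • d = w by
      rw [U6.add_left hF, U6.smul_left hF, hd.2, mul_zero, add_zero, add_assoc, U6.vadd_self hF, add_zero]] at hm
    obtain ⟨h, hh, hhx, hhc⟩ := hQ _ lm hm
    have hfH : f ∈ Subgroup.closure (link D a) := by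
      by_cases hfa : f = a
      · rw [hfa]; exact self_mem_link_closure S hF hM ha
      · exact Subgroup.subset_closure ⟨lf.1, hfa, ((X.comm_iff S hF hx.1 lf lax hZ hu).2 hdu).symm⟩
    refine ⟨f * h, mul_mem hfH hh, lf.2.2.symm.mul_left hhx, ?_⟩
    calc f * h * c * (f * h)⁻¹ = f * (h * c * h⁻¹) * f⁻¹ := by group
      _ = y := by
        rw [hhc, S.tt.inv_eq lf.1]
        simp only [mul_assoc, cancel₂ (S.sqd lf.1), S.sqd lf.1, mul_one]
  · intro y ly hy
    exact ⟨1, one_mem _, Commute.one_left x, by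
      rw [one_mul, inv_one, mul_one]; exact X.img_inj S hx.1 hc ly (IsPt.unique hF hz hy)⟩

/-- The group of the link of `a` is transitive on the members not commuting with `a`. -/
theorem trans_nonlink {a c c' : G} (ha : a ∈ D) (hc : c ∈ D) (hc' : c' ∈ D) (hnc : ¬ Commute a c)
    (hnc' : ¬ Commute a c') : ∃ h ∈ Subgroup.closure (link D a), h * c * h⁻¹ = c' := by
  obtain ⟨x', hx'a, hx'c⟩ := exists_common S hF hM ha hc' hnc'
  obtain ⟨m, hma, hmc, hmx⟩ := exists_commuting' S hF hM ha hc hnc hx'a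
  obtain ⟨X⟩ := hM x' hx'a.1
  have lax := link_swap ha hx'a
  obtain ⟨u, hu⟩ := X.exists_pt_of_link S hF hx'a.1 lax
  obtain ⟨y, hy, c₁, c₂⟩ : ∃ y, y ∈ link D x' ∧ ¬ Commute a y ∧ y ∈ link D m := by
    by_cases hmx' : m = x'
    · exact ⟨c', link_swap hc' hx'c, hnc', hmx' ▸ link_swap hc' hx'c⟩
    have lmx : m ∈ link D x' := ⟨hma.1, hmx', hmx.symm⟩
    obtain ⟨v, hv⟩ := X.exists_pt_of_link S hF hx'a.1 lmx
    obtain ⟨s, hs, hsv, -, hsu⟩ := U6.exists_iso_perp_pair hF hu.1 hv.1 hv.1 (by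
      rw [Set.pair_eq_singleton]
      exact X.notMem S hF hx'a.1 lmx lax hv hu hma.2.1)
    obtain ⟨Z, hZ⟩ := U6.exists_pt hF hs
    obtain ⟨y, ly, rfl⟩ := X.exists_link_of_pt S hF hx'a.1 hZ
    have hnay : ¬ Commute a y := fun h => hsu ((X.comm_iff S hF hx'a.1 ly lax hZ hu).1 h.symm)
    exact ⟨y, ly, hnay, ly.1, fun h => hnay (h ▸ hma.2.2),
      ((X.comm_iff S hF hx'a.1 ly lmx hZ hv).2 hsv).symm⟩
  obtain ⟨h₁, hh₁, -, e₁⟩ := trans_at S hF hM ha hma (link_swap hc hmc) c₂ hnc c₁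
  obtain ⟨h₂, hh₂, -, e₂⟩ := trans_at S hF hM ha hx'a hy (link_swap hc' hx'c) c₁ hnc'
  exact ⟨h₂ * h₁, mul_mem hh₂ hh₁, by rw [← e₂, ← e₁]; group⟩

end CfsgLib.M22
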