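import Cfsg.Agent.Lib.ThreeTransp.M22Simple
import Cfsg.Agent.Lib.ThreeTransp.U6Perp

/-!
# Groups of type `M(22)`: the common neighbours of two non-commuting members

Lines of a link meet the common neighbourhood of a non-commuting pair in no or two points.
-/

set_option autoImplicit false

namespace CfsgLib.M22

open CfsgLib.ThreeTransp CfsgLib.SporMisc
open CfsgLib.U6 (IsPt IsPlane vec3)
open CfsgLib.PSUAut (Isot act)

variable {G : Type*} [Group G] {D : Set G}

variable [Finite G] (S : Setup D) {F : Type} [Field F] [Fintype F] (hF : Fintype.card F = 2 ^ 2)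

include S hF in
theorem Model.comm_iff {a : G} (M : Model D a F) (ha : a ∈ D) {e f : G} (he : e ∈ link D a) (hf : f ∈ link D a)
    {u v : Fin 6 → F} (hu : IsPt (M.img he) u) (hv : IsPt (M.img hf) v) :
    Commute e f ↔ Cfsg.hermForm 6 F 2 u v = 0 :=
  ⟨fun h => (IsPt.commute_iff hF hu hv).1 (M.img_commute he hf h),
    fun h => M.commute_of_img S ha he hf ((IsPt.commute_iff hF hu hv).2 h)⟩

include S hF in
theorem Model.notMem {a : G} (M : Model D a F) (ha : a ∈ D) {e f : G} (he : e ∈ link D a) (hf : f ∈ link D a)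
    {u v : Fin 6 → F} (hu : IsPt (M.img he) u) (hv : IsPt (M.img hf) v) (hne : e ≠ f) :
    v ∉ Submodule.span F {u} :=
  IsPt.notMem_span hF hu hv fun h => hne (M.img_inj S ha he hf h)

include S hF in
/-- Conjugation by a member of the link in terms of vectors. -/
theorem Model.conj_vec {a : G} (M : Model D a F) {e f : G} (he : e ∈ link D a) (hf : f ∈ link D a)
    {u v : Fin 6 → F} (hu : IsPt (M.img he) u) (hv : IsPt (M.img hf) v) :
    ∃ hm : f * e * f ∈ link D a, IsPt (M.img hm) (u + Cfsg.hermForm 6 F 2 u v • v) := by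
  have key : ∀ (m : G) (hm : m ∈ link D a), f * e * f⁻¹ = m →
      IsPt (M.img hm) (u + Cfsg.hermForm 6 F 2 u v • v) := by
    rintro m hm rfl
    obtain ⟨-, t, ht, htx⟩ := hv
    have h1 := hu.conj hF t
    rw [ht, htx, show M.img hf = M.ψ ⟨f, Subgroup.subset_closure hf⟩ from rfl] at h1
    rw [← M.img_conj S he ⟨f, Subgroup.subset_closure hf⟩] at h1
    exact h1
  have e1 : f * e * f⁻¹ = f * e * f := by rw [S.tt.inv_eq hf.1]
  have hmem : f * e * f⁻¹ ∈ link D a := Model.conj_mem S he ⟨f, Subgroup.subset_closure hf⟩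
  exact ⟨e1 ▸ hmem, key _ _ e1⟩

variable (hM : ∀ a ∈ D, Nonempty (Model D a F))
include S hF hM

/-- Another point `z` of the line of `x`, `y` in the link of `a` gives a triple through `a`. -/
theorem line_triple {a : G} (ha : a ∈ D) (A : Model D a F) {x y z : G} (hx : x ∈ link D a)
    (hy : y ∈ link D a) (hz : z ∈ link D a) {u v w : Fin 6 → F} (hu : IsPt (A.img hx) u)
    (hv : IsPt (A.img hy) v) (hw : IsPt (A.img hz) w) (hxy : Commute x y) (hne : x ≠ y) (hzx : z ≠ x)
    (hzy : z ≠ y) (hspan : w ∈ Submodule.span F {u, v}) :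
    ∃ q r : G, Tri D a q r ∧ x * y * z = a * q * r := by
  have T : Tri D a x y := ⟨ha, hx.1, hy.1, hx.2.1.symm, hy.2.1.symm, hne, hx.2.2, hy.2.2, hxy⟩
  obtain ⟨p, q, r, T', hp, hne', -⟩ := exists_partner_triple S hF hM T
  have nshare : ∀ e ∈ [a, x, y], e ∉ [p, q, r] := by
    intro e he he'
    apply hne'
    have rotS : ∀ {d e f a b c : G}, SameTri e f d a b c → SameTri d e f a b c := by
      intro d e f a b c h x
      rw [← h x]; simp only [List.mem_cons, List.not_mem_nil, or_false]; tauto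
    have rotS' : ∀ {d e f a b c : G}, SameTri d e f b c a → SameTri d e f a b c := by
      intro d e f a b c h x
      rw [h x]; simp only [List.mem_cons, List.not_mem_nil, or_false]; tauto
    have first : ∀ {d g h : G}, Tri D d g h → d * g * h = p * q * r → d ∈ [p, q, r] → SameTri d g h p q r := by
      intro d g h T₀ hp₀ hd
      simp only [List.mem_cons, List.not_mem_nil, or_false] at hd
      rcases hd with hd | hd | hd
      · exact share S hF hM T₀ T' hd hp₀
      · exact rotS' (share S hF hM T₀ T'.rot hd (hp₀.trans T'.prod_rot.symm))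
      · exact rotS' (rotS' (share S hF hM T₀ T'.rot.rot hd (hp₀.trans (T'.rot.prod_rot.trans T'.prod_rot).symm)))
    simp only [List.mem_cons, List.not_mem_nil, or_false] at he
    rcases he with rfl | rfl | rfl
    · exact first T hp.symm he'
    · exact rotS (first T.rot (T.prod_rot.trans hp.symm) he')
    · exact rotS (rotS (first T.rot.rot ((T.rot.prod_rot.trans T.prod_rot).trans hp.symm) he'))
  have hcom : ∀ e, e ∈ [a, x, y] → Commute e (a * x * y) := by
    intro e he
    simp only [List.mem_cons, List.not_mem_nil, or_false] at he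
    rcases he with rfl | rfl | rfl
    · exact ((Commute.refl _).mul_right T.cab).mul_right T.cac
    · exact (T.cab.symm.mul_right (Commute.refl _)).mul_right T.cbc
    · exact (T.cac.symm.mul_right T.cbc.symm).mul_right (Commute.refl _)
  obtain ⟨ap, aq, ar⟩ := commute_all S hF hM ha T' (hp ▸ hcom a (by simp))
  obtain ⟨xp, xq, xr⟩ := commute_all S hF hM hx.1 T' (hp ▸ hcom x (by simp))
  obtain ⟨yp, yq, yr⟩ := commute_all S hF hM hy.1 T' (hp ▸ hcom y (by simp))
  have nea : ∀ e ∈ [p, q, r], e ≠ a ∧ e ≠ x ∧ e ≠ y := fun e he =>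
    ⟨fun h => nshare a (by simp) (h ▸ he), fun h => nshare x (by simp) (h ▸ he),
      fun h => nshare y (by simp) (h ▸ he)⟩
  obtain ⟨pa, px, py⟩ := nea p (by simp)
  obtain ⟨qa, qx, qy⟩ := nea q (by simp)
  obtain ⟨ra, rx, ry⟩ := nea r (by simp)
  have lp : p ∈ link D a := ⟨T'.ha, pa, ap⟩
  have lq : q ∈ link D a := ⟨T'.hb, qa, aq⟩
  have lr : r ∈ link D a := ⟨T'.hc, ra, ar⟩
  obtain ⟨up, hup⟩ := A.exists_pt_of_link S hF ha lp
  obtain ⟨uq, huq⟩ := A.exists_pt_of_link S hF ha lq
  obtain ⟨ur, hur⟩ := A.exists_pt_of_link S hF ha lr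
  have hprodG : x * y * p * q * r = a := by
    rw [show x * y * p * q * r = x * y * (p * q * r) by simp only [mul_assoc], hp, ← T.prod_rot,
      ← mul_assoc, hxy.symm.mul_mul_mul_comm, S.sqd hx.1, S.sqd hy.1, one_mul, one_mul]
  have hmem : x * y * p * q * r ∈ Subgroup.closure (link D a) :=
    mul_mem (mul_mem (mul_mem (mul_mem (Subgroup.subset_closure hx) (Subgroup.subset_closure hy))
      (Subgroup.subset_closure lp)) (Subgroup.subset_closure lq)) (Subgroup.subset_closure lr)
  have hcen : (⟨x * y * p * q * r, hmem⟩ : ↥(Subgroup.closure (link D a))) ∈ Subgroup.center _ :=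
    mem_center_of_commute fun e he => by rw [hprodG]; exact he.2.2
  have himg : A.img hx * A.img hy * A.img lp * A.img lq * A.img lr = 1 := by
    simp only [Model.img, ← map_mul]
    exact (A.ker _).2 hcen
  have P0 : ∀ {s t : G} (ls : s ∈ link D a) (lt : t ∈ link D a) {i j : Fin 6 → F}, IsPt (A.img ls) i →
      IsPt (A.img lt) j → Commute s t → Cfsg.hermForm 6 F 2 i j = 0 :=
    fun ls lt _ _ hi hj h => (A.comm_iff S hF ha ls lt hi hj).1 h
  have hneI : A.img hx ≠ A.img hy := fun e => hne (A.img_inj S ha hx hy e)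
  obtain ⟨m1, m2, m3⟩ := U6.five_on_line hF hu hv hup huq hur hneI (P0 hy hx hv hu hxy.symm)
    (P0 lp hx hup hu xp.symm) (P0 lp hy hup hv yp.symm) (P0 lq hx huq hu xq.symm) (P0 lq hy huq hv yq.symm)
    (P0 lq lp huq hup T'.cab.symm) (P0 lr hx hur hu xr.symm) (P0 lr hy hur hv yr.symm)
    (P0 lr lp hur hup T'.cac.symm) (P0 lr lq hur huq T'.cbc.symm) himg
  obtain ⟨X₂, X₃, X₄, _, _, _, -, -, -, -, -, -, -, -, hall⟩ :=
    U6.exists_line hF hu hv (P0 hx hy hu hv hxy) hneI
  have inj : ∀ {s t : G} (ls : s ∈ link D a) (lt : t ∈ link D a), s ≠ t → A.img ls ≠ A.img lt :=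
    fun ls lt h e => h (A.img_inj S ha ls lt e)
  have hperm : List.Perm [A.img hx, A.img hy, A.img lp, A.img lq, A.img lr] [A.img hx, A.img hy, X₂, X₃, X₄] := by
    refine (List.subperm_of_subset ?_ ?_).perm_of_length_le (by simp)
    · simp only [List.nodup_cons, List.mem_cons, List.not_mem_nil, or_false, not_or, List.nodup_nil,
        not_false_eq_true, and_true]
      exact ⟨⟨hneI, inj hx lp px.symm, inj hx lq qx.symm, inj hx lr rx.symm⟩,
        ⟨inj hy lp py.symm, inj hy lq qy.symm, inj hy lr ry.symm⟩, ⟨inj lp lq T'.ab, inj lp lr T'.ac⟩,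
        inj lq lr T'.bc⟩
    · intro e he
      simp only [List.mem_cons, List.not_mem_nil, or_false] at he
      rcases he with rfl | rfl | rfl | rfl | rfl
      · simp
      · simp
      · exact hall _ _ hup m1
      · exact hall _ _ huq m2
      · exact hall _ _ hur m3
  have hzm : A.img hz ∈ [A.img hx, A.img hy, A.img lp, A.img lq, A.img lr] :=
    hperm.symm.subset (hall _ _ hw hspan)
  have conv : ∀ {p q r : G}, Tri D p q r → p * q * r = a * x * y → q ∈ link D a → r ∈ link D a → z = p →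
      Tri D a q r ∧ x * y * z = a * q * r := by
    rintro p q r T₀ h lq lr rfl
    refine ⟨⟨ha, T₀.hb, T₀.hc, lq.2.1.symm, lr.2.1.symm, T₀.bc, lq.2.2, lr.2.2, T₀.cbc⟩, ?_⟩
    have h1 : Commute z (q * r) := T₀.cab.mul_right T₀.cac
    calc x * y * z = a * (a * x * y) * z := by simp only [mul_assoc, cancel₂ (S.sqd ha)]
      _ = a * (z * (q * r) * z) := by rw [← h]; simp only [mul_assoc]
      _ = a * q * r := by rw [h1.eq, mul_assoc (q * r), S.sqd T₀.ha, mul_one, ← mul_assoc]
  simp only [List.mem_cons, List.not_mem_nil, or_false] at hzm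
  rcases hzm with h | h | h | h | h
  · exact absurd (A.img_inj S ha hz hx h) hzx
  · exact absurd (A.img_inj S ha hz hy h) hzy
  · exact ⟨_, _, conv T' hp lq lr (A.img_inj S ha hz lp h)⟩
  · exact ⟨_, _, conv T'.rot (T'.prod_rot.trans hp) lr lp (A.img_inj S ha hz lq h)⟩
  · exact ⟨_, _, conv T'.rot.rot ((T'.rot.prod_rot.trans T'.prod_rot).trans hp) lp lq (A.img_inj S ha hz lr h)⟩

/-- A line of the link of `a` has at most two common neighbours of a non-commuting pair `a`, `c`. -/
theorem line_two {a c : G} (ha : a ∈ D) (hc : c ∈ D) (hnc : ¬ Commute a c) (A : Model D a F) {x y z : G}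
    (hx : x ∈ link D a) (hy : y ∈ link D a) (hz : z ∈ link D a) (cx : Commute c x) (cy : Commute c y)
    (cz : Commute c z) {u v w : Fin 6 → F} (hu : IsPt (A.img hx) u) (hv : IsPt (A.img hy) v)
    (hw : IsPt (A.img hz) w) (hxy : Commute x y) (hne : x ≠ y) (hspan : w ∈ Submodule.span F {u, v}) :
    z = x ∨ z = y := by
  by_contra h
  rw [not_or] at h
  obtain ⟨q, r, T, hp⟩ := line_triple S hF hM ha A hx hy hz hu hv hw hxy hne h.1 h.2 hspan
  exact hnc (commute_all S hF hM hc T (hp ▸ (cx.mul_right cy).mul_right cz)).1.symm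

/-- A line through a common neighbour contains a second one. -/
theorem line_second {a c : G} (ha : a ∈ D) (hc : c ∈ D) (hnc : ¬ Commute a c) (A : Model D a F) {x y : G}
    (hx : x ∈ link D a) (hxc : x ∈ link D c) (hy : y ∈ link D a) (hxy : Commute x y) (hne : x ≠ y)
    {u v : Fin 6 → F} (hu : IsPt (A.img hx) u) (hv : IsPt (A.img hy) v) :
    ∃ (x' : G) (hx' : x' ∈ link D a) (w : Fin 6 → F), IsPt (A.img hx') w ∧ x' ∈ link D c ∧ x' ∈ link D x ∧
      Commute x' y ∧ w ∈ Submodule.span F {u, v} := by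
  obtain ⟨X⟩ := hM x hx.1
  have lax := link_swap ha hx
  have lcx : c ∈ link D x := ⟨hc, hxc.2.1.symm, hxc.2.2.symm⟩
  have lyx : y ∈ link D x := ⟨hy.1, hne.symm, hxy⟩
  obtain ⟨ua, hua⟩ := X.exists_pt_of_link S hF hx.1 lax
  obtain ⟨uy, huy⟩ := X.exists_pt_of_link S hF hx.1 lyx
  obtain ⟨uc, huc⟩ := X.exists_pt_of_link S hF hx.1 lcx
  have hac : Cfsg.hermForm 6 F 2 ua uc ≠ 0 := fun h => hnc ((X.comm_iff S hF hx.1 lax lcx hua huc).2 h)
  have hay : Cfsg.hermForm 6 F 2 ua uy = 0 := (X.comm_iff S hF hx.1 lax lyx hua huy).1 hy.2.2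
  set r := -(Cfsg.hermForm 6 F 2 uy uc / Cfsg.hermForm 6 F 2 ua uc) with hr
  set z := uy + r • ua with hz
  have hznm : z ∉ Submodule.span F {ua} := fun h => X.notMem S hF hx.1 lax lyx hua huy hy.2.1.symm (by
    have := Submodule.sub_mem _ h (Submodule.smul_mem _ r (Submodule.mem_span_singleton_self ua))
    rwa [hz, add_sub_cancel_right] at this)
  have hzi : Isot 2 z := by
    refine ⟨fun h => hznm (h ▸ Submodule.zero_mem _), ?_⟩
    simp only [hz, U6.add_left hF, U6.add_right hF, U6.smul_left hF, U6.smul_right hF, huy.1.2, hua.1.2,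
      hay, (U6.comm_zero hF).1 hay, mul_zero, add_zero]
  obtain ⟨Z, hZ⟩ := U6.exists_pt hF hzi
  obtain ⟨x', lx', rfl⟩ := X.exists_link_of_pt S hF hx.1 hZ
  have cxa : Commute x' a := (X.comm_iff S hF hx.1 lx' lax hZ hua).2 (by
    simp only [hz, U6.add_left hF, U6.smul_left hF, hua.1.2, (U6.comm_zero hF).1 hay, mul_zero, add_zero])
  have cxy : Commute x' y := (X.comm_iff S hF hx.1 lx' lyx hZ huy).2 (by
    simp only [hz, U6.add_left hF, U6.smul_left hF, huy.1.2, hay, mul_zero, add_zero])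
  have cxc : Commute x' c := (X.comm_iff S hF hx.1 lx' lcx hZ huc).2 (by
    rw [hz, U6.add_left hF, U6.smul_left hF, hr, neg_mul, div_mul_cancel₀ _ hac, add_neg_cancel])
  have hne' : x' ≠ a := by
    rintro rfl
    obtain ⟨s, -, hs⟩ := IsPt.span_eq hF hua hZ
    exact hznm (Submodule.mem_span_singleton.2 ⟨s, hs.symm⟩)
  have hnec : x' ≠ c := by rintro rfl; exact hnc cxa.symm
  have lxa : x' ∈ link D a := ⟨lx'.1, hne', cxa.symm⟩
  obtain ⟨w, hw⟩ := A.exists_pt_of_link S hF ha lxa
  refine ⟨x', lxa, w, hw, ⟨lx'.1, hnec, cxc.symm⟩, lx', cxy, (U6.mem_span_iff hF hu.1 hv.1 hw.1).2 fun s hs hsu hsv => ?_⟩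
  obtain ⟨E, hE⟩ := U6.exists_pt hF hs
  obtain ⟨e, le, rfl⟩ := A.exists_link_of_pt S hF ha hE
  refine (A.comm_iff S hF ha le lxa hE hw).1 ?_
  by_cases hex : e = x
  · rw [hex]; exact lx'.2.2
  have lex : e ∈ link D x := ⟨le.1, hex, ((A.comm_iff S hF ha le hx hE hu).2 hsu).symm⟩
  obtain ⟨ue, hue⟩ := X.exists_pt_of_link S hF hx.1 lex
  refine (X.comm_iff S hF hx.1 lex lx' hue hZ).2 ?_
  rw [hz, U6.add_right hF, U6.smul_right hF,
    (X.comm_iff S hF hx.1 lex lax hue hua).1 le.2.2.symm,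
    (X.comm_iff S hF hx.1 lex lyx hue huy).1 ((A.comm_iff S hF ha le hy hE hv).2 hsv), mul_zero, add_zero]

end CfsgLib.M22
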