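import Cfsg.Agent.Lib.ThreeTransp.U6Ovals
import Cfsg.Agent.Lib.ThreeTransp.M22Factor

/-!
# Groups of type `M(22)`: the kernel on a link

An element fixing a transposition `a` and centralising the link of `a` is `1` or `a`.
-/

set_option autoImplicit false

namespace CfsgLib.M22

open CfsgLib.ThreeTransp CfsgLib.SporMisc
open CfsgLib.U6 (IsPt)
open CfsgLib.PSUAut (Isot)

variable {G : Type*} [Group G] {D : Set G}

theorem link_conj_fix (S : Setup D) {b z : G} (hz : Commute z b) {e : G} (he : e ∈ link D b) :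
    z * e * z⁻¹ ∈ link D b := by
  have := link_conj S.tt z he
  rwa [hz.eq, mul_inv_cancel_right] at this

variable [Finite G] (S : Setup D) {F : Type} [Field F] [Fintype F] (hF : Fintype.card F = 2 ^ 2)
  (hM : ∀ a ∈ D, Nonempty (Model D a F))
include S hF hM

/-- For commuting `a`, `b`: a conjugate of `e` under an element centralising the link of `a` and fixing `b`
is `e` or `a * e * a`. -/
theorem kernel_cases {a b z : G} (ha : a ∈ D) (hb : b ∈ link D a) (hza : Commute z a)
    (h : ∀ x ∈ link D a, Commute z x) {e : G} (he : e ∈ link D b) (hae : ¬ Commute a e) :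
    z * e * z⁻¹ = e ∨ z * e * z⁻¹ = a * e * a := by
  obtain ⟨B⟩ := hM b hb.1
  have la : a ∈ link D b := link_swap ha hb
  have le' := link_conj_fix S (h b hb) he
  have hae' : ¬ Commute a (z * e * z⁻¹) := fun hc => hae
    ((Commute.conj_iff z).1 (by rwa [show z * a * z⁻¹ = a by rw [hza.eq, mul_inv_cancel_right]]))
  obtain ⟨u, hu⟩ := B.exists_pt_of_link S hF hb.1 la
  obtain ⟨y, hy⟩ := B.exists_pt_of_link S hF hb.1 he
  obtain ⟨y', hy'⟩ := B.exists_pt_of_link S hF hb.1 le'
  have hyu : Cfsg.hermForm 6 F 2 y u ≠ 0 := fun h0 => hae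
    (B.commute_of_img S hb.1 he la ((IsPt.commute_iff hF hy hu).2 h0)).symm
  have hy'u : Cfsg.hermForm 6 F 2 y' u ≠ 0 := fun h0 => hae'
    (B.commute_of_img S hb.1 le' la ((IsPt.commute_iff hF hy' hu).2 h0)).symm
  have hspan : y' ∈ Submodule.span F {u, y} := by
    refine U6.mem_span_of_same_perp hF hu.1 hy.1 hy'.1 fun s hs hsu => ?_
    obtain ⟨x, hx⟩ := U6.exists_pt hF hs
    obtain ⟨w, lw, rfl⟩ := B.exists_link_of_pt S hF hb.1 hx
    have cwa := B.commute_of_img S hb.1 lw la ((IsPt.commute_iff hF hx hu).2 hsu)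
    have czw : Commute z w := by
      by_cases hwa : w = a
      · rw [hwa]; exact hza
      · exact h w ⟨lw.1, hwa, cwa.symm⟩
    have hzw : z * w * z⁻¹ = w := by rw [czw.eq, mul_inv_cancel_right]
    rw [← IsPt.commute_iff hF hx hy, ← IsPt.commute_iff hF hx hy']
    constructor
    · intro hc
      refine B.img_commute lw le' ?_
      have := (Commute.conj_iff z).2 (B.commute_of_img S hb.1 lw he hc)
      rwa [hzw] at this
    · intro hc
      refine B.img_commute lw he ((Commute.conj_iff z).1 ?_)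
      rw [hzw]
      exact B.commute_of_img S hb.1 lw le' hc
  obtain ⟨c, hc0, hc | hc⟩ := U6.chord_cases hF hu.1 hy.1 hy'.1 hyu hy'u hspan
  · left
    exact (B.img_inj S hb.1 he le' (IsPt.eq_of_smul hF hy hy' hc)).symm
  · right
    obtain ⟨-, t, ht, htx⟩ := hu
    have h1 := hy.conj hF t
    rw [ht, htx] at h1
    have lae : a * e * a⁻¹ ∈ link D b := link_conj_fix S hb.2.2 he
    have himg : B.img lae = B.img la * B.img he * (B.img la)⁻¹ :=
      B.img_conj S he ⟨a, Subgroup.subset_closure la⟩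
    rw [← himg] at h1
    rw [← B.img_inj S hb.1 lae le' (IsPt.eq_of_smul hF h1 hy' hc), S.tt.inv_eq ha]

/-- An element fixing a member and centralising its link is trivial or equal to that member. -/
theorem eq_one_or_eq {a z : G} (ha : a ∈ D) (hza : Commute z a) (h : ∀ x ∈ link D a, Commute z x) :
    z = 1 ∨ z = a := by
  obtain ⟨A⟩ := hM a ha
  obtain ⟨b, hb⟩ := A.link_nonempty hF
  obtain ⟨B⟩ := hM b hb.1
  have la : a ∈ link D b := link_swap ha hb
  obtain ⟨u, hu⟩ := B.exists_pt_of_link S hF hb.1 la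
  obtain ⟨y₀, hy₀, hy₀u⟩ := U6.exists_iso_off hF hu.1.1
  obtain ⟨x₀, hx₀⟩ := U6.exists_pt hF hy₀
  obtain ⟨e₀, le₀, rfl⟩ := B.exists_link_of_pt S hF hb.1 hx₀
  have hae₀ : ¬ Commute a e₀ := fun hc => hy₀u ((U6.comm_zero hF).1
    ((IsPt.commute_iff hF hu hx₀).1 (B.img_commute la le₀ hc)))
  -- adjust by `a`
  suffices key : ∀ w : G, Commute w a → (∀ x ∈ link D a, Commute w x) → w * e₀ * w⁻¹ = e₀ → w = 1 by
    rcases kernel_cases S hF hM ha hb hza h le₀ hae₀ with h0 | h0
    · exact Or.inl (key z hza h h0)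
    · right
      have := key (a * z) ((Commute.refl a).mul_left hza) (fun x hx => hx.2.2.mul_left (h x hx)) (by
        rw [show a * z * e₀ * (a * z)⁻¹ = a * (z * e₀ * z⁻¹) * a⁻¹ by group, h0, S.tt.inv_eq ha]
        simp only [mul_assoc, cancel₂ (S.sqd ha), S.sqd ha, mul_one])
      rw [← cancel₂ (S.sqd ha) z, this, mul_one]
  intro w hwa hw he₀
  have fix : ∀ {x : G}, Commute w x → w * x * w⁻¹ = x := fun hc => by rw [hc.eq, mul_inv_cancel_right]
  have step : ∀ p q : G, p ∈ link D b → q ∈ link D b → ¬ Commute a p → ¬ Commute a q → Commute p q →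
      w * p * w⁻¹ = p → w * q * w⁻¹ = q := by
    intro p q _ hq hap haq hpq hwp
    rcases kernel_cases S hF hM ha hb hwa hw hq haq with h' | h'
    · exact h'
    exfalso
    apply hap
    have h1 : Commute p (a * q * a) := by
      have := (Commute.conj_iff w).2 hpq
      rwa [hwp, h'] at this
    rw [S.tt.braid ha hq.1 haq] at h1
    have h2 := (hpq.mul_right h1).mul_right hpq
    rw [show q * (q * a * q) * q = a by simp only [mul_assoc, cancel₂ (S.sqd hq.1), S.sqd hq.1, mul_one]] at h2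
    exact h2.symm
  have hall : ∀ e ∈ link D b, w * e * w⁻¹ = e := by
    intro e he
    by_cases hae : Commute a e
    · by_cases hea : e = a
      · rw [hea]; exact fix hwa
      · exact fix (hw e ⟨he.1, hea, hae⟩)
    obtain ⟨y, hy⟩ := B.exists_pt_of_link S hF hb.1 he
    by_cases hsp : u ∈ Submodule.span F {y, y₀}
    · -- `e` is on the chord of `a` and `e₀`
      have hyu : Cfsg.hermForm 6 F 2 y u ≠ 0 := fun h0 => hae
        (B.commute_of_img S hb.1 he la ((IsPt.commute_iff hF hy hu).2 h0)).symm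
      have hmem : y ∈ Submodule.span F {u, y₀} := by
        obtain ⟨p, q, hpq⟩ := Submodule.mem_span_pair.1 hsp
        have hp : p ≠ 0 := by
          intro hp
          rw [hp, zero_smul, zero_add] at hpq
          refine hy₀u ?_
          rw [← hpq, U6.smul_right hF, hy₀.2, mul_zero]
        refine Submodule.mem_span_pair.2 ⟨p⁻¹, -(p⁻¹ * q), ?_⟩
        rw [← hpq, smul_add, inv_smul_smul₀ hp, smul_smul, neg_smul]
        abel
      obtain ⟨c, -, hc | hc⟩ := U6.chord_cases hF hu.1 hy₀ hy.1 hy₀u hyu hmem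
      · rw [← B.img_inj S hb.1 le₀ he (IsPt.eq_of_smul hF hx₀ hy hc)]; exact he₀
      · obtain ⟨-, t, ht, htx⟩ := hu
        have h1 := hx₀.conj hF t
        rw [ht, htx] at h1
        have lae : a * e₀ * a⁻¹ ∈ link D b := link_conj_fix S hb.2.2 le₀
        rw [← show B.img lae = B.img la * B.img le₀ * (B.img la)⁻¹ from
          B.img_conj S le₀ ⟨a, Subgroup.subset_closure la⟩] at h1
        rw [← B.img_inj S hb.1 lae he (IsPt.eq_of_smul hF h1 hy hc)]
        calc w * (a * e₀ * a⁻¹) * w⁻¹ = (w * a * w⁻¹) * (w * e₀ * w⁻¹) * (w * a * w⁻¹)⁻¹ := by group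
          _ = a * e₀ * a⁻¹ := by rw [fix hwa, he₀]
    · obtain ⟨s, hs, hsy, hsy₀, hsu⟩ := U6.exists_iso_perp_pair hF hu.1 hy.1 hy₀ hsp
      obtain ⟨x, hx⟩ := U6.exists_pt hF hs
      obtain ⟨g, lg, rfl⟩ := B.exists_link_of_pt S hF hb.1 hx
      have hag : ¬ Commute a g := fun hc => hsu ((IsPt.commute_iff hF hx hu).1 (B.img_commute lg la hc.symm))
      have cge := B.commute_of_img S hb.1 lg he ((IsPt.commute_iff hF hx hy).2 hsy)
      have cge₀ := B.commute_of_img S hb.1 lg le₀ ((IsPt.commute_iff hF hx hx₀).2 hsy₀)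
      exact step g e lg he hag hae cge (step e₀ g le₀ lg hae₀ hag cge₀.symm he₀)
  exact centralizes_eq_one S hF hM ha hb hw fun x hx => mul_inv_eq_iff_eq_mul.1 (hall x hx)

end CfsgLib.M22
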