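import Cfsg.Agent.Lib.ThreeTransp.M22PairFitting
import Cfsg.Agent.Lib.ThreeTransp.M22OuterInvol

/-!
# Groups of type `M(22)`: automorphisms fixing a product of two commuting members

An automorphism fixing `a * b` permutes the pair; those acting trivially on the joint centraliser modulo the
kernel on lines preserve every line and move the kernel only inside the group of `a * b`, as soon as their
squares are inner.
-/

set_option autoImplicit false

namespace CfsgLib.M22

open CfsgLib.ThreeTransp CfsgLib.SporMisc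
open CfsgLib.U6 (IsPt PtFrame)
open CfsgLib.PSUAut (Isot act)
open CfsgLib.UnitarySpec (psuMk)

variable {G : Type*} [Group G] {D : Set G}

/-- An automorphism fixing the product of the pair and trivial on the joint centraliser modulo the kernel on
lines. -/
def AutTriv (D : Set G) (S : Setup D) (a b : G) (q : MulAut G) : Prop :=
  q (a * b) = a * b ∧ ∀ k ∈ pairCent a b, q k * k⁻¹ ∈ lineKer D S a b

variable [Finite G] {F : Type} [Field F] [Fintype F] {a b : G}
variable (S : Setup D) (hF : Fintype.card F = 2 ^ 2) (hM : ∀ a ∈ D, Nonempty (Model D a F))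
  (ha : a ∈ D) (hb : b ∈ link D a)
include S hF hM

theorem conj_aut_injective : Function.Injective (MulAut.conj : G →* MulAut G) := by
  have _ := hF; have _ := hM
  rw [← MonoidHom.ker_eq_bot_iff, eq_bot_iff]
  intro z hz
  rw [Subgroup.mem_bot]
  refine S.center_trivial fun x _ => ?_
  have h := DFunLike.congr_fun (show MulAut.conj z = 1 from hz) x
  rw [MulAut.conj_apply, MulAut.one_apply, mul_inv_eq_iff_eq_mul] at h
  exact h

omit S hF hM [Finite G] in
theorem aut_conj (q : MulAut G) (x : G) : q * MulAut.conj x * q⁻¹ = MulAut.conj (q x) :=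
  MulEquiv.ext fun t => by simp [MulAut.conj_apply]

theorem aut_mem_link {x e : G} (α : MulAut G) (he : e ∈ link D x) : α e ∈ link D (α x) :=
  ⟨map_mem S hF hM α he.1, fun h => he.2.1 (α.injective h), he.2.2.map α⟩

include ha hb

theorem aut_pair {α : MulAut G} (hα : α (a * b) = a * b) : (α a = a ∧ α b = b) ∨ (α a = b ∧ α b = a) := by
  rw [map_mul] at hα
  rcases pair_unique S hF hM (map_mem S hF hM α ha) (map_mem S hF hM α hb.1) ha hb.1
    (fun h => hb.2.1 (α.injective h).symm) hb.2.1.symm (hb.2.2.map α) hb.2.2 hα with h | h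
  exacts [Or.inl h, Or.inr h]

theorem aut_symm_fix {α : MulAut G} (hα : α (a * b) = a * b) : α⁻¹ (a * b) = a * b := by
  have _ := hF; have _ := hM; have _ := ha; have _ := hb; have _ := S
  conv_lhs => rw [← hα]
  exact α.symm_apply_apply _

theorem aut_common {α : MulAut G} (hα : α (a * b) = a * b) {e : G} (he : e ∈ link D a ∩ link D b) :
    α e ∈ link D a ∩ link D b := by
  have e1 := aut_mem_link S hF hM α he.1
  have e2 := aut_mem_link S hF hM α he.2
  rcases aut_pair S hF hM ha hb hα with ⟨h1, h2⟩ | ⟨h1, h2⟩ <;> rw [h1] at e1 <;> rw [h2] at e2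
  exacts [⟨e1, e2⟩, ⟨e2, e1⟩]

theorem aut_pairCent {α : MulAut G} (hα : α (a * b) = a * b) {k : G} (hk : k ∈ pairCent a b) :
    α k ∈ pairCent a b := by
  obtain ⟨k1, k2⟩ := mem_pairCent.1 hk
  have c1 := k1.map α
  have c2 := k2.map α
  rcases aut_pair S hF hM ha hb hα with ⟨h1, h2⟩ | ⟨h1, h2⟩ <;> rw [h1] at c1 <;> rw [h2] at c2
  exacts [mem_pairCent.2 ⟨c1, c2⟩, mem_pairCent.2 ⟨c2, c1⟩]

theorem aut_sameLine {α : MulAut G} (hα : α (a * b) = a * b) {e f : G} (h : SameLine D a b e f) :
    SameLine D a b (α e) (α f) := by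
  refine ⟨aut_common S hF hM ha hb hα h.1, fun x hx => ?_⟩
  have hx' := aut_common S hF hM ha hb (aut_symm_fix S hF hM ha hb hα) hx
  have hxe : α (α⁻¹ x) = x := α.apply_symm_apply x
  rw [← hxe, commute_map_iff α.injective, commute_map_iff α.injective]
  exact h.2 _ hx'

theorem aut_lineKer {α : MulAut G} (hα : α (a * b) = a * b) {k : G} (hk : k ∈ lineKer D S a b) :
    α k ∈ lineKer D S a b := by
  refine ⟨aut_pairCent S hF hM ha hb hα hk.1, fun e he => ?_⟩
  have he' := aut_common S hF hM ha hb (aut_symm_fix S hF hM ha hb hα) he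
  have h := aut_sameLine S hF hM ha hb hα (hk.2 _ he')
  rwa [map_mul, map_mul, map_inv, show α (α⁻¹ e) = e from α.apply_symm_apply e] at h

theorem autTriv_mul {q q' : MulAut G} (hq : AutTriv D S a b q) (hq' : AutTriv D S a b q') :
    AutTriv D S a b (q * q') := by
  refine ⟨by rw [MulAut.mul_apply, hq'.1, hq.1], fun k hk => ?_⟩
  rw [MulAut.mul_apply, show q (q' k) * k⁻¹ = q (q' k * k⁻¹) * (q k * k⁻¹) by
    rw [map_mul, map_inv]; group]
  exact mul_mem (aut_lineKer S hF hM ha hb hq.1 (hq'.2 k hk)) (hq.2 k hk)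

theorem autTriv_conj_iff {y : G} : AutTriv D S a b (MulAut.conj y) ↔ y ∈ lineKer D S a b := by
  constructor
  · rintro ⟨h1, h2⟩
    rw [MulAut.conj_apply, mul_inv_eq_iff_eq_mul] at h1
    exact mem_lineKer_of_trivial S hF hM ha hb h1 fun k hk => by simpa [MulAut.conj_apply] using h2 k hk
  · intro hy
    obtain ⟨y1, y2⟩ := mem_pairCent.1 (lineKer_le hy)
    refine ⟨by rw [MulAut.conj_apply, (y1.mul_right y2).eq, mul_inv_cancel_right], fun k hk => ?_⟩
    rw [MulAut.conj_apply, show y * k * y⁻¹ * k⁻¹ = y * (k * y⁻¹ * k⁻¹) by group]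
    obtain ⟨k1, k2⟩ := mem_pairCent.1 hk
    exact mul_mem hy (lineKer_conj S hF hM ha hb (k1.mul_right k2) (inv_mem hy))

omit F hF hM ha hb [Field F] [Fintype F] in
theorem pair_closure_cases (hab : Commute a b) (haa : a * a = 1) (hbb : b * b = 1) {y : G}
    (hy : y ∈ Subgroup.closure ({a, b} : Set G)) : y = 1 ∨ y = a ∨ y = b ∨ y = a * b := by
  have _ := S
  induction hy using Subgroup.closure_induction with
  | mem y hy => rcases hy with rfl | rfl <;> simp
  | one => exact Or.inl rfl
  | mul y z _ _ hy hz =>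
    rcases hy with rfl | rfl | rfl | rfl <;> rcases hz with rfl | rfl | rfl | rfl <;>
      simp [haa, hbb, hab.eq, cancel₂ haa, cancel₂ hbb, mul_assoc]
    all_goals
      first
      | (rw [← hab.eq]; simp [cancel₂ haa, hbb])
      | (rw [← mul_assoc, ← hab.eq, mul_assoc, hbb]; simp)
  | inv y _ hy =>
    rcases hy with rfl | rfl | rfl | rfl
    · simp
    · simp [inv_eq_of_mul_eq_one_right haa]
    · simp [inv_eq_of_mul_eq_one_right hbb]
    · refine Or.inr (Or.inr (Or.inr (inv_eq_of_mul_eq_one_right ?_)))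
      rw [hab.symm.mul_mul_mul_comm, haa, hbb, one_mul]

theorem aut_pair_closure {α : MulAut G} (hα : α (a * b) = a * b) {v : G}
    (hv : v ∈ Subgroup.closure ({a, b} : Set G)) : α v ∈ Subgroup.closure ({a, b} : Set G) := by
  have haV : a ∈ Subgroup.closure ({a, b} : Set G) := Subgroup.subset_closure (Set.mem_insert _ _)
  have hbV : b ∈ Subgroup.closure ({a, b} : Set G) :=
    Subgroup.subset_closure (Set.mem_insert_of_mem _ rfl)
  rcases pair_closure_cases S hb.2.2 (S.sqd ha) (S.sqd hb.1) hv with rfl | rfl | rfl | rfl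
  · rw [map_one]; exact one_mem _
  · rcases aut_pair S hF hM ha hb hα with ⟨h1, -⟩ | ⟨h1, -⟩ <;> rw [h1] <;> assumption
  · rcases aut_pair S hF hM ha hb hα with ⟨-, h1⟩ | ⟨-, h1⟩ <;> rw [h1] <;> assumption
  · rw [hα]; exact mul_mem haV hbV

variable {u : Fin 6 → F} (A : Model D a F) (hu : IsPt (A.img hb) u) (P : PtFrame u)
include hu

theorem tvec_of_pair {v : G} (hv : v ∈ Subgroup.closure ({a, b} : Set G)) : A.TVec P v 0 := by
  have ta := tvec_left S hF hM ha hb A hu P
  have tb := tvec_right S hF hM ha hb A hu P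
  rcases pair_closure_cases S hb.2.2 (S.sqd ha) (S.sqd hb.1) hv with rfl | rfl | rfl | rfl
  · have := ta.mul hF ta
    rwa [S.sqd ha, add_zero] at this
  · exact ta
  · exact tb
  · have := ta.mul hF tb
    rwa [add_zero] at this

theorem tvec_inv {x : G} {z : Fin 4 → F} (hx : x ∈ lineKer D S a b) (h : A.TVec P x z) : A.TVec P x⁻¹ z := by
  have hm := mul_mem (self_mem_lineKer S hF hM ha hb).1 (self_mem_lineKer S hF hM ha hb).2
  have hle : Subgroup.zpowers (a * b) ≤ Subgroup.closure ({a, b} : Set G) :=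
    Subgroup.zpowers_le.2 (mul_mem (Subgroup.subset_closure (Set.mem_insert _ _))
      (Subgroup.subset_closure (Set.mem_insert_of_mem _ rfl)))
  have := h.mul hF (tvec_of_pair S hF hM ha hb A hu P
    (inv_mem (hle (lineKer_special S hF hM ha hb hx hx).2)))
  rw [add_zero] at this
  rwa [show x * (x * x)⁻¹ = x⁻¹ by group] at this

theorem pair_of_tvec_eq {x x' : G} {z : Fin 4 → F} (hx : x ∈ lineKer D S a b) (h : A.TVec P x z)
    (h' : A.TVec P x' z) : x⁻¹ * x' ∈ Subgroup.closure ({a, b} : Set G) := by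
  have := (tvec_inv S hF hM ha hb A hu P hx h).mul hF h'
  rw [show z + z = 0 from funext fun i => U6.add_self hF (z i)] at this
  exact tvec_zero S hF hM ha hb A hu P this

theorem exists_tvec_mem (z : Fin 4 → F) : ∃ x ∈ lineKer D S a b, A.TVec P x z := by
  have hall : ∀ z : Fin 4 → F, z ∈ Submodule.span F {w : Fin 4 → F | Isot 2 w} →
      ∀ c : F, ∃ x ∈ lineKer D S a b, A.TVec P x (c • z) := by
    intro z hz
    induction hz using Submodule.span_induction with
    | mem w hw =>
      intro c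
      obtain ⟨e, he, hl⟩ := exists_member S hF ha hb A hu P hw.1 hw.2 0
      obtain ⟨f, -, hl'⟩ := exists_member S hF ha hb A hu P hw.1 hw.2 (c ^ 2)
      refine ⟨e * f, mul_mem_lineKer S hF hM ha hb he
        ((sameLine_iff S hF ha hb A hu P hl hl' hw.1 hw.1).2 ⟨1, (one_smul _ _).symm⟩), ?_⟩
      have := tvec_pair S hF hM ha hb A hu P hl hl'
      rwa [zero_add, ← pow_mul, U6.pow_four hF] at this
    | zero =>
      intro c
      exact ⟨a, (self_mem_lineKer S hF hM ha hb).1, by
        rw [smul_zero]; exact tvec_left S hF hM ha hb A hu P⟩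
    | add x y _ _ hx hy =>
      intro c
      obtain ⟨s, hs, hs'⟩ := hx c
      obtain ⟨t, ht, ht'⟩ := hy c
      exact ⟨s * t, mul_mem hs ht, by rw [smul_add]; exact hs'.mul hF ht'⟩
    | smul r x _ hx =>
      intro c
      obtain ⟨s, hs, hs'⟩ := hx (c * r)
      exact ⟨s, hs, by rw [smul_smul]; exact hs'⟩
  obtain ⟨x, hx, hxz⟩ := hall z (by rw [span_iso_four hF]; trivial) 1
  exact ⟨x, hx, by rwa [one_smul] at hxz⟩

theorem tvec_rel_conj {k x : G} {B : Cfsg.SU 4 F 2} {z : Fin 4 → F} (hk : A.Rel P k B) (hx : A.TVec P x z) :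
    A.TVec P (k * x * k⁻¹) (act B z) := by
  have _ := hM; have _ := S; have _ := hu
  obtain ⟨σ, hσ⟩ := U6.exists_sigma hF
  obtain ⟨g, hg, hfix⟩ := hk
  obtain ⟨t, ht, htu, htz⟩ := hx
  have hgi := hfix.inv
  refine ⟨g * t * g⁻¹, (hg.mul ht).mul hg.inv, ?_, fun r => ?_⟩
  · rw [CfsgLib.PSUAut.act_mul, CfsgLib.PSUAut.act_mul, hgi.1, htu, hfix.1]
  · obtain ⟨ν, hν⟩ := hgi.2 r
    have hgg : act g (act g⁻¹ (P.j r)) = P.j r := by
      rw [← CfsgLib.PSUAut.act_mul, mul_inv_cancel, CfsgLib.PSUAut.act_one]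
    have hBB : act B (act B⁻¹ r) = r := by
      rw [← CfsgLib.PSUAut.act_mul, mul_inv_cancel, CfsgLib.PSUAut.act_one]
    have h1 : act t (act g⁻¹ (P.j r)) = act g⁻¹ (P.j r) + Cfsg.hermForm 4 F 2 (act B⁻¹ r) z • u := by
      rw [hν, CfsgLib.PSUAut.act_add, CfsgLib.PSUAut.act_smul, htu, htz]
      abel
    rw [CfsgLib.PSUAut.act_mul, CfsgLib.PSUAut.act_mul, h1, CfsgLib.PSUAut.act_add, hgg,
      CfsgLib.PSUAut.act_smul, hfix.1, ← CfsgLib.PSUAut.act_form B (act B⁻¹ r) z, hBB]

variable {q : MulAut G} (hq : AutTriv D S a b q)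
include hq P

/-- A trivial automorphism preserves every line. -/
theorem autTriv_line {e : G} (he : e ∈ link D a ∩ link D b) : SameLine D a b e (q e) := by
  obtain ⟨σ, hσ⟩ := U6.exists_sigma hF
  have he' := aut_common S hF hM ha hb hq.1 he
  obtain ⟨w, μ, hw, hl⟩ := exists_lab S hF ha hb A hu P he
  obtain ⟨w', μ', hw', hl'⟩ := exists_lab S hF ha hb A hu P he'
  obtain ⟨B, hB, hBr⟩ := rel_member S hF ha hb A hu P hl hw
  obtain ⟨B', hB', hBr'⟩ := rel_member S hF ha hb A hu P hl' hw'
  have hm := hq.2 e (mem_pairCent_of_link he)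
  rw [S.tt.inv_eq he.1.1] at hm
  have e1 : B' * B = 1 := rel_unique S hF ha hb A hu P (rel_mul A P hBr' hBr)
    ((mem_lineKer_iff S hF hM ha hb A hu P).1 hm).2
  have e2 : B * B = 1 := rel_unique S hF ha hb A hu P (rel_mul A P hBr hBr) (by
    rw [S.sqd he.1.1]; exact ⟨1, A.lifts_one, P.fixed_one hF⟩)
  have e3 : B' = B := mul_right_cancel (e1.trans e2.symm)
  obtain ⟨r, hr⟩ := CfsgLib.PSUAut.exists_partner hF hσ hw'
  have e4 := hB' r
  rw [e3, hB, hr, one_smul, add_right_inj] at e4
  exact (sameLine_iff S hF ha hb A hu P hl hl' hw hw').2 ⟨_, e4.symm⟩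

/-- A trivial automorphism whose square is inner is trivial on the kernel on lines modulo the pair. -/
theorem autTriv_tvec {y : G} (hsq : q * q = MulAut.conj y) {x : G} {z : Fin 4 → F}
    (hx : x ∈ lineKer D S a b) (h : A.TVec P x z) : A.TVec P (q x) z := by
  classical
  obtain ⟨σ, hσ⟩ := U6.exists_sigma hF
  have := U6.charTwo hF
  have hE := fun {x : G} (hx : x ∈ lineKer D S a b) => aut_lineKer S hF hM ha hb hq.1 hx
  choose sec hsecE hsec using exists_tvec_mem S hF hM ha hb A hu P
  choose Φ hΦ0 using fun z => exists_tvec S hF hM ha hb A hu P (hE (hsecE z))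
  have huniq := fun {k : G} {z z' : Fin 4 → F} (h : A.TVec P k z) (h' : A.TVec P k z') =>
    tvec_unique S hF hM ha hb A hu P h h'
  have hΦ : ∀ {x z}, x ∈ lineKer D S a b → A.TVec P x z → A.TVec P (q x) (Φ z) := by
    intro x z hx h
    have hv := pair_of_tvec_eq S hF hM ha hb A hu P (hsecE z) (hsec z) h
    have := (hΦ0 z).mul hF (tvec_of_pair S hF hM ha hb A hu P (aut_pair_closure S hF hM ha hb hq.1 hv))
    rw [add_zero, ← map_mul, mul_inv_cancel_left] at this
    exact this
  have hadd : ∀ z z', Φ (z + z') = Φ z + Φ z' := by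
    intro z z'
    have h1 := hΦ (mul_mem (hsecE z) (hsecE z')) ((hsec z).mul hF (hsec z'))
    rw [map_mul] at h1
    exact huniq h1 ((hΦ0 z).mul hF (hΦ0 z'))
  have hΦz : Φ 0 = 0 := by
    have := hadd 0 0
    rw [add_zero] at this
    exact left_eq_add.1 this
  obtain ⟨ρ, hρ, hrel⟩ := exists_pair_rho S hF hM ha hb A hu P
  have hequi : ∀ (B : Cfsg.SU 4 F 2) z, Φ (act B z) = act B (Φ z) := by
    intro B z
    obtain ⟨⟨k, hk⟩, rfl⟩ := hρ B
    have hkc : Commute k (a * b) := (mem_pairCent.1 hk).1.mul_right (mem_pairCent.1 hk).2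
    have h1 := hΦ (lineKer_conj S hF hM ha hb hkc (hsecE z))
      (tvec_rel_conj S hF hM ha hb A hu P (hrel ⟨k, hk⟩) (hsec z))
    have hd := hq.2 k hk
    obtain ⟨zd, hzd⟩ := exists_tvec S hF hM ha hb A hu P hd
    have h2 := ((hzd.mul hF (tvec_rel_conj S hF hM ha hb A hu P (hrel ⟨k, hk⟩) (hΦ0 z)))).mul hF
      (tvec_inv S hF hM ha hb A hu P hd hzd)
    rw [show q k * k⁻¹ * (k * q (sec z) * k⁻¹) * (q k * k⁻¹)⁻¹ = q (k * sec z * k⁻¹) by
      rw [map_mul, map_mul, map_inv]; group] at h2
    rw [huniq h1 h2, add_right_comm, show zd + zd = 0 from funext fun i => U6.add_self hF (zd i), zero_add]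
  have hiso : ∀ w, Isot 2 w → ∀ c : F, ∃ s : F, Φ (c • w) = s • w := by
    intro w hw c
    obtain ⟨e, he, hl⟩ := exists_member S hF ha hb A hu P hw.1 hw.2 0
    obtain ⟨f, hf, hl'⟩ := exists_member S hF ha hb A hu P hw.1 hw.2 (c ^ 2)
    have hsl := (sameLine_iff S hF ha hb A hu P hl hl' hw.1 hw.1).2 ⟨1, (one_smul _ _).symm⟩
    have ht := tvec_pair S hF hM ha hb A hu P hl hl'
    rw [zero_add, ← pow_mul, U6.pow_four hF] at ht
    obtain ⟨ν, hν⟩ := sameLine_lab S hF ha hb A hu P hl hw.1 (autTriv_line S hF hM ha hb A hu P hq he)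
    obtain ⟨ν', hν'⟩ := sameLine_lab S hF ha hb A hu P hl' hw.1 (autTriv_line S hF hM ha hb A hu P hq hf)
    have h1 := hΦ (mul_mem_lineKer S hF hM ha hb he hsl) ht
    rw [map_mul] at h1
    exact ⟨_, huniq h1 (tvec_pair S hF hM ha hb A hu P hν hν')⟩
  have hscal : ∀ w, Isot 2 w → ∃ c : F, ∀ s : F, Φ (s • w) = c • (s • w) := by
    intro w hw
    obtain ⟨c, hc⟩ := hiso w hw 1
    rw [one_smul] at hc
    refine ⟨c, fun s => ?_⟩
    obtain ⟨B, l, hl0, hl1, hBw⟩ := exists_four_scale S hF hM ha hb (w := w) hw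
    have h1 : Φ (l • w) = c • (l • w) := by
      rw [← hBw, hequi, hc, CfsgLib.PSUAut.act_smul]
    have h2 : s = 0 ∨ s = 1 ∨ s = l ∨ s = 1 + l := by
      obtain ⟨ω, -, -, hω, hall⟩ := U6.exists_omega hF
      have hω2 : ω ^ 2 = 1 + ω := by linear_combination hω - (1 + ω) * CharTwo.two_eq_zero (R := F)
      rcases hall l with h | h | h | h
      · exact absurd h hl0
      · exact absurd h hl1
      · rw [h, ← hω2]; exact hall s
      · rw [h, show 1 + ω ^ 2 = ω by linear_combination hω - ω * CharTwo.two_eq_zero (R := F)]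
        rcases hall s with h' | h' | h' | h'
        exacts [Or.inl h', Or.inr (Or.inl h'), Or.inr (Or.inr (Or.inr h')), Or.inr (Or.inr (Or.inl h'))]
    rcases h2 with rfl | rfl | rfl | rfl
    · rw [zero_smul, smul_zero, hΦz]
    · rw [one_smul, hc]
    · exact h1
    · rw [add_smul, one_smul, hadd, hc, h1, smul_add]
  choose c hc using hscal
  have hlink : ∀ v w, (hv : Isot 2 v) → (hw : Isot 2 w) → Cfsg.hermForm 4 F 2 v w ≠ 0 →
      c v hv = c w hw := by
    intro v w hv hw hvw
    obtain ⟨e, he, hl⟩ := exists_member S hF ha hb A hu P hw.1 hw.2 0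
    obtain ⟨B, hB, -⟩ := rel_member S hF ha hb A hu P hl hw.1
    have hv1 := hc v hv 1
    rw [one_smul] at hv1
    have h1 := hequi B v
    rw [hB, hadd, hv1, hc w hw, hB, CfsgLib.PSUAut.hsmul_left hF hσ, add_right_inj, smul_smul] at h1
    have := smul_left_injective F hw.1 h1
    exact (mul_right_cancel₀ hvw this).symm
  have hconst : ∀ v w, (hv : Isot 2 v) → (hw : Isot 2 w) → c v hv = c w hw := by
    intro v w hv hw
    by_cases hvw : Cfsg.hermForm 4 F 2 v w = 0
    swap
    · exact hlink v w hv hw hvw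
    obtain ⟨t, ht, htv⟩ := exists_iso_nonperp hF hv.1
    obtain ⟨t', ht', htw⟩ := exists_iso_nonperp hF hw.1
    have mk : ∀ {p r : Fin 4 → F}, Cfsg.hermForm 4 F 2 p p = 0 → Cfsg.hermForm 4 F 2 p r ≠ 0 → Isot 2 p :=
      fun hp hpr => ⟨fun h => hpr (by rw [h, CfsgLib.PSUAut.hzero_left hF hσ]), hp⟩
    by_cases h1 : Cfsg.hermForm 4 F 2 t w = 0
    swap
    · rw [← hlink t v (mk ht htv) hv htv, hlink t w (mk ht htv) hw h1]
    by_cases h2 : Cfsg.hermForm 4 F 2 t' v = 0
    swap
    · rw [← hlink t' v (mk ht' htw) hv h2, hlink t' w (mk ht' htw) hw htw]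
    by_cases h3 : Cfsg.hermForm 4 F 2 t t' = 0
    swap
    · rw [← hlink t v (mk ht htv) hv htv, hlink t t' (mk ht htv) (mk ht' htw) h3, hlink t' w (mk ht' htw) hw htw]
    have hs : Cfsg.hermForm 4 F 2 (t + t') (t + t') = 0 := by
      rw [CfsgLib.PSUAut.hadd_left hF hσ, CfsgLib.PSUAut.hadd_right hF hσ, CfsgLib.PSUAut.hadd_right hF hσ,
        ht, ht', h3, (CfsgLib.PSUAut.hcomm hF hσ t t').1 h3]
      simp
    have hsv : Cfsg.hermForm 4 F 2 (t + t') v ≠ 0 := by
      rwa [CfsgLib.PSUAut.hadd_left hF hσ, h2, add_zero]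
    have hsw : Cfsg.hermForm 4 F 2 (t + t') w ≠ 0 := by
      rwa [CfsgLib.PSUAut.hadd_left hF hσ, h1, zero_add]
    rw [← hlink (t + t') v (mk hs hsv) hv hsv, hlink (t + t') w (mk hs hsv) hw hsw]
  obtain ⟨w₀, hw₀, hw₀z⟩ := exists_iso_nonperp hF (z := (Pi.single 0 1 : Fin 4 → F))
    (by simp)
  have hw₀I : Isot 2 w₀ := ⟨fun h => hw₀z (by rw [h, CfsgLib.PSUAut.hzero_left hF hσ]), hw₀⟩
  set C := c w₀ hw₀I with hC
  have hall : ∀ z, ∀ s : F, Φ (s • z) = C • (s • z) := by
    intro z
    have hz : z ∈ Submodule.span F {w : Fin 4 → F | Isot 2 w} := by rw [span_iso_four hF]; trivial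
    induction hz using Submodule.span_induction with
    | mem w hw => intro s; rw [hC, hconst w₀ w hw₀I hw]; exact hc w hw s
    | zero => intro s; rw [smul_zero, smul_zero, hΦz]
    | add x y _ _ hx hy => intro s; rw [smul_add, hadd, hx, hy, smul_add]
    | smul r x _ hx => intro s; rw [smul_smul]; exact hx (s * r)
  have hC1 : C = 1 := by
    have hy : y ∈ lineKer D S a b :=
      (autTriv_conj_iff S hF hM ha hb).1 (hsq ▸ autTriv_mul S hF hM ha hb hq hq)
    have hm := hsecE w₀
    have h1 := hΦ (hE hm) (hΦ0 w₀)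
    rw [← MulAut.mul_apply, hsq, MulAut.conj_apply] at h1
    obtain ⟨zy, hzy⟩ := exists_tvec S hF hM ha hb A hu P hy
    have h2 := (hzy.mul hF (hsec w₀)).mul hF (tvec_inv S hF hM ha hb A hu P hy hzy)
    have h3 := huniq h1 h2
    have e1 : Φ w₀ = C • w₀ := by simpa using hall w₀ 1
    rw [e1, hall, add_right_comm, show zy + zy = 0 from funext fun i => U6.add_self hF (zy i), zero_add,
      smul_smul] at h3
    have h4 : C * C = 1 := smul_left_injective F hw₀I.1 (h3.trans (one_smul F w₀).symm)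
    have : (C - 1) * (C - 1) = 0 := by linear_combination h4 + (1 - C) * CharTwo.two_eq_zero (R := F)
    exact sub_eq_zero.1 (mul_self_eq_zero.1 this)
  have := hΦ hx h
  have e2 := hall z 1
  rw [one_smul, hC1, one_smul] at e2
  rwa [e2] at this

omit A hu P in
/-- A trivial automorphism whose square is inner moves the kernel on lines only inside the group of the
product. -/
theorem autTriv_lineKer {y : G} (hsq : q * q = MulAut.conj y) {x : G} (hx : x ∈ lineKer D S a b) :
    q x * x⁻¹ = 1 ∨ q x * x⁻¹ = a * b := by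
  obtain ⟨A⟩ := hM a ha
  obtain ⟨u, hu⟩ := A.exists_pt_of_link S hF ha hb
  obtain ⟨P⟩ := U6.exists_frame hF hu.1
  set j := a * b with hj
  have hjj : j * j = 1 := by rw [hj, hb.2.2.symm.mul_mul_mul_comm, S.sqd ha, S.sqd hb.1, one_mul]
  have hcen : ∀ p ∈ lineKer D S a b, Commute j p := fun p hp =>
    ((mem_pairCent.1 (lineKer_le hp)).1.mul_right (mem_pairCent.1 (lineKer_le hp)).2).symm
  have hx' := hx
  rw [lineKer_eq S hF hM ha hb] at hx'
  clear hx
  induction hx' using Subgroup.closure_induction with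
  | mem x hx =>
    rcases hx with hx | ⟨e, he, f, hf, rfl⟩
    · have hai : a⁻¹ = a := S.tt.inv_eq ha
      have hbi : b⁻¹ = b := S.tt.inv_eq hb.1
      rcases hx with rfl | rfl <;> rcases aut_pair S hF hM ha hb hq.1 with ⟨h1, h2⟩ | ⟨h1, h2⟩
      · left; rw [h1, mul_inv_cancel]
      · right; rw [h1, hai, hj, hb.2.2.eq]
      · left; rw [h2, mul_inv_cancel]
      · right; rw [h2, hbi]
    · obtain ⟨w, μ, hw, hl⟩ := exists_lab S hF ha hb A hu P he
      have hsl : ∀ {g : G} {ν : F}, A.Lab P g w ν → SameLine D a b e g := fun h =>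
        (sameLine_iff S hF ha hb A hu P hl h hw hw).2 ⟨1, (one_smul _ _).symm⟩
      have hqe := autTriv_line S hF hM ha hb A hu P hq he
      have hqf := hf.trans (autTriv_line S hF hM ha hb A hu P hq hf.1)
      have hfi : (e * f)⁻¹ = f * e := by rw [mul_inv_rev, S.tt.inv_eq hf.1.1.1, S.tt.inv_eq he.1.1]
      have hxE := mul_mem_lineKer S hF hM ha hb he hf
      obtain ⟨z, hz⟩ := exists_tvec S hF hM ha hb A hu P hxE
      have hV : ∀ {p r : G}, SameLine D a b e p → SameLine D a b e r →
          p * r ∈ Subgroup.closure ({a, b} : Set G) → p = r := by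
        intro p r hp hr hpr
        obtain ⟨ν, hν⟩ := sameLine_lab S hF ha hb A hu P hl hw hp
        obtain ⟨ν', hν'⟩ := sameLine_lab S hF ha hb A hu P hl hw hr
        have h0 := tvec_unique S hF hM ha hb A hu P (tvec_pair S hF hM ha hb A hu P hν hν')
          (tvec_of_pair S hF hM ha hb A hu P hpr)
        have := U6.charTwo hF
        have h1 := CharTwo.add_eq_zero.1 (pow_eq_zero_iff two_ne_zero |>.1 ((smul_eq_zero.1 h0).resolve_right hw))
        exact lab_inj S hF ha A P hν (h1 ▸ hν')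
      have hee : SameLine D a b e e := ⟨he, fun _ _ => Iff.rfl⟩
      by_cases hef : e = f
      · subst hef
        left
        rw [show e * e = 1 from S.sqd he.1.1, map_one, one_mul, inv_one]
      have hmem : q e * q f * f * e ∈ Subgroup.closure ({a, b} : Set G) := by
        have h1 := autTriv_tvec S hF hM ha hb A hu P hq hsq hxE hz
        have := pair_of_tvec_eq S hF hM ha hb A hu P (inv_mem (aut_lineKer S hF hM ha hb hq.1 hxE))
          (tvec_inv S hF hM ha hb A hu P (aut_lineKer S hF hM ha hb hq.1 hxE) h1)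
          (tvec_inv S hF hM ha hb A hu P hxE hz)
        rw [inv_inv, hfi, map_mul] at this
        simpa only [mul_assoc] using this
      rw [hfi, map_mul, ← mul_assoc]
      have hqne : q e ≠ q f := fun h => hef (q.injective h)
      have cef := hee.commute he hf
      have hee' := S.sqd he.1.1
      have hff := S.sqd hf.1.1.1
      have hVab : ∀ {p : G}, p * p = 1 → ∀ r s : G, r * p * p * s = r * s := fun h r s => by
        rw [mul_assoc r, h, mul_one]
      by_cases h1 : q e = e
      · have h2 : q f = f := hV hqf hf (by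
          rw [h1] at hmem
          have : Commute e (q f * f) := (hee.commute he hqf).mul_right cef
          rwa [show e * q f * f * e = (e * (q f * f)) * e by group, this.eq, mul_assoc, hee', mul_one] at hmem)
        left
        rw [h1, h2, mul_assoc e, hff, mul_one, hee']
      by_cases h2 : q e = f
      · have h3 : q f = e := hV hqf hee (by
          rw [h2] at hmem
          have : Commute f (q f) := hf.commute he hqf
          rwa [this.eq, mul_assoc (q f) f f, hff, mul_one] at hmem)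
        left
        rw [h2, h3, mul_assoc f e f, cef.eq, ← mul_assoc, hff, one_mul, hee']
      by_cases h3 : q f = e
      · refine absurd (hV hqe hf ?_) h2
        rw [h3, mul_assoc (q e) e f, cef.eq, ← mul_assoc, mul_assoc (q e * f), hee', mul_one] at hmem
        exact hmem
      by_cases h4 : q f = f
      · refine absurd (hV hqe hee ?_) h1
        rwa [h4, mul_assoc (q e) f f, hff, mul_one] at hmem
      right
      refine line_four S hF hM ha hb he ?_ ?_
      · simp only [List.nodup_cons, List.mem_cons, List.not_mem_nil, or_false, not_or, List.nodup_nil,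
          not_false_eq_true, and_true]
        exact ⟨⟨hqne, h2, h1⟩, ⟨h4, h3⟩, fun h => hef h.symm⟩
      · intro p hp
        simp only [List.mem_cons, List.not_mem_nil, or_false] at hp
        rcases hp with rfl | rfl | rfl | rfl
        exacts [hqe, hqf, hf, hee]
  | one => left; rw [map_one, one_mul, inv_one]
  | mul x x' hx hx' i1 i2 =>
    rw [← lineKer_eq S hF hM ha hb] at hx hx'
    have key : q (x * x') * (x * x')⁻¹ = q x * x⁻¹ * (q x' * x'⁻¹) := by
      have hc : Commute (q x' * x'⁻¹) x⁻¹ := by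
        rcases i2 with h | h <;> rw [h]
        exacts [Commute.one_left _, hcen _ (inv_mem hx)]
      calc q (x * x') * (x * x')⁻¹ = q x * ((q x' * x'⁻¹) * x⁻¹) := by rw [map_mul]; group
        _ = q x * (x⁻¹ * (q x' * x'⁻¹)) := by rw [hc.eq]
        _ = _ := (mul_assoc _ _ _).symm
    rw [key]
    rcases i1 with h | h <;> rcases i2 with h' | h' <;> rw [h, h'] <;> simp [hjj]
  | inv x hx i1 =>
    rw [← lineKer_eq S hF hM ha hb] at hx
    have key : q x⁻¹ * x⁻¹⁻¹ = (q x * x⁻¹)⁻¹ := by
      have hc : Commute (q x * x⁻¹)⁻¹ x := by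
        rcases i1 with h | h <;> rw [h]
        exacts [by rw [inv_one]; exact Commute.one_left _, (hcen _ hx).inv_left]
      calc q x⁻¹ * x⁻¹⁻¹ = x⁻¹ * ((q x * x⁻¹)⁻¹ * x) := by rw [map_inv]; group
        _ = x⁻¹ * (x * (q x * x⁻¹)⁻¹) := by rw [hc.eq]
        _ = _ := by group
    rw [key]
    rcases i1 with h | h <;> rw [h]
    · simp
    · right; exact inv_eq_of_mul_eq_one_right hjj

end CfsgLib.M22
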