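import Cfsg.Agent.Lib.ThreeTransp.M22PairAut
import Cfsg.Agent.Lib.ThreeTransp.M22Kernel

/-!
# Groups of type `M(22)`: automorphisms fixing a pair and its common neighbours

Such an automorphism is inner; hence a trivial automorphism fixing a member of the pair is inner as soon as
its square is.
-/

set_option autoImplicit false

namespace CfsgLib.M22

open CfsgLib.ThreeTransp CfsgLib.SporMisc
open CfsgLib.U6 (IsPt PtFrame)
open CfsgLib.PSUAut (Isot act)

variable {G : Type*} [Group G] {D : Set G}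
variable [Finite G] {F : Type} [Field F] [Fintype F] {a b : G}
variable (S : Setup D) (hF : Fintype.card F = 2 ^ 2) (hM : ∀ a ∈ D, Nonempty (Model D a F))
  (ha : a ∈ D) (hb : b ∈ link D a)
include S hF hM ha hb

omit S in
/-- Two links of commuting members generate the group. -/
theorem closure_links_eq_top (S : Setup D) : Subgroup.closure (link D a ∪ link D b) = ⊤ := by
  obtain ⟨A⟩ := hM a ha
  obtain ⟨B⟩ := hM b hb.1
  have hab := link_swap ha hb
  set M := Subgroup.closure (link D a ∪ link D b) with hMdef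
  have hMa : Subgroup.closure (link D a) ≤ M := Subgroup.closure_mono Set.subset_union_left
  have hMb : Subgroup.closure (link D b) ≤ M := Subgroup.closure_mono Set.subset_union_right
  let K : Set G := {x | ∃ m ∈ M, m * a * m⁻¹ = x}
  obtain ⟨f, hfa, hfb⟩ := A.exists_third S hF ha hb
  have hKb : link D b ⊆ K := fun x hx => by
    obtain ⟨m, hm, rfl⟩ := B.link_conj_of_mem S hF hb.1 hab hx
    exact ⟨m, hMb hm, rfl⟩
  have hKa : link D a ⊆ K := fun x hx => by
    obtain ⟨m, hm, rfl⟩ := A.link_conj_of_mem S hF ha hfa hx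
    obtain ⟨m', hm', hm'f⟩ := hKb hfb
    exact ⟨m * m', mul_mem (hMa hm) hm', by rw [← hm'f]; group⟩
  have hKstep : ∀ x ∈ K, ∀ y ∈ D, Commute x y → y ∈ K := by
    rintro x ⟨m, hm, rfl⟩ y hy hc
    by_cases hxy : y = m * a * m⁻¹
    · exact ⟨m, hm, hxy.symm⟩
    have hl : m⁻¹ * y * m ∈ link D a := by
      have := link_conj S.tt m⁻¹ (show y ∈ link D (m * a * m⁻¹) from ⟨hy, hxy, hc⟩)
      simpa [mul_assoc] using this
    obtain ⟨n, hn, hne⟩ := hKa hl
    exact ⟨m * n, mul_mem hm hn, by rw [show m * n * a * (m * n)⁻¹ = m * (n * a * n⁻¹) * m⁻¹ by group, hne]; group⟩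
  rw [eq_top_iff, ← S.gen, Subgroup.closure_le]
  intro y hy
  have hy' : y ∈ comp D Commute a := by
    rw [S.comp_eq ⟨a, ha, b, hb⟩ ha hy]
    exact mem_comp_self _ _ _
  change Relation.ReflTransGen _ a y at hy'
  have hyK : y ∈ K := by
    clear hy
    induction hy' with
    | refl => exact ⟨1, one_mem _, by group⟩
    | tail _ h ih => exact hKstep _ ih _ h.2.1 h.2.2
  obtain ⟨m, hm, rfl⟩ := hyK
  exact mul_mem (mul_mem hm (Subgroup.subset_closure (Or.inr hab))) (inv_mem hm)

/-- An automorphism fixing the pair and its common neighbours takes a member of the link of `a` to it or to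
its conjugate under `b`. -/
theorem aut_cases {φ : MulAut G} (hφa : φ a = a) (hφb : φ b = b)
    (hfix : ∀ x ∈ link D a ∩ link D b, φ x = x) {e : G} (he : e ∈ link D a) (hbe : ¬ Commute b e) :
    φ e = e ∨ φ e = b * e * b := by
  obtain ⟨A⟩ := hM a ha
  have le' : φ e ∈ link D a := by
    have := aut_mem_link S hF hM φ he
    rwa [hφa] at this
  have hbe' : ¬ Commute b (φ e) := fun h => hbe ((commute_map_iff φ.injective).1 (by rwa [hφb]))
  obtain ⟨u, hu⟩ := A.exists_pt_of_link S hF ha hb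
  obtain ⟨y, hy⟩ := A.exists_pt_of_link S hF ha he
  obtain ⟨y', hy'⟩ := A.exists_pt_of_link S hF ha le'
  have hyu : Cfsg.hermForm 6 F 2 y u ≠ 0 := fun h0 => hbe
    ((A.comm_iff S hF ha he hb hy hu).2 h0).symm
  have hy'u : Cfsg.hermForm 6 F 2 y' u ≠ 0 := fun h0 => hbe'
    ((A.comm_iff S hF ha le' hb hy' hu).2 h0).symm
  have hspan : y' ∈ Submodule.span F {u, y} := by
    refine U6.mem_span_of_same_perp hF hu.1 hy.1 hy'.1 fun s hs hsu => ?_
    obtain ⟨x, hx⟩ := U6.exists_pt hF hs
    obtain ⟨w, lw, rfl⟩ := A.exists_link_of_pt S hF ha hx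
    have cwb := (A.comm_iff S hF ha lw hb hx hu).2 hsu
    have hfw : φ w = w := by
      by_cases hwb : w = b
      · rw [hwb]; exact hφb
      · exact hfix w ⟨lw, lw.1, hwb, cwb.symm⟩
    rw [← A.comm_iff S hF ha lw he hx hy, ← A.comm_iff S hF ha lw le' hx hy']
    conv_rhs => rw [← hfw]
    exact (commute_map_iff φ.injective).symm
  obtain ⟨c, hc0, hc | hc⟩ := U6.chord_cases hF hu.1 hy.1 hy'.1 hyu hy'u hspan
  · left
    exact (A.img_inj S ha he le' (IsPt.eq_of_smul hF hy hy' hc)).symm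
  · right
    obtain ⟨-, t, ht, htx⟩ := hu
    have h1 := hy.conj hF t
    rw [ht, htx] at h1
    have lbe : b * e * b⁻¹ ∈ link D a := link_conj_fix S hb.2.2.symm he
    have himg : A.img lbe = A.img hb * A.img he * (A.img hb)⁻¹ :=
      A.img_conj S he ⟨b, Subgroup.subset_closure hb⟩
    rw [← himg] at h1
    rw [← A.img_inj S ha lbe le' (IsPt.eq_of_smul hF h1 hy' hc), S.tt.inv_eq hb.1]

/-- Adjusted by conjugation with `b`, such an automorphism fixes the link of `a`. -/
theorem aut_fix_link {φ : MulAut G} (hφa : φ a = a) (hφb : φ b = b)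
    (hfix : ∀ x ∈ link D a ∩ link D b, φ x = x) :
    (∀ x ∈ link D a, φ x = x) ∨ (∀ x ∈ link D a, (MulAut.conj b * φ) x = x) := by
  obtain ⟨A⟩ := hM a ha
  obtain ⟨u, hu⟩ := A.exists_pt_of_link S hF ha hb
  obtain ⟨y₀, hy₀, hy₀u⟩ := U6.exists_iso_off hF hu.1.1
  obtain ⟨x₀, hx₀⟩ := U6.exists_pt hF hy₀
  obtain ⟨e₀, le₀, rfl⟩ := A.exists_link_of_pt S hF ha hx₀
  have hbe₀ : ¬ Commute b e₀ := fun hc => hy₀u ((U6.comm_zero hF).1
    ((A.comm_iff S hF ha hb le₀ hu hx₀).1 hc))
  suffices key : ∀ w : MulAut G, w a = a → w b = b → (∀ x ∈ link D a ∩ link D b, w x = x) → w e₀ = e₀ →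
      ∀ x ∈ link D a, w x = x by
    have hbb := S.sqd hb.1
    have hbi : b⁻¹ = b := S.tt.inv_eq hb.1
    have fixc : ∀ {x : G}, Commute b x → φ x = x → (MulAut.conj b * φ) x = x := fun hc hx => by
      rw [MulAut.mul_apply, hx, MulAut.conj_apply, hc.eq, mul_inv_cancel_right]
    rcases aut_cases S hF hM ha hb hφa hφb hfix le₀ hbe₀ with h0 | h0
    · exact Or.inl (key φ hφa hφb hfix h0)
    · refine Or.inr (key _ (fixc hb.2.2.symm hφa) (fixc (Commute.refl b) hφb)
        (fun x hx => fixc hx.2.2.2 (hfix x hx)) ?_)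
      rw [MulAut.mul_apply, h0, MulAut.conj_apply, hbi]
      simp only [mul_assoc, cancel₂ hbb, hbb, mul_one]
  intro w hwa hwb hw he₀
  have step : ∀ p q : G, p ∈ link D a → q ∈ link D a → ¬ Commute b p → ¬ Commute b q → Commute p q →
      w p = p → w q = q := by
    intro p q _ hq hbp hbq hpq hwp
    rcases aut_cases S hF hM ha hb hwa hwb hw hq hbq with h' | h'
    · exact h'
    exfalso
    apply hbp
    have h1 : Commute p (b * q * b) := by
      have := hpq.map w
      rwa [hwp, h'] at this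
    rw [S.tt.braid hb.1 hq.1 hbq] at h1
    have h2 := (hpq.mul_right h1).mul_right hpq
    rw [show q * (q * b * q) * q = b by simp only [mul_assoc, cancel₂ (S.sqd hq.1), S.sqd hq.1, mul_one]] at h2
    exact h2.symm
  intro e he
  by_cases hbe : Commute b e
  · by_cases heb : e = b
    · rw [heb]; exact hwb
    · exact hw e ⟨he, he.1, heb, hbe⟩
  obtain ⟨y, hy⟩ := A.exists_pt_of_link S hF ha he
  by_cases hsp : u ∈ Submodule.span F {y, y₀}
  · have hyu : Cfsg.hermForm 6 F 2 y u ≠ 0 := fun h0 => hbe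
      ((A.comm_iff S hF ha he hb hy hu).2 h0).symm
    have hmem : y ∈ Submodule.span F {u, y₀} := by
      obtain ⟨p, q, hpq⟩ := Submodule.mem_span_pair.1 hsp
      have hp : p ≠ 0 := by
        intro hp
        rw [hp, zero_smul, zero_add] at hpq
        refine hy₀u ?_
        rw [← hpq, U6.smul_right hF, hy₀.2, mul_zero]
      refine Submodule.mem_span_pair.2 ⟨p⁻¹, -(p⁻¹ * q), ?_⟩
      rw [← hpq, smul_add, inv_smul_smul₀ hp, smul_smul, neg_smul]
      abel
    obtain ⟨c, -, hc | hc⟩ := U6.chord_cases hF hu.1 hy₀ hy.1 hy₀u hyu hmem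
    · rw [← A.img_inj S ha le₀ he (IsPt.eq_of_smul hF hx₀ hy hc)]; exact he₀
    · obtain ⟨-, t, ht, htx⟩ := hu
      have h1 := hx₀.conj hF t
      rw [ht, htx] at h1
      have lbe : b * e₀ * b⁻¹ ∈ link D a := link_conj_fix S hb.2.2.symm le₀
      rw [← show A.img lbe = A.img hb * A.img le₀ * (A.img hb)⁻¹ from
        A.img_conj S le₀ ⟨b, Subgroup.subset_closure hb⟩] at h1
      rw [← A.img_inj S ha lbe he (IsPt.eq_of_smul hF h1 hy hc), map_mul, map_mul, map_inv, hwb, he₀]
  · obtain ⟨s, hs, hsy, hsy₀, hsu⟩ := U6.exists_iso_perp_pair hF hu.1 hy.1 hy₀ hsp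
    obtain ⟨x, hx⟩ := U6.exists_pt hF hs
    obtain ⟨g, lg, rfl⟩ := A.exists_link_of_pt S hF ha hx
    have hbg : ¬ Commute b g := fun hc => hsu ((A.comm_iff S hF ha lg hb hx hu).1 hc.symm)
    have cge := (A.comm_iff S hF ha lg he hx hy).2 hsy
    have cge₀ := (A.comm_iff S hF ha lg le₀ hx hx₀).2 hsy₀
    exact step g e lg he hbg hbe cge (step e₀ g le₀ lg hbe₀ hbg cge₀.symm he₀)

/-- An automorphism fixing the pair and its common neighbours is inner. -/
theorem aut_inner {φ : MulAut G} (hφa : φ a = a) (hφb : φ b = b)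
    (hfix : ∀ x ∈ link D a ∩ link D b, φ x = x) : ∃ g : G, φ = MulAut.conj g := by
  have la := link_swap ha hb
  have fixc : ∀ {p x : G} {ψ : MulAut G}, Commute p x → ψ x = x → (MulAut.conj p * ψ) x = x := fun hc hx => by
    rw [MulAut.mul_apply, hx, MulAut.conj_apply, hc.eq, mul_inv_cancel_right]
  have fin : ∀ ψ : MulAut G, (∀ x ∈ link D a, ψ x = x) → (∀ x ∈ link D b, ψ x = x) → ψ = 1 := by
    intro ψ h1 h2
    refine MulEquiv.ext fun x => ?_
    have hx : x ∈ Subgroup.closure (link D a ∪ link D b) := by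
      rw [closure_links_eq_top hF hM ha hb S]; trivial
    induction hx using Subgroup.closure_induction with
    | mem x hx => exact hx.elim (h1 x) (h2 x)
    | one => simp
    | mul x y _ _ e1 e2 => rw [map_mul, e1, e2]; rfl
    | inv x _ e => rw [map_inv, e]; rfl
  -- it suffices to treat automorphisms fixing the link of `a`
  suffices key : ∀ ψ : MulAut G, ψ a = a → ψ b = b → (∀ x ∈ link D a ∩ link D b, ψ x = x) →
      (∀ x ∈ link D a, ψ x = x) → ∃ g : G, ψ = MulAut.conj g by
    rcases aut_fix_link S hF hM ha hb hφa hφb hfix with h | h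
    · exact key φ hφa hφb hfix h
    · obtain ⟨g, hg⟩ := key _ (fixc hb.2.2.symm hφa) (fixc (Commute.refl b) hφb)
        (fun x hx => fixc hx.2.2.2 (hfix x hx)) h
      refine ⟨b⁻¹ * g, ?_⟩
      rw [map_mul, map_inv, ← hg, inv_mul_cancel_left]
  intro ψ hψa hψb hψ hψl
  rcases aut_fix_link S hF hM hb.1 la hψb hψa (fun x hx => hψ x ⟨hx.2, hx.1⟩) with h | h
  · exact ⟨1, by rw [map_one]; exact fin ψ hψl h⟩
  · refine ⟨a⁻¹, ?_⟩
    have := fin _ (fun x hx => fixc hx.2.2 (hψl x hx)) h
    rw [map_inv]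
    exact eq_inv_of_mul_eq_one_right this

/-- A trivial automorphism fixing `a`, with inner square, is inner. -/
theorem autTriv_inner {q : MulAut G} (hq : AutTriv D S a b q)
    (hq2 : ∀ y ∈ lineKer D S a b, ∃ g : G, (MulAut.conj y * q) * (MulAut.conj y * q) = MulAut.conj g)
    (hqa : q a = a) : ∃ g : G, q = MulAut.conj g := by
  classical
  have hqb : q b = b := by
    rcases aut_pair S hF hM ha hb hq.1 with ⟨-, h⟩ | ⟨h, -⟩
    · exact h
    · exact absurd (hqa.symm.trans h) hb.2.1.symm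
  obtain ⟨A⟩ := hM a ha
  obtain ⟨u, hu⟩ := A.exists_pt_of_link S hF ha hb
  obtain ⟨P⟩ := U6.exists_frame hF hu.1
  obtain ⟨σ, hσ⟩ := U6.exists_sigma hF
  have := U6.charTwo hF
  obtain ⟨s, hs, hspan, hli⟩ := exists_linearIndependent F {w : Fin 4 → F | Isot 2 w}
  let Bs : Module.Basis s F (Fin 4 → F) := Module.Basis.mk hli (by
    rw [Subtype.range_coe, hspan, span_iso_four hF])
  have hiso : ∀ i : s, Isot 2 (i : Fin 4 → F) := fun i => hs i.2
  choose e he hel using fun i : s => exists_member S hF ha hb A hu P (hiso i).1 (hiso i).2 0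
  choose μ hμ using fun i : s => sameLine_lab S hF ha hb A hu P (hel i) (hiso i).1
    (autTriv_line S hF hM ha hb A hu P hq (he i))
  obtain ⟨z, hz⟩ := U6.exists_rep hF (Bs.constr ℕ μ)
  obtain ⟨y, hy, hyz⟩ := exists_tvec_mem S hF hM ha hb A hu P z
  set q' := MulAut.conj y * q with hq'
  have hq'T : AutTriv D S a b q' := autTriv_mul S hF hM ha hb ((autTriv_conj_iff S hF hM ha hb).2 hy) hq
  obtain ⟨g, hg⟩ := hq2 y hy
  obtain ⟨ya, yb⟩ := mem_pairCent.1 (lineKer_le hy)
  have hq'a : q' a = a := by rw [hq', MulAut.mul_apply, hqa, MulAut.conj_apply, ya.eq, mul_inv_cancel_right]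
  have hq'b : q' b = b := by rw [hq', MulAut.mul_apply, hqb, MulAut.conj_apply, yb.eq, mul_inv_cancel_right]
  have hfe : ∀ i, q' (e i) = e i := by
    intro i
    have h1 := tvec_conj S hF hM ha hb A hu P hyz (hμ i)
    have h2 : Cfsg.hermForm 4 F 2 (i : Fin 4 → F) z = μ i := by
      have h3 := Bs.constr_basis ℕ μ i
      rw [Module.Basis.mk_apply] at h3
      rw [hz]
      exact h3
    rw [h2, U6.add_self hF] at h1
    exact lab_inj S hF ha A P h1 (hel i)
  have hfixV : ∀ v ∈ Subgroup.closure ({a, b} : Set G), q' v = v := by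
    intro v hv
    rcases pair_closure_cases S hb.2.2 (S.sqd ha) (S.sqd hb.1) hv with rfl | rfl | rfl | rfl
    exacts [map_one _, hq'a, hq'b, hq'T.1]
  have hsec : ∀ z ∈ Submodule.span F (s : Set (Fin 4 → F)), ∀ c : F,
      ∃ x ∈ lineKer D S a b, A.TVec P x (c • z) ∧ q' x = x := by
    intro z hz
    induction hz using Submodule.span_induction with
    | mem w hw =>
      intro c
      set i : s := ⟨w, hw⟩
      obtain ⟨f, hf, hl'⟩ := exists_member S hF ha hb A hu P (hiso i).1 (hiso i).2 (c ^ 2)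
      have hsl := (sameLine_iff S hF ha hb A hu P (hel i) hl' (hiso i).1 (hiso i).1).2 ⟨1, (one_smul _ _).symm⟩
      have hxE := mul_mem_lineKer S hF hM ha hb (he i) hsl
      have ht := tvec_pair S hF hM ha hb A hu P (hel i) hl'
      rw [zero_add, ← pow_mul, U6.pow_four hF] at ht
      refine ⟨e i * f, hxE, ht, ?_⟩
      obtain ⟨ν, hν⟩ := sameLine_lab S hF ha hb A hu P hl' (hiso i).1
        (autTriv_line S hF hM ha hb A hu P hq'T hf)
      have h1 := autTriv_tvec S hF hM ha hb A hu P hq'T hg hxE ht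
      rw [map_mul, hfe] at h1
      have h2 := tvec_unique S hF hM ha hb A hu P h1 (tvec_pair S hF hM ha hb A hu P (hel i) hν)
      rw [zero_add] at h2
      have h3 : ν = c ^ 2 := by
        rw [smul_left_injective F (hiso i).1 h2, ← pow_mul, U6.pow_four hF]
      rw [h3] at hν
      rw [map_mul, hfe, lab_inj S hF ha A P hν hl']
    | zero =>
      intro c
      exact ⟨a, (self_mem_lineKer S hF hM ha hb).1, by
        rw [smul_zero]; exact tvec_left S hF hM ha hb A hu P, hq'a⟩
    | add x y _ _ hx hy =>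
      intro c
      obtain ⟨p, hp, hp', hp''⟩ := hx c
      obtain ⟨t, ht, ht', ht''⟩ := hy c
      exact ⟨p * t, mul_mem hp ht, by rw [smul_add]; exact hp'.mul hF ht', by rw [map_mul, hp'', ht'']⟩
    | smul r x _ hx =>
      intro c
      obtain ⟨p, hp, hp', hp''⟩ := hx (c * r)
      exact ⟨p, hp, by rw [smul_smul]; exact hp', hp''⟩
  have hfixE : ∀ x ∈ lineKer D S a b, q' x = x := by
    intro x hx
    obtain ⟨z, hz⟩ := exists_tvec S hF hM ha hb A hu P hx
    obtain ⟨p, hp, hpz, hpf⟩ := hsec z (by rw [hspan, span_iso_four hF]; trivial) 1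
    rw [one_smul] at hpz
    have hv := hfixV _ (pair_of_tvec_eq S hF hM ha hb A hu P hp hpz hz)
    rw [map_mul, map_inv, hpf] at hv
    exact mul_left_cancel hv
  have hfixW : ∀ x ∈ link D a ∩ link D b, q' x = x := by
    intro x hx
    by_contra hne
    have hqx := autTriv_line S hF hM ha hb A hu P hq'T hx
    obtain ⟨l, hlen, hnd, hl, -⟩ := exists_class_list S hF hM ha hb A hu P hx
    obtain ⟨f, hfl, hfx, hfqx⟩ : ∃ f ∈ l, f ≠ x ∧ f ≠ q' x := by
      by_contra h
      push Not at h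
      have hsub : l.toFinset ⊆ {x, q' x} := fun f hf => by
        rcases eq_or_ne f x with h' | h'
        · simp [h']
        · simp [h f (List.mem_toFinset.1 hf) h']
      have := (Finset.card_le_card hsub).trans Finset.card_le_two
      rw [List.toFinset_card_of_nodup hnd, hlen] at this
      omega
    have hsf := (hl f).1 hfl
    have hqf := hsf.trans (autTriv_line S hF hM ha hb A hu P hq'T hsf.1)
    have h1 := hfixE _ (mul_mem_lineKer S hF hM ha hb hx hsf)
    rw [map_mul] at h1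
    rcases pair_unique S hF hM hqx.1.1.1 hqf.1.1.1 hx.1.1 hsf.1.1.1 (fun h => hfx (q'.injective h).symm)
      (Ne.symm hfx) (hqx.commute hx hqf)
      ((show SameLine D a b x x from ⟨hx, fun _ _ => Iff.rfl⟩).commute hx hsf) h1 with ⟨h, -⟩ | ⟨h, -⟩
    · exact hne h
    · exact hfqx h.symm
  obtain ⟨g', hg'⟩ := aut_inner S hF hM ha hb hq'a hq'b hfixW
  exact ⟨y⁻¹ * g', by rw [map_mul, map_inv, ← hg', hq', inv_mul_cancel_left]⟩

end CfsgLib.M22
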