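import Cfsg.Agent.Lib.ThreeTransp.M22PairAutFix

/-!
# Groups of type `M(22)`: the large extraspecial subgroup in the automorphism group

When the inner automorphisms have index two, the centraliser in the automorphism group of the product of two
commuting members has as generalised Fitting subgroup a large extraspecial group of order `2^11`.
-/

set_option autoImplicit false

namespace CfsgLib.M22

open CfsgLib.ThreeTransp CfsgLib.SporMisc
open CfsgLib.U6 (IsPt PtFrame)
open CfsgLib.UnitarySpec (psuMk)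

variable {G : Type*} [Group G] {D : Set G}

/-- The automorphisms trivial on the joint centraliser modulo the kernel on lines. -/
def autQ (D : Set G) (S : Setup D) (a b : G) : Subgroup (MulAut G) :=
  Subgroup.closure {q | AutTriv D S a b q}

theorem inverted_of_free [Finite G] {K : Subgroup G} {t : G} (ht : t * t = 1)
    (hn : ∀ x ∈ K, t * x * t⁻¹ ∈ K) (hfree : ∀ x ∈ K, Commute t x → x = 1) {x : G} (hx : x ∈ K) :
    t * x * t⁻¹ = x⁻¹ := by
  let φ : ↥K →* ↥K := MonoidHom.mk' (fun y => ⟨t * y * t⁻¹, hn y y.2⟩) fun y z => Subtype.ext (by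
    show t * (y * z : G) * t⁻¹ = t * y * t⁻¹ * (t * z * t⁻¹)
    group)
  have h1 : MonoidHom.FixedPointFree φ := fun y hy => Subtype.ext <| hfree y y.2 <| by
    have := congrArg Subtype.val hy
    exact (mul_inv_eq_iff_eq_mul.1 (this : t * (y : G) * t⁻¹ = y))
  have h2 : Function.Involutive φ := fun y => Subtype.ext <| by
    show t * (t * y * t⁻¹) * t⁻¹ = y
    rw [inv_eq_of_mul_eq_one_right ht]
    simp only [mul_assoc, cancel₂ ht, ht, mul_one]
  exact congrArg Subtype.val (congrFun (h1.coe_eq_inv_of_involutive h2) ⟨x, hx⟩)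

variable [Finite G] {F : Type} [Field F] [Fintype F] {a b : G}
variable (S : Setup D) (hF : Fintype.card F = 2 ^ 2) (hM : ∀ a ∈ D, Nonempty (Model D a F))
  (ha : a ∈ D) (hb : b ∈ link D a) (hout : Nat.card (MulAut G) = 2 * Nat.card G)
include S hF hM

include hout in
theorem inner_index : (MulAut.conj : G →* MulAut G).range.index = 2 := by
  have h := Subgroup.card_mul_index (MulAut.conj : G →* MulAut G).range
  rw [← Nat.card_congr ((MonoidHom.ofInjective (conj_aut_injective S hF hM)).toEquiv), hout, mul_comm 2] at h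
  exact Nat.eq_of_mul_eq_mul_left Nat.card_pos h

include hout in
theorem sq_inner (q : MulAut G) : ∃ g : G, q * q = MulAut.conj g := by
  obtain ⟨g, hg⟩ := Subgroup.sq_mem_of_index_two (inner_index S hF hM hout) q
  exact ⟨g, by rw [hg, pow_two]⟩

include ha hb

omit S in
theorem mem_aut_cent (S : Setup D) {q : MulAut G} :
    q ∈ Subgroup.centralizer ({MulAut.conj (a * b)} : Set (MulAut G)) ↔ q (a * b) = a * b := by
  have _ := ha; have _ := hb
  rw [Subgroup.mem_centralizer_singleton_iff, ← mul_inv_eq_iff_eq_mul, aut_conj]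
  exact (conj_aut_injective S hF hM).eq_iff

theorem conj_mem_aut_cent {g : G} : MulAut.conj g ∈ Subgroup.centralizer ({MulAut.conj (a * b)} : Set (MulAut G)) ↔
    g ∈ Subgroup.centralizer ({a * b} : Set G) := by
  rw [mem_aut_cent hF hM ha hb S, Subgroup.mem_centralizer_singleton_iff, MulAut.conj_apply,
    mul_inv_eq_iff_eq_mul]

/-- The one-sided step of the odd order argument. -/
theorem odd_side {K : Subgroup G} (hodd : ∀ x ∈ K, Odd (orderOf x))
    (hE : ∀ y ∈ lineKer D S a b, ∀ x ∈ K, y * x * y⁻¹ ∈ K)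
    (hinv : ∀ x ∈ K, (a * b) * x * (a * b)⁻¹ = x⁻¹) {x : G} (hx : x ∈ K) (hax : Commute a x) : x = 1 := by
  by_contra hx1
  have hbinv : ∀ z ∈ K, Commute a z → b * z * b⁻¹ = z⁻¹ := by
    intro z hz haz
    rw [← hinv z hz, hb.2.2.eq, show b * a * z * (b * a)⁻¹ = b * (a * z * a⁻¹) * b⁻¹ by group,
      haz.eq, mul_inv_cancel_right]
  have hno : ∀ z ∈ K, z * z = 1 → z = 1 := by
    intro z hz hzz
    rcases (Nat.dvd_prime Nat.prime_two).1 (orderOf_dvd_of_pow_eq_one (show z ^ 2 = 1 by rw [pow_two, hzz]))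
      with h | h
    · exact orderOf_eq_one_iff.1 h
    · exact absurd (hodd z hz) (by rw [h]; decide)
  obtain ⟨r, hr⟩ := hodd x hx
  set y := x ^ (r + 1) with hy
  have hyy : y * y = x := by
    rw [hy, ← pow_add, show r + 1 + (r + 1) = (2 * r + 1) + 1 by ring, pow_succ, ← hr, pow_orderOf_eq_one,
      one_mul]
  have hyb := hbinv y (pow_mem hx _) (hax.pow_right _)
  have hbb := S.sqd hb.1
  have haa := S.sqd ha
  have hbi : b⁻¹ = b := S.tt.inv_eq hb.1
  set b' := b * x with hb'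
  have hb'c : b' = y⁻¹ * b * y := by
    rw [hb', ← hyy, ← hyb]
    group
  have hb'D : b' ∈ D := by
    have := S.tt.conj y⁻¹ b hb.1
    rwa [inv_inv, ← hb'c] at this
  have hb'b' : b' * b' = 1 := S.sqd hb'D
  have hxb' : x = b * b' := by rw [hb', cancel₂ hbb]
  have hnc : ¬ Commute b b' := by
    intro h
    refine hx1 (hno x hx ?_)
    rw [hxb', h.symm.mul_mul_mul_comm, hbb, hb'b', one_mul]
  have hb'a : b' ∈ link D a := by
    refine ⟨hb'D, fun h => hx1 (hno x hx ?_), hb.2.2.mul_right hax⟩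
    rw [hxb', h, hb.2.2.mul_mul_mul_comm, hbb, haa, one_mul]
  obtain ⟨A⟩ := hM a ha
  obtain ⟨u, hu⟩ := A.exists_pt_of_link S hF ha hb
  obtain ⟨P⟩ := U6.exists_frame hF hu.1
  obtain ⟨v, hv⟩ := A.exists_pt_of_link S hF ha hb'a
  have huv : Cfsg.hermForm 6 F 2 u v ≠ 0 := fun h => hnc ((A.comm_iff S hF ha hb hb'a hu hv).2 h)
  obtain ⟨e₀, he₀⟩ : (link D a ∩ link D b).Nonempty :=
    (Set.ncard_pos (Set.toFinite _)).1 (by rw [link_two_ncard S hF hM ha hb]; norm_num)
  obtain ⟨w, μ₀, hw, hl₀⟩ := exists_lab S hF ha hb A hu P he₀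
  set μ := -(Cfsg.hermForm 6 F 2 (P.j w) v) / Cfsg.hermForm 6 F 2 u v with hμ
  obtain ⟨e, he, hl⟩ := exists_member S hF ha hb A hu P hw (lab_iso S hF A P hl₀) μ
  have ceb' : Commute e b' := by
    obtain ⟨le, hd⟩ := hl
    refine (A.comm_iff S hF ha le hb'a hd hv).2 ?_
    rw [U6.add_left hF, U6.smul_left hF, hμ, div_mul_cancel₀ _ huv, neg_add_cancel]
  obtain ⟨l, hlen, hnd, hmem, -⟩ := exists_class_list S hF hM ha hb A hu P he
  obtain ⟨f, hfl, hfb'⟩ : ∃ f ∈ l, ¬ Commute b' f := by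
    by_contra hall
    push Not at hall
    match l, hlen with
    | [f₁, f₂, f₃, f₄], _ =>
      have h4 := line_four S hF hM ha hb he hnd fun f hf => (hmem f).1 hf
      have hc : Commute b' (a * b) := by
        rw [← h4]
        exact (((hall f₁ (by simp)).mul_right (hall f₂ (by simp))).mul_right (hall f₃ (by simp))).mul_right
          (hall f₄ (by simp))
      exact hnc (S.commute_both ha hb.1 hb'D hb.2.2 hb.2.1.symm hc).2.symm
  have hsf := (hmem f).1 hfl
  have hfD : f ∈ D := hsf.1.1.1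
  have hff := S.sqd hfD
  have hee := S.sqd he.1.1
  have cef : Commute e f := (show SameLine D a b e e from ⟨he, fun _ _ => Iff.rfl⟩).commute he hsf
  have cbe : Commute b e := he.2.2.2
  have cbf : Commute b f := hsf.1.2.2.2
  have br : b' * f * b' = f * b' * f := S.tt.braid hb'D hfD hfb'
  have hyinv : (e * f)⁻¹ = f * e := by rw [mul_inv_rev, S.tt.inv_eq hfD, S.tt.inv_eq he.1.1]
  have hx' : e * f * x * (e * f)⁻¹ = b * (f * b' * f) := by
    have c1 : Commute e (f * b' * f) := (cef.mul_right ceb').mul_right cef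
    calc e * f * x * (e * f)⁻¹ = e * f * b * (b' * (f * e)) := by rw [hxb', hyinv]; simp only [mul_assoc]
      _ = b * (e * f) * (b' * (f * e)) := by rw [(cbe.mul_right cbf).eq]
      _ = b * (e * (f * b' * f) * e) := by simp only [mul_assoc]
      _ = b * (f * b' * f) := by rw [c1.eq, mul_assoc _ e e, hee, mul_one]
  have hz : f * b' ∈ K := by
    have h1 := mul_mem (inv_mem hx) (hE _ (mul_mem_lineKer S hF hM ha hb he hsf) x hx)
    rw [hx', hxb', mul_inv_rev, hbi, S.tt.inv_eq hb'D] at h1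
    have e1 : b' * b * (b * (f * b' * f)) = f * b' := by
      calc b' * b * (b * (f * b' * f)) = (b' * f * b') * f := by simp only [mul_assoc, cancel₂ hbb]
        _ = f * b' := by rw [br, mul_assoc (f * b'), hff, mul_one]
    rwa [e1] at h1
  have h2 := hbinv _ hz (hsf.1.1.2.2.mul_right hb'a.2.2)
  rw [mul_inv_rev, hbi, S.tt.inv_eq hfD, S.tt.inv_eq hb'D] at h2
  have h3 : b * b' * b = f * b' * f := by
    have h4 : f * (b * b' * b) = b' * f := by
      rw [← h2, show b * (f * b') * b = b * f * b' * b by rw [mul_assoc b f b'], cbf.eq]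
      simp only [mul_assoc]
    calc b * b' * b = f * (f * (b * b' * b)) := (cancel₂ hff _).symm
      _ = f * b' * f := by rw [h4]; exact (mul_assoc f b' f).symm
  rw [S.tt.braid hb.1 hb'D hnc, ← br] at h3
  exact hsf.1.2.2.1 (mul_left_cancel (mul_right_cancel h3)).symm

include hout

theorem exists_outer_pair : ∃ α : MulAut G, α a = a ∧ α b = b ∧ α ∉ (MulAut.conj : G →* MulAut G).range := by
  obtain ⟨β, hβ⟩ : ∃ β, β ∉ (MulAut.conj : G →* MulAut G).range := by
    by_contra h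
    push Not at h
    have := inner_index S hF hM hout
    rw [(Subgroup.eq_top_iff' _).2 h, Subgroup.index_top] at this
    omega
  obtain ⟨A⟩ := hM a ha
  obtain ⟨g, hg⟩ := S.cls ha (map_mem S hF hM β ha)
  have hl : g⁻¹ * β b * g ∈ link D a := by
    have := link_conj S.tt g⁻¹ (aut_mem_link S hF hM β hb)
    rwa [inv_inv, ← hg, show g⁻¹ * (g * a * g⁻¹) * g = a by group] at this
  obtain ⟨h, hh, he⟩ := A.link_conj_of_mem S hF ha hb hl
  have hac : Commute a h := commute_link_closure hh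
  refine ⟨(MulAut.conj (g * h))⁻¹ * β, ?_, ?_, fun hin => hβ ?_⟩
  · rw [MulAut.mul_apply, MulAut.conj_inv_apply, ← hg, show (g * h)⁻¹ * (g * a * g⁻¹) * (g * h) = h⁻¹ * a * h by group,
      mul_assoc, hac.eq, inv_mul_cancel_left]
  · rw [MulAut.mul_apply, MulAut.conj_inv_apply, show (g * h)⁻¹ * β b * (g * h) = h⁻¹ * (g⁻¹ * β b * g) * h by group,
      ← he]
    group
  · have := mul_mem (⟨g * h, rfl⟩ : MulAut.conj (g * h) ∈ (MulAut.conj : G →* MulAut G).range) hin
    rwa [mul_inv_cancel_left] at this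

theorem card_aut_cent :
    Nat.card ↥(Subgroup.centralizer ({MulAut.conj (a * b)} : Set (MulAut G))) = 106168320 := by
  set H := Subgroup.centralizer ({MulAut.conj (a * b)} : Set (MulAut G))
  set C := Subgroup.centralizer ({a * b} : Set G)
  set N := (MulAut.conj : G →* MulAut G).range
  obtain ⟨α, hαa, hαb, hα⟩ := exists_outer_pair S hF hM ha hb hout
  have hαH : α ∈ H := (mem_aut_cent hF hM ha hb S).2 (by rw [map_mul, hαa, hαb])
  have hidx : (N.subgroupOf H).index = 2 := by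
    rw [Subgroup.index_eq_two_iff]
    refine ⟨⟨α, hαH⟩, fun y => ?_⟩
    simp only [Subgroup.mem_subgroupOf, Subgroup.coe_mul]
    rw [Subgroup.mul_mem_iff_of_index_two (inner_index S hF hM hout)]
    simp only [iff_false_intro hα, iff_false]
    by_cases hy : (y : MulAut G) ∈ N
    · exact Or.inr ⟨hy, fun h => h hy⟩
    · exact Or.inl ⟨hy, hy⟩
  have heq : N.subgroupOf H = (C.map (MulAut.conj : G →* MulAut G)).subgroupOf H := by
    ext ⟨q, hq⟩
    simp only [Subgroup.mem_subgroupOf]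
    constructor
    · rintro ⟨g, rfl⟩
      exact ⟨g, (conj_mem_aut_cent S hF hM ha hb).1 hq, rfl⟩
    · rintro ⟨g, -, rfl⟩
      exact ⟨g, rfl⟩
  have hle : C.map (MulAut.conj : G →* MulAut G) ≤ H := by
    rintro _ ⟨g, hg, rfl⟩
    exact (conj_mem_aut_cent S hF hM ha hb).2 hg
  have h := Subgroup.card_mul_index (N.subgroupOf H)
  rw [hidx, heq, Nat.card_congr (Subgroup.subgroupOfEquivOfLe hle).toEquiv,
    Subgroup.card_map_of_injective (conj_aut_injective S hF hM), card_cent_pair S hF hM ha hb] at h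
  omega

/-- The centraliser in the automorphism group maps onto the automorphism group of `PSU₄(2)`. -/
theorem exists_theta_aut :
    ∃ θ : ↥(Subgroup.centralizer ({MulAut.conj (a * b)} : Set (MulAut G))) →* MulAut (Cfsg.PSU 4 F 2),
      Function.Surjective θ ∧ θ.ker.map (Subgroup.centralizer ({MulAut.conj (a * b)} : Set (MulAut G))).subtype =
        autQ D S a b ∧ (∀ q ∈ autQ D S a b, AutTriv D S a b q) ∧ Nat.card ↥(autQ D S a b) = 2048 := by
  classical
  obtain ⟨A⟩ := hM a ha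
  obtain ⟨u, hu⟩ := A.exists_pt_of_link S hF ha hb
  obtain ⟨P⟩ := U6.exists_frame hF hu.1
  obtain ⟨ρ, hρ, hrel⟩ := exists_pair_rho S hF hM ha hb A hu P
  set C := Subgroup.centralizer ({MulAut.conj (a * b)} : Set (MulAut G)) with hC
  have hker : ∀ k : ↥(pairCent a b), ρ k = 1 ↔ (k : G) ∈ lineKer D S a b := fun k => by
    rw [mem_lineKer_iff S hF hM ha hb A hu P]
    exact ⟨fun h => ⟨k.2, h ▸ hrel k⟩, fun h => rel_unique S hF ha hb A hu P (hrel k) h.2⟩
  have hcm : ∀ c : ↥C, (c : MulAut G) (a * b) = a * b := fun c => (mem_aut_cent hF hM ha hb S).1 c.2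
  let cj : ↥C → ↥(pairCent a b) → ↥(pairCent a b) := fun c k =>
    ⟨(c : MulAut G) k, aut_pairCent S hF hM ha hb (hcm c) k.2⟩
  have cj_mul : ∀ c d k, cj (c * d) k = cj c (cj d k) := fun c d k => rfl
  have cj_one : ∀ k, cj 1 k = k := fun k => rfl
  have cj_hom : ∀ c k l, cj c (k * l) = cj c k * cj c l := fun c k l =>
    Subtype.ext (map_mul (c : MulAut G) (k : G) l)
  have hwd : ∀ c k l, ρ k = ρ l → ρ (cj c k) = ρ (cj c l) := by
    intro c k l hkl
    have h1 : ρ (k⁻¹ * l) = 1 := by rw [map_mul, map_inv, hkl, inv_mul_cancel]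
    have h2 : ρ (cj c (k⁻¹ * l)) = 1 := (hker _).2 (aut_lineKer S hF hM ha hb (hcm c) ((hker _).1 h1))
    calc ρ (cj c k) = ρ (cj c k) * ρ (cj c (k⁻¹ * l)) := by rw [h2, mul_one]
      _ = ρ (cj c l) := by rw [← map_mul, ← cj_hom, mul_inv_cancel_left]
  let φ : ↥C → Cfsg.SU 4 F 2 → Cfsg.SU 4 F 2 := fun c B => ρ (cj c (Function.surjInv hρ B))
  have hφ : ∀ c k, φ c (ρ k) = ρ (cj c k) := fun c k => hwd c _ _ (Function.surjInv_eq hρ _)
  have hφmul : ∀ c d B, φ (c * d) B = φ c (φ d B) := fun c d B => by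
    obtain ⟨k, rfl⟩ := hρ B
    rw [hφ d k, hφ (c * d) k, hφ c (cj d k), cj_mul]
  have hφone : ∀ B, φ 1 B = B := fun B => by
    obtain ⟨k, rfl⟩ := hρ B
    rw [hφ, cj_one]
  let θ₀ : ↥C → MulAut (Cfsg.SU 4 F 2) := fun c =>
    { toFun := φ c
      invFun := φ c⁻¹
      left_inv := fun B => by rw [← hφmul, inv_mul_cancel, hφone]
      right_inv := fun B => by rw [← hφmul, mul_inv_cancel, hφone]
      map_mul' := fun B B' => by
        obtain ⟨k, rfl⟩ := hρ B
        obtain ⟨l, rfl⟩ := hρ B'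
        rw [← map_mul, hφ, hφ, hφ, cj_hom, map_mul] }
  let θ₁ : ↥C →* MulAut (Cfsg.SU 4 F 2) :=
    MonoidHom.mk' θ₀ fun c d => MulEquiv.ext fun B => hφmul c d B
  let e : Cfsg.SU 4 F 2 ≃* Cfsg.PSU 4 F 2 := MulEquiv.ofBijective _ (psuMk_four_bijective hF)
  let θ : ↥C →* MulAut (Cfsg.PSU 4 F 2) := (MulAut.congr e).toMonoidHom.comp θ₁
  have hθker : ∀ c : ↥C, c ∈ θ.ker ↔ AutTriv D S a b (c : MulAut G) := by
    intro c
    rw [MonoidHom.mem_ker]
    show MulAut.congr e (θ₁ c) = 1 ↔ _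
    rw [map_eq_one_iff _ (MulAut.congr e).injective]
    constructor
    · intro h
      refine ⟨hcm c, fun k hk => ?_⟩
      have h1 : φ c (ρ ⟨k, hk⟩) = ρ ⟨k, hk⟩ := DFunLike.congr_fun h (ρ ⟨k, hk⟩)
      rw [hφ] at h1
      exact (hker (cj c ⟨k, hk⟩ * ⟨k, hk⟩⁻¹)).1 (by rw [map_mul, map_inv, h1, mul_inv_cancel])
    · intro h
      refine MulEquiv.ext fun B => ?_
      obtain ⟨k, rfl⟩ := hρ B
      show φ c (ρ k) = ρ k
      rw [hφ]
      have := (hker (cj c k * k⁻¹)).2 (h.2 k k.2)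
      rwa [map_mul, map_inv, mul_inv_eq_one] at this
  set Q := θ.ker.map C.subtype with hQ
  have hQmem : ∀ q, q ∈ Q ↔ AutTriv D S a b q := by
    intro q
    constructor
    · rintro ⟨c, hc, rfl⟩
      exact (hθker c).1 hc
    · intro h
      exact ⟨⟨q, (mem_aut_cent hF hM ha hb S).2 h.1⟩, (hθker _).2 h, rfl⟩
  have hQeq : Q = autQ D S a b := by
    refine le_antisymm (fun q hq => ?_) ?_
    · rw [autQ]
      exact Subgroup.subset_closure (show q ∈ {q | AutTriv D S a b q} from (hQmem q).1 hq)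
    rw [autQ, Subgroup.closure_le]
    exact fun q hq => (hQmem q).2 hq
  -- counting
  set N := (MulAut.conj : G →* MulAut G).range with hN
  have hidx := inner_index S hF hM hout
  haveI : N.Normal := Subgroup.normal_of_index_eq_two hidx
  have heq : N.subgroupOf Q = ((lineKer D S a b).map (MulAut.conj : G →* MulAut G)).subgroupOf Q := by
    ext ⟨q, hq⟩
    simp only [Subgroup.mem_subgroupOf]
    constructor
    · rintro ⟨g, rfl⟩
      exact ⟨g, (autTriv_conj_iff S hF hM ha hb).1 ((hQmem _).1 hq), rfl⟩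
    · rintro ⟨g, -, rfl⟩
      exact ⟨g, rfl⟩
  have hle : (lineKer D S a b).map (MulAut.conj : G →* MulAut G) ≤ Q := by
    rintro _ ⟨g, hg, rfl⟩
    exact (hQmem _).2 ((autTriv_conj_iff S hF hM ha hb).2 hg)
  have h1 := Subgroup.card_mul_index (N.subgroupOf Q)
  rw [heq, Nat.card_congr (Subgroup.subgroupOfEquivOfLe hle).toEquiv,
    Subgroup.card_map_of_injective (conj_aut_injective S hF hM), card_lineKer S hF hM ha hb, ← heq] at h1
  have h2 : (N.subgroupOf Q).index ≤ 2 :=
    Nat.le_of_dvd two_pos (hidx ▸ Subgroup.relIndex_dvd_index_of_normal N Q)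
  have hQcard : Nat.card ↥Q = Nat.card ↥θ.ker := Subgroup.card_map_of_injective C.subtype_injective
  have h3 := Subgroup.card_mul_index θ.ker
  rw [Subgroup.index_ker, card_aut_cent S hF hM ha hb hout, ← hQcard] at h3
  have hcardA : Nat.card (MulAut (Cfsg.PSU 4 F 2)) = 51840 := by
    rw [CfsgLib.Classical.AutOrder.card_mulaut_psu (K := F) 2 1 le_rfl (pow_one 2).symm hF 4
      (by norm_num) (by norm_num),
      ← Nat.card_congr (psuMk_four_bijective (F := F) hF |> Equiv.ofBijective _), card_su_four hF]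
    norm_num
  haveI : Finite (MulAut (Cfsg.PSU 4 F 2)) := Nat.finite_of_card_ne_zero (by rw [hcardA]; norm_num)
  have h4 : Nat.card ↥θ.range ≤ 51840 := hcardA ▸ Subgroup.card_le_card_group _
  have hQ2 : Nat.card ↥Q = 2048 := by nlinarith
  refine ⟨θ, MonoidHom.range_eq_top.1 (Subgroup.eq_top_of_card_eq _ ?_), hQeq,
    fun q hq => (hQmem q).1 (hQeq ▸ hq), hQeq ▸ hQ2⟩
  rw [hQ2] at h3
  rw [hcardA]
  omega

/-- The structure of the trivial automorphisms. -/
theorem autQ_props {θ : ↥(Subgroup.centralizer ({MulAut.conj (a * b)} : Set (MulAut G))) →* MulAut (Cfsg.PSU 4 F 2)}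
    (hker : θ.ker.map (Subgroup.centralizer ({MulAut.conj (a * b)} : Set (MulAut G))).subtype = autQ D S a b)
    (htriv : ∀ q ∈ autQ D S a b, AutTriv D S a b q) (hcard : Nat.card ↥(autQ D S a b) = 2048) :
    Cfsg.IsExtraspecial 2 ↥(autQ D S a b) ∧
      (Subgroup.center ↥(autQ D S a b)).map (autQ D S a b).subtype = Subgroup.zpowers (MulAut.conj (a * b)) := by
  have _ := hker
  set Q := autQ D S a b
  set J := MulAut.conj (a * b) with hJ
  set V := Subgroup.closure ({a, b} : Set G) with hV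
  have hab1 : a * b ≠ 1 := (pair_notMem S hF hM ha hb).1
  have hqq : a * b * (a * b) = 1 := by rw [hb.2.2.symm.mul_mul_mul_comm, S.sqd ha, S.sqd hb.1, one_mul]
  have haE := (self_mem_lineKer S hF hM ha hb).1
  have hjE : a * b ∈ lineKer D S a b := mul_mem haE (self_mem_lineKer S hF hM ha hb).2
  have hin : ∀ {y : G}, MulAut.conj y ∈ Q ↔ y ∈ lineKer D S a b := fun {y} =>
    ⟨fun h => (autTriv_conj_iff S hF hM ha hb).1 (htriv _ h),
      fun h => Subgroup.subset_closure ((autTriv_conj_iff S hF hM ha hb).2 h)⟩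
  have hJQ : J ∈ Q := hin.2 hjE
  have hJ1 : J ≠ 1 := fun h => hab1 (conj_aut_injective S hF hM (h.trans (map_one _).symm))
  have hJc : ∀ q ∈ Q, Commute J q := fun q hq => by
    have := aut_conj q (a * b)
    rw [(htriv q hq).1, mul_inv_eq_iff_eq_mul] at this
    exact this.symm
  -- an outer element exchanges the pair
  have houter : ∀ q ∈ Q, q ∉ (MulAut.conj : G →* MulAut G).range → q a = b ∧ q b = a := by
    intro q hq hout'
    rcases aut_pair S hF hM ha hb (htriv q hq).1 with ⟨h1, -⟩ | h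
    · obtain ⟨g, hg⟩ := autTriv_inner S hF hM ha hb (htriv q hq) (fun y _ => sq_inner S hF hM hout _) h1
      exact absurd ⟨g, hg.symm⟩ hout'
    · exact h
  obtain ⟨q₀, hq₀, hq₀o⟩ : ∃ q ∈ Q, q ∉ (MulAut.conj : G →* MulAut G).range := by
    by_contra h
    push Not at h
    have hsub : Q ≤ (lineKer D S a b).map (MulAut.conj : G →* MulAut G) := fun q hq => by
      obtain ⟨y, rfl⟩ := h q hq
      exact ⟨y, hin.1 hq, rfl⟩
    have := Nat.le_of_dvd Nat.card_pos (Subgroup.card_dvd_of_le hsub)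
    rw [hcard, Subgroup.card_map_of_injective (conj_aut_injective S hF hM), card_lineKer S hF hM ha hb] at this
    omega
  -- commutators with inner elements
  have hcE : ∀ q ∈ Q, ∀ y ∈ lineKer D S a b,
      q * MulAut.conj y * q⁻¹ * (MulAut.conj y)⁻¹ = 1 ∨ q * MulAut.conj y * q⁻¹ * (MulAut.conj y)⁻¹ = J := by
    intro q hq y hy
    rw [aut_conj, ← map_inv, ← map_mul]
    obtain ⟨g, hg⟩ := sq_inner S hF hM hout q
    rcases autTriv_lineKer S hF hM ha hb (htriv q hq) hg hy with h | h <;> rw [h]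
    exacts [Or.inl (map_one _), Or.inr rfl]
  have hsplit : ∀ q ∈ Q, (∃ y ∈ lineKer D S a b, q = MulAut.conj y) ∨
      ∃ y ∈ lineKer D S a b, q = q₀ * MulAut.conj y := by
    intro q hq
    by_cases h : q ∈ (MulAut.conj : G →* MulAut G).range
    · obtain ⟨y, rfl⟩ := h
      exact Or.inl ⟨y, hin.1 hq, rfl⟩
    · have h2 : q₀⁻¹ * q ∈ (MulAut.conj : G →* MulAut G).range := by
        rw [Subgroup.mul_mem_iff_of_index_two (inner_index S hF hM hout), inv_mem_iff]
        exact iff_of_false hq₀o h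
      obtain ⟨y, hy⟩ := h2
      refine Or.inr ⟨y, hin.1 (hy ▸ mul_mem (inv_mem hq₀) hq), ?_⟩
      rw [hy, mul_inv_cancel_left]
  have hcomm : ∀ p ∈ Q, ∀ q ∈ Q, p * q * p⁻¹ * q⁻¹ = 1 ∨ p * q * p⁻¹ * q⁻¹ = J := by
    have hJinv : J⁻¹ = J := inv_eq_of_mul_eq_one_right (by rw [hJ, ← map_mul, hqq, map_one])
    intro p hp q hq
    rcases hsplit q hq with ⟨y, hy, rfl⟩ | ⟨y, hy, rfl⟩
    · exact hcE p hp y hy
    rcases hsplit p hp with ⟨x, hx, rfl⟩ | ⟨x, hx, rfl⟩
    · have h1 := hcE _ hq x hx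
      rw [show MulAut.conj x * (q₀ * MulAut.conj y) * (MulAut.conj x)⁻¹ * (q₀ * MulAut.conj y)⁻¹ =
        (q₀ * MulAut.conj y * MulAut.conj x * (q₀ * MulAut.conj y)⁻¹ * (MulAut.conj x)⁻¹)⁻¹ by group]
      rcases h1 with h | h <;> rw [h]
      exacts [Or.inl inv_one, Or.inr hJinv]
    · have h1 := hcE _ hp y hy
      have h2 := hcE _ hq₀ x hx
      have e1 : q₀ * MulAut.conj x * (q₀ * MulAut.conj y) * (q₀ * MulAut.conj x)⁻¹ * (q₀ * MulAut.conj y)⁻¹ =
          (q₀ * MulAut.conj x * q₀ * (q₀ * MulAut.conj x)⁻¹ * q₀⁻¹) *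
            (q₀ * (q₀ * MulAut.conj x * MulAut.conj y * (q₀ * MulAut.conj x)⁻¹ * (MulAut.conj y)⁻¹) * q₀⁻¹) := by
        group
      have e2 : q₀ * MulAut.conj x * q₀ * (q₀ * MulAut.conj x)⁻¹ * q₀⁻¹ =
          q₀ * (q₀ * MulAut.conj x * q₀⁻¹ * (MulAut.conj x)⁻¹)⁻¹ * q₀⁻¹ := by group
      rw [e1, e2]
      have hJJ : J * J = 1 := by rw [hJ, ← map_mul, hqq, map_one]
      have hJq : q₀ * J * q₀⁻¹ = J := by rw [← (hJc _ hq₀).eq, mul_inv_cancel_right]
      rcases h1 with h | h <;> rcases h2 with h' | h' <;> rw [h, h'] <;> simp [hJinv, hJq, hJJ]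
  have hsq : ∀ p ∈ Q, p * p = 1 ∨ p * p = J := by
    intro p hp
    by_cases hpi : p ∈ (MulAut.conj : G →* MulAut G).range
    · obtain ⟨y, rfl⟩ := hpi
      obtain ⟨n, hn⟩ := Subgroup.mem_zpowers_iff.1
        (lineKer_special S hF hM ha hb (hin.1 hp) (hin.1 hp)).2
      rw [← map_mul, ← hn, map_zpow]
      rcases Int.even_or_odd' n with ⟨m, rfl | rfl⟩
      · left; rw [zpow_mul, zpow_two, ← map_mul, hqq, map_one, one_zpow]
      · right; rw [zpow_add, zpow_mul, zpow_two, ← map_mul, hqq, map_one, one_zpow, one_mul, zpow_one]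
    obtain ⟨y, hy⟩ := sq_inner S hF hM hout p
    have hyE : y ∈ lineKer D S a b := hin.1 (hy ▸ mul_mem hp hp)
    have hfix : ∀ x ∈ lineKer D S a b, Commute y x := by
      intro x hx
      have hpp : (p * p) x = x := by
        rw [MulAut.mul_apply]
        rcases autTriv_lineKer S hF hM ha hb (htriv p hp) hy hx with h | h
        · rw [mul_inv_eq_one.1 h, mul_inv_eq_one.1 h]
        · rw [mul_inv_eq_iff_eq_mul.1 h, map_mul, (htriv p hp).1, mul_inv_eq_iff_eq_mul.1 h, ← mul_assoc, hqq,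
            one_mul]
      rw [hy, MulAut.conj_apply, mul_inv_eq_iff_eq_mul] at hpp
      exact hpp
    have hyV : y ∈ V := by
      rw [hV, ← centralizer_lineKer_inf S hF hM ha hb]
      exact ⟨lineKer_le hyE, Subgroup.mem_centralizer_iff.2 fun x hx => (hfix x hx).symm.eq⟩
    obtain ⟨hpa, hpb⟩ := houter p hp hpi
    have hpy : p y = y := by
      apply conj_aut_injective S hF hM
      rw [← aut_conj, ← hy]
      group
    rw [hy]
    rcases pair_closure_cases S hb.2.2 (S.sqd ha) (S.sqd hb.1) hyV with rfl | rfl | rfl | rfl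
    · exact Or.inl (map_one _)
    · exact absurd (hpy.symm.trans hpa) hb.2.1.symm
    · exact absurd (hpy.symm.trans hpb) hb.2.1
    · exact Or.inr rfl
  have hcen : ∀ z : ↥Q, z ∈ Subgroup.center ↥Q ↔ z = 1 ∨ z = ⟨J, hJQ⟩ := by
    intro z
    constructor
    · intro hz
      have hzc : ∀ q ∈ Q, q * (z : MulAut G) = z * q := fun q hq =>
        congrArg Subtype.val (Subgroup.mem_center_iff.1 hz ⟨q, hq⟩)
      by_cases hzi : (z : MulAut G) ∈ (MulAut.conj : G →* MulAut G).range
      · obtain ⟨y, hy⟩ := hzi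
        have hyE : y ∈ lineKer D S a b := hin.1 (hy ▸ z.2)
        have hyV : y ∈ V := by
          rw [hV, ← centralizer_lineKer_inf S hF hM ha hb]
          refine ⟨lineKer_le hyE, Subgroup.mem_centralizer_iff.2 fun x hx => conj_aut_injective S hF hM ?_⟩
          have := hzc _ (hin.2 hx)
          rw [← hy, ← map_mul, ← map_mul] at this
          exact this
        obtain ⟨hpa, hpb⟩ := houter q₀ hq₀ hq₀o
        have hpy : q₀ y = y := by
          apply conj_aut_injective S hF hM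
          rw [← aut_conj, hy, hzc q₀ hq₀, mul_inv_cancel_right]
        rcases pair_closure_cases S hb.2.2 (S.sqd ha) (S.sqd hb.1) hyV with rfl | rfl | rfl | rfl
        · exact Or.inl (Subtype.ext (hy.symm.trans (map_one _)))
        · exact absurd (hpy.symm.trans hpa) hb.2.1.symm
        · exact absurd (hpy.symm.trans hpb) hb.2.1
        · exact Or.inr (Subtype.ext hy.symm)
      · obtain ⟨hza, -⟩ := houter _ z.2 hzi
        have h1 := hzc _ (hin.2 haE)
        have h2 := aut_conj (z : MulAut G) a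
        rw [← h1, mul_inv_cancel_right, hza] at h2
        exact absurd (conj_aut_injective S hF hM h2) hb.2.1.symm
    · rintro (rfl | rfl)
      · exact one_mem _
      · exact Subgroup.mem_center_iff.2 fun q => Subtype.ext (hJc q q.2).eq.symm
  haveI : Finite ↥Q := Nat.finite_of_card_ne_zero (by rw [hcard]; norm_num)
  refine ⟨CfsgLib.MonsterType.isExtraspecial_of_center (IsPGroup.of_card (n := 11) (by rw [hcard]; norm_num))
    ⟨J, hJQ⟩ (fun h => hJ1 (congrArg Subtype.val h)) hcen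
    (fun x y => (hcomm x x.2 y y.2).imp (fun h => Subtype.ext h) fun h => Subtype.ext h)
    (fun x => (hsq x x.2).imp (fun h => Subtype.ext h) fun h => Subtype.ext h)
    ⟨⟨q₀, hq₀⟩, ⟨MulAut.conj a, hin.2 haE⟩, fun h => hb.2.1 ?_⟩, ?_⟩
  · have h' : q₀ * MulAut.conj a = MulAut.conj a * q₀ := congrArg Subtype.val h
    have h2 := aut_conj q₀ a
    rw [h', mul_inv_cancel_right, (houter q₀ hq₀ hq₀o).1] at h2
    exact (conj_aut_injective S hF hM h2).symm
  · refine le_antisymm ?_ (Subgroup.zpowers_le.2 ⟨⟨J, hJQ⟩, (hcen _).2 (Or.inr rfl), rfl⟩)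
    rintro _ ⟨z, hz, rfl⟩
    rcases (hcen z).1 hz with rfl | rfl
    · exact one_mem _
    · exact Subgroup.mem_zpowers _

/-- The centraliser of the product of a pair in the automorphism group. -/
theorem pair_aut_large : ∀ Q : Subgroup (MulAut G),
    Q = (Cfsg.generalizedFittingSubgroup ↥(Subgroup.centralizer ({MulAut.conj (a * b)} : Set (MulAut G)))).map
      (Subgroup.centralizer ({MulAut.conj (a * b)} : Set (MulAut G))).subtype →
    Cfsg.IsLargeExtraspecial Q ∧ Nat.card Q = 2 ^ 11 ∧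
      Q ≤ Subgroup.centralizer ({MulAut.conj (a * b)} : Set (MulAut G)) ∧
      ∃ _ : (Q.subgroupOf (Subgroup.centralizer ({MulAut.conj (a * b)} : Set (MulAut G)))).Normal,
        Nonempty (↥(Subgroup.centralizer ({MulAut.conj (a * b)} : Set (MulAut G))) ⧸
          Q.subgroupOf (Subgroup.centralizer ({MulAut.conj (a * b)} : Set (MulAut G))) ≃*
          MulAut (Cfsg.PSU 4 F 2)) := by
  intro Q₀ hQ₀
  haveI : Fact (Nat.Prime 2) := ⟨Nat.prime_two⟩
  set J := MulAut.conj (a * b) with hJ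
  set C := Subgroup.centralizer ({J} : Set (MulAut G)) with hC
  set Q := autQ D S a b with hQ
  obtain ⟨θ, hθ, hker, htriv, hcard⟩ := exists_theta_aut S hF hM ha hb hout
  obtain ⟨hext, hcen⟩ := autQ_props S hF hM ha hb hout hker htriv hcard
  haveI : Finite (MulAut G) := Nat.finite_of_card_ne_zero (by rw [hout]; simp [Nat.card_pos.ne'])
  have hQC : Q ≤ C := fun q hq => (mem_aut_cent hF hM ha hb S).2 (htriv q hq).1
  have hkereq : θ.ker = Q.subgroupOf C := by
    refine Eq.trans ?_ (congrArg (fun H => H.comap C.subtype) hker)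
    exact (Subgroup.comap_map_eq_self_of_injective C.subtype_injective θ.ker).symm
  haveI hn : (Q.subgroupOf C).Normal := hkereq ▸ θ.normal_ker
  have hQp : IsPGroup 2 ↥Q := IsPGroup.of_card (n := 11) (by rw [hcard]; norm_num)
  have hp : IsPGroup 2 ↥(Q.subgroupOf C) := hQp.of_equiv (Subgroup.subgroupOfEquivOfLe hQC).symm
  have hin : ∀ {y : G}, y ∈ lineKer D S a b → MulAut.conj y ∈ Q := fun h =>
    Subgroup.subset_closure ((autTriv_conj_iff S hF hM ha hb).2 h)
  -- the centraliser of `Q` lies in `Q`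
  have hcentQ : ∀ x : MulAut G, (∀ q ∈ Q, q * x = x * q) → x ∈ Q := by
    intro x hx
    have hJQ : J ∈ Q := hin (mul_mem (self_mem_lineKer S hF hM ha hb).1 (self_mem_lineKer S hF hM ha hb).2)
    have hxC : x ∈ C := Subgroup.mem_centralizer_singleton_iff.2 (hx J hJQ).symm
    have hxj := (mem_aut_cent hF hM ha hb S).1 hxC
    have hfix : ∀ y ∈ lineKer D S a b, x y = y := by
      intro y hy
      apply conj_aut_injective S hF hM
      rw [← aut_conj, ← hx _ (hin hy), mul_inv_cancel_right]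
    refine Subgroup.subset_closure ⟨hxj, fun k hk => pair_le_lineKer S hF hM ha hb ?_⟩
    rw [← centralizer_lineKer_inf S hF hM ha hb]
    have hxk := aut_pairCent S hF hM ha hb hxj hk
    refine ⟨(pairCent a b).mul_mem hxk ((pairCent a b).inv_mem hk), Subgroup.mem_centralizer_iff.2 fun y hy => ?_⟩
    have hkc : Commute k (a * b) := (mem_pairCent.1 hk).1.mul_right (mem_pairCent.1 hk).2
    have h1 := hfix _ (lineKer_conj S hF hM ha hb hkc.inv_left hy)
    rw [map_mul, map_mul, inv_inv, map_inv, hfix y hy] at h1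
    calc y * (x k * k⁻¹) = x k * ((x k)⁻¹ * y * x k) * k⁻¹ := by group
      _ = x k * k⁻¹ * y := by rw [h1]; group
  have hcore : Cfsg.pCore 2 ↥C = Q.subgroupOf C := by
    refine le_antisymm ?_ (CfsgLib.Cores.le_pCore hp)
    haveI : IsSimpleGroup (Cfsg.PSU 4 F 2) :=
      CfsgLib.Classical.Unitary.isSimpleGroup_PSU hF (by norm_num) (by norm_num)
    haveI : Finite (MulAut (Cfsg.PSU 4 F 2)) := Finite.of_surjective θ hθ
    haveI : ((Cfsg.pCore 2 ↥C).map θ).Normal := Subgroup.Normal.map inferInstance θ hθ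
    have hc : Subgroup.center (Cfsg.PSU 4 F 2) = ⊥ := by
      rw [eq_bot_iff]
      intro x hx
      obtain ⟨y, rfl⟩ := (psuMk_four_bijective (F := F) hF).2 x
      have hy : y ∈ Subgroup.center (Cfsg.SU 4 F 2) := Subgroup.mem_center_iff.2 fun z =>
        (psuMk_four_bijective (F := F) hF).1 (by
          rw [map_mul, map_mul]; exact Subgroup.mem_center_iff.1 hx (psuMk z))
      rw [Subgroup.mem_bot]
      exact (QuotientGroup.eq_one_iff _).2 hy
    have hnp : ¬ IsPGroup 2 (Cfsg.PSU 4 F 2) := by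
      intro h
      obtain ⟨n, hn⟩ := IsPGroup.iff_card.1 h
      rw [← Nat.card_congr (Equiv.ofBijective _ (psuMk_four_bijective (F := F) hF)), card_su_four hF] at hn
      have h3 : 3 ∣ 2 ^ n := hn ▸ (by norm_num)
      have := Nat.Prime.dvd_of_dvd_pow (by norm_num : Nat.Prime 3) h3
      norm_num at this
    have := normal_two_mulAut_eq_bot hc hnp _ ((CfsgLib.Cores.isPGroup_pCore 2).map θ)
    rw [Subgroup.map_eq_bot_iff, hkereq] at this
    exact this
  have hchar : CfsgLib.Local.HasCharP 2 ↥C := by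
    show Subgroup.centralizer (Cfsg.pCore 2 ↥C : Set ↥C) ≤ Cfsg.pCore 2 ↥C
    rw [hcore]
    intro x hx
    exact Subgroup.mem_subgroupOf.2 (hcentQ x fun q hq =>
      congrArg Subtype.val (Subgroup.mem_centralizer_iff.1 hx ⟨q, hQC hq⟩ (Subgroup.mem_subgroupOf.2 hq)))
  have hQ₀Q : Q₀ = Q := by
    rw [hQ₀, hchar.generalizedFittingSubgroup_eq, hcore, Subgroup.map_subgroupOf_eq_of_le hQC]
  subst hQ₀Q
  refine ⟨⟨hext, ?_, ?_, ?_⟩, by rw [hcard]; norm_num, hQC, hn,
    ⟨(QuotientGroup.quotientMulEquivOfEq hkereq.symm).trans (QuotientGroup.quotientKerEquivOfSurjective θ hθ)⟩⟩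
  · refine le_antisymm (fun x hx => ?_) ?_
    · have hxc := Subgroup.mem_centralizer_iff.1 hx
      exact ⟨⟨x, hcentQ x hxc⟩, Subgroup.mem_center_iff.2 fun q => Subtype.ext (hxc q q.2), rfl⟩
    · rintro _ ⟨z, hz, rfl⟩
      exact Subgroup.mem_centralizer_iff.2 fun q hq =>
        congrArg Subtype.val (Subgroup.mem_center_iff.1 hz ⟨q, hq⟩)
  · rw [hcen]
    intro x hx
    have hxC : x ∈ C := Subgroup.mem_centralizer_singleton_iff.2
      (Subgroup.mem_centralizer_iff.1 hx J (Subgroup.mem_zpowers _)).symm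
    rw [Subgroup.mem_normalizer_iff]
    intro q
    constructor
    · intro hq
      exact Subgroup.mem_subgroupOf.1 (hn.conj_mem ⟨q, hQC hq⟩ (Subgroup.mem_subgroupOf.2 hq) ⟨x, hxC⟩)
    · intro hq
      have := Subgroup.mem_subgroupOf.1 (hn.conj_mem ⟨x * q * x⁻¹, hQC hq⟩ (Subgroup.mem_subgroupOf.2 hq) ⟨x, hxC⟩⁻¹)
      simp only [Subgroup.coe_mul, Subgroup.coe_inv, inv_inv] at this
      rwa [show x⁻¹ * (x * q * x⁻¹) * x = q by group] at this
  -- no subgroup of odd order
  intro K hK hQK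
  have hKi : ∀ x ∈ K, x ∈ (MulAut.conj : G →* MulAut G).range := by
    intro x hx
    obtain ⟨r, hr⟩ : Odd (orderOf x) := hK.of_dvd_nat (Subgroup.orderOf_dvd_natCard K hx)
    have h := Subgroup.sq_mem_of_index_two (inner_index S hF hM hout) (x ^ (r + 1))
    rwa [← pow_mul, show (r + 1) * 2 = (2 * r + 1) + 1 by ring, pow_succ, ← hr, pow_orderOf_eq_one, one_mul] at h
  set K₀ := K.comap (MulAut.conj : G →* MulAut G) with hK₀
  have hnK : ∀ q ∈ Q, ∀ x ∈ K, q * x * q⁻¹ ∈ K := fun q hq x hx =>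
    (Subgroup.mem_normalizer_iff.1 (hQK hq) x).1 hx
  have hE : ∀ y ∈ lineKer D S a b, ∀ x ∈ K₀, y * x * y⁻¹ ∈ K₀ := by
    intro y hy x hx
    rw [hK₀, Subgroup.mem_comap, map_mul, map_mul, map_inv]
    exact hnK _ (hin hy) _ hx
  have hodd : ∀ x ∈ K₀, Odd (orderOf x) := fun x hx => by
    rw [← orderOf_injective _ (conj_aut_injective S hF hM) x]
    exact hK.of_dvd_nat (Subgroup.orderOf_dvd_natCard K hx)
  have htwo : ∀ {q : MulAut G}, q ∈ Q → q ∈ K → q = 1 := by
    intro q hq hqK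
    obtain ⟨n, hn⟩ := (IsPGroup.iff_orderOf.1 hQp) ⟨q, hq⟩
    rw [Subgroup.orderOf_mk] at hn
    have h2 : Odd (2 ^ n) := hn ▸ hK.of_dvd_nat (Subgroup.orderOf_dvd_natCard K hqK)
    rcases Nat.eq_zero_or_pos n with rfl | hpos
    · exact orderOf_eq_one_iff.1 (by rw [hn, pow_zero])
    · exact absurd h2 (by simp [Nat.even_pow, hpos.ne'])
  have hfree : ∀ x ∈ K₀, Commute (a * b) x → x = 1 := by
    intro x hx hc
    have hxC : MulAut.conj x ∈ C := Subgroup.mem_centralizer_singleton_iff.2 (by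
      rw [hJ, ← map_mul, ← map_mul, hc.eq])
    have hcent : ∀ q ∈ Q, q * MulAut.conj x = MulAut.conj x * q := by
      intro q hq
      have h1 : MulAut.conj x * q * (MulAut.conj x)⁻¹ * q⁻¹ ∈ K := by
        rw [show MulAut.conj x * q * (MulAut.conj x)⁻¹ * q⁻¹ = MulAut.conj x * (q * (MulAut.conj x)⁻¹ * q⁻¹) by
          group]
        exact mul_mem hx (hnK q hq _ (inv_mem hx))
      have h2 : MulAut.conj x * q * (MulAut.conj x)⁻¹ * q⁻¹ ∈ Q :=
        mul_mem (Subgroup.mem_subgroupOf.1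
          (hn.conj_mem ⟨q, hQC hq⟩ (Subgroup.mem_subgroupOf.2 hq) ⟨_, hxC⟩)) (inv_mem hq)
      have := htwo h2 h1
      rw [mul_inv_eq_one, mul_inv_eq_iff_eq_mul] at this
      exact this.symm
    exact conj_aut_injective S hF hM ((htwo (hcentQ _ hcent) hx).trans (map_one _).symm)
  have haa := S.sqd ha
  have hbb := S.sqd hb.1
  have hqq : a * b * (a * b) = 1 := by rw [hb.2.2.symm.mul_mul_mul_comm, haa, hbb, one_mul]
  have hinv : ∀ x ∈ K₀, a * b * x * (a * b)⁻¹ = x⁻¹ := fun x hx => inverted_of_free hqq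
    (hE _ (mul_mem (self_mem_lineKer S hF hM ha hb).1 (self_mem_lineKer S hF hM ha hb).2)) hfree hx
  have hA := fun x (hx : x ∈ K₀) (h : Commute a x) => odd_side S hF hM ha hb hodd hE hinv hx h
  have hB : ∀ x ∈ K₀, Commute b x → x = 1 := fun x hx h =>
    odd_side S hF hM hb.1 (link_swap ha hb) hodd
      (fun y hy => hE y (lineKer_comm S a b ▸ hy)) (fun z hz => hb.2.2.eq ▸ hinv z hz) hx h
  have htriv' : ∀ x ∈ K₀, x = 1 := by
    intro x hx
    have h1 := inverted_of_free haa (hE _ (self_mem_lineKer S hF hM ha hb).1) hA hx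
    have h2 := inverted_of_free hbb (hE _ (self_mem_lineKer S hF hM ha hb).2) hB hx
    refine hfree x hx ((mul_inv_eq_iff_eq_mul.1 ?_) : a * b * x = x * (a * b))
    rw [show a * b * x * (a * b)⁻¹ = a * (b * x * b⁻¹) * a⁻¹ by group, h2,
      show a * x⁻¹ * a⁻¹ = (a * x * a⁻¹)⁻¹ by group, h1, inv_inv]
  rw [eq_bot_iff]
  intro x hx
  obtain ⟨g, rfl⟩ := hKi x hx
  rw [Subgroup.mem_bot, htriv' g hx, map_one]

end CfsgLib.M22
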