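import Cfsg.Agent.Lib.ThreeTransp.M22Order
import Cfsg.Agent.Lib.ThreeTransp.M22Classes
import Cfsg.Agent.Lib.ThreeTransp.U6PtFrame

/-!
# Groups of type `M(22)`: the centraliser of a commuting pair acting as `SU₄(2)`

For commuting members `a`, `b` the centraliser of both is the stabiliser of the point of `b` in the model at
`a`; the lines through that point are the isotropic points of `F⁴`, and the centraliser maps onto `SU₄(2)`.
-/

set_option autoImplicit false

namespace CfsgLib.M22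

open CfsgLib.ThreeTransp CfsgLib.SporMisc
open CfsgLib.U6 (IsPt PtFrame)
open CfsgLib.PSUAut (Isot act)
open CfsgLib.UnitarySpec (psuMk)

variable {G : Type*} [Group G] {D : Set G}

/-- The joint centraliser of two elements. -/
abbrev pairCent (a b : G) : Subgroup G := Subgroup.centralizer ({a, b} : Set G)

/-- `f` lies on the line through `b` and `e` in the model at `a`, in intrinsic terms. -/
def SameLine (D : Set G) (a b e f : G) : Prop :=
  f ∈ link D a ∩ link D b ∧ ∀ x ∈ link D a ∩ link D b, (Commute x e ↔ Commute x f)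

theorem sameLine_comm {a b e f : G} : SameLine D a b e f ↔ SameLine D b a e f := by
  rw [SameLine, SameLine, Set.inter_comm]

theorem SameLine.trans {a b e f g : G} (h : SameLine D a b e f) (h' : SameLine D a b f g) :
    SameLine D a b e g := ⟨h'.1, fun x hx => (h.2 x hx).trans (h'.2 x hx)⟩

theorem SameLine.symm {a b e f : G} (he : e ∈ link D a ∩ link D b) (h : SameLine D a b e f) :
    SameLine D a b f e := ⟨he, fun x hx => (h.2 x hx).symm⟩

theorem mem_pairCent {a b k : G} : k ∈ pairCent a b ↔ Commute k a ∧ Commute k b := by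
  constructor
  · intro hg
    exact ⟨(Subgroup.mem_centralizer_iff.1 hg a (Set.mem_insert _ _)).symm,
      (Subgroup.mem_centralizer_iff.1 hg b (Set.mem_insert_of_mem _ rfl)).symm⟩
  · rintro ⟨h1, h2⟩
    exact Subgroup.mem_centralizer_iff.2 (by rintro y (rfl | rfl); exacts [h1.symm.eq, h2.symm.eq])

theorem pairCent_comm (a b : G) : pairCent a b = pairCent b a := by
  ext k; rw [mem_pairCent, mem_pairCent, and_comm]

theorem mem_pairCent_of_link {a b e : G} (he : e ∈ link D a ∩ link D b) : e ∈ pairCent a b :=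
  mem_pairCent.2 ⟨he.1.2.2.symm, he.2.2.2.symm⟩

/-- The joint centraliser of a pair preserves the common neighbourhood. -/
theorem conj_mem_common (S : Setup D) {a b k e : G} (hk : k ∈ pairCent a b) (he : e ∈ link D a ∩ link D b) :
    k * e * k⁻¹ ∈ link D a ∩ link D b := by
  obtain ⟨h1, h2⟩ := mem_pairCent.1 hk
  have e1 := link_conj S.tt k he.1
  have e2 := link_conj S.tt k he.2
  rw [h1.eq, mul_inv_cancel_right] at e1
  rw [h2.eq, mul_inv_cancel_right] at e2
  exact ⟨e1, e2⟩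

variable {F : Type} [Field F] [Fintype F] {a b : G} {u : Fin 6 → F}

namespace Model

/-- `g` represents the image of `k`. -/
def Lifts (A : Model D a F) (k : G) (g : Cfsg.SU 6 F 2) : Prop :=
  ∃ h : k ∈ Subgroup.closure (link D a), psuMk g = A.ψ ⟨k, h⟩

theorem Lifts.mul {A : Model D a F} {k k' : G} {g g' : Cfsg.SU 6 F 2} (h : A.Lifts k g) (h' : A.Lifts k' g') :
    A.Lifts (k * k') (g * g') := by
  obtain ⟨h, e⟩ := h
  obtain ⟨h', e'⟩ := h'
  refine ⟨mul_mem h h', ?_⟩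
  rw [map_mul, e, e', ← map_mul]
  rfl

theorem Lifts.inv {A : Model D a F} {k : G} {g : Cfsg.SU 6 F 2} (h : A.Lifts k g) : A.Lifts k⁻¹ g⁻¹ := by
  obtain ⟨h, e⟩ := h
  refine ⟨inv_mem h, ?_⟩
  rw [map_inv, e, ← map_inv]
  rfl

theorem lifts_one (A : Model D a F) : A.Lifts 1 1 := by
  refine ⟨one_mem _, ?_⟩
  rw [map_one, ← map_one A.ψ]
  rfl

/-- `k` induces `B` on `u^⊥ / ⟨u⟩`. -/
def Rel (A : Model D a F) (P : PtFrame u) (k : G) (B : Cfsg.SU 4 F 2) : Prop :=
  ∃ g, A.Lifts k g ∧ P.Fixed g B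

/-- `e` is the member of the point `μ u + j w`. -/
def Lab (A : Model D a F) (P : PtFrame u) (e : G) (w : Fin 4 → F) (μ : F) : Prop :=
  ∃ le : e ∈ link D a, IsPt (A.img le) (μ • u + P.j w)

end Model

variable [Finite G] (S : Setup D) (hF : Fintype.card F = 2 ^ 2) (hM : ∀ a ∈ D, Nonempty (Model D a F))
  (ha : a ∈ D) (hb : b ∈ link D a) (A : Model D a F) (hu : IsPt (A.img hb) u) (P : PtFrame u)
include S hF ha hb hu

theorem lab_mem {e : G} {w : Fin 4 → F} {μ : F} (h : A.Lab P e w μ) (hw : w ≠ 0) :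
    e ∈ link D a ∩ link D b := by
  obtain ⟨le, hd⟩ := h
  refine ⟨le, le.1, ?_, ((A.comm_iff S hF ha le hb hd hu).2 (P.perp_u hF μ w)).symm⟩
  rintro rfl
  obtain ⟨c, -, hc⟩ := IsPt.span_eq hF hu hd
  exact hw (P.coords hF (α := μ) (α' := c) (r' := 0) (by rw [map_zero, add_zero]; exact hc)).2

omit ha hb hu in
theorem lab_iso {e : G} {w : Fin 4 → F} {μ : F} (h : A.Lab P e w μ) : Cfsg.hermForm 4 F 2 w w = 0 := by
  obtain ⟨le, hd⟩ := h
  have := hd.1.2
  rwa [P.form_eq hF] at this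

omit hb hu in
theorem lab_commute {e f : G} {w w' : Fin 4 → F} {μ μ' : F} (h : A.Lab P e w μ) (h' : A.Lab P f w' μ') :
    Commute e f ↔ Cfsg.hermForm 4 F 2 w w' = 0 := by
  obtain ⟨le, hd⟩ := h
  obtain ⟨lf, hd'⟩ := h'
  rw [A.comm_iff S hF ha le lf hd hd', P.form_eq hF]

omit S ha hb hu [Finite G] in
theorem lab_smul {e : G} {w : Fin 4 → F} {μ c : F} (h : A.Lab P e w μ) (hc : c ≠ 0) :
    A.Lab P e (c • w) (c * μ) := by
  obtain ⟨le, hd⟩ := h
  refine ⟨le, ?_⟩
  have := hd.smul hF hc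
  rwa [smul_add, smul_smul, ← map_smul] at this

omit S ha hb hu [Finite G] in
theorem lab_unique {e : G} {w w' : Fin 4 → F} {μ μ' : F} (h : A.Lab P e w μ) (h' : A.Lab P e w' μ') :
    ∃ c, c ≠ 0 ∧ w' = c • w ∧ μ' = c * μ := by
  obtain ⟨le, hd⟩ := h
  obtain ⟨_, hd'⟩ := h'
  obtain ⟨c, hc, e1⟩ := IsPt.span_eq hF hd hd'
  rw [smul_add, smul_smul, ← map_smul] at e1
  obtain ⟨e2, e3⟩ := P.coords hF e1
  exact ⟨c, hc, e3, e2⟩

omit hb hu in
theorem lab_inj {e f : G} {w : Fin 4 → F} {μ : F} (h : A.Lab P e w μ) (h' : A.Lab P f w μ) : e = f := by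
  obtain ⟨le, hd⟩ := h
  obtain ⟨lf, hd'⟩ := h'
  exact A.img_inj S ha le lf (IsPt.unique hF hd hd')

theorem exists_lab {e : G} (he : e ∈ link D a ∩ link D b) :
    ∃ w μ, w ≠ 0 ∧ A.Lab P e w μ := by
  obtain ⟨v, hv⟩ := A.exists_pt_of_link S hF ha he.1
  obtain ⟨μ, w, rfl⟩ := P.exists_perp_decomp hF ((A.comm_iff S hF ha he.1 hb hv hu).1 he.2.2.2.symm)
  refine ⟨w, μ, fun hw => he.2.2.1 ?_, he.1, hv⟩
  subst hw
  rw [map_zero, add_zero] at hv
  exact A.img_inj S ha he.1 hb (IsPt.eq_of_smul hF hu hv rfl).symm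

theorem exists_member {w : Fin 4 → F} (hw : w ≠ 0) (hww : Cfsg.hermForm 4 F 2 w w = 0) (μ : F) :
    ∃ e, e ∈ link D a ∩ link D b ∧ A.Lab P e w μ := by
  obtain ⟨x, hx⟩ := U6.exists_pt hF (P.isot hF hw hww μ)
  obtain ⟨e, le, rfl⟩ := A.exists_link_of_pt S hF ha hx
  exact ⟨e, lab_mem S hF ha hb A hu P ⟨le, hx⟩ hw, le, hx⟩

theorem sameLine_iff {e f : G} {w w' : Fin 4 → F} {μ μ' : F} (h : A.Lab P e w μ) (h' : A.Lab P f w' μ')
    (hw : w ≠ 0) (hw' : w' ≠ 0) : SameLine D a b e f ↔ ∃ c : F, w' = c • w := by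
  constructor
  · intro hs
    by_contra hcon
    push Not at hcon
    obtain ⟨x, hx, hxx, hxw, hxw'⟩ := P.exists_sep hF hw hw' (lab_iso S hF A P h) (lab_iso S hF A P h') hcon
    obtain ⟨m, hm, hml⟩ := exists_member S hF ha hb A hu P hx hxx 0
    exact hxw' ((lab_commute S hF ha A P hml h').1 ((hs.2 m hm).1 ((lab_commute S hF ha A P hml h).2 hxw)))
  · rintro ⟨c, rfl⟩
    refine ⟨lab_mem S hF ha hb A hu P h' hw', fun x hx => ?_⟩
    obtain ⟨v, ν, -, hv⟩ := exists_lab S hF ha hb A hu P hx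
    obtain ⟨σ, hσ⟩ := U6.exists_sigma hF
    rw [lab_commute S hF ha A P hv h, lab_commute S hF ha A P hv h', CfsgLib.PSUAut.hsmul_right hF hσ, hσ]
    simp [show c ≠ 0 from fun h0 => hw' (by rw [h0, zero_smul])]

theorem sameLine_lab {e f : G} {w : Fin 4 → F} {μ : F} (h : A.Lab P e w μ) (hw : w ≠ 0)
    (hs : SameLine D a b e f) : ∃ μ', A.Lab P f w μ' := by
  obtain ⟨w', ν, hw', h'⟩ := exists_lab S hF ha hb A hu P hs.1
  obtain ⟨c, rfl⟩ := (sameLine_iff S hF ha hb A hu P h h' hw hw').1 hs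
  have hc : c ≠ 0 := fun h0 => hw' (by rw [h0, zero_smul])
  have := lab_smul hF A P h' (inv_ne_zero hc)
  rw [inv_smul_smul₀ hc] at this
  exact ⟨_, this⟩

omit hb hu in
/-- The action on labels. -/
theorem lab_conj {k e : G} {g : Cfsg.SU 6 F 2} {B : Cfsg.SU 4 F 2} {w : Fin 4 → F} {μ ν : F}
    (hk : A.Lifts k g) (hg : P.Fixed g B) (h : A.Lab P e w μ) (hν : act g (P.j w) = P.j (act B w) + ν • u) :
    A.Lab P (k * e * k⁻¹) (act B w) (μ + ν) := by
  have _ := hF
  have _ := ha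
  obtain ⟨hk, hkg⟩ := hk
  obtain ⟨le, hd⟩ := h
  have h1 := hd.conj hF g
  rw [hkg, CfsgLib.PSUAut.act_add, CfsgLib.PSUAut.act_smul, hg.1, hν, add_left_comm, ← add_smul, add_comm] at h1
  rw [← A.img_conj S le ⟨k, hk⟩] at h1
  exact ⟨Model.conj_mem S le ⟨k, hk⟩, h1⟩

theorem rel_unique {k : G} {B B' : Cfsg.SU 4 F 2} (h : A.Rel P k B) (h' : A.Rel P k B') : B = B' := by
  obtain ⟨g, ⟨_, e⟩, hB⟩ := h
  obtain ⟨g', ⟨_, e'⟩, hB'⟩ := h'
  exact hB.unique hF hB' (e.trans e'.symm)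

omit S hF ha hb hu [Finite G] in
theorem rel_mul {k k' : G} {B B' : Cfsg.SU 4 F 2} (h : A.Rel P k B) (h' : A.Rel P k' B') :
    A.Rel P (k * k') (B * B') := by
  obtain ⟨g, e, hB⟩ := h
  obtain ⟨g', e', hB'⟩ := h'
  exact ⟨g * g', e.mul e', hB.mul hB'⟩

theorem rel_member {e : G} {w : Fin 4 → F} {μ : F} (h : A.Lab P e w μ) (hw : w ≠ 0) :
    ∃ B : Cfsg.SU 4 F 2, (∀ r, act B r = r + Cfsg.hermForm 4 F 2 r w • w) ∧ A.Rel P e B := by
  have hww := lab_iso S hF A P h
  obtain ⟨le, -, t, ht, htx⟩ := h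
  obtain ⟨B, hB, hfix⟩ := P.exists_fixed_transvection hF ht rfl hw hww
  exact ⟨B, hB, t, ⟨Subgroup.subset_closure le, htx⟩, hfix⟩

include hM

/-- The joint centraliser is generated by the pair and its common neighbours. -/
theorem pairCent_eq : pairCent a b = Subgroup.closure ((link D a ∩ link D b) ∪ {a, b}) := by
  refine le_antisymm (fun k hk => ?_) ((Subgroup.closure_le _).2 ?_)
  swap
  · rintro e (he | rfl | rfl)
    · exact mem_pairCent_of_link he
    · exact mem_pairCent.2 ⟨Commute.refl _, hb.2.2⟩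
    · exact mem_pairCent.2 ⟨hb.2.2.symm, Commute.refl _⟩
  obtain ⟨hka, hkb⟩ := mem_pairCent.1 hk
  have hkl : k ∈ Subgroup.closure (link D a) := by
    rw [← centralizer_eq S hF hM ha]
    exact Subgroup.mem_centralizer_singleton_iff.2 hka.eq
  obtain ⟨g, hg⟩ := QuotientGroup.mk'_surjective (Subgroup.center (Cfsg.SU 6 F 2)) (A.ψ ⟨k, hkl⟩)
  have hg' : psuMk g = A.ψ ⟨k, hkl⟩ := hg
  have h1 := hu.conj hF g
  rw [hg', ← A.img_conj S hb ⟨k, hkl⟩] at h1
  have himg : A.img (Model.conj_mem S hb ⟨k, hkl⟩) = A.img hb :=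
    congrArg A.ψ (Subtype.ext (show k * b * k⁻¹ = b by rw [hkb.eq, mul_inv_cancel_right]))
  rw [himg] at h1
  obtain ⟨lam, -, hlam⟩ := IsPt.span_eq hF hu h1
  set N := Subgroup.closure ((link D a ∩ link D b) ∪ {a, b}) with hN
  have hmem := U6.stab_mem hF hu.1 (N := (N.subgroupOf _).map A.ψ) (fun x d hx hd => by
    obtain ⟨f, lf, rfl⟩ := A.exists_link_of_pt S hF ha hx
    refine Subgroup.mem_map.2 ⟨⟨f, Subgroup.subset_closure lf⟩, Subgroup.mem_subgroupOf.2 ?_, rfl⟩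
    by_cases hfb : f = b
    · exact Subgroup.subset_closure (Or.inr (Or.inr hfb))
    · exact Subgroup.subset_closure (Or.inl
        ⟨lf, lf.1, hfb, ((A.comm_iff S hF ha lf hb hx hu).2 hd).symm⟩)) hlam
  rw [hg'] at hmem
  obtain ⟨⟨m, hm⟩, hmN, hmk⟩ := Subgroup.mem_map.1 hmem
  have hmem' : m⁻¹ * k ∈ Subgroup.closure (link D a) := mul_mem (inv_mem hm) hkl
  have hker : A.ψ ⟨m⁻¹ * k, hmem'⟩ = 1 := by
    rw [show (⟨m⁻¹ * k, hmem'⟩ : ↥(Subgroup.closure (link D a))) =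
      (⟨m, hm⟩ : ↥(Subgroup.closure (link D a)))⁻¹ * ⟨k, hkl⟩ from rfl, map_mul, map_inv, hmk, inv_mul_cancel]
  have hin : m⁻¹ * k ∈ N := by
    rcases central_cases S hF hM ha A hmem' hker with h | h
    · rw [h]; exact one_mem _
    · exact Subgroup.subset_closure (Or.inr (Or.inl h))
  have := mul_mem (Subgroup.mem_subgroupOf.1 hmN) hin
  rwa [mul_inv_cancel_left] at this

theorem rel_left : A.Rel P a 1 := by
  have hal := self_mem_link_closure S hF hM ha
  refine ⟨1, ⟨hal, ?_⟩, P.fixed_one hF⟩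
  rw [map_one]
  exact ((A.ker _).2 (mem_center_of_commute fun y hy => hy.2.2)).symm

theorem rel_right : A.Rel P b 1 := by
  obtain ⟨-, t, ht, htx⟩ := hu
  refine ⟨t, ⟨Subgroup.subset_closure hb, htx⟩, by rw [ht, P.iso.2, zero_smul, add_zero], fun r => ⟨0, ?_⟩⟩
  rw [ht, P.hju, CfsgLib.PSUAut.act_one, zero_smul]

theorem rel_exists {k : G} (hk : k ∈ pairCent a b) : ∃ B, A.Rel P k B := by
  rw [pairCent_eq S hF hM ha hb A hu] at hk
  induction hk using Subgroup.closure_induction with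
  | mem e he =>
    rcases he with he | rfl | rfl
    · obtain ⟨w, μ, hw, hl⟩ := exists_lab S hF ha hb A hu P he
      obtain ⟨B, -, hB⟩ := rel_member S hF ha hb A hu P hl hw
      exact ⟨B, hB⟩
    · exact ⟨1, rel_left S hF hM ha hb A hu P⟩
    · exact ⟨1, rel_right S hF hM ha hb A hu P⟩
  | one => exact ⟨1, 1, A.lifts_one, P.fixed_one hF⟩
  | mul x y _ _ hx hy =>
    obtain ⟨B, hB⟩ := hx
    obtain ⟨B', hB'⟩ := hy
    exact ⟨B * B', rel_mul A P hB hB'⟩
  | inv x _ hx =>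
    obtain ⟨B, g, e, hB⟩ := hx
    exact ⟨B⁻¹, g⁻¹, e.inv, hB.inv⟩

/-- The homomorphism of the joint centraliser onto `SU₄(2)`. -/
theorem exists_pair_rho : ∃ ρ : ↥(pairCent a b) →* Cfsg.SU 4 F 2,
    Function.Surjective ρ ∧ ∀ k : ↥(pairCent a b), A.Rel P (k : G) (ρ k) := by
  classical
  have hex : ∀ k : ↥(pairCent a b), ∃ B, A.Rel P (k : G) B := fun k => rel_exists S hF hM ha hb A hu P k.2
  choose f hf using hex
  let ρ : ↥(pairCent a b) →* Cfsg.SU 4 F 2 := MonoidHom.mk' f fun x y =>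
    rel_unique S hF ha hb A hu P (hf (x * y)) (rel_mul A P (hf x) (hf y))
  refine ⟨ρ, MonoidHom.range_eq_top.1 (eq_top_iff.2 ?_), hf⟩
  rw [← CfsgLib.Classical.Unitary.su_closure_transvections hF (n := 4) (by norm_num) (by norm_num),
    Subgroup.closure_le]
  rintro B ⟨v, c, hv, hc⟩
  rcases U6.four_transvection hF hv hc with h | ⟨hv0, h⟩
  · rw [show B = 1 from CfsgLib.PSUAut.act_ext fun r => by rw [h, CfsgLib.PSUAut.act_one]]
    exact one_mem _
  · obtain ⟨e, he, hl⟩ := exists_member S hF ha hb A hu P hv0 hv 0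
    obtain ⟨B', hB', hrel⟩ := rel_member S hF ha hb A hu P hl hv0
    refine ⟨⟨e, mem_pairCent_of_link he⟩, ?_⟩
    rw [show B = B' from CfsgLib.PSUAut.act_ext fun r => by rw [h, hB']]
    exact rel_unique S hF ha hb A hu P (hf ⟨e, mem_pairCent_of_link he⟩) hrel

omit A hu in
theorem card_pairCent : Nat.card ↥(pairCent a b) = 26542080 := by
  obtain ⟨A⟩ := hM a ha
  set H := Subgroup.closure (link D a) with hH
  letI : MulAction ↥H G := MulAction.compHom G (MulAut.conj.comp H.subtype)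
  have hsmul : ∀ (h : ↥H) (x : G), h • x = (h : G) * x * (h : G)⁻¹ := fun _ _ => rfl
  have hst : MulAction.stabilizer ↥H b = (pairCent a b).subgroupOf H := by
    ext h
    rw [MulAction.mem_stabilizer_iff, hsmul, Subgroup.mem_subgroupOf, mem_pairCent, mul_inv_eq_iff_eq_mul]
    exact ⟨fun e => ⟨(commute_link_closure h.2).symm, e⟩, fun e => e.2⟩
  have horb : MulAction.orbit ↥H b = link D a := by
    ext x
    constructor
    · rintro ⟨h, rfl⟩
      exact Model.conj_mem S hb h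
    · intro hx
      obtain ⟨h, hh, e⟩ := A.link_conj_of_mem S hF ha hb hx
      exact ⟨⟨h, hh⟩, e⟩
  have hle : pairCent a b ≤ H := fun k hk => by
    rw [hH, ← centralizer_eq S hF hM ha]
    exact Subgroup.mem_centralizer_singleton_iff.2 (mem_pairCent.1 hk).1.eq
  have h1 := Subgroup.card_mul_index (MulAction.stabilizer ↥H b)
  rw [MulAction.index_stabilizer, horb, link_ncard_eq S hF hM ha, hst,
    Nat.card_congr (Subgroup.subgroupOfEquivOfLe hle).toEquiv, card_link_closure S hF hM ha] at h1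
  omega

omit S hM ha hb hu A [Finite G] in
theorem card_su_four : Nat.card (Cfsg.SU 4 F 2) = 25920 := by
  have hsu := CfsgLib.Classical.card_su (n := 4) (F := F) (q := 2) hF (by norm_num)
  norm_num [CfsgLib.Classical.unitaryOrder, Finset.prod_range_succ, Nat.even_iff] at hsu
  omega

theorem card_ker_rho (ρ : ↥(pairCent a b) →* Cfsg.SU 4 F 2) (hρ : Function.Surjective ρ) :
    Nat.card ρ.ker = 1024 := by
  have h1 := Subgroup.card_mul_index ρ.ker
  rw [Subgroup.index_ker, MonoidHom.range_eq_top.2 hρ, Subgroup.card_top, card_pairCent S hF hM ha hb,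
    card_su_four hF] at h1
  omega

end CfsgLib.M22
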