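import Cfsg.Agent.Lib.ThreeTransp.M22PairHom

/-!
# Groups of type `M(22)`: the lines through a commuting pair

The four members of a line have product `a * b`; the elements preserving every line form a normal `2`-subgroup
of order `2^10` whose centre is the four-group of the pair.
-/

set_option autoImplicit false

namespace CfsgLib.M22

open CfsgLib.ThreeTransp CfsgLib.SporMisc
open CfsgLib.U6 (IsPt PtFrame)
open CfsgLib.PSUAut (Isot act)
open CfsgLib.UnitarySpec (psuMk)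

variable {G : Type*} [Group G] {D : Set G}

/-- The elements of the joint centraliser preserving every line. -/
def lineKer (D : Set G) (S : Setup D) (a b : G) : Subgroup G where
  carrier := {k | k ∈ pairCent a b ∧ ∀ e ∈ link D a ∩ link D b, SameLine D a b e (k * e * k⁻¹)}
  one_mem' := ⟨one_mem _, fun e he => ⟨by simpa using he, fun x _ => by simp⟩⟩
  mul_mem' := fun {k l} hk hl => ⟨mul_mem hk.1 hl.1, fun e he => by
    have h := (hl.2 e he).trans (hk.2 _ (conj_mem_common S hl.1 he))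
    rwa [show k * (l * e * l⁻¹) * k⁻¹ = k * l * e * (k * l)⁻¹ by group] at h⟩
  inv_mem' := fun {k} hk => ⟨inv_mem hk.1, fun e he => by
    have he' := conj_mem_common S (inv_mem hk.1) he
    have h := hk.2 _ he'
    rw [show k * (k⁻¹ * e * k⁻¹⁻¹) * k⁻¹ = e by group] at h
    exact h.symm he'⟩

theorem mem_lineKer {S : Setup D} {a b k : G} : k ∈ lineKer D S a b ↔
    k ∈ pairCent a b ∧ ∀ e ∈ link D a ∩ link D b, SameLine D a b e (k * e * k⁻¹) := Iff.rfl

theorem lineKer_le {S : Setup D} {a b : G} : lineKer D S a b ≤ pairCent a b := fun _ h => h.1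

theorem lineKer_comm (S : Setup D) (a b : G) : lineKer D S a b = lineKer D S b a := by
  ext k
  rw [mem_lineKer, mem_lineKer, pairCent_comm a b, Set.inter_comm (link D a)]
  simp only [sameLine_comm (a := a) (b := b)]

theorem SameLine.commute {a b e f g : G} (he : e ∈ link D a ∩ link D b) (hf : SameLine D a b e f)
    (hg : SameLine D a b e g) : Commute f g :=
  (hg.2 f hf.1).1 ((hf.2 e he).1 (Commute.refl e)).symm

variable {F : Type} [Field F] [Fintype F] {a b : G} {u : Fin 6 → F}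

/-- `k` acts on `u^⊥` as the translation given by `z`. -/
def Model.TVec (A : Model D a F) (P : PtFrame u) (k : G) (z : Fin 4 → F) : Prop :=
  ∃ g, A.Lifts k g ∧ act g u = u ∧ ∀ r, act g (P.j r) = P.j r + Cfsg.hermForm 4 F 2 r z • u

theorem Model.TVec.rel {A : Model D a F} {P : PtFrame u} {k : G} {z : Fin 4 → F} (h : A.TVec P k z) :
    A.Rel P k 1 := by
  obtain ⟨g, hg, hgu, hgz⟩ := h
  exact ⟨g, hg, hgu, fun r => ⟨_, by rw [hgz, CfsgLib.PSUAut.act_one]⟩⟩

theorem Model.TVec.mul (hF : Fintype.card F = 2 ^ 2) {A : Model D a F} {P : PtFrame u} {k k' : G}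
    {z z' : Fin 4 → F} (h : A.TVec P k z) (h' : A.TVec P k' z') : A.TVec P (k * k') (z + z') := by
  obtain ⟨σ, hσ⟩ := U6.exists_sigma hF
  obtain ⟨g, hg, hgu, hgz⟩ := h
  obtain ⟨g', hg', hgu', hgz'⟩ := h'
  refine ⟨g * g', hg.mul hg', by rw [CfsgLib.PSUAut.act_mul, hgu', hgu], fun r => ?_⟩
  rw [CfsgLib.PSUAut.act_mul, hgz', CfsgLib.PSUAut.act_add, CfsgLib.PSUAut.act_smul, hgu, hgz,
    CfsgLib.PSUAut.hadd_right hF hσ, add_smul, add_assoc]

theorem exists_iso_nonperp (hF : Fintype.card F = 2 ^ 2) {z : Fin 4 → F} (hz : z ≠ 0) :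
    ∃ w : Fin 4 → F, Cfsg.hermForm 4 F 2 w w = 0 ∧ Cfsg.hermForm 4 F 2 w z ≠ 0 := by
  obtain ⟨j, hj⟩ := Function.ne_iff.1 hz
  obtain ⟨i, hij⟩ := exists_ne j
  obtain ⟨ω, h0, h1, -, -⟩ := U6.exists_omega hF
  let v : F → Fin 4 → F := fun c => Pi.single i 1 + c • Pi.single j 1
  have hv : ∀ c z, Cfsg.hermForm 4 F 2 (v c) z = z i ^ 2 + c * z j ^ 2 := by
    intro c z
    simp [v, Cfsg.hermForm, Pi.single_apply, add_mul, Finset.sum_add_distrib]
  have hiso : ∀ c, c ≠ 0 → Cfsg.hermForm 4 F 2 (v c) (v c) = 0 := by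
    intro c hc
    rw [hv]
    simp [v, Pi.single_apply, hij, hij.symm, ← pow_succ', U6.cube_eq_one hF hc, U6.add_self hF]
  by_cases h : Cfsg.hermForm 4 F 2 (v 1) z = 0
  · refine ⟨v ω, hiso ω h0, fun h' => hj ?_⟩
    rw [hv] at h h'
    have : (ω - 1) * z j ^ 2 = 0 := by linear_combination h' - h
    exact pow_eq_zero_iff two_ne_zero |>.1 ((mul_eq_zero.1 this).resolve_left (sub_ne_zero.2 h1))
  · exact ⟨v 1, hiso 1 one_ne_zero, h⟩

theorem span_iso_four (hF : Fintype.card F = 2 ^ 2) :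
    Submodule.span F {w : Fin 4 → F | Isot 2 w} = ⊤ := by
  obtain ⟨σ, hσ⟩ := U6.exists_sigma hF
  by_contra h
  obtain ⟨f, hf0, hf⟩ := Submodule.exists_le_ker_of_lt_top _ (lt_top_iff_ne_top.2 h)
  obtain ⟨z, hz⟩ := U6.exists_rep hF f
  have hz0 : z ≠ 0 := fun e => hf0 (LinearMap.ext fun r => by
    rw [← hz, e, CfsgLib.PSUAut.hzero_right hF hσ, LinearMap.zero_apply])
  obtain ⟨w, hw, hwz⟩ := exists_iso_nonperp hF hz0
  refine hwz ?_
  rw [hz]
  exact hf (Submodule.subset_span (show Isot 2 w from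
    ⟨fun e => hwz (by rw [e, CfsgLib.PSUAut.hzero_left hF hσ]), hw⟩))

variable [Finite G] (S : Setup D) (hF : Fintype.card F = 2 ^ 2) (hM : ∀ a ∈ D, Nonempty (Model D a F))
  (ha : a ∈ D) (hb : b ∈ link D a) (A : Model D a F) (hu : IsPt (A.img hb) u) (P : PtFrame u)
include S hF hM ha hb hu P

theorem exists_class_list {e : G} (he : e ∈ link D a ∩ link D b) :
    ∃ l : List G, l.length = 4 ∧ l.Nodup ∧ (∀ f, f ∈ l ↔ SameLine D a b e f) ∧
      (b * l.prod = 1 ∨ b * l.prod = a) := by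
  obtain ⟨w, μ, hw, hl⟩ := exists_lab S hF ha hb A hu P he
  obtain ⟨le, hd⟩ := id hl
  set d := μ • u + P.j w with hd'
  have hne : A.img hb ≠ A.img le := fun h => he.2.2.1 (A.img_inj S ha hb le h).symm
  have hud : Cfsg.hermForm 6 F 2 u d = 0 := (U6.comm_zero hF).1 (P.perp_u hF μ w)
  obtain ⟨x₂, x₃, x₄, w₂, w₃, w₄, hx₂, hx₃, hx₄, m₂, m₃, m₄, hnd, hprod, hall⟩ :=
    U6.exists_line hF hu hd hud hne
  have hmk : ∀ {x : Cfsg.PSU 6 F 2} {v : Fin 6 → F}, IsPt x v → v ∈ Submodule.span F {u, d} →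
      x ≠ A.img hb → ∃ (f : G) (lf : f ∈ link D a), A.img lf = x ∧ SameLine D a b e f := by
    intro x v hx hv hxb
    obtain ⟨p, q, rfl⟩ := Submodule.mem_span_pair.1 hv
    obtain ⟨f, lf, rfl⟩ := A.exists_link_of_pt S hF ha hx
    have hq : q ≠ 0 := fun h => hxb (by
      rw [h, zero_smul, add_zero] at hx
      exact (IsPt.eq_of_smul hF hu hx rfl).symm)
    have hlf : A.Lab P f (q • w) (p + q * μ) := ⟨lf, by
      rw [hd', smul_add, smul_smul, ← map_smul, ← add_assoc, ← add_smul] at hx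
      exact hx⟩
    exact ⟨f, lf, rfl, (sameLine_iff S hF ha hb A hu P hl hlf hw (smul_ne_zero hq hw)).2 ⟨q, rfl⟩⟩
  simp only [List.nodup_cons, List.mem_cons, List.not_mem_nil, or_false, not_or, List.nodup_nil,
    not_false_eq_true, and_true] at hnd
  obtain ⟨⟨n01, n02, n03, n04⟩, ⟨n12, n13, n14⟩, ⟨n23, n24⟩, n34⟩ := hnd
  obtain ⟨e₂, l₂, rfl, s₂⟩ := hmk hx₂ m₂ (Ne.symm n02)
  obtain ⟨e₃, l₃, rfl, s₃⟩ := hmk hx₃ m₃ (Ne.symm n03)
  obtain ⟨e₄, l₄, rfl, s₄⟩ := hmk hx₄ m₄ (Ne.symm n04)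
  refine ⟨[e, e₂, e₃, e₄], rfl, ?_, fun f => ⟨fun hf => ?_, fun hf => ?_⟩, ?_⟩
  · simp only [List.nodup_cons, List.mem_cons, List.not_mem_nil, or_false, not_or, List.nodup_nil,
      not_false_eq_true, and_true]
    refine ⟨⟨?_, ?_, ?_⟩, ⟨?_, ?_⟩, ?_⟩
    · rintro rfl; exact n12 rfl
    · rintro rfl; exact n13 rfl
    · rintro rfl; exact n14 rfl
    · rintro rfl; exact n23 rfl
    · rintro rfl; exact n24 rfl
    · rintro rfl; exact n34 rfl
  · simp only [List.mem_cons, List.not_mem_nil, or_false] at hf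
    rcases hf with rfl | rfl | rfl | rfl
    exacts [⟨he, fun x _ => Iff.rfl⟩, s₂, s₃, s₄]
  · obtain ⟨ν, lf, hf'⟩ := sameLine_lab S hF ha hb A hu P hl hw hf
    have hm := hall _ _ hf' (Submodule.mem_span_pair.2 ⟨ν - μ, 1, by rw [hd', one_smul, sub_smul]; abel⟩)
    simp only [List.mem_cons, List.not_mem_nil, or_false] at hm ⊢
    rcases hm with h | h | h | h | h
    · exact absurd (A.img_inj S ha lf hb h) hf.1.2.2.1
    · exact Or.inl (A.img_inj S ha lf le h)
    · exact Or.inr (Or.inl (A.img_inj S ha lf l₂ h))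
    · exact Or.inr (Or.inr (Or.inl (A.img_inj S ha lf l₃ h)))
    · exact Or.inr (Or.inr (Or.inr (A.img_inj S ha lf l₄ h)))
  · have hmem : b * e * e₂ * e₃ * e₄ ∈ Subgroup.closure (link D a) :=
      mul_mem (mul_mem (mul_mem (mul_mem (Subgroup.subset_closure hb) (Subgroup.subset_closure le))
        (Subgroup.subset_closure l₂)) (Subgroup.subset_closure l₃)) (Subgroup.subset_closure l₄)
    have hker : A.ψ ⟨_, hmem⟩ = 1 := by
      rw [← hprod]
      simp only [Model.img, ← map_mul]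
      rfl
    have := central_cases S hF hM ha A hmem hker
    simpa [mul_assoc] using this

omit P hu A in
/-- The product of four distinct members of a line. -/
theorem line_four {e f₁ f₂ f₃ f₄ : G} (he : e ∈ link D a ∩ link D b) (hnd : [f₁, f₂, f₃, f₄].Nodup)
    (hf : ∀ f ∈ [f₁, f₂, f₃, f₄], SameLine D a b e f) : f₁ * f₂ * f₃ * f₄ = a * b := by
  have key : ∀ {a b : G}, a ∈ D → b ∈ link D a → e ∈ link D a ∩ link D b →
      (∀ f ∈ [f₁, f₂, f₃, f₄], SameLine D a b e f) →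
      b * [f₁, f₂, f₃, f₄].prod = 1 ∨ b * [f₁, f₂, f₃, f₄].prod = a := by
    intro a b ha hb he hf
    obtain ⟨A⟩ := hM a ha
    obtain ⟨u, hu⟩ := A.exists_pt_of_link S hF ha hb
    obtain ⟨P⟩ := U6.exists_frame hF hu.1
    obtain ⟨l, hlen, -, hmem, hprod⟩ := exists_class_list S hF hM ha hb A hu P he
    have hperm : [f₁, f₂, f₃, f₄].Perm l :=
      (hnd.subperm fun f h => (hmem f).2 (hf f h)).perm_of_length_le (by rw [hlen]; rfl)
    rwa [hperm.prod_eq' (List.pairwise_of_forall_mem_list fun x hx y hy =>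
      (hf x hx).commute he (hf y hy))]
  set P := [f₁, f₂, f₃, f₄].prod with hP
  have e1 : f₁ * f₂ * f₃ * f₄ = P := by simp [hP, mul_assoc]
  have hbb := S.sqd hb.1
  have haa := S.sqd ha
  rw [e1]
  rcases key ha hb he hf with h | h
  · have hPb : P = b := by rw [← cancel₂ hbb P, h, mul_one]
    rcases key hb.1 (link_swap ha hb) ⟨he.2, he.1⟩ (fun f h => sameLine_comm.1 (hf f h)) with h' | h'
    · refine absurd ?_ hb.2.1
      rw [← hPb, ← cancel₂ haa P, h', mul_one]
    · rw [← cancel₂ haa P, h']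
  · rw [← cancel₂ hbb P, h, hb.2.2.eq]

theorem tvec_unique {k : G} {z z' : Fin 4 → F} (h : A.TVec P k z) (h' : A.TVec P k z') : z = z' := by
  obtain ⟨σ, hσ⟩ := U6.exists_sigma hF
  obtain ⟨g, ⟨_, e⟩, hgu, hgz⟩ := h
  obtain ⟨g', ⟨_, e'⟩, hgu', hgz'⟩ := h'
  have hg : g = g' := CfsgLib.PSUAut.eq_of_psuMk hF hσ (by norm_num) (e.trans e'.symm) P.iso.1 hgu hgu'
  subst hg
  refine sub_eq_zero.1 (CfsgLib.PSUAut.eq_zero_of_perp (n := 4) hF hσ fun r => ?_)
  have h2 := hgz r
  rw [hgz', add_right_inj] at h2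
  rw [CfsgLib.PSUAut.hsub_right hF hσ, sub_eq_zero]
  exact (smul_left_injective F P.iso.1 h2).symm

omit hM ha hb hu in
theorem tvec_of_rel {k : G} (h : A.Rel P k 1) : ∃ z, A.TVec P k z := by
  obtain ⟨g, hg, hgu, hgj⟩ := h
  let φ : (Fin 4 → F) →ₗ[F] F :=
    { toFun := fun r => Cfsg.hermForm 6 F 2 (act g (P.j r)) P.y
      map_add' := fun r s => by rw [map_add, CfsgLib.PSUAut.act_add, U6.add_left hF]
      map_smul' := fun c r => by rw [map_smul, CfsgLib.PSUAut.act_smul, U6.smul_left hF]; rfl }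
  obtain ⟨z, hz⟩ := U6.exists_rep hF φ
  refine ⟨z, g, hg, hgu, fun r => ?_⟩
  obtain ⟨ν, hν⟩ := hgj r
  rw [CfsgLib.PSUAut.act_one] at hν
  rw [hz r, hν]
  show _ = _ + Cfsg.hermForm 6 F 2 (act g (P.j r)) P.y • u
  rw [hν, U6.add_left hF, U6.smul_left hF, P.hjy, P.uy hF, zero_add, mul_one]

theorem tvec_conj {k e : G} {z w : Fin 4 → F} {μ : F} (hk : A.TVec P k z) (h : A.Lab P e w μ) :
    A.Lab P (k * e * k⁻¹) w (μ + Cfsg.hermForm 4 F 2 w z) := by
  obtain ⟨g, hg, hgu, hgz⟩ := hk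
  have hfix : P.Fixed g 1 := ⟨hgu, fun r => ⟨_, by rw [hgz, CfsgLib.PSUAut.act_one]⟩⟩
  have := lab_conj S hF ha A P hg hfix h (ν := Cfsg.hermForm 4 F 2 w z)
    (by rw [hgz, CfsgLib.PSUAut.act_one])
  rwa [CfsgLib.PSUAut.act_one] at this

theorem tvec_pair {e f : G} {w : Fin 4 → F} {μ μ' : F} (h : A.Lab P e w μ) (h' : A.Lab P f w μ') :
    A.TVec P (e * f) ((μ + μ') ^ 2 • w) := by
  obtain ⟨σ, hσ⟩ := U6.exists_sigma hF
  have := U6.charTwo hF
  have hww := lab_iso S hF A P h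
  obtain ⟨le, -, t, ht, htx⟩ := h
  obtain ⟨lf, -, t', ht', htx'⟩ := h'
  have hd : ∀ (c : F) (r : Fin 4 → F), Cfsg.hermForm 6 F 2 (P.j r) (c • u + P.j w) =
      Cfsg.hermForm 4 F 2 r w := fun c r => by
    have h0 := P.form_eq hF 0 c r w
    rwa [zero_smul, zero_add] at h0
  refine ⟨t * t', (show A.Lifts e t from ⟨Subgroup.subset_closure le, htx⟩).mul
    ⟨Subgroup.subset_closure lf, htx'⟩, ?_, fun r => ?_⟩
  · rw [CfsgLib.PSUAut.act_mul, ht', (U6.comm_zero hF).1 (P.perp_u hF μ' w), zero_smul, add_zero, ht,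
      (U6.comm_zero hF).1 (P.perp_u hF μ w), zero_smul, add_zero]
  · rw [CfsgLib.PSUAut.act_mul, ht', hd, ht, U6.add_left hF, hd, U6.smul_left hF, P.form_eq hF, hww,
      mul_zero, add_zero, CfsgLib.PSUAut.hsmul_right hF hσ, hσ, ← pow_mul, U6.pow_four hF]
    have two : (2 : F) = 0 := CharTwo.two_eq_zero
    match_scalars
    · linear_combination (0 : F)
    · linear_combination (0 : F)
    · linear_combination Cfsg.hermForm 4 F 2 r w * two

theorem tvec_left : A.TVec P a 0 := by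
  obtain ⟨σ, hσ⟩ := U6.exists_sigma hF
  refine ⟨1, ⟨self_mem_link_closure S hF hM ha, ?_⟩, CfsgLib.PSUAut.act_one u, fun r => ?_⟩
  · rw [map_one]
    exact ((A.ker _).2 (mem_center_of_commute fun y hy => hy.2.2)).symm
  · rw [CfsgLib.PSUAut.act_one, CfsgLib.PSUAut.hzero_right hF hσ, zero_smul, add_zero]

theorem tvec_right : A.TVec P b 0 := by
  obtain ⟨σ, hσ⟩ := U6.exists_sigma hF
  obtain ⟨-, t, ht, htx⟩ := hu
  refine ⟨t, ⟨Subgroup.subset_closure hb, htx⟩, by rw [ht, P.iso.2, zero_smul, add_zero], fun r => ?_⟩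
  rw [ht, P.hju, CfsgLib.PSUAut.hzero_right hF hσ]

theorem tvec_zero {k : G} (h : A.TVec P k 0) : k ∈ Subgroup.closure ({a, b} : Set G) := by
  obtain ⟨σ, hσ⟩ := U6.exists_sigma hF
  have := U6.charTwo hF
  obtain ⟨g, ⟨hk, hkg⟩, hgu, hgz⟩ := h
  have hfix : ∀ r, act g (P.j r) = P.j r := fun r => by
    rw [hgz, CfsgLib.PSUAut.hzero_right hF hσ, zero_smul, add_zero]
  obtain ⟨α, β, r, hy⟩ := P.decomp (act g P.y)
  have h1 : β = 1 := by
    have h' := CfsgLib.PSUAut.act_form g P.y u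
    rw [hgu, hy, U6.add_left hF, U6.add_left hF, U6.smul_left hF, U6.smul_left hF, P.iso.2, P.hyu, P.hju] at h'
    simpa using h'
  have h2 : r = 0 := CfsgLib.PSUAut.eq_zero_of_perp (n := 4) hF hσ fun s => by
    have h' := CfsgLib.PSUAut.act_form g (P.j s) P.y
    rw [hfix, hy, U6.add_right hF, U6.add_right hF, U6.smul_right hF, U6.smul_right hF, P.hju, P.hjy, P.hj] at h'
    simpa using h'
  subst h1 h2
  rw [map_zero, add_zero, one_smul] at hy
  have h3 : α * (α + 1) = 0 := by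
    have h' := CfsgLib.PSUAut.act_form g P.y P.y
    rw [hy, P.hyy, U6.add_left hF, U6.add_right hF, U6.add_right hF, U6.smul_left hF, U6.smul_left hF,
      U6.smul_right hF, U6.smul_right hF, P.iso.2, P.hyy, P.hyu, P.uy hF] at h'
    linear_combination h'
  obtain ⟨-, t, ht, htx⟩ := hu
  have hg : g = 1 ∨ g = t := by
    have hall : ∀ {g' : Cfsg.SU 6 F 2}, act g' u = u → act g' P.y = α • u + P.y →
        (∀ r, act g' (P.j r) = P.j r) → g = g' := by
      intro g' e1 e2 e3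
      refine CfsgLib.PSUAut.act_ext fun v => ?_
      obtain ⟨p, q, s, rfl⟩ := P.decomp v
      simp only [CfsgLib.PSUAut.act_add, CfsgLib.PSUAut.act_smul, hgu, hy, hfix, e1, e2, e3]
    rcases mul_eq_zero.1 h3 with h0 | h0
    · exact Or.inl (hall (CfsgLib.PSUAut.act_one u)
        (by rw [h0, zero_smul, zero_add, CfsgLib.PSUAut.act_one]) fun r => CfsgLib.PSUAut.act_one _)
    · refine Or.inr (hall (by rw [ht, P.iso.2, zero_smul, add_zero]) ?_ fun r => by
        rw [ht, P.hju, zero_smul, add_zero])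
      rw [ht, P.hyu, CharTwo.add_eq_zero.1 h0, one_smul, add_comm]
  have fin : ∀ {m : G} (hm : m ∈ Subgroup.closure (link D a)), m ∈ Subgroup.closure ({a, b} : Set G) →
      A.ψ ⟨k, hk⟩ = A.ψ ⟨m, hm⟩ → k ∈ Subgroup.closure ({a, b} : Set G) := by
    intro m hm hmV he
    have hmem : m⁻¹ * k ∈ Subgroup.closure (link D a) := mul_mem (inv_mem hm) hk
    have hker : A.ψ ⟨m⁻¹ * k, hmem⟩ = 1 := by
      rw [show (⟨m⁻¹ * k, hmem⟩ : ↥(Subgroup.closure (link D a))) =
        (⟨m, hm⟩ : ↥(Subgroup.closure (link D a)))⁻¹ * ⟨k, hk⟩ from rfl, map_mul, map_inv, he, inv_mul_cancel]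
    rw [← mul_inv_cancel_left m k]
    refine mul_mem hmV ?_
    rcases central_cases S hF hM ha A hmem hker with h | h
    · rw [h]; exact one_mem _
    · rw [h]; exact Subgroup.subset_closure (Set.mem_insert _ _)
  rcases hg with rfl | rfl
  · exact fin (one_mem _) (one_mem _) (by rw [← hkg, map_one, ← map_one A.ψ]; rfl)
  · exact fin (Subgroup.subset_closure hb) (Subgroup.subset_closure (Set.mem_insert_of_mem _ rfl))
      (hkg.symm.trans htx)

theorem mem_lineKer_iff {k : G} : k ∈ lineKer D S a b ↔ k ∈ pairCent a b ∧ A.Rel P k 1 := by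
  obtain ⟨σ, hσ⟩ := U6.exists_sigma hF
  constructor
  · rintro ⟨hk, hl⟩
    refine ⟨hk, ?_⟩
    obtain ⟨B, hB⟩ := rel_exists S hF hM ha hb A hu P hk
    obtain ⟨g, hg, hfix⟩ := id hB
    have hscal : ∀ w, Isot 2 w → ∃ c : F, c ≠ 0 ∧ act B w = c • w := by
      intro w hw
      obtain ⟨e, he, hle⟩ := exists_member S hF ha hb A hu P hw.1 hw.2 0
      obtain ⟨ν, hν⟩ := hfix.2 w
      have hlab := lab_conj S hF ha A P hg hfix hle hν
      have hBw := CfsgLib.PSUAut.act_ne_zero B hw.1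
      obtain ⟨c, hc⟩ := (sameLine_iff S hF ha hb A hu P hle hlab hw.1 hBw).1 (hl e he)
      exact ⟨c, fun h => hBw (by rw [hc, h, zero_smul]), hc⟩
    have hcen : B ∈ Subgroup.center (Cfsg.SU 4 F 2) := by
      rw [Subgroup.mem_center_iff]
      intro s
      have hs : s ∈ Subgroup.closure {A : Cfsg.SU 4 F 2 | ∃ (v : Fin 4 → F) (c : F),
          Cfsg.hermForm 4 F 2 v v = 0 ∧ ((A : Matrix.SpecialLinearGroup (Fin 4) F) : Matrix (Fin 4) (Fin 4) F) =
            Cfsg.unitaryTransvection 4 2 v c} := by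
        rw [CfsgLib.Classical.Unitary.su_closure_transvections hF (by norm_num) (by norm_num)]
        exact Subgroup.mem_top s
      induction hs using Subgroup.closure_induction with
      | mem t ht =>
        obtain ⟨v, c, hv, hc⟩ := ht
        rcases U6.four_transvection hF hv hc with h | ⟨hv0, h⟩
        · rw [show t = 1 from CfsgLib.PSUAut.act_ext fun r => by rw [h, CfsgLib.PSUAut.act_one]]
          rw [one_mul, mul_one]
        refine CfsgLib.PSUAut.act_ext fun r => ?_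
        obtain ⟨d, hd0, hd⟩ := hscal v ⟨hv0, hv⟩
        have e1 : Cfsg.hermForm 4 F 2 (act B r) v • v = Cfsg.hermForm 4 F 2 r v • (d • v) := by
          have h2 := CfsgLib.PSUAut.act_form B r v
          rw [hd, CfsgLib.PSUAut.hsmul_right hF hσ, hσ] at h2
          rw [← h2, smul_smul]
          congr 1
          linear_combination -(Cfsg.hermForm 4 F 2 (act B r) v * U6.cube_eq_one hF hd0)
        rw [CfsgLib.PSUAut.act_mul, CfsgLib.PSUAut.act_mul, h, h, CfsgLib.PSUAut.act_add,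
          CfsgLib.PSUAut.act_smul, hd, e1]
      | one => rw [one_mul, mul_one]
      | mul x y _ _ hx hy => rw [mul_assoc, hy, ← mul_assoc, hx, mul_assoc]
      | inv x _ hx => exact (Commute.inv_left (hx : Commute x B)).eq
    have hbot : Subgroup.center (Cfsg.SU 4 F 2) = ⊥ := by
      rw [← Subgroup.card_eq_one,
        CfsgLib.Classical.card_center_su (n := 4) (F := F) (q := 2) hF (by norm_num)]
      rfl
    rw [hbot, Subgroup.mem_bot] at hcen
    exact hcen ▸ hB
  · rintro ⟨hk, hrel⟩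
    refine ⟨hk, fun e he => ?_⟩
    obtain ⟨w, μ, hw, hl⟩ := exists_lab S hF ha hb A hu P he
    obtain ⟨z, hz⟩ := tvec_of_rel S hF A P hrel
    exact (sameLine_iff S hF ha hb A hu P hl (tvec_conj S hF hM ha hb A hu P hz hl) hw hw).2
      ⟨1, (one_smul _ _).symm⟩

theorem exists_tvec {k : G} (hk : k ∈ lineKer D S a b) : ∃ z, A.TVec P k z :=
  tvec_of_rel S hF A P ((mem_lineKer_iff S hF hM ha hb A hu P).1 hk).2

omit A hu P in
theorem card_lineKer : Nat.card ↥(lineKer D S a b) = 1024 := by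
  obtain ⟨A⟩ := hM a ha
  obtain ⟨u, hu⟩ := A.exists_pt_of_link S hF ha hb
  obtain ⟨P⟩ := U6.exists_frame hF hu.1
  obtain ⟨ρ, hρ, hrel⟩ := exists_pair_rho S hF hM ha hb A hu P
  rw [← card_ker_rho S hF hM ha hb A hu ρ hρ,
    ← Nat.card_congr (Subgroup.subgroupOfEquivOfLe (lineKer_le (S := S) (a := a) (b := b))).toEquiv]
  congr 2
  ext k
  rw [Subgroup.mem_subgroupOf, MonoidHom.mem_ker, mem_lineKer_iff S hF hM ha hb A hu P]
  exact ⟨fun h => rel_unique S hF ha hb A hu P (hrel k) h.2, fun h => ⟨k.2, h ▸ hrel k⟩⟩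

omit A hu P in
theorem self_mem_lineKer : a ∈ lineKer D S a b ∧ b ∈ lineKer D S a b := by
  obtain ⟨A⟩ := hM a ha
  obtain ⟨u, hu⟩ := A.exists_pt_of_link S hF ha hb
  obtain ⟨P⟩ := U6.exists_frame hF hu.1
  exact ⟨(mem_lineKer_iff S hF hM ha hb A hu P).2 ⟨mem_pairCent.2 ⟨Commute.refl _, hb.2.2⟩,
      rel_left S hF hM ha hb A hu P⟩,
    (mem_lineKer_iff S hF hM ha hb A hu P).2 ⟨mem_pairCent.2 ⟨hb.2.2.symm, Commute.refl _⟩,
      rel_right S hF hM ha hb A hu P⟩⟩

omit A hu P in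
theorem pair_le_lineKer : Subgroup.closure ({a, b} : Set G) ≤ lineKer D S a b := by
  obtain ⟨h1, h2⟩ := self_mem_lineKer S hF hM ha hb
  rw [Subgroup.closure_le]
  rintro x (rfl | rfl) <;> assumption

omit A hu P in
theorem mul_mem_lineKer {e f : G} (he : e ∈ link D a ∩ link D b) (hf : SameLine D a b e f) :
    e * f ∈ lineKer D S a b := by
  obtain ⟨A⟩ := hM a ha
  obtain ⟨u, hu⟩ := A.exists_pt_of_link S hF ha hb
  obtain ⟨P⟩ := U6.exists_frame hF hu.1
  obtain ⟨w, μ, hw, hl⟩ := exists_lab S hF ha hb A hu P he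
  obtain ⟨μ', hl'⟩ := sameLine_lab S hF ha hb A hu P hl hw hf
  exact (mem_lineKer_iff S hF hM ha hb A hu P).2 ⟨mul_mem (mem_pairCent_of_link he) (mem_pairCent_of_link hf.1),
    (tvec_pair S hF hM ha hb A hu P hl hl').rel⟩

omit A hu P in
/-- The kernel is generated by the pair and the products of two members of one line. -/
theorem lineKer_eq : lineKer D S a b = Subgroup.closure ({a, b} ∪
    {x | ∃ e ∈ link D a ∩ link D b, ∃ f, SameLine D a b e f ∧ x = e * f}) := by
  obtain ⟨A⟩ := hM a ha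
  obtain ⟨u, hu⟩ := A.exists_pt_of_link S hF ha hb
  obtain ⟨P⟩ := U6.exists_frame hF hu.1
  set E₀ := Subgroup.closure ({a, b} ∪
    {x | ∃ e ∈ link D a ∩ link D b, ∃ f, SameLine D a b e f ∧ x = e * f}) with hE₀
  have hle : E₀ ≤ lineKer D S a b := by
    rw [hE₀, Subgroup.closure_le]
    rintro x (hx | ⟨e, he, f, hf, rfl⟩)
    · exact pair_le_lineKer S hF hM ha hb (Subgroup.subset_closure hx)
    · exact mul_mem_lineKer S hF hM ha hb he hf
  refine le_antisymm (fun k hk => ?_) hle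
  have hall : ∀ z : Fin 4 → F, z ∈ Submodule.span F {w : Fin 4 → F | Isot 2 w} →
      ∀ c : F, ∃ x ∈ E₀, A.TVec P x (c • z) := by
    intro z hz
    induction hz using Submodule.span_induction with
    | mem w hw =>
      intro c
      obtain ⟨e, he, hl⟩ := exists_member S hF ha hb A hu P hw.1 hw.2 0
      obtain ⟨f, -, hl'⟩ := exists_member S hF ha hb A hu P hw.1 hw.2 (c ^ 2)
      refine ⟨e * f, Subgroup.subset_closure (Or.inr ⟨e, he, f,
        (sameLine_iff S hF ha hb A hu P hl hl' hw.1 hw.1).2 ⟨1, (one_smul _ _).symm⟩, rfl⟩), ?_⟩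
      have := tvec_pair S hF hM ha hb A hu P hl hl'
      rwa [zero_add, ← pow_mul, U6.pow_four hF] at this
    | zero =>
      intro c
      exact ⟨a, Subgroup.subset_closure (Or.inl (Set.mem_insert _ _)), by
        rw [smul_zero]; exact tvec_left S hF hM ha hb A hu P⟩
    | add x y _ _ hx hy =>
      intro c
      obtain ⟨s, hs, hs'⟩ := hx c
      obtain ⟨t, ht, ht'⟩ := hy c
      exact ⟨s * t, mul_mem hs ht, by rw [smul_add]; exact hs'.mul hF ht'⟩
    | smul r x _ hx =>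
      intro c
      obtain ⟨s, hs, hs'⟩ := hx (c * r)
      exact ⟨s, hs, by rw [smul_smul]; exact hs'⟩
  obtain ⟨z, hz⟩ := exists_tvec S hF hM ha hb A hu P hk
  obtain ⟨x, hx, hxz⟩ := hall z (by rw [span_iso_four hF]; trivial) 1
  rw [one_smul] at hxz
  have h0 := hxz.mul hF hz
  rw [show z + z = 0 from funext fun i => U6.add_self hF (z i)] at h0
  have hV : Subgroup.closure ({a, b} : Set G) ≤ E₀ := Subgroup.closure_mono Set.subset_union_left
  rw [← inv_mul_cancel_left x k]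
  exact mul_mem (inv_mem hx) (hV (tvec_zero S hF hM ha hb A hu P h0))

omit A hu P in
/-- The four-group of the pair is the centraliser of the kernel in the joint centraliser. -/
theorem centralizer_lineKer_inf : pairCent a b ⊓ Subgroup.centralizer (lineKer D S a b : Set G) =
    Subgroup.closure ({a, b} : Set G) := by
  refine le_antisymm (fun x hx => ?_) ?_
  swap
  · rw [Subgroup.closure_le]
    rintro x (rfl | rfl)
    · exact ⟨mem_pairCent.2 ⟨Commute.refl _, hb.2.2⟩,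
        Subgroup.mem_centralizer_iff.2 fun y hy => (mem_pairCent.1 (lineKer_le hy)).1.eq⟩
    · exact ⟨mem_pairCent.2 ⟨hb.2.2.symm, Commute.refl _⟩,
        Subgroup.mem_centralizer_iff.2 fun y hy => (mem_pairCent.1 (lineKer_le hy)).2.eq⟩
  obtain ⟨hxK, hxE⟩ := hx
  obtain ⟨A⟩ := hM a ha
  obtain ⟨u, hu⟩ := A.exists_pt_of_link S hF ha hb
  obtain ⟨P⟩ := U6.exists_frame hF hu.1
  have fix : ∀ y ∈ lineKer D S a b, x * y * x⁻¹ = y := fun y hy => by
    rw [← Subgroup.mem_centralizer_iff.1 hxE y hy, mul_inv_cancel_right]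
  obtain ⟨B, hB⟩ := rel_exists S hF hM ha hb A hu P hxK
  obtain ⟨g, hg, hfix⟩ := id hB
  have hxl : x ∈ lineKer D S a b := by
    refine ⟨hxK, fun e he => ?_⟩
    obtain ⟨w, μ, hw, hl⟩ := exists_lab S hF ha hb A hu P he
    obtain ⟨f, -, hl'⟩ := exists_member S hF ha hb A hu P hw (lab_iso S hF A P hl) (μ + 1)
    obtain ⟨ν, hν⟩ := hfix.2 w
    have k₁ := lab_conj S hF ha A P hg hfix hl hν
    have k₂ := lab_conj S hF ha A P hg hfix hl' hν
    have t₁ := tvec_pair S hF hM ha hb A hu P hl hl'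
    have t₂ := tvec_pair S hF hM ha hb A hu P k₁ k₂
    rw [show x * e * x⁻¹ * (x * f * x⁻¹) = x * (e * f) * x⁻¹ by group,
      fix _ (mul_mem_lineKer S hF hM ha hb he
        ((sameLine_iff S hF ha hb A hu P hl hl' hw hw).2 ⟨1, (one_smul _ _).symm⟩))] at t₂
    have hBw := tvec_unique S hF hM ha hb A hu P t₁ t₂
    have := U6.charTwo hF
    have e1 : μ + (μ + 1) = 1 := by rw [← add_assoc, U6.add_self hF, zero_add]
    rw [e1, show μ + ν + (μ + 1 + ν) = μ + (μ + 1) by
      linear_combination ν * CharTwo.two_eq_zero (R := F), e1, one_pow, one_smul, one_smul] at hBw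
    exact (sameLine_iff S hF ha hb A hu P hl k₁ hw (by rw [← hBw]; exact hw)).2
      ⟨1, by rw [one_smul, ← hBw]⟩
  obtain ⟨z, hz⟩ := exists_tvec S hF hM ha hb A hu P hxl
  suffices hz0 : z = 0 by exact tvec_zero S hF hM ha hb A hu P (hz0 ▸ hz)
  by_contra hz0
  obtain ⟨σ, hσ⟩ := U6.exists_sigma hF
  obtain ⟨w, hw, hwz⟩ := exists_iso_nonperp hF hz0
  have hw0 : w ≠ 0 := fun e => hwz (by rw [e, CfsgLib.PSUAut.hzero_left hF hσ])
  set δ := Cfsg.hermForm 4 F 2 w z with hδ
  obtain ⟨ω, h0, h1, -, -⟩ := U6.exists_omega hF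
  obtain ⟨s, hs0, hsδ⟩ : ∃ s : F, s ≠ 0 ∧ s ≠ δ := by
    by_cases h : δ = 1
    · exact ⟨ω, h0, h ▸ h1⟩
    · exact ⟨1, one_ne_zero, fun e => h e.symm⟩
  obtain ⟨e, he, hl⟩ := exists_member S hF ha hb A hu P hw0 hw 0
  obtain ⟨f, hf, hl'⟩ := exists_member S hF ha hb A hu P hw0 hw s
  have k₁ := tvec_conj S hF hM ha hb A hu P hz hl
  have k₂ := tvec_conj S hF hM ha hb A hu P hz hl'
  rw [zero_add, ← hδ] at k₁
  rw [← hδ] at k₂
  have hsl : ∀ {f' : G} {ν : F}, A.Lab P f' w ν → SameLine D a b e f' := fun h =>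
    (sameLine_iff S hF ha hb A hu P hl h hw0 hw0).2 ⟨1, (one_smul _ _).symm⟩
  have := U6.charTwo hF
  have hne : ∀ {p q : G} {μ ν : F}, A.Lab P p w μ → A.Lab P q w ν → μ ≠ ν → p ≠ q := by
    intro p q μ ν hp hq hμν h
    subst h
    obtain ⟨c, -, hc, hc'⟩ := lab_unique hF A P hp hq
    have : c = 1 := by
      by_contra hc1
      exact hw0 ((smul_eq_zero.1 (show (c - 1) • w = 0 by
        rw [sub_smul, one_smul, ← hc, sub_self])).resolve_left (sub_ne_zero.2 hc1))
    exact hμν (by rw [hc', this, one_mul])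
  have h4 := line_four S hF hM ha hb he (f₁ := x * e * x⁻¹) (f₂ := x * f * x⁻¹) (f₃ := f) (f₄ := e) (by
    simp only [List.nodup_cons, List.mem_cons, List.not_mem_nil, or_false, not_or, List.nodup_nil,
      not_false_eq_true, and_true]
    refine ⟨⟨hne k₁ k₂ ?_, hne k₁ hl' hsδ.symm, hne k₁ hl hwz⟩, ⟨hne k₂ hl' ?_, hne k₂ hl ?_⟩,
      hne hl' hl hs0⟩
    · intro h
      exact hs0 (by linear_combination -h)
    · intro h
      exact hwz (by linear_combination h)
    · intro h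
      exact hsδ (by linear_combination h - δ * CharTwo.two_eq_zero (R := F))) (by
    intro p hp
    simp only [List.mem_cons, List.not_mem_nil, or_false] at hp
    rcases hp with rfl | rfl | rfl | rfl
    exacts [hsl k₁, hsl k₂, hsl hl', hsl hl])
  rw [show x * e * x⁻¹ * (x * f * x⁻¹) * f * e = x * (e * f) * x⁻¹ * (f * e) by group,
    fix _ (mul_mem_lineKer S hF hM ha hb he (hsl hl')),
    show e * f * (f * e) = 1 by simp only [mul_assoc, cancel₂ (S.sqd hf.1.1), S.sqd he.1.1]] at h4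
  exact (pair_notMem S hF hM ha hb).1 h4.symm

omit A hu P in
theorem conj_pair_comm {x e f : G} (hx : x ∈ lineKer D S a b) (he : e ∈ link D a ∩ link D b)
    (hf : SameLine D a b e f) :
    x * (e * f) * x⁻¹ * (e * f)⁻¹ = 1 ∨ x * (e * f) * x⁻¹ * (e * f)⁻¹ = a * b := by
  obtain ⟨A⟩ := hM a ha
  obtain ⟨u, hu⟩ := A.exists_pt_of_link S hF ha hb
  obtain ⟨P⟩ := U6.exists_frame hF hu.1
  obtain ⟨w, μ, hw, hl⟩ := exists_lab S hF ha hb A hu P he
  obtain ⟨μ', hl'⟩ := sameLine_lab S hF ha hb A hu P hl hw hf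
  obtain ⟨z, hz⟩ := exists_tvec S hF hM ha hb A hu P hx
  have k₁ := tvec_conj S hF hM ha hb A hu P hz hl
  have k₂ := tvec_conj S hF hM ha hb A hu P hz hl'
  set δ := Cfsg.hermForm 4 F 2 w z with hδ
  have := U6.charTwo hF
  have hsl : ∀ {f' : G} {ν : F}, A.Lab P f' w ν → SameLine D a b e f' := fun h =>
    (sameLine_iff S hF ha hb A hu P hl h hw hw).2 ⟨1, (one_smul _ _).symm⟩
  have hef : Commute e f := (hsl hl).commute he (hsl hl')
  have hinv : (e * f)⁻¹ = f * e := by rw [mul_inv_rev, S.tt.inv_eq hf.1.1.1, S.tt.inv_eq he.1.1]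
  have hcanc : e * f * (f * e) = 1 := by simp only [mul_assoc, cancel₂ (S.sqd hf.1.1.1), S.sqd he.1.1]
  rw [show x * (e * f) * x⁻¹ = x * e * x⁻¹ * (x * f * x⁻¹) by group, hinv]
  by_cases h0 : δ = 0
  · rw [h0, add_zero] at k₁ k₂
    rw [← lab_inj S hF ha A P hl k₁, ← lab_inj S hF ha A P hl' k₂]
    exact Or.inl hcanc
  by_cases hee : μ = μ'
  · subst hee
    rw [← lab_inj S hF ha A P k₁ k₂, ← lab_inj S hF ha A P hl hl']
    simp only [← mul_assoc, conj_mul]
    left
    rw [show x * e * x⁻¹ * x * e * x⁻¹ = x * (e * e) * x⁻¹ by group, S.sqd he.1.1, mul_one, mul_inv_cancel,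
      one_mul, S.sqd he.1.1]
  by_cases hsw : δ = μ + μ'
  · left
    rw [lab_inj S hF ha A P k₁ (show A.Lab P f w (μ + δ) by
        rwa [hsw, show μ + (μ + μ') = μ' by linear_combination μ * CharTwo.two_eq_zero (R := F)]),
      lab_inj S hF ha A P k₂ (show A.Lab P e w (μ' + δ) by
        rwa [hsw, show μ' + (μ + μ') = μ by linear_combination μ' * CharTwo.two_eq_zero (R := F)])]
    rw [hef.symm.eq]
    rwa [hef.symm.eq] at hcanc
  · right
    rw [← mul_assoc]
    have hne : ∀ {p q : G} {κ ν : F}, A.Lab P p w κ → A.Lab P q w ν → κ ≠ ν → p ≠ q := by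
      intro p q κ ν hp hq hκν h
      subst h
      obtain ⟨c, -, hc, hc'⟩ := lab_unique hF A P hp hq
      have : c = 1 := by
        by_contra hc1
        exact hw ((smul_eq_zero.1 (show (c - 1) • w = 0 by
          rw [sub_smul, one_smul, ← hc, sub_self])).resolve_left (sub_ne_zero.2 hc1))
      exact hκν (by rw [hc', this, one_mul])
    refine line_four S hF hM ha hb he ?_ ?_
    · simp only [List.nodup_cons, List.mem_cons, List.not_mem_nil, or_false, not_or, List.nodup_nil,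
        not_false_eq_true, and_true]
      refine ⟨⟨hne k₁ k₂ fun h => hee ?_, hne k₁ hl' fun h => hsw ?_, hne k₁ hl fun h => h0 ?_⟩,
        ⟨hne k₂ hl' fun h => h0 ?_, hne k₂ hl fun h => hsw ?_⟩, hne hl' hl fun h => hee h.symm⟩
      · linear_combination h
      · linear_combination h - μ * CharTwo.two_eq_zero (R := F)
      · linear_combination h
      · linear_combination h
      · linear_combination h - μ' * CharTwo.two_eq_zero (R := F)
    · intro p hp
      simp only [List.mem_cons, List.not_mem_nil, or_false] at hp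
      rcases hp with rfl | rfl | rfl | rfl
      exacts [hsl k₁, hsl k₂, hsl hl', hsl hl]

omit A hu P in
/-- Commutators and squares of the kernel lie in the group of `a * b`. -/
theorem lineKer_special {x y : G} (hx : x ∈ lineKer D S a b) (hy : y ∈ lineKer D S a b) :
    x * y * x⁻¹ * y⁻¹ ∈ Subgroup.zpowers (a * b) ∧ x * x ∈ Subgroup.zpowers (a * b) := by
  set Z := Subgroup.zpowers (a * b) with hZ
  have hcen : ∀ c ∈ Z, ∀ p ∈ lineKer D S a b, Commute c p := by
    intro c hc p hp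
    obtain ⟨n, rfl⟩ := Subgroup.mem_zpowers_iff.1 hc
    obtain ⟨h1, h2⟩ := mem_pairCent.1 (lineKer_le hp)
    exact ((h1.mul_right h2).symm).zpow_left n
  have hgen : ∀ p ∈ lineKer D S a b, ∀ q ∈ lineKer D S a b, p * q * p⁻¹ * q⁻¹ ∈ Z := by
    intro p hp q hq
    rw [lineKer_eq S hF hM ha hb] at hq
    induction hq using Subgroup.closure_induction with
    | mem q hq =>
      obtain ⟨h1, h2⟩ := mem_pairCent.1 (lineKer_le hp)
      rcases hq with (rfl | rfl) | ⟨e, he, f, hf, rfl⟩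
      · rw [h1.eq, mul_inv_cancel_right, mul_inv_cancel]; exact one_mem _
      · rw [h2.eq, mul_inv_cancel_right, mul_inv_cancel]; exact one_mem _
      · rcases conj_pair_comm S hF hM ha hb hp he hf with h | h <;> rw [h]
        exacts [one_mem _, Subgroup.mem_zpowers _]
    | one => simp
    | mul q q' hq hq' i1 i2 =>
      rw [← lineKer_eq S hF hM ha hb] at hq hq'
      rw [show p * (q * q') * p⁻¹ * (q * q')⁻¹ =
        p * q * p⁻¹ * q⁻¹ * (q * (p * q' * p⁻¹ * q'⁻¹) * q⁻¹) by group,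
        ← (hcen _ i2 q hq).eq, mul_inv_cancel_right]
      exact mul_mem i1 i2
    | inv q hq i1 =>
      rw [← lineKer_eq S hF hM ha hb] at hq
      rw [show p * q⁻¹ * p⁻¹ * q⁻¹⁻¹ = q⁻¹ * (p * q * p⁻¹ * q⁻¹)⁻¹ * q⁻¹⁻¹ by group,
        ← (hcen _ (inv_mem i1) q⁻¹ (inv_mem hq)).eq, mul_inv_cancel_right]
      exact inv_mem i1
  refine ⟨hgen x hx y hy, ?_⟩
  have hx' := hx
  rw [lineKer_eq S hF hM ha hb] at hx'
  clear hy
  induction hx' using Subgroup.closure_induction with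
  | mem q hq =>
    rcases hq with (rfl | rfl) | ⟨e, he, f, hf, rfl⟩
    · rw [S.sqd ha]; exact one_mem _
    · rw [S.sqd hb.1]; exact one_mem _
    · have hef : Commute e f := (show SameLine D a b e e from ⟨he, fun _ _ => Iff.rfl⟩).commute he hf
      rw [hef.symm.mul_mul_mul_comm e f, S.sqd he.1.1, S.sqd hf.1.1.1, one_mul]
      exact one_mem _
  | one => simp
  | mul q q' hq hq' i1 i2 =>
    rw [← lineKer_eq S hF hM ha hb] at hq hq'
    have hc := hgen q' hq' q hq
    rw [show q * q' * (q * q') = q * (q' * q * q'⁻¹ * q⁻¹) * q⁻¹ * ((q * q) * (q' * q')) by group,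
      ← (hcen _ hc q hq).eq, mul_inv_cancel_right]
    exact mul_mem hc (mul_mem (i1 hq) (i2 hq'))
  | inv q hq i1 =>
    rw [← lineKer_eq S hF hM ha hb] at hq
    rw [← mul_inv_rev]
    exact inv_mem (i1 hq)

omit A hu P in
theorem center_pairCent : (Subgroup.center ↥(pairCent a b)).map (pairCent a b).subtype =
    Subgroup.closure ({a, b} : Set G) := by
  refine le_antisymm ?_ ?_
  · rintro _ ⟨x, hx, rfl⟩
    have hc : ∀ y ∈ pairCent a b, (x : G) * y = y * x := fun y hy =>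
      (congrArg Subtype.val (Subgroup.mem_center_iff.1 hx ⟨y, hy⟩)).symm
    rw [← centralizer_lineKer_inf S hF hM ha hb]
    exact ⟨x.2, Subgroup.mem_centralizer_iff.2 fun y hy => (hc y (lineKer_le hy)).symm⟩
  · rw [Subgroup.closure_le]
    intro y hy
    have hyK : y ∈ pairCent a b := lineKer_le (pair_le_lineKer S hF hM ha hb (Subgroup.subset_closure hy))
    refine ⟨⟨y, hyK⟩, Subgroup.mem_center_iff.2 fun k => Subtype.ext ?_, rfl⟩
    rcases hy with rfl | rfl
    · exact (mem_pairCent.1 k.2).1.eq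
    · exact (mem_pairCent.1 k.2).2.eq

end CfsgLib.M22
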