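import Cfsg.Agent.Lib.ThreeTransp.M22PairLines

/-!
# Groups of type `M(22)`: the elements exchanging a commuting pair

An element exchanging the pair does not act on the joint centraliser, modulo the kernel on lines, as an element
of the joint centraliser does.
-/

set_option autoImplicit false

namespace CfsgLib.M22

open CfsgLib.ThreeTransp CfsgLib.SporMisc
open CfsgLib.U6 (IsPt PtFrame)
open CfsgLib.PSUAut (Isot act)
open CfsgLib.UnitarySpec (psuMk)

variable {G : Type*} [Group G] {D : Set G}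
variable [Finite G] {F : Type} [Field F] [Fintype F] {a b : G}
variable (S : Setup D) (hF : Fintype.card F = 2 ^ 2) (hM : ∀ a ∈ D, Nonempty (Model D a F))
  (ha : a ∈ D) (hb : b ∈ link D a)
include S hF hM ha hb

/-- A product of two commuting members determines them. -/
theorem pair_conj_cases {x : G} (hx : Commute x (a * b)) :
    (Commute x a ∧ Commute x b) ∨ (x * a * x⁻¹ = b ∧ x * b * x⁻¹ = a) := by
  set c := x * a * x⁻¹ with hc
  set d := x * b * x⁻¹ with hd
  have hcD : c ∈ D := S.tt.conj x a ha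
  have hdD : d ∈ D := S.tt.conj x b hb.1
  have hcd : c * d = a * b := by
    calc c * d = x * (a * b) * x⁻¹ := by rw [hc, hd]; group
      _ = a * b := by rw [hx.eq, mul_inv_cancel_right]
  have hcab : Commute c (a * b) := by
    rw [← hcd]
    exact (Commute.refl c).mul_right ((Commute.conj_iff x).2 hb.2.2)
  by_cases h1 : c = a
  · have hdb : d = b := mul_left_cancel (h1 ▸ hcd)
    exact Or.inl ⟨mul_inv_eq_iff_eq_mul.1 h1, mul_inv_eq_iff_eq_mul.1 hdb⟩
  by_cases h2 : c = b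
  · refine Or.inr ⟨h2, mul_left_cancel (a := c) ?_⟩
    rw [hcd, h2, hb.2.2.eq]
  exfalso
  obtain ⟨ca, cb⟩ := S.commute_both ha hb.1 hcD hb.2.2 hb.2.1.symm hcab
  apply (tri_notMem S hF hM (a := c) (b := a) (c := b) ⟨hcD, ha, hb.1, h1, h2, hb.2.1.symm, ca, cb, hb.2.2⟩).2
  rw [mul_assoc, ← hcd, cancel₂ (S.sqd hcD)]
  exact hdD

/-- Conjugation by an element centralising the product preserves the common neighbourhood, the pair group and
the lines. -/
theorem conj_sym {x : G} (hx : Commute x (a * b)) :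
    (∀ e ∈ link D a ∩ link D b, x * e * x⁻¹ ∈ link D a ∩ link D b) ∧
      (∀ k ∈ pairCent a b, x * k * x⁻¹ ∈ pairCent a b) := by
  refine ⟨fun e he => ?_, fun k hk => ?_⟩
  · have e1 := link_conj S.tt x he.1
    have e2 := link_conj S.tt x he.2
    rcases pair_conj_cases S hF hM ha hb hx with ⟨h1, h2⟩ | ⟨h1, h2⟩
    · rw [h1.eq, mul_inv_cancel_right] at e1
      rw [h2.eq, mul_inv_cancel_right] at e2
      exact ⟨e1, e2⟩
    · rw [h1] at e1
      rw [h2] at e2
      exact ⟨e2, e1⟩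
  · obtain ⟨k1, k2⟩ := mem_pairCent.1 hk
    have c1 := (Commute.conj_iff x).2 k1
    have c2 := (Commute.conj_iff x).2 k2
    rcases pair_conj_cases S hF hM ha hb hx with ⟨h1, h2⟩ | ⟨h1, h2⟩
    · rw [h1.eq, mul_inv_cancel_right] at c1
      rw [h2.eq, mul_inv_cancel_right] at c2
      exact mem_pairCent.2 ⟨c1, c2⟩
    · rw [h1] at c1
      rw [h2] at c2
      exact mem_pairCent.2 ⟨c2, c1⟩

theorem sameLine_conj {x e f : G} (hx : Commute x (a * b))
    (hf : SameLine D a b e f) : SameLine D a b (x * e * x⁻¹) (x * f * x⁻¹) := by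
  refine ⟨(conj_sym S hF hM ha hb hx).1 f hf.1, fun y hy => ?_⟩
  have hy' := (conj_sym S hF hM ha hb hx.inv_left).1 y hy
  have h := hf.2 _ hy'
  rw [← Commute.conj_iff x (b := e), ← Commute.conj_iff x (b := f)] at h
  rwa [show x * (x⁻¹ * y * x⁻¹⁻¹) * x⁻¹ = y by group] at h

theorem lineKer_conj {x k : G} (hx : Commute x (a * b)) (hk : k ∈ lineKer D S a b) :
    x * k * x⁻¹ ∈ lineKer D S a b := by
  refine ⟨(conj_sym S hF hM ha hb hx).2 k hk.1, fun e he => ?_⟩
  have he' := (conj_sym S hF hM ha hb hx.inv_left).1 e he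
  have h := sameLine_conj S hF hM ha hb hx (hk.2 _ he')
  rwa [show x * (x⁻¹ * e * x⁻¹⁻¹) * x⁻¹ = e by group,
    show x * (k * (x⁻¹ * e * x⁻¹⁻¹) * k⁻¹) * x⁻¹ = x * k * x⁻¹ * e * (x * k * x⁻¹)⁻¹ by group] at h

/-- An involution exchanging the pair, fixing a common neighbour and a product of two commuting members. -/
theorem exists_pair_exchange {e : G} (he : e ∈ link D a ∩ link D b) :
    ∃ c d : G, c ∈ D ∧ d ∈ D ∧ Commute c d ∧ c ≠ d ∧ ¬ Commute c a ∧ (c * d) * (c * d) = 1 ∧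
      c * d * a * (c * d)⁻¹ = b ∧ c * d * b * (c * d)⁻¹ = a ∧ Commute (c * d) e := by
  obtain ⟨M⟩ := hM e he.1.1
  have la := link_swap ha he.1
  have lb := link_swap hb.1 he.2
  obtain ⟨v, hv⟩ := M.exists_pt_of_link S hF he.1.1 la
  obtain ⟨v', hv'⟩ := M.exists_pt_of_link S hF he.1.1 lb
  obtain ⟨σ, hσ⟩ := U6.exists_sigma hF
  obtain ⟨z, hz, hzv, hzv'⟩ := CfsgLib.Transvec.Unitary.exists_iso_avoid (PSUAut.hU (n := 6) hF hσ)
    (by simp) hv.1.1 hv'.1.1
  obtain ⟨W, hW⟩ := U6.exists_pt hF (v := z) ⟨fun h => hzv (by rw [h, U6.zero_left hF]), hz⟩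
  obtain ⟨c, lc, rfl⟩ := M.exists_link_of_pt S hF he.1.1 hW
  have nca : ¬ Commute c a := fun h => hzv ((M.comm_iff S hF he.1.1 lc la hW hv).1 h)
  have ncb : ¬ Commute c b := fun h => hzv' ((M.comm_iff S hF he.1.1 lc lb hW hv').1 h)
  have hcc := S.sqd lc.1
  have haa := S.sqd ha
  have hbb := S.sqd hb.1
  have hab : a * b = b * a := hb.2.2.eq
  have bra : a * c * a = c * a * c := S.tt.braid ha lc.1 fun h => nca h.symm
  have brb : b * c * b = c * b * c := S.tt.braid hb.1 lc.1 fun h => ncb h.symm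
  have hqq : a * b * (a * b) = 1 := by rw [hb.2.2.symm.mul_mul_mul_comm, haa, hbb, one_mul]
  have hqi : (a * b)⁻¹ = a * b := inv_eq_of_mul_eq_one_right hqq
  have hci : c⁻¹ = c := S.tt.inv_eq lc.1
  have qa : a * b * a = b := by rw [hab, mul_assoc, haa, mul_one]
  have qb : a * b * b = a := by rw [mul_assoc, hbb, mul_one]
  have aq : a * (a * b) = b := cancel₂ haa b
  have bq : b * (a * b) = a := by rw [hab, cancel₂ hbb]
  set d := a * b * c * (a * b) with hd
  have hdD : d ∈ D := by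
    have := S.tt.conj (a * b) c lc.1
    rwa [hqi] at this
  have hswap : ∀ {p q : G}, p * c * p = c * p * c → q * c * q = c * q * c →
      a * b * p = q → p * (a * b) = q → c * d * p * (c * d)⁻¹ = q := by
    intro p q brp brq h1 h2
    calc c * d * p * (c * d)⁻¹ = c * (a * b) * c * (a * b * p * (a * b)) * c * (a * b) * c := by
          rw [mul_inv_rev, hci, show d⁻¹ = d from S.tt.inv_eq hdD, hd]; simp only [mul_assoc]
      _ = c * (a * b) * (c * p * c) * (a * b) * c := by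
          rw [show a * b * p * (a * b) = p by rw [h1, ← h2, mul_assoc, hqq, mul_one]]
          simp only [mul_assoc]
      _ = c * ((a * b * p) * c * (p * (a * b))) * c := by rw [← brp]; simp only [mul_assoc]
      _ = c * (c * q * c) * c := by rw [h1, h2, brq]
      _ = q := by simp only [mul_assoc, cancel₂ hcc, hcc, mul_one]
  have hsq : a * b * c * (a * b) * c = c * (a * b) * c * (a * b) := by
    calc a * b * c * (a * b) * c = b * (a * c * a) * b * c := by rw [hab]; nth_rw 2 [← hab]; simp only [mul_assoc]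
      _ = b * c * a * (c * b * c) := by rw [bra]; simp only [mul_assoc]
      _ = b * c * (a * b) * c * b := by rw [← brb]; simp only [mul_assoc]
      _ = (b * c * b) * a * c * b := by rw [hab]; simp only [mul_assoc]
      _ = c * b * (c * a * c) * b := by rw [brb]; simp only [mul_assoc]
      _ = c * (a * b) * c * (a * b) := by rw [← bra, hab]; nth_rw 2 [← hab]; simp only [mul_assoc]
  have hcd : Commute c d := by
    show c * d = d * c
    rw [hd, show c * (a * b * c * (a * b)) = c * (a * b) * c * (a * b) by simp only [mul_assoc], ← hsq]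
  refine ⟨c, d, lc.1, hdD, hcd, fun h => nca ?_, nca, ?_, hswap bra brb qa aq, hswap brb bra qb bq, ?_⟩
  · have hcq : Commute c (a * b) := by
      show c * (a * b) = a * b * c
      conv_lhs => rw [h, hd]
      rw [mul_assoc, hqq, mul_one]
    exact (S.commute_both ha hb.1 lc.1 hb.2.2 hb.2.1.symm hcq).1
  · rw [hcd.symm.mul_mul_mul_comm, hcc, S.sqd hdD, one_mul]
  · have hec : Commute c e := lc.2.2.symm
    have heq : Commute (a * b) e := he.1.2.2.mul_left he.2.2.2
    exact hec.mul_left (((heq.mul_left hec).mul_left heq))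

/-- Some element of `SU₄(2)` multiplies a given isotropic vector by a scalar other than `1`. -/
theorem exists_four_scale {w : Fin 4 → F} (hw : Isot 2 w) :
    ∃ (B : Cfsg.SU 4 F 2) (l : F), l ≠ 0 ∧ l ≠ 1 ∧ act B w = l • w := by
  have _ := hM; have _ := ha; have _ := hb; have _ := S
  obtain ⟨σ, hσ⟩ := U6.exists_sigma hF
  have := U6.charTwo hF
  obtain ⟨y, hy⟩ := CfsgLib.PSUAut.exists_partner hF hσ hw.1
  obtain ⟨t, h1, h2, h3⟩ := CfsgLib.PSUAut.exists_iso_shift hF hσ hw.2 hy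
  set v := y + t • w with hv
  have hwv : Cfsg.hermForm 4 F 2 w v = 1 := by rw [CfsgLib.PSUAut.hconj hF hσ v w, h2, map_one]
  set W : Submodule F (Fin (2 + 2) → F) := Submodule.span F {w, v} with hW
  have hWk : Module.finrank F W = 2 := by
    have hli : LinearIndependent F ![w, v] := by
      rw [LinearIndependent.pair_iff' hw.1]
      intro p hp
      rw [← hp, CfsgLib.PSUAut.hsmul_left hF hσ, hw.2, mul_zero] at h2
      exact zero_ne_one h2
    have := finrank_span_eq_card hli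
    rwa [Matrix.range_cons, Matrix.range_cons, Matrix.range_empty, Set.union_empty, Set.singleton_union,
      Fintype.card_fin] at this
  have hWnd : ∀ z ∈ W, (∀ p ∈ W, Cfsg.hermForm (2 + 2) F 2 z p = 0) → z = 0 := by
    intro z hz hz'
    obtain ⟨p, q, rfl⟩ := Submodule.mem_span_pair.1 hz
    have e1 := hz' w (Submodule.subset_span (Set.mem_insert _ _))
    have e2 := hz' v (Submodule.subset_span (Set.mem_insert_of_mem _ rfl))
    change Cfsg.hermForm 4 F 2 (p • w + q • v) w = 0 at e1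
    change Cfsg.hermForm 4 F 2 (p • w + q • v) v = 0 at e2
    rw [CfsgLib.PSUAut.hadd_left hF hσ, CfsgLib.PSUAut.hsmul_left hF hσ, CfsgLib.PSUAut.hsmul_left hF hσ,
      hw.2, h2, mul_zero, zero_add, mul_one] at e1
    rw [CfsgLib.PSUAut.hadd_left hF hσ, CfsgLib.PSUAut.hsmul_left hF hσ, CfsgLib.PSUAut.hsmul_left hF hσ,
      h1, hwv, mul_zero, add_zero, mul_one] at e2
    rw [e1, e2, zero_smul, zero_smul, add_zero]
  obtain ⟨T, hT, hTW⟩ := CfsgLib.Classical.exists_split (k := 2) (m := 2) hF W hWk hWnd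
  set z : Fin 4 → F := T (0, Pi.single 0 1) with hz
  have hzz : Cfsg.hermForm 4 F 2 z z = 1 := by
    rw [hz, show Cfsg.hermForm 4 F 2 (T _) (T _) = _ from hT _ _]
    simp [Cfsg.hermForm, Pi.single_apply]
  have hzp : ∀ p ∈ W, Cfsg.hermForm 4 F 2 z p = 0 := by
    intro p hp
    obtain ⟨⟨p₁, p₂⟩, rfl⟩ := T.surjective p
    have h0 : p₂ = 0 := (hTW (p₁, p₂)).1 hp
    subst h0
    rw [hz, show Cfsg.hermForm 4 F 2 (T _) (T _) = _ from hT _ _]
    simp [CfsgLib.PSUAut.hzero_left hF hσ, CfsgLib.PSUAut.hzero_right hF hσ]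
  have zw : Cfsg.hermForm 4 F 2 z w = 0 := hzp w (Submodule.subset_span (Set.mem_insert _ _))
  have zv : Cfsg.hermForm 4 F 2 z v = 0 := hzp v (Submodule.subset_span (Set.mem_insert_of_mem _ rfl))
  obtain ⟨ω, h0, h01, hω, -⟩ := U6.exists_omega hF
  set x := ω • w + v + z with hx
  have hxw : Cfsg.hermForm 4 F 2 x w = 1 := by
    rw [hx, CfsgLib.PSUAut.hadd_left hF hσ, CfsgLib.PSUAut.hadd_left hF hσ, CfsgLib.PSUAut.hsmul_left hF hσ,
      hw.2, h2, zw, mul_zero, zero_add, add_zero]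
  have hvx : Cfsg.hermForm 4 F 2 v x = ω ^ 2 := by
    rw [hx, CfsgLib.PSUAut.hadd_right hF hσ, CfsgLib.PSUAut.hadd_right hF hσ, CfsgLib.PSUAut.hsmul_right hF hσ,
      h1, h2, hσ, (CfsgLib.PSUAut.hcomm hF hσ z v).1 zv, mul_one, add_zero, add_zero]
  have hxx : Cfsg.hermForm 4 F 2 x x = 0 := by
    rw [hx]
    simp only [CfsgLib.PSUAut.hadd_left hF hσ, CfsgLib.PSUAut.hadd_right hF hσ,
      CfsgLib.PSUAut.hsmul_left hF hσ, CfsgLib.PSUAut.hsmul_right hF hσ, hσ, hw.2, h1, h2, hwv, zw, zv,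
      (CfsgLib.PSUAut.hcomm hF hσ z w).1 zw, (CfsgLib.PSUAut.hcomm hF hσ z v).1 zv, hzz]
    linear_combination hω
  have hx0 : x ≠ 0 := fun h => by
    rw [h, CfsgLib.PSUAut.hzero_left hF hσ] at hxw
    exact zero_ne_one hxw
  have step : ∀ {p q : Fin 4 → F}, Isot 2 p → Isot 2 q → Cfsg.hermForm 4 F 2 p q ≠ 0 →
      ∃ B : Cfsg.SU 4 F 2, act B p = Cfsg.hermForm 4 F 2 p q • q := by
    intro p q hp hq hpq
    obtain ⟨s, hs⟩ := CfsgLib.PSUAut.exists_tSU hF hσ hq (c := 1) (by rw [map_one]; exact U6.add_self hF 1)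
    obtain ⟨r, hr⟩ := CfsgLib.PSUAut.exists_tSU hF hσ hp (c := 1) (by rw [map_one]; exact U6.add_self hF 1)
    refine ⟨r * s, ?_⟩
    rw [CfsgLib.PSUAut.act_mul, hs, hr, one_mul, one_mul, CfsgLib.PSUAut.hadd_left hF hσ, hp.2,
      CfsgLib.PSUAut.hsmul_left hF hσ, zero_add,
      CfsgLib.PSUAut.hconj hF hσ p q, hσ, ← pow_succ', U6.cube_eq_one hF hpq, one_smul]
    rw [add_right_comm, show p + p = 0 from funext fun i => U6.add_self hF (p i), zero_add]
  obtain ⟨B₁, hB₁⟩ := step hw ⟨h3, h1⟩ (by rw [hwv]; exact one_ne_zero)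
  obtain ⟨B₂, hB₂⟩ := step ⟨h3, h1⟩ ⟨hx0, hxx⟩ (by rw [hvx]; exact pow_ne_zero 2 h0)
  obtain ⟨B₃, hB₃⟩ := step ⟨hx0, hxx⟩ hw (by rw [hxw]; exact one_ne_zero)
  refine ⟨B₃ * (B₂ * B₁), ω ^ 2, pow_ne_zero 2 h0, fun h => h0 ?_, ?_⟩
  · linear_combination hω - h - CharTwo.two_eq_zero (R := F)
  · rw [CfsgLib.PSUAut.act_mul, CfsgLib.PSUAut.act_mul, hB₁, hwv, one_smul, hB₂, CfsgLib.PSUAut.act_smul,
      hB₃, hxw, hvx, one_smul]

/-- An element centralising the product which acts trivially on the joint centraliser modulo the kernel on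
lines lies in that kernel. -/
theorem mem_lineKer_of_trivial {x : G} (hx : Commute x (a * b))
    (h : ∀ k ∈ pairCent a b, x * k * x⁻¹ * k⁻¹ ∈ lineKer D S a b) : x ∈ lineKer D S a b := by
  obtain ⟨A⟩ := hM a ha
  obtain ⟨u, hu⟩ := A.exists_pt_of_link S hF ha hb
  obtain ⟨P⟩ := U6.exists_frame hF hu.1
  obtain ⟨σ, hσ⟩ := U6.exists_sigma hF
  have := U6.charTwo hF
  -- every line is fixed
  have hline : ∀ e ∈ link D a ∩ link D b, SameLine D a b e (x * e * x⁻¹) := by
    intro e he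
    have he' := (conj_sym S hF hM ha hb hx).1 e he
    obtain ⟨w, μ, hw, hl⟩ := exists_lab S hF ha hb A hu P he
    obtain ⟨w', μ', hw', hl'⟩ := exists_lab S hF ha hb A hu P he'
    obtain ⟨B, hB, hBr⟩ := rel_member S hF ha hb A hu P hl hw
    obtain ⟨B', hB', hBr'⟩ := rel_member S hF ha hb A hu P hl' hw'
    have hm := h e (mem_pairCent_of_link he)
    rw [S.tt.inv_eq he.1.1] at hm
    have e1 : B' * B = 1 := rel_unique S hF ha hb A hu P (rel_mul A P hBr' hBr)
      ((mem_lineKer_iff S hF hM ha hb A hu P).1 hm).2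
    have e2 : B * B = 1 := rel_unique S hF ha hb A hu P (rel_mul A P hBr hBr) (by
      rw [S.sqd he.1.1]; exact ⟨1, A.lifts_one, P.fixed_one hF⟩)
    have e3 : B' = B := mul_right_cancel (e1.trans e2.symm)
    obtain ⟨r, hr⟩ := CfsgLib.PSUAut.exists_partner hF hσ hw'
    have e4 := hB' r
    rw [e3, hB, hr, one_smul, add_right_inj] at e4
    exact (sameLine_iff S hF ha hb A hu P hl hl' hw hw').2 ⟨_, e4.symm⟩
  rcases pair_conj_cases S hF hM ha hb hx with ⟨h1, h2⟩ | ⟨h1, h2⟩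
  · exact ⟨mem_pairCent.2 ⟨h1, h2⟩, hline⟩
  exfalso
  obtain ⟨e, he⟩ : (link D a ∩ link D b).Nonempty :=
    (Set.ncard_pos (Set.toFinite _)).1 (by rw [link_two_ncard S hF hM ha hb]; norm_num)
  obtain ⟨c, d, hcD, hdD, hcd, hcdne, hnca, hsq, hxa, hxb, hxe⟩ := exists_pair_exchange S hF hM ha hb he
  set x₀ := c * d with hx₀
  set k := x⁻¹ * x₀ with hk
  have hinvconj : ∀ {g p q : G}, g * p * g⁻¹ = q → g⁻¹ * q * g = p := fun h => by rw [← h]; group
  have hkK : k ∈ pairCent a b := by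
    refine mem_pairCent.2 ⟨mul_inv_eq_iff_eq_mul.1 ?_, mul_inv_eq_iff_eq_mul.1 ?_⟩
    · rw [hk, show x⁻¹ * x₀ * a * (x⁻¹ * x₀)⁻¹ = x⁻¹ * (x₀ * a * x₀⁻¹) * x by group, hxa]
      exact hinvconj h1
    · rw [hk, show x⁻¹ * x₀ * b * (x⁻¹ * x₀)⁻¹ = x⁻¹ * (x₀ * b * x₀⁻¹) * x by group, hxb]
      exact hinvconj h2
  obtain ⟨w, μ₀, hw, hl₀⟩ := exists_lab S hF ha hb A hu P he
  have hww := lab_iso S hF A P hl₀
  have hsl : ∀ {f : G} {ν : F}, A.Lab P f w ν → SameLine D a b e f := fun h =>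
    (sameLine_iff S hF ha hb A hu P hl₀ h hw hw).2 ⟨1, (one_smul _ _).symm⟩
  have huniq : ∀ {f : G} {ν ν' : F}, A.Lab P f w ν → A.Lab P f w ν' → ν = ν' := by
    intro f ν ν' h h'
    obtain ⟨q, -, hq, hq'⟩ := lab_unique hF A P h h'
    have : q = 1 := by
      by_contra hq1
      exact hw ((smul_eq_zero.1 (show (q - 1) • w = 0 by
        rw [sub_smul, one_smul, ← hq, sub_self])).resolve_left (sub_ne_zero.2 hq1))
    rw [hq', this, one_mul]
  choose f hf hfl using fun ν : F => exists_member S hF ha hb A hu P hw hww ν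
  -- the permutation induced by `x` on the line of `e`
  have hπ : ∀ ν, ∃ ν', A.Lab P (x * f ν * x⁻¹) w ν' := fun ν =>
    sameLine_lab S hF ha hb A hu P hl₀ hw ((hsl (hfl ν)).trans (hline _ (hf ν)))
  choose π hπ using hπ
  -- an element of the joint centraliser fixing the line with a multiplier
  obtain ⟨T, l, hl0, hl1, hTw⟩ := exists_four_scale S hF hM ha hb (w := w) ⟨hw, hww⟩
  obtain ⟨ρ, hρ, hrel⟩ := exists_pair_rho S hF hM ha hb A hu P
  obtain ⟨⟨t, ht⟩, htT⟩ := hρ T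
  have htrel : A.Rel P t T := htT ▸ hrel ⟨t, ht⟩
  have hlin : ∀ {s : G} {B : Cfsg.SU 4 F 2} {m : F}, A.Rel P s B → m ≠ 0 → act B w = m • w →
      ∃ ν₀ : F, ∀ ν, A.Lab P (s * f ν * s⁻¹) w (m⁻¹ * ν + ν₀) := by
    intro s B m hs hm hBm
    obtain ⟨g, hg, hfix⟩ := hs
    obtain ⟨n, hn⟩ := hfix.2 w
    refine ⟨m⁻¹ * n, fun ν => ?_⟩
    have := lab_smul hF A P (lab_conj S hF ha A P hg hfix (hfl ν) hn) (inv_ne_zero hm)
    rwa [hBm, inv_smul_smul₀ hm, mul_add] at this
  obtain ⟨n₀, hn₀⟩ := hlin htrel hl0 hTw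
  set t' := x * t * x⁻¹ with ht'
  have ht'rel : A.Rel P t' T := by
    have hm := ((mem_lineKer_iff S hF hM ha hb A hu P).1 (h t ht)).2
    have := rel_mul A P hm htrel
    rwa [one_mul, inv_mul_cancel_right] at this
  obtain ⟨n₁, hn₁⟩ := hlin ht'rel hl0 hTw
  set L := l⁻¹ with hL
  have hL1 : L ≠ 1 := fun h => hl1 (inv_eq_one.1 h)
  have hfeq : ∀ {p : G} {ν : F}, A.Lab P p w ν → p = f ν := fun h => lab_inj S hF ha A P h (hfl _)
  have hcomm : ∀ ν, π (L * ν + n₀) = L * π ν + n₁ := by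
    intro ν
    apply huniq (hπ _)
    rw [← hfeq (hn₀ ν), show x * (t * f ν * t⁻¹) * x⁻¹ = t' * (x * f ν * x⁻¹) * t'⁻¹ by rw [ht']; group,
      hfeq (hπ ν)]
    exact hn₁ (π ν)
  -- `π` is affine
  obtain ⟨κ, β, hκ⟩ : ∃ κ β : F, ∀ ν, π ν = κ * ν + β := by
    have hne : (1 : F) - L ≠ 0 := sub_ne_zero.2 (Ne.symm hL1)
    set p₀ := n₀ / (1 - L) with hp₀
    have hfp : L * p₀ + n₀ = p₀ := by rw [hp₀]; field_simp; ring
    have hp₁ : π p₀ = L * π p₀ + n₁ := by rw [← hcomm, hfp]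
    set δ : F → F := fun y => π (p₀ + y) - π p₀ with hδ
    have hstep : ∀ y, δ (L * y) = L * δ y := by
      intro y
      simp only [hδ]
      rw [show p₀ + L * y = L * (p₀ + y) + n₀ by linear_combination (-1 : F) * hfp, hcomm]
      linear_combination (-1 : F) * hp₁
    have h0δ : δ 0 = 0 := by simp [hδ]
    obtain ⟨ω, hω0, hω1, hω, hall⟩ := U6.exists_omega hF
    have hL2 : L = ω ∨ L = ω ^ 2 := by
      rcases hall L with h | h | h | h
      · exact absurd h (inv_ne_zero hl0)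
      · exact absurd h hL1
      · exact Or.inl h
      · exact Or.inr h
    have hsm : ∀ y, δ y = y * δ 1 := by
      intro y
      have e1 := hstep 1
      rw [mul_one] at e1
      have e2 : δ (L ^ 2) = L ^ 2 * δ 1 := by rw [pow_two, hstep, e1, mul_assoc]
      have hω4 : ω ^ 4 = ω := U6.pow_four hF ω
      rcases hall y with rfl | rfl | rfl | rfl
      · rw [h0δ, zero_mul]
      · rw [one_mul]
      · rcases hL2 with h | h
        · rwa [h] at e1
        · rwa [h, ← pow_mul, hω4] at e2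
      · rcases hL2 with h | h
        · rwa [h] at e2
        · rwa [h] at e1
    refine ⟨δ 1, π p₀ - p₀ * δ 1, fun ν => ?_⟩
    have := hsm (ν - p₀)
    simp only [hδ, add_sub_cancel] at this ⊢
    linear_combination this
  -- the exchange fixes the line pointwise
  obtain ⟨B, hB⟩ := rel_exists S hF hM ha hb A hu P hkK
  obtain ⟨g, hg, hfix⟩ := id hB
  obtain ⟨n, hn⟩ := hfix.2 w
  have hke : SameLine D a b e (k * e * k⁻¹) := by
    have he' := (conj_sym S hF hM ha hb hx.inv_left).1 e he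
    have h' := (hline _ he').symm he'
    rw [show x * (x⁻¹ * e * x⁻¹⁻¹) * x⁻¹ = e by group] at h'
    rwa [show k * e * k⁻¹ = x⁻¹ * (x₀ * e * x₀⁻¹) * x⁻¹⁻¹ by rw [hk]; group, hxe.eq, mul_inv_cancel_right]
  have hBw := CfsgLib.PSUAut.act_ne_zero B hw
  obtain ⟨m, hm⟩ := (sameLine_iff S hF ha hb A hu P hl₀ (lab_conj S hF ha A P hg hfix hl₀ hn) hw hBw).1 hke
  have hm0 : m ≠ 0 := fun h => hBw (by rw [hm, h, zero_smul])
  obtain ⟨n₂, hn₂⟩ := hlin hB hm0 hm
  have hσ' : ∀ ν, A.Lab P (x₀ * f ν * x₀⁻¹) w (κ * m⁻¹ * ν + (κ * n₂ + β)) := by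
    intro ν
    have h' := hπ (m⁻¹ * ν + n₂)
    rw [← hfeq (hn₂ ν), show x * (k * f ν * k⁻¹) * x⁻¹ = x₀ * f ν * x₀⁻¹ by rw [hk]; group, hκ] at h'
    rwa [show κ * m⁻¹ * ν + (κ * n₂ + β) = κ * (m⁻¹ * ν + n₂) + β by ring]
  set M := κ * m⁻¹
  set N := κ * n₂ + β
  have hx₀i : x₀⁻¹ = x₀ := inv_eq_of_mul_eq_one_right hsq
  have hinvol : ∀ ν, M * (M * ν + N) + N = ν := by
    intro ν
    refine huniq (f := f ν) ?_ (hfl ν)
    have h' := hσ' (M * ν + N)
    rw [← hfeq (hσ' ν), hx₀i] at h'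
    rwa [show x₀ * (x₀ * f ν * x₀) * x₀ = (x₀ * x₀) * f ν * (x₀ * x₀) by simp only [mul_assoc], hsq, one_mul,
      mul_one] at h'
  have hMM : M = 1 := by
    have e0 := hinvol 0
    have e1 := hinvol 1
    have : (M - 1) * (M - 1) = 0 := by
      linear_combination e1 - e0 + (1 - M) * CharTwo.two_eq_zero (R := F)
    exact sub_eq_zero.1 (mul_self_eq_zero.1 this)
  have hN : N = 0 := by
    have h' := hσ' μ₀
    rw [← hfeq hl₀, hxe.eq, mul_inv_cancel_right] at h'
    have := huniq h' hl₀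
    rw [hMM] at this
    linear_combination this
  have hfixf : ∀ ν, Commute c (f ν) := by
    intro ν
    have h' := hσ' ν
    rw [hMM, hN, one_mul, add_zero] at h'
    have : Commute (f ν) x₀ := (mul_inv_eq_iff_eq_mul.1 (hfeq h')).symm
    exact (S.commute_both hcD hdD (hf ν).1.1 hcd hcdne this).1.symm
  obtain ⟨ω, hω0, hω1, hω, -⟩ := U6.exists_omega hF
  have hw1 : ω ^ 2 ≠ 1 := by
    intro h
    have : (ω - 1) * (ω - 1) = 0 := by linear_combination h + (1 - ω) * CharTwo.two_eq_zero (R := F)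
    exact hω1 (sub_eq_zero.1 (mul_self_eq_zero.1 this))
  have hw2 : ω ^ 2 ≠ ω := by
    intro h
    have : ω * (ω - 1) = 0 := by linear_combination h
    exact hω1 (sub_eq_zero.1 ((mul_eq_zero.1 this).resolve_left hω0))
  have hne : ∀ {p q : F}, p ≠ q → f p ≠ f q := fun hpq h => hpq (huniq (hfl _) (h ▸ hfl _))
  have h4 := line_four S hF hM ha hb he (f₁ := f 0) (f₂ := f 1) (f₃ := f ω) (f₄ := f (ω ^ 2)) (by
    simp only [List.nodup_cons, List.mem_cons, List.not_mem_nil, or_false, not_or, List.nodup_nil,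
      not_false_eq_true, and_true]
    exact ⟨⟨hne zero_ne_one, hne hω0.symm, hne (pow_ne_zero 2 hω0).symm⟩, ⟨hne hω1.symm, hne hw1.symm⟩,
      hne hw2.symm⟩) (by
    intro p hp
    simp only [List.mem_cons, List.not_mem_nil, or_false] at hp
    rcases hp with rfl | rfl | rfl | rfl <;> exact hsl (hfl _))
  have hcq : Commute c (a * b) :=
    h4 ▸ (((hfixf 0).mul_right (hfixf 1)).mul_right (hfixf ω)).mul_right (hfixf (ω ^ 2))
  exact hnca (S.commute_both ha hb.1 hcD hb.2.2 hb.2.1.symm hcq).1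

theorem pair_cent_index :
    ((pairCent a b).subgroupOf (Subgroup.centralizer ({a * b} : Set G))).index = 2 := by
  obtain ⟨e, he⟩ : (link D a ∩ link D b).Nonempty :=
    (Set.ncard_pos (Set.toFinite _)).1 (by rw [link_two_ncard S hF hM ha hb]; norm_num)
  obtain ⟨c, d, -, -, -, -, -, -, hta, htb, -⟩ := exists_pair_exchange S hF hM ha hb he
  set t := c * d
  have htab : Commute t (a * b) := mul_inv_eq_iff_eq_mul.1 (by
    calc t * (a * b) * t⁻¹ = (t * a * t⁻¹) * (t * b * t⁻¹) := by group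
      _ = a * b := by rw [hta, htb, hb.2.2.eq])
  rw [Subgroup.index_eq_two_iff]
  refine ⟨⟨t, Subgroup.mem_centralizer_singleton_iff.2 htab.eq⟩, fun y => ?_⟩
  obtain ⟨y, hy⟩ := y
  simp only [Subgroup.mem_subgroupOf, Subgroup.coe_mul, mem_pairCent]
  have hy' : Commute y (a * b) := Subgroup.mem_centralizer_singleton_iff.1 hy
  rcases pair_conj_cases S hF hM ha hb hy' with ⟨h1, h2⟩ | ⟨h1, h2⟩
  · refine Or.inr ⟨⟨h1, h2⟩, fun h => hb.2.1 ?_⟩
    have : y * t * a * (y * t)⁻¹ = a := by rw [h.1.eq, mul_inv_cancel_right]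
    rw [show y * t * a * (y * t)⁻¹ = y * (t * a * t⁻¹) * y⁻¹ by group, hta, h2.eq, mul_inv_cancel_right] at this
    exact this
  · refine Or.inl ⟨⟨mul_inv_eq_iff_eq_mul.1 ?_, mul_inv_eq_iff_eq_mul.1 ?_⟩, fun h => hb.2.1 ?_⟩
    · rw [show y * t * a * (y * t)⁻¹ = y * (t * a * t⁻¹) * y⁻¹ by group, hta, h2]
    · rw [show y * t * b * (y * t)⁻¹ = y * (t * b * t⁻¹) * y⁻¹ by group, htb, h1]
    · rw [← h1, h.1.eq, mul_inv_cancel_right]

end CfsgLib.M22
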