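import Cfsg.Agent.Lib.ThreeTransp.M22Section
import Cfsg.Agent.Lib.ThreeTransp.M22Graph

/-!
# Sets of neighbours meeting every line at their members twice

In the link of a member a set closed under conjugation that contains with each member `x` a second point of
every line through `x` behaves like the common neighbours of a non-commuting pair. Two such sets with members
that do not commute have a common member.
-/

set_option autoImplicit false

namespace CfsgLib.M22

open CfsgLib.ThreeTransp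
open CfsgLib.U6 (IsPt)
open CfsgLib.PSUAut (Isot act)

/-- A set of members of `Λ` closed under conjugation containing with each member `x` and each further `g` of
`Λ` commuting with `x` a member other than `x` commuting with whatever commutes with both. -/
structure SecSet {G : Type*} [Group G] (Λ X : Set G) : Prop where
  sub : X ⊆ Λ
  conj : ∀ x ∈ X, ∀ y ∈ X, x * y * x⁻¹ ∈ X
  second : ∀ x ∈ X, ∀ g ∈ Λ, Commute x g → g ≠ x →
    ∃ f ∈ X, f ≠ x ∧ Commute f x ∧ ∀ h ∈ Λ, Commute h x → Commute h g → Commute h f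

/-- A complement of a point in its orthogonal. -/
structure PerpFrame {F : Type} [Field F] [Fintype F] (u : Fin 6 → F) (J : (Fin 4 → F) →ₗ[F] (Fin 6 → F)) :
    Prop where
  hju : ∀ r, Cfsg.hermForm 6 F 2 (J r) u = 0
  hj : ∀ r s, Cfsg.hermForm 6 F 2 (J r) (J s) = Cfsg.hermForm 4 F 2 r s
  hdec : ∀ z, Cfsg.hermForm 6 F 2 z u = 0 → ∃ (α : F) (r : Fin 4 → F), z = α • u + J r

section Form

variable {F : Type} [Field F] [Fintype F] (hF : Fintype.card F = 2 ^ 2)
include hF

theorem PerpFrame.eq_zero {u : Fin 6 → F} {J : (Fin 4 → F) →ₗ[F] (Fin 6 → F)} (hP : PerpFrame u J)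
    {r : Fin 4 → F} {α : F} (hu : Isot 2 u) (h : J r = α • u) : r = 0 := by
  obtain ⟨σ, hσ⟩ := U6.exists_sigma hF
  refine PSUAut.eq_zero_of_perp (n := 4) hF hσ fun s => ?_
  rw [← hP.hj s r, h, U6.smul_right hF, hP.hju, mul_zero]

theorem form_four_zero_iff {r s : Fin 4 → F} :
    Cfsg.hermForm 4 F 2 r s = 1 → Cfsg.hermForm 4 F 2 s r = 1 := fun h => by
  rw [← CfsgLib.Classical.hermForm_conj hF, h, one_pow]

end Form

variable {G : Type*} [Group G] [Finite G] {D : Set G} (S : Setup D) {F : Type} [Field F] [Fintype F]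
variable (hF : Fintype.card F = 2 ^ 2) (hM : ∀ a ∈ D, Nonempty (Model D a F))
include S hF

/-- The section of a set at one of its members. -/
theorem SecSet.isSection {a : G} (ha : a ∈ D) (A : Model D a F) {X : Set G} (hX : SecSet (link D a) X) {x : G}
    (hx : x ∈ X) {u : Fin 6 → F} (hu : IsPt (A.img (hX.sub hx)) u)
    {J : (Fin 4 → F) →ₗ[F] (Fin 6 → F)} (hP : PerpFrame u J) :
    Section.IsSection fun r δ => ∃ (f : G) (hf : f ∈ link D a), f ∈ X ∧ IsPt (A.img hf) (δ • u + J r) := by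
  refine ⟨fun r hr hrr => ?_, ?_, ?_⟩
  · have hjr : Isot 2 (J r) :=
      ⟨fun h => hr (hP.eq_zero hF hu.1 (α := 0) (by rw [h, zero_smul])), by rw [hP.hj, hrr]⟩
    obtain ⟨p, hp⟩ := U6.exists_pt hF hjr
    obtain ⟨g, hg, rfl⟩ := A.exists_link_of_pt S hF ha hp
    have hgx : Commute x g := (A.comm_iff S hF ha (hX.sub hx) hg hu hp).2 ((U6.comm_zero hF).1 (hP.hju r))
    have hgne : g ≠ x := by
      rintro rfl
      obtain ⟨c, -, hc⟩ := IsPt.span_eq hF hu hp
      exact hr (hP.eq_zero hF hu.1 hc)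
    obtain ⟨f, hf, hfne, hfx, hall⟩ := hX.second x hx g hg hgx hgne
    obtain ⟨w, hw⟩ := A.exists_pt_of_link S hF ha (hX.sub hf)
    have hmem : w ∈ Submodule.span F {u, J r} := (U6.mem_span_iff hF hu.1 hjr hw.1).2 fun s hs hsu hsv => by
      obtain ⟨E, hE⟩ := U6.exists_pt hF hs
      obtain ⟨h, lh, rfl⟩ := A.exists_link_of_pt S hF ha hE
      exact (A.comm_iff S hF ha lh (hX.sub hf) hE hw).1
        (hall h lh ((A.comm_iff S hF ha lh (hX.sub hx) hE hu).2 hsu) ((A.comm_iff S hF ha lh hg hE hp).2 hsv))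
    obtain ⟨p', q', hpq⟩ := Submodule.mem_span_pair.1 hmem
    have hq0 : q' ≠ 0 := by
      intro h0
      rw [h0, zero_smul, add_zero] at hpq
      exact A.notMem S hF ha (hX.sub hx) (hX.sub hf) hu hw hfne.symm (Submodule.mem_span_singleton.2 ⟨p', hpq⟩)
    refine ⟨q'⁻¹ * p', f, hX.sub hf, hf, ?_⟩
    have := hw.smul hF (inv_ne_zero hq0)
    rwa [← hpq, smul_add, inv_smul_smul₀ hq0, smul_smul] at this
  · rintro r α c hc ⟨f, lf, hf, h3⟩
    refine ⟨f, lf, hf, ?_⟩
    have := h3.smul hF hc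
    rwa [smul_add, smul_smul, ← map_smul] at this
  · rintro r s α β hrs ⟨f, lf, hf, f3⟩ ⟨h, lh, hh, g3⟩
    obtain ⟨hm, hpt⟩ := A.conj_vec S hF lh lf g3 f3
    refine ⟨f * h * f, hm, ?_, ?_⟩
    · have := hX.conj f hf h hh
      rwa [S.tt.inv_eq lf.1] at this
    have e : Cfsg.hermForm 6 F 2 (β • u + J s) (α • u + J r) = 1 := by
      rw [U6.add_left hF, U6.add_right hF, U6.add_right hF, U6.smul_left hF, U6.smul_left hF, U6.smul_right hF,
        U6.smul_right hF, hu.1.2, (U6.comm_zero hF).1 (hP.hju r), hP.hju, hP.hj, form_four_zero_iff hF hrs]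
      ring
    rw [e, one_smul] at hpt
    rwa [map_add, add_smul, show α • u + β • u + (J r + J s) = β • u + J s + (α • u + J r) by abel]

include hM

/-- Two such sets with members that do not commute have a common member. -/
theorem SecSet.meet {a : G} (ha : a ∈ D) {X X' : Set G} (hX : SecSet (link D a) X) (hX' : SecSet (link D a) X')
    {x z : G} (hx : x ∈ X) (hz : z ∈ X') (hxz : ¬ Commute x z) : ∃ f ∈ X, f ∈ X' := by
  obtain ⟨A⟩ := hM a ha
  obtain ⟨u, hu⟩ := A.exists_pt_of_link S hF ha (hX.sub hx)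
  obtain ⟨v₀, hv₀⟩ := A.exists_pt_of_link S hF ha (hX'.sub hz)
  have hne : Cfsg.hermForm 6 F 2 v₀ u ≠ 0 := fun h =>
    hxz ((A.comm_iff S hF ha (hX.sub hx) (hX'.sub hz) hu hv₀).2 ((U6.comm_zero hF).1 h))
  set v := (Cfsg.hermForm 6 F 2 v₀ u)⁻¹ • v₀ with hvdef
  have hv := hv₀.smul hF (inv_ne_zero hne)
  rw [← hvdef] at hv
  have hvu : Cfsg.hermForm 6 F 2 v u = 1 := by rw [hvdef, U6.smul_left hF, inv_mul_cancel₀ hne]
  have huv := U6.comm_one hF hvu
  obtain ⟨P⟩ := U6.exists_frame hF hu.1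
  obtain ⟨γ, β, w, hdec⟩ := P.decomp v
  obtain rfl : β = 1 := by
    have := hvu
    rwa [hdec, U6.add_left hF, U6.add_left hF, U6.smul_left hF, U6.smul_left hF, hu.1.2, P.hyu, P.hju, mul_zero,
      zero_add, add_zero, mul_one] at this
  let J : (Fin 4 → F) →ₗ[F] (Fin 6 → F) :=
    { toFun := fun r => Cfsg.hermForm 4 F 2 r w • u + P.j r
      map_add' := fun r s => by
        rw [U6Recog.add_left_four hF, map_add, add_smul]; abel
      map_smul' := fun c r => by
        rw [U6Recog.smul_left_four hF, map_smul, RingHom.id_apply, smul_add, smul_smul] }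
  have hJ : ∀ r, J r = Cfsg.hermForm 4 F 2 r w • u + P.j r := fun _ => rfl
  have hJv : ∀ r, Cfsg.hermForm 6 F 2 (J r) v = 0 := fun r => by
    rw [hJ, hdec, show γ • u + (1 : F) • P.y + P.j w = γ • u + P.j w + P.y by rw [one_smul]; abel,
      U6.add_right hF, P.form_eq hF, U6.add_left hF, U6.smul_left hF, P.uy hF, P.hjy, mul_one, add_zero]
    exact U6.add_self hF _
  have hPu : PerpFrame u J := by
    refine ⟨fun r => by rw [hJ]; exact P.perp_u hF _ r, fun r s => by rw [hJ, hJ, P.form_eq hF],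
      fun z hz => ?_⟩
    obtain ⟨α, r, rfl⟩ := P.exists_perp_decomp hF hz
    refine ⟨α + Cfsg.hermForm 4 F 2 r w, r, ?_⟩
    rw [hJ, ← add_assoc, ← add_smul, add_assoc α, U6.add_self hF, add_zero]
  have hall : ∀ z, ∃ (α β : F) (r : Fin 4 → F), z = α • u + β • v + J r := by
    intro z
    obtain ⟨α, β, r, rfl⟩ := P.decomp z
    refine ⟨α + β * γ + Cfsg.hermForm 4 F 2 (r + β • w) w, β, r + β • w, ?_⟩
    rw [hJ, hdec, map_add, map_smul, smul_add, smul_add, smul_smul, smul_smul, add_smul, add_smul, mul_one]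
    have h1 : ∀ X : Fin 6 → F, X + X = 0 := U6.vadd_self hF
    have h2 := h1 (Cfsg.hermForm 4 F 2 (r + β • w) w • u)
    have h3 := h1 ((β * γ) • u)
    have h4 := h1 (β • P.j w)
    linear_combination (norm := abel) -h2 - h3 - h4
  have hPv : PerpFrame v J := by
    refine ⟨hJv, hPu.hj, fun z hz => ?_⟩
    obtain ⟨α, β, r, rfl⟩ := hall z
    rw [U6.add_left hF, U6.add_left hF, U6.smul_left hF, U6.smul_left hF, huv, hv.1.2, hJv, mul_zero, add_zero,
      add_zero, mul_one] at hz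
    exact ⟨β, r, by rw [hz, zero_smul, zero_add]⟩
  obtain ⟨r, -, -, ⟨f, lf, hf, hf'⟩, ⟨g, lg, hg, hg'⟩⟩ :=
    Section.exists_common_zero hF (SecSet.isSection S hF ha A hX hx hu hPu)
      (SecSet.isSection S hF ha A hX' hz hv hPv)
  rw [zero_smul, zero_add] at hf' hg'
  obtain rfl := A.img_inj S ha lf lg (IsPt.unique hF hf' hg')
  exact ⟨f, hf, hg⟩

/-- The common neighbours of a non-commuting pair. -/
theorem secSet_common {a c : G} (ha : a ∈ D) (hc : c ∈ D) (hnc : ¬ Commute a c) :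
    SecSet (link D a) (link D a ∩ link D c) := by
  refine ⟨Set.inter_subset_left, fun x hx y hy => ?_, fun x hx g hg hxg hne => ?_⟩
  · have e1 := link_conj S.tt x hy.1
    have e2 := link_conj S.tt x hy.2
    rw [show x * a * x⁻¹ = a by rw [← hx.1.2.2.eq, mul_inv_cancel_right]] at e1
    rw [show x * c * x⁻¹ = c by rw [← hx.2.2.2.eq, mul_inv_cancel_right]] at e2
    exact ⟨e1, e2⟩
  · obtain ⟨A⟩ := hM a ha
    obtain ⟨u, hu⟩ := A.exists_pt_of_link S hF ha hx.1
    obtain ⟨v, hv⟩ := A.exists_pt_of_link S hF ha hg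
    obtain ⟨f, lf, w, hw, lfc, lfx, -, hspan⟩ := line_second S hF hM ha hc hnc A hx.1 hx.2 hg hxg hne.symm hu hv
    refine ⟨f, ⟨lf, lfc⟩, lfx.2.1, lfx.2.2.symm, fun h lh h1 h2 => ?_⟩
    obtain ⟨z, hz⟩ := A.exists_pt_of_link S hF ha lh
    refine (A.comm_iff S hF ha lh lf hz hw).2 ((U6.mem_span_iff hF hu.1 hv.1 hw.1).1 hspan z hz.1
      ((A.comm_iff S hF ha lh hx.1 hz hu).1 h1) ((A.comm_iff S hF ha lh hg hz hv).1 h2))

end CfsgLib.M22
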