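import Cfsg.Agent.Lib.ThreeTransp.M22SectionData
import Cfsg.Agent.Lib.ThreeTransp.U6Recog.Distance

/-!
# Two sections over the quadrangle have a common zero

A section gives a scalar to every isotropic vector of four variables over four elements, homogeneous and additive
on pairs with inner product one. It is known from five values, and any two have a common zero.
-/

set_option autoImplicit false
set_option maxRecDepth 100000

namespace CfsgLib.M22.Section

open CfsgLib.U6.Plane

/-- A coordinate of a point. -/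
def qv (k : ℕ) (l : Fin 4) : Fin 4 := ⟨quadCodes.getD k 0 / 4 ^ l.1 % 4, Nat.mod_lt _ (by norm_num)⟩

/-- The five coefficients of a coded section. -/
def coef (c i : ℕ) : Fin 4 := ⟨c / 4 ^ i % 4, Nat.mod_lt _ (by norm_num)⟩

/-- A step. -/
def stp (t : ℕ) : ℕ × ℕ × Fin 4 × Fin 4 := quadSteps.getD t (0, 0, 0, 0)

/-- The values of a coded section on the first points. -/
def secVals (c : ℕ) : ℕ → List (Fin 4)
  | 0 => [coef c 0, coef c 1, coef c 2, coef c 3, coef c 4]
  | t + 1 =>
    let v := secVals c t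
    v ++ [m (stp t).2.2.1 (s (v.getD (stp t).1 0) (m (stp t).2.2.2 (v.getD (stp t).2.1 0)))]

/-- The value of a coded section at a point. -/
def secVal (c k : ℕ) : Fin 4 := (secVals c 40).getD k 0

/-- The form on codes. -/
def qform (a b : Fin 4 → Fin 4) : Fin 4 := U6Recog.formCode a b

theorem quad_ok : (List.range 45).all (fun k =>
    decide (qform (qv k) (qv k) = 0) && decide (qv k ≠ 0)) = true := by
  decide +kernel

theorem steps_ok : (List.range 40).all (fun t =>
    Nat.blt (stp t).1 (5 + t) && Nat.blt (stp t).2.1 (5 + t) && decide ((stp t).2.2.1 ≠ 0) &&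
      decide ((stp t).2.2.2 ≠ 0) &&
      decide (qform (qv (stp t).1) (fun l => m (stp t).2.2.2 (qv (stp t).2.1 l)) = 1) &&
      decide (∀ l, qv (5 + t) l = m (stp t).2.2.1 (s (qv (stp t).1 l) (m (stp t).2.2.2 (qv (stp t).2.1 l))))) =
      true := by
  decide +kernel

theorem pairs_ok : secMasks.all (fun a => secMasks.all fun b => !(Nat.beq (Nat.land a b) 0)) = true := by
  decide +kernel

/-- The test of one code. -/
def maskTest (c : ℕ) : Bool :=
    let M := secMasks.getD (secCls.getD c 0) 0
    Nat.blt (secCls.getD c 0) secMasks.length && Nat.blt M (2 ^ 45) &&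
      let v := secVals c 40
      (List.range 45).all fun k => !(M.testBit k) || decide (v.getD k 0 = 0)

set_option maxHeartbeats 0 in
theorem masks_ok0 : (List.range 256).all (fun c => maskTest (0 + c)) = true := by
  decide +kernel

set_option maxHeartbeats 0 in
theorem masks_ok1 : (List.range 256).all (fun c => maskTest (256 + c)) = true := by
  decide +kernel

set_option maxHeartbeats 0 in
theorem masks_ok2 : (List.range 256).all (fun c => maskTest (512 + c)) = true := by
  decide +kernel

set_option maxHeartbeats 0 in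
theorem masks_ok3 : (List.range 256).all (fun c => maskTest (768 + c)) = true := by
  decide +kernel

theorem masks_ok {c : ℕ} (hc : c < 1024) : maskTest c = true := by
  have h0 := List.all_eq_true.1 masks_ok0
  have h1 := List.all_eq_true.1 masks_ok1
  have h2 := List.all_eq_true.1 masks_ok2
  have h3 := List.all_eq_true.1 masks_ok3
  rcases Nat.lt_or_ge c 256 with h | h
  · simpa using h0 c (List.mem_range.2 h)
  rcases Nat.lt_or_ge c 512 with h' | h'
  · obtain ⟨d, rfl⟩ := Nat.exists_eq_add_of_le h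
    exact h1 d (List.mem_range.2 (by omega))
  rcases Nat.lt_or_ge c 768 with h'' | h''
  · obtain ⟨d, rfl⟩ := Nat.exists_eq_add_of_le h'
    exact h2 d (List.mem_range.2 (by omega))
  · obtain ⟨d, rfl⟩ := Nat.exists_eq_add_of_le h''
    exact h3 d (List.mem_range.2 (by omega))

/-- Two coded sections have a common zero. -/
theorem common_zero {c c' : ℕ} (hc : c < 1024) (hc' : c' < 1024) :
    ∃ k < 45, secVal c k = 0 ∧ secVal c' k = 0 := by
  have h := masks_ok hc
  have h' := masks_ok hc'
  simp only [maskTest, Bool.and_eq_true, Nat.blt_eq, List.all_eq_true, List.mem_range, Bool.or_eq_true,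
    Bool.not_eq_true', decide_eq_true_eq] at h h'
  obtain ⟨⟨hl, hb⟩, hz⟩ := h
  obtain ⟨⟨hl', -⟩, hz'⟩ := h'
  have hp := pairs_ok
  simp only [List.all_eq_true, Bool.not_eq_true'] at hp
  have hne := hp _ (List.getElem_mem hl) _ (List.getElem_mem hl')
  rw [← List.getD_eq_getElem (d := 0) _ hl, ← List.getD_eq_getElem (d := 0) _ hl'] at hne
  set a := secMasks.getD (secCls.getD c 0) 0
  set b := secMasks.getD (secCls.getD c' 0) 0
  have hne' : a &&& b ≠ 0 := fun e => by
    rw [show Nat.land a b = 0 from e] at hne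
    exact absurd hne (by decide)
  obtain ⟨k, hk⟩ := Nat.exists_testBit_of_ne_zero hne'
  rw [Nat.testBit_and, Bool.and_eq_true] at hk
  have hk45 : k < 45 := by
    by_contra hge
    have := Nat.testBit_lt_two_pow (lt_of_lt_of_le hb (Nat.pow_le_pow_right (by norm_num) (not_lt.1 hge)))
    rw [this] at hk
    exact Bool.noConfusion hk.1
  refine ⟨k, hk45, (hz k hk45).resolve_left ?_, (hz' k hk45).resolve_left ?_⟩
  · rw [hk.1]; decide
  · rw [hk.2]; decide

theorem secVals_length (c : ℕ) : ∀ t, (secVals c t).length = 5 + t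
  | 0 => rfl
  | t + 1 => by simp [secVals, secVals_length c t]; omega

theorem secVals_getD (c : ℕ) : ∀ t t', t ≤ t' → ∀ k < 5 + t, (secVals c t').getD k 0 = (secVals c t).getD k 0 := by
  intro t t' h
  induction h with
  | refl => exact fun k _ => rfl
  | @step n hn ih =>
    intro k hk
    rw [secVals, List.getD_append _ _ _ _ (by rw [secVals_length]; have := hn; simp only [Nat.le_eq] at this; omega), ih k hk]

theorem secVal_seed (c k : ℕ) (hk : k < 5) : secVal c k = coef c k := by
  rw [secVal, secVals_getD c 0 40 (by norm_num) k (by omega)]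
  interval_cases k <;> rfl

theorem secVal_step (c t : ℕ) (ht : t < 40) : secVal c (5 + t) =
    m (stp t).2.2.1 (s (secVal c (stp t).1) (m (stp t).2.2.2 (secVal c (stp t).2.1))) := by
  have h := List.all_eq_true.1 steps_ok t (List.mem_range.2 ht)
  simp only [Bool.and_eq_true, Nat.blt_eq] at h
  obtain ⟨⟨⟨⟨⟨hi, hj⟩, -⟩, -⟩, -⟩, -⟩ := h
  rw [secVal, secVals_getD c (t + 1) 40 (by omega) (5 + t) (by omega), secVals,
    List.getD_append_right _ _ _ _ (by rw [secVals_length]), secVals_length, Nat.sub_self, List.getD_cons_zero,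
    secVal, secVals_getD c t 40 (by omega) _ hi, secVal, secVals_getD c t 40 (by omega) _ hj]

open CfsgLib.U6
open CfsgLib.U6.Plane (Coord exists_coord)

variable {F : Type} [Field F] [Fintype F]

local notation "H4" => Cfsg.hermForm 4 F 2

/-- A section. -/
structure IsSection (Sec : (Fin 4 → F) → F → Prop) : Prop where
  ex : ∀ r, r ≠ 0 → H4 r r = 0 → ∃ α, Sec r α
  scale : ∀ r α c, c ≠ 0 → Sec r α → Sec (c • r) (c * α)
  add : ∀ r r' α β, H4 r r' = 1 → Sec r α → Sec r' β → Sec (r + r') (α + β)

variable (hF : Fintype.card F = 2 ^ 2)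
include hF

theorem IsSection.exists_code {Sec : (Fin 4 → F) → F → Prop} (hS : IsSection Sec) (K : Coord F) :
    ∃ c < 1024, ∀ k < 45, Sec (fun l => K.ι (qv k l)) (K.ι (secVal c k)) := by
  have hι : ∀ {a : Fin 4}, a ≠ 0 → K.ι a ≠ 0 := fun {a} ha h => ha (K.ι_injective hF (h.trans K.ι_zero.symm))
  have hex : ∀ k < 45, ∃ a : Fin 4, Sec (fun l => K.ι (qv k l)) (K.ι a) := by
    intro k hk
    have h := List.all_eq_true.1 quad_ok k (List.mem_range.2 hk)
    simp only [Bool.and_eq_true, decide_eq_true_eq] at h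
    have h0 : (fun l => K.ι (qv k l)) ≠ (0 : Fin 4 → F) := fun e => h.2 (funext fun l =>
      K.ι_injective hF ((congrFun e l).trans K.ι_zero.symm))
    obtain ⟨α, hα⟩ := hS.ex _ h0 (by rw [U6Recog.formCode_eq, show U6Recog.formCode (qv k) (qv k) = 0 from h.1,
      K.ι_zero])
    obtain ⟨a, rfl⟩ := K.ι_surj α
    exact ⟨a, hα⟩
  obtain ⟨a0, h0⟩ := hex 0 (by norm_num)
  obtain ⟨a1, h1⟩ := hex 1 (by norm_num)
  obtain ⟨a2, h2⟩ := hex 2 (by norm_num)
  obtain ⟨a3, h3⟩ := hex 3 (by norm_num)
  obtain ⟨a4, h4⟩ := hex 4 (by norm_num)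
  set c := a0.1 + 4 * a1.1 + 16 * a2.1 + 64 * a3.1 + 256 * a4.1 with hc
  refine ⟨c, by omega, ?_⟩
  intro k
  induction k using Nat.strong_induction_on with
  | _ k ih =>
    intro hk
    rcases Nat.lt_or_ge k 5 with h5 | h5
    · rw [secVal_seed c k h5]
      have e : ∀ (i : ℕ) (a : Fin 4), c / 4 ^ i % 4 = a.1 → coef c i = a := fun i a h => Fin.ext h
      interval_cases k
      · rwa [e 0 a0 (by omega)]
      · rwa [e 1 a1 (by omega)]
      · rwa [e 2 a2 (by omega)]
      · rwa [e 3 a3 (by omega)]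
      · rwa [e 4 a4 (by omega)]
    · obtain ⟨t, rfl⟩ := Nat.exists_eq_add_of_le h5
      have h := List.all_eq_true.1 steps_ok t (List.mem_range.2 (by omega))
      simp only [Bool.and_eq_true, Nat.blt_eq, decide_eq_true_eq] at h
      obtain ⟨⟨⟨⟨⟨hi, hj⟩, hl⟩, hcc⟩, hH⟩, hv⟩ := h
      rw [secVal_step c t (by omega)]
      have hj' := hS.scale _ _ _ (hι hcc) (ih _ hj (by omega))
      have e : (fun l => K.ι (qv (5 + t) l)) = K.ι (stp t).2.2.1 • ((fun l => K.ι (qv (stp t).1 l)) +
          K.ι (stp t).2.2.2 • fun l => K.ι (qv (stp t).2.1 l)) := funext fun l => by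
        rw [hv l, K.ι_m, K.ι_s, K.ι_m]; rfl
      rw [e, K.ι_m, K.ι_s, K.ι_m]
      refine hS.scale _ _ _ (hι hl) (hS.add _ _ _ _ ?_ (ih _ hi (by omega)) hj')
      rw [show (K.ι (stp t).2.2.2 • fun l => K.ι (qv (stp t).2.1 l)) =
        fun l => K.ι (m (stp t).2.2.2 (qv (stp t).2.1 l)) from funext fun l => (K.ι_m _ _).symm,
        U6Recog.formCode_eq, show U6Recog.formCode _ _ = 1 from hH, K.ι_one]

/-- Two sections are zero at one common isotropic vector. -/
theorem exists_common_zero {Sec Sec' : (Fin 4 → F) → F → Prop} (hS : IsSection Sec) (hS' : IsSection Sec') :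
    ∃ r : Fin 4 → F, r ≠ 0 ∧ H4 r r = 0 ∧ Sec r 0 ∧ Sec' r 0 := by
  obtain ⟨K⟩ := exists_coord hF
  obtain ⟨c, hc, h⟩ := hS.exists_code hF K
  obtain ⟨c', hc', h'⟩ := hS'.exists_code hF K
  obtain ⟨k, hk, z, z'⟩ := common_zero hc hc'
  have q := List.all_eq_true.1 quad_ok k (List.mem_range.2 hk)
  simp only [Bool.and_eq_true, decide_eq_true_eq] at q
  refine ⟨fun l => K.ι (qv k l), fun e => q.2 (funext fun l =>
    K.ι_injective hF ((congrFun e l).trans K.ι_zero.symm)), ?_, ?_, ?_⟩
  · rw [U6Recog.formCode_eq, show U6Recog.formCode (qv k) (qv k) = 0 from q.1, K.ι_zero]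
  · have := h k hk; rwa [z, K.ι_zero] at this
  · have := h' k hk; rwa [z', K.ι_zero] at this

end CfsgLib.M22.Section
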