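import Cfsg.Agent.Lib.ThreeTransp.M22Kernel
import Cfsg.Agent.Lib.Classical.UnitaryPSU
import Cfsg.Prelude.Def_CaseTheorems

/-!
# Groups of type `M(22)`: simplicity

Every member is a product of six members of its link, the group of a link is quasisimple with centre
generated by the member, and the whole group is simple.
-/

set_option autoImplicit false

namespace CfsgLib.M22

open CfsgLib.ThreeTransp CfsgLib.SporMisc
open CfsgLib.U6 (IsPt IsPlane vec3)
open CfsgLib.PSUAut (Isot)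

variable {G : Type*} [Group G] {D : Set G}
variable [Finite G] (S : Setup D) {F : Type} [Field F] [Fintype F] (hF : Fintype.card F = 2 ^ 2)
  (hM : ∀ a ∈ D, Nonempty (Model D a F))
include S hF hM

theorem central_cases {a : G} (ha : a ∈ D) (A : Model D a F) {x : G}
    (hx : x ∈ Subgroup.closure (link D a)) (h : A.ψ ⟨x, hx⟩ = 1) : x = 1 ∨ x = a :=
  eq_one_or_eq S hF hM ha (commute_link_closure hx).symm
    fun _ hy => commute_of_mem_center ((A.ker _).1 h) hy

/-- Every member is a product of six members of its link. -/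
theorem exists_six {a : G} (ha : a ∈ D) :
    ∃ b c g p q r : G, b ∈ link D a ∧ c ∈ link D a ∧ g ∈ link D a ∧ p ∈ link D a ∧ q ∈ link D a ∧
      r ∈ link D a ∧ b * c * g * (p * q * r) = a := by
  obtain ⟨A⟩ := hM a ha
  obtain ⟨b, hb⟩ := A.link_nonempty hF
  obtain ⟨u₁, hu₁⟩ := A.exists_pt_of_link S hF ha hb
  obtain ⟨u₂, hu₂, h12, h12'⟩ := U6.exists_perp_point hF hu₁.1
  have hi₂ : u₂ ∉ Submodule.span F {u₁} := fun h => by
    obtain ⟨c, hc⟩ := Submodule.mem_span_singleton.1 h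
    exact h12' c hc.symm
  obtain ⟨u₃, hu₃, h31, h32, hi₃⟩ := U6.exists_plane hF hu₁.1 hi₂
  have P : IsPlane u₁ u₂ u₃ := ⟨hu₁.1.2, hu₂.2, hu₃.2, h12, (U6.comm_zero hF).1 h31,
    (U6.comm_zero hF).1 h32, hu₁.1.1, hi₂, hi₃⟩
  obtain ⟨ω, h0, h1, hω, -⟩ := U6.exists_omega hF
  have hb' := hu₁
  obtain ⟨X₂, hX₂⟩ := U6.exists_pt hF hu₂
  obtain ⟨X₃, hX₃⟩ := U6.exists_pt hF hu₃
  obtain ⟨c, hc, rfl⟩ := A.exists_link_of_pt S hF ha hX₂
  obtain ⟨g, hg, rfl⟩ := A.exists_link_of_pt S hF ha hX₃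
  have ptm : ∀ s t : F, ∃ (e : G) (he : e ∈ link D a), IsPt (A.img he) (vec3 u₁ u₂ u₃ s t) := by
    intro s t
    obtain ⟨X, hX⟩ := U6.exists_pt hF (U6.isot_vec3 hF P s t)
    obtain ⟨e, he, rfl⟩ := A.exists_link_of_pt S hF ha hX
    exact ⟨e, he, hX⟩
  have hw2 : ω ^ 2 ≠ 0 := pow_ne_zero 2 h0
  obtain ⟨p, lp, hp⟩ := ptm 1 1
  obtain ⟨q, lq, hq⟩ := ptm ω (1 * ω ^ 2)
  obtain ⟨r, lr, hr⟩ := ptm (ω ^ 2) (1 * ω)
  obtain ⟨p', lp', hp'⟩ := ptm 1 ω
  obtain ⟨q', lq', hq'⟩ := ptm ω (ω * ω ^ 2)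
  obtain ⟨r', lr', hr'⟩ := ptm (ω ^ 2) (ω * ω)
  have cent : ∀ {p q r : G} (lp : p ∈ link D a) (lq : q ∈ link D a) (lr : r ∈ link D a),
      A.img hb * A.img hc * A.img hg * (A.img lp * A.img lq * A.img lr) = 1 →
        b * c * g * (p * q * r) = 1 ∨ b * c * g * (p * q * r) = a := by
    intro p q r lp lq lr h
    have hmem : b * c * g * (p * q * r) ∈ Subgroup.closure (link D a) :=
      mul_mem (mul_mem (mul_mem (Subgroup.subset_closure hb) (Subgroup.subset_closure hc))
        (Subgroup.subset_closure hg)) (mul_mem (mul_mem (Subgroup.subset_closure lp)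
          (Subgroup.subset_closure lq)) (Subgroup.subset_closure lr))
    refine central_cases S hF hM ha A hmem ?_
    rw [← h]
    simp only [Model.img, ← map_mul]
    rfl
  rcases cent lp lq lr (U6.oval_prod hF P h0 hω one_ne_zero hb' hX₂ hX₃ hp hq hr) with e1 | e1
  swap
  · exact ⟨b, c, g, p, q, r, hb, hc, hg, lp, lq, lr, e1⟩
  rcases cent lp' lq' lr' (U6.oval_prod hF P h0 hω h0 hb' hX₂ hX₃ hp' hq' hr') with e2 | e2
  swap
  · exact ⟨b, c, g, p', q', r', hb, hc, hg, lp', lq', lr', e2⟩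
  exfalso
  have cm : ∀ {x y : G} (lx : x ∈ link D a) (ly : y ∈ link D a) {s t : Fin 6 → F}, IsPt (A.img lx) s →
      IsPt (A.img ly) t → Cfsg.hermForm 6 F 2 s t = 0 → Commute x y :=
    fun lx ly _ _ hs ht h => A.commute_of_img S ha lx ly ((IsPt.commute_iff hF hs ht).2 h)
  have ne : ∀ {x y : G} (lx : x ∈ link D a) (ly : y ∈ link D a), A.img lx ≠ A.img ly → x ≠ y := by
    intro x y lx ly h hxy
    subst hxy
    exact h rfl
  have vne : ∀ {x y : G} (lx : x ∈ link D a) (ly : y ∈ link D a) {s t s' t' : F},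
      IsPt (A.img lx) (vec3 u₁ u₂ u₃ s t) → IsPt (A.img ly) (vec3 u₁ u₂ u₃ s' t') → (s ≠ s' ∨ t ≠ t') →
        x ≠ y := by
    intro x y lx ly s t s' t' hx hy h
    refine ne lx ly fun he => ?_
    obtain ⟨e1, e2⟩ := IsPt.vec3_inj hF P hx (he ▸ hy)
    exact h.elim (fun h => h e1) fun h => h e2
  have hw1 : ω ^ 2 ≠ 1 := fun h => h0 (by
    have := U6.charTwo hF
    linear_combination hω - h - CharTwo.two_eq_zero (R := F))
  have hw12 : ω ≠ ω ^ 2 := fun h => by
    have : ω * (ω - 1) = 0 := by linear_combination -h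
    exact h1 (sub_eq_zero.1 ((mul_eq_zero.1 this).resolve_left h0))
  have perp : ∀ s t s' t' : F, Cfsg.hermForm 6 F 2 (vec3 u₁ u₂ u₃ s t) (vec3 u₁ u₂ u₃ s' t') = 0 := by
    intro s t s' t'
    have := U6.perp_comb hF P 1 s t 1 s' t'
    rwa [one_smul] at this
  have Tx : Tri D b c g := by
    refine ⟨hb.1, hc.1, hg.1, ne hb hc fun e => ?_, ne hb hg fun e => ?_, ne hc hg fun e => ?_,
      cm hb hc hb' hX₂ P.h₁₂, cm hb hg hb' hX₃ P.h₁₃, cm hc hg hX₂ hX₃ P.h₂₃⟩
    · exact IsPt.ne_of_notMem_span hF hb' hX₂ hi₂ e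
    · refine IsPt.ne_of_notMem_span hF hb' hX₃ (fun h => hi₃ ?_) e
      exact Submodule.span_mono (by simp) h
    · refine IsPt.ne_of_notMem_span hF hX₂ hX₃ (fun h => hi₃ ?_) e
      exact Submodule.span_mono (by simp) h
  have tri : ∀ {p q r : G} (lp : p ∈ link D a) (lq : q ∈ link D a) (lr : r ∈ link D a) {κ : F},
      IsPt (A.img lp) (vec3 u₁ u₂ u₃ 1 κ) → IsPt (A.img lq) (vec3 u₁ u₂ u₃ ω (κ * ω ^ 2)) →
      IsPt (A.img lr) (vec3 u₁ u₂ u₃ (ω ^ 2) (κ * ω)) → b * c * g * (p * q * r) = 1 →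
      Tri D p q r ∧ p * q * r = b * c * g ∧ p ∉ [b, c, g] := by
    intro p q r lp lq lr κ hp hq hr h
    have T : Tri D p q r := ⟨lp.1, lq.1, lr.1, vne lp lq hp hq (Or.inl h1.symm),
      vne lp lr hp hr (Or.inl hw1.symm), vne lq lr hq hr (Or.inl hw12), cm lp lq hp hq (perp _ _ _ _),
      cm lp lr hp hr (perp _ _ _ _), cm lq lr hq hr (perp _ _ _ _)⟩
    refine ⟨T, ?_, ?_⟩
    · rw [mul_eq_one_iff_eq_inv, inv_eq_self (T.sq S)] at h
      exact h.symm
    · intro hmem
      simp only [List.mem_cons, List.not_mem_nil, or_false] at hmem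
      rcases hmem with e | e | e <;> subst e
      · exact IsPt.vec3_ne hF P hp one_ne_zero hb' (Or.inl rfl) rfl
      · exact IsPt.vec3_ne hF P hp one_ne_zero hX₂ (Or.inr (Or.inl rfl)) rfl
      · exact IsPt.vec3_ne hF P hp one_ne_zero hX₃ (Or.inr (Or.inr rfl)) rfl
  obtain ⟨T1, hp1, hn1⟩ := tri lp lq lr hp hq hr e1
  obtain ⟨T2, hp2, hn2⟩ := tri lp' lq' lr' hp' hq' hr' e2
  obtain ⟨x, y, z, -, -, -, hall⟩ := exists_partner_triple S hF hM Tx
  have s1 := (hall p q r T1 hp1).resolve_left fun h => hn1 ((h p).1 List.mem_cons_self)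
  have s2 := (hall p' q' r' T2 hp2).resolve_left fun h => hn2 ((h p').1 List.mem_cons_self)
  have hmem : p ∈ [p', q', r'] := (s2 p).2 ((s1 p).1 List.mem_cons_self)
  simp only [List.mem_cons, List.not_mem_nil, or_false] at hmem
  rcases hmem with e | e | e
  · exact vne lp lp' hp hp' (Or.inr h1.symm) e
  · exact vne lp lq' hp hq' (Or.inl h1.symm) e
  · exact vne lp lr' hp hr' (Or.inl hw1.symm) e

theorem self_mem_link_closure {a : G} (ha : a ∈ D) : a ∈ Subgroup.closure (link D a) := by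
  obtain ⟨b, c, g, p, q, r, hb, hc, hg, hp, hq, hr, h⟩ := exists_six S hF hM ha
  exact h.subst (motive := fun x => x ∈ Subgroup.closure (link D a))
    (mul_mem (mul_mem (mul_mem (Subgroup.subset_closure hb) (Subgroup.subset_closure hc))
      (Subgroup.subset_closure hg)) (mul_mem (mul_mem (Subgroup.subset_closure hp)
        (Subgroup.subset_closure hq)) (Subgroup.subset_closure hr)))

theorem center_link {a : G} (ha : a ∈ D) :
    Subgroup.center ↥(Subgroup.closure (link D a)) =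
      (Subgroup.zpowers a).subgroupOf (Subgroup.closure (link D a)) := by
  ext ⟨x, hx⟩
  rw [Subgroup.mem_subgroupOf]
  constructor
  · intro h
    rcases eq_one_or_eq S hF hM ha (commute_link_closure hx).symm (fun y hy => commute_of_mem_center h hy)
      with rfl | rfl
    · exact one_mem _
    · exact Subgroup.mem_zpowers _
  · intro h
    obtain ⟨k, rfl⟩ := Subgroup.mem_zpowers_iff.1 h
    exact mem_center_of_commute fun y hy => hy.2.2.zpow_left k

theorem link_isPerfect {a : G} (ha : a ∈ D) : Group.IsPerfect ↥(Subgroup.closure (link D a)) := by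
  obtain ⟨A⟩ := hM a ha
  let H := Subgroup.closure (link D a)
  let π : ↥H →* Abelianization ↥H := Abelianization.of
  obtain ⟨b, hb⟩ := A.link_nonempty hF
  have hs : ∀ {e : G} (he : e ∈ link D a),
      π ⟨e, Subgroup.subset_closure he⟩ = π ⟨b, Subgroup.subset_closure hb⟩ := by
    intro e he
    obtain ⟨h, hh, hhe⟩ := A.link_conj_of_mem S hF ha hb he
    have : (⟨e, Subgroup.subset_closure he⟩ : ↥H) =
        ⟨h, hh⟩ * ⟨b, Subgroup.subset_closure hb⟩ * (⟨h, hh⟩ : ↥H)⁻¹ := Subtype.ext hhe.symm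
    rw [this, map_mul, map_mul, map_inv, mul_comm (π _), mul_inv_cancel_right]
  set s := π ⟨b, Subgroup.subset_closure hb⟩ with hsdef
  have hs2 : s * s = 1 := by
    rw [hsdef, ← map_mul, ← map_one π]
    exact congrArg π (Subtype.ext (S.sqd hb.1))
  have haH := self_mem_link_closure S hF hM ha
  have hπa : π ⟨a, haH⟩ = 1 := by
    obtain ⟨b', c, g, p, q, r, lb, lc, lg, lp, lq, lr, h⟩ := exists_six S hF hM ha
    have : (⟨a, haH⟩ : ↥H) = ⟨b', Subgroup.subset_closure lb⟩ * ⟨c, Subgroup.subset_closure lc⟩ *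
        ⟨g, Subgroup.subset_closure lg⟩ * (⟨p, Subgroup.subset_closure lp⟩ *
        ⟨q, Subgroup.subset_closure lq⟩ * ⟨r, Subgroup.subset_closure lr⟩) := Subtype.ext h.symm
    rw [this]
    simp only [map_mul, hs lb, hs lc, hs lg, hs lp, hs lq, hs lr]
    simp [mul_assoc, hs2]
  have hs1 : s = 1 := by
    obtain ⟨u, hu⟩ := A.exists_pt_of_link S hF ha hb
    obtain ⟨v, hv, huv, hvu⟩ := U6.exists_perp_point hF hu.1
    obtain ⟨Y, hY⟩ := U6.exists_pt hF hv
    have hne : A.img hb ≠ Y := IsPt.ne_of_notMem_span hF hu hY fun h => by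
      obtain ⟨c, hc⟩ := Submodule.mem_span_singleton.1 h
      exact hvu c hc.symm
    obtain ⟨X₂, X₃, X₄, w₂, w₃, w₄, h₂, h₃, h₄, -, -, -, -, hprod, -⟩ := U6.exists_line hF hu hY huv hne
    obtain ⟨c, lc, rfl⟩ := A.exists_link_of_pt S hF ha hY
    obtain ⟨p, lp, rfl⟩ := A.exists_link_of_pt S hF ha h₂
    obtain ⟨q, lq, rfl⟩ := A.exists_link_of_pt S hF ha h₃
    obtain ⟨r, lr, rfl⟩ := A.exists_link_of_pt S hF ha h₄
    let X : ↥H := ⟨b, Subgroup.subset_closure hb⟩ * ⟨c, Subgroup.subset_closure lc⟩ *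
      ⟨p, Subgroup.subset_closure lp⟩ * ⟨q, Subgroup.subset_closure lq⟩ * ⟨r, Subgroup.subset_closure lr⟩
    have hX : A.ψ X = 1 := by
      rw [← hprod]
      simp only [X, Model.img, map_mul]
    have h1 : π X = 1 := by
      rcases central_cases S hF hM ha A X.2 hX with h | h
      · rw [show X = 1 from Subtype.ext h, map_one]
      · rw [show X = ⟨a, haH⟩ from Subtype.ext h, hπa]
    rw [← h1]
    simp only [X, map_mul, hs lc, hs lp, hs lq, hs lr, ← hsdef]
    simp [mul_assoc, hs2]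
  constructor
  rw [← Abelianization.ker_of]
  refine MonoidHom.ker_eq_top_iff.2 ?_
  ext ⟨x, hx⟩
  show π ⟨x, hx⟩ = 1
  induction hx using Subgroup.closure_induction with
  | mem y hy => exact (hs hy).trans hs1
  | one => exact map_one π
  | mul y z hy hz e1 e2 =>
    show π ((⟨y, hy⟩ : ↥H) * ⟨z, hz⟩) = 1
    rw [map_mul, e1, e2, one_mul]
  | inv y hy e1 =>
    show π (⟨y, hy⟩ : ↥H)⁻¹ = 1
    rw [map_inv, e1, inv_one]

theorem psu_simple : IsSimpleGroup (Cfsg.PSU 6 F 2) :=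
  CfsgLib.Classical.Unitary.isSimpleGroup_PSU hF (by norm_num) (by norm_num)

theorem link_quasisimple {a : G} (ha : a ∈ D) : Cfsg.IsQuasisimple ↥(Subgroup.closure (link D a)) := by
  obtain ⟨A⟩ := hM a ha
  have hker : A.ψ.ker = Subgroup.center _ := Subgroup.ext fun x => A.ker x
  let e := (QuotientGroup.quotientMulEquivOfEq hker.symm).trans
    (QuotientGroup.quotientKerEquivOfSurjective A.ψ A.surj)
  haveI := psu_simple S hF hM
  haveI : Nontrivial (↥(Subgroup.closure (link D a)) ⧸ Subgroup.center ↥(Subgroup.closure (link D a))) :=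
    e.toEquiv.nontrivial
  exact ⟨link_isPerfect S hF hM ha, IsSimpleGroup.isSimpleGroup_of_surjective e.symm.toMonoidHom e.symm.surjective⟩

/-- A normal subgroup containing a member is everything. -/
theorem top_of_mem {N : Subgroup G} [N.Normal] {a : G} (ha : a ∈ D) (h : a ∈ N) : N = ⊤ := by
  rw [eq_top_iff, ← S.gen, Subgroup.closure_le]
  intro x hx
  obtain ⟨g, rfl⟩ := S.cls ha hx
  exact (inferInstance : N.Normal).conj_mem a h g

theorem isSimple : IsSimpleGroup G := by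
  obtain ⟨a, ha, -⟩ := S.exists_noncommuting
  obtain ⟨A⟩ := hM a ha
  haveI : Nontrivial G := ⟨⟨a, 1, S.tt.ne_one a ha⟩⟩
  refine ⟨fun N hN => ?_⟩
  haveI := hN
  by_cases haN : a ∈ N
  · exact Or.inr (top_of_mem S hF hM ha haN)
  haveI := psu_simple S hF hM
  let N' : Subgroup ↥(Subgroup.closure (link D a)) := N.subgroupOf _
  haveI : N'.Normal := hN.subgroupOf _
  haveI : (N'.map A.ψ).Normal := Subgroup.Normal.map inferInstance _ A.surj
  rcases IsSimpleGroup.eq_bot_or_eq_top_of_normal (N'.map A.ψ) inferInstance with hbot | htop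
  swap
  · exfalso
    -- all of the link is congruent modulo `N`, hence so is `a` to its sixth power
    apply haN
    let π := QuotientGroup.mk' N
    have hNe : ∀ e ∈ link D a, ∃ n ∈ N, e = n ∨ e = n * a := by
      intro e he
      have : A.img he ∈ N'.map A.ψ := htop ▸ Subgroup.mem_top _
      obtain ⟨⟨n, hn⟩, hnN, hne⟩ := Subgroup.mem_map.1 this
      have hmem : n⁻¹ * e ∈ Subgroup.closure (link D a) := mul_mem (inv_mem hn) (Subgroup.subset_closure he)
      have hker : A.ψ ⟨n⁻¹ * e, hmem⟩ = 1 := by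
        rw [show (⟨n⁻¹ * e, hmem⟩ : ↥(Subgroup.closure (link D a))) =
          (⟨n, hn⟩ : ↥(Subgroup.closure (link D a)))⁻¹ * ⟨e, Subgroup.subset_closure he⟩ from rfl,
          map_mul, map_inv, hne]
        exact inv_mul_cancel _
      refine ⟨n, hnN, ?_⟩
      rcases central_cases S hF hM ha A hmem hker with h | h
      · exact Or.inl (inv_mul_eq_one.1 h).symm
      · exact Or.inr (inv_mul_eq_iff_eq_mul.1 h)
    have himg : ∀ e ∈ link D a, π e = 1 ∨ π e = π a := by
      intro e he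
      obtain ⟨n, hn, rfl | rfl⟩ := hNe e he
      · exact Or.inl ((QuotientGroup.eq_one_iff _).2 hn)
      · exact Or.inr (by rw [map_mul, show π n = 1 from (QuotientGroup.eq_one_iff _).2 hn, one_mul])
    obtain ⟨b, hb⟩ := A.link_nonempty hF
    have heq : ∀ e ∈ link D a, π e = π b := by
      intro e he
      obtain ⟨h, hh, rfl⟩ := A.link_conj_of_mem S hF ha hb he
      rcases himg b hb with h1 | h1
      · rw [map_mul, map_mul, h1, mul_one, ← map_mul, mul_inv_cancel, map_one]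
      · rw [h1, map_mul, map_mul, h1, ← map_mul, ← map_mul, ← (commute_link_closure hh).eq,
          mul_inv_cancel_right]
    have hsq : π b * π b = 1 := by rw [← map_mul, S.sqd hb.1, map_one]
    obtain ⟨b', c, g, p, q, r, lb, lc, lg, lp, lq, lr, h⟩ := exists_six S hF hM ha
    refine (QuotientGroup.eq_one_iff a).1 ?_
    show π a = 1
    rw [← h]
    simp only [map_mul, heq _ lb, heq _ lc, heq _ lg, heq _ lp, heq _ lq, heq _ lr]
    simp [mul_assoc, hsq]
  left
  have hcen : ∀ z ∈ N, Commute z a → z = 1 := by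
    intro z hz hza
    have h : ∀ e ∈ link D a, Commute z e := by
      intro e he
      have hl := link_conj_fix S hza he
      have hmem : z * e * z⁻¹ * e⁻¹ ∈ Subgroup.closure (link D a) :=
        mul_mem (Subgroup.subset_closure hl) (inv_mem (Subgroup.subset_closure he))
      have hN' : z * e * z⁻¹ * e⁻¹ ∈ N := by
        rw [show z * e * z⁻¹ * e⁻¹ = z * (e * z⁻¹ * e⁻¹) by group]
        exact N.mul_mem hz (hN.conj_mem _ (N.inv_mem hz) e)
      have hker : A.ψ ⟨_, hmem⟩ = 1 := by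
        refine Subgroup.mem_bot.1 (hbot ▸ Subgroup.mem_map_of_mem A.ψ ?_)
        exact Subgroup.mem_subgroupOf.2 hN'
      rcases central_cases S hF hM ha A hmem hker with h0 | h0
      · exact mul_inv_eq_iff_eq_mul.1 (mul_inv_eq_one.1 h0)
      · exact absurd (h0 ▸ hN') haN
    rcases eq_one_or_eq S hF hM ha hza h with h0 | h0
    · exact h0
    · exact absurd (h0 ▸ hz) haN
  let key : G → Set G := fun x => {y | ∃ n ∈ N, n * x * n⁻¹ = y}
  have he : Equivariant D key := by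
    have sub : ∀ (g u v : G), key u = key v → key (g * u * g⁻¹) ⊆ key (g * v * g⁻¹) := by
      rintro g u v huv _ ⟨n, hn, rfl⟩
      have : g⁻¹ * n * g ∈ N := by simpa using hN.conj_mem n hn g⁻¹
      obtain ⟨m, hm, hmv⟩ : (g⁻¹ * n * g) * u * (g⁻¹ * n * g)⁻¹ ∈ key v := huv ▸ ⟨_, this, rfl⟩
      refine ⟨g * m * g⁻¹, hN.conj_mem m hm g, ?_⟩
      calc g * m * g⁻¹ * (g * v * g⁻¹) * (g * m * g⁻¹)⁻¹ = g * (m * v * m⁻¹) * g⁻¹ := by group
        _ = n * (g * u * g⁻¹) * n⁻¹ := by rw [hmv]; group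
    intro g u _ v _ huv
    exact Set.Subset.antisymm (sub g u v huv) (sub g v u huv.symm)
  rcases key_trivial_of_primitive S.tt S.prim he with h' | h'
  · refine (Subgroup.eq_bot_iff_forall _).2 fun n hn => S.center_trivial fun x hx => ?_
    have hk : key x = key (n * x * n⁻¹) := by
      ext y
      constructor
      · rintro ⟨m, hm, rfl⟩; exact ⟨m * n⁻¹, mul_mem hm (inv_mem hn), by group⟩
      · rintro ⟨m, hm, rfl⟩; exact ⟨m * n, mul_mem hm hn, by group⟩
    exact (mul_inv_eq_iff_eq_mul.1 (h' x hx _ (S.tt.conj n x hx) hk).symm)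
  · exfalso
    obtain ⟨e, le⟩ := A.link_nonempty hF
    obtain ⟨n, hn, hne⟩ : e ∈ key a := by
      rw [h' a ha e le.1]
      exact ⟨1, one_mem _, by group⟩
    have hmem : e * a⁻¹ ∈ N := by
      rw [← hne, show n * a * n⁻¹ * a⁻¹ = n * (a * n⁻¹ * a⁻¹) by group]
      exact mul_mem hn (hN.conj_mem _ (inv_mem hn) a)
    exact le.2.1 (mul_inv_eq_one.1 (hcen _ hmem (le.2.2.symm.mul_left (Commute.refl a).inv_left)))

end CfsgLib.M22
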