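import Cfsg.Agent.Lib.ThreeTransp.M22Base
import Cfsg.Agent.Lib.PGroup.Counting
import Cfsg.Prelude.Def_Transfer

/-!
# Groups of type `M(22)`: the members in a Sylow 2-subgroup

A Sylow 2-subgroup contains a base and the group `E` of that base is its only elementary abelian subgroup of
largest order: an involution normalising the base outside `E` fixes at most six of its members, so by
replacement such a subgroup meets `E` in a subgroup of index two and at most a third of the order of `E`.
-/

set_option autoImplicit false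

namespace CfsgLib.M22

open CfsgLib.ThreeTransp CfsgLib.SporMisc
open CfsgLib.U6 (IsPt IsPlane)
open CfsgLib.PSUAut (Isot act)
open CfsgLib.UnitarySpec (psuMk)

variable {G : Type*} [Group G] {D : Set G}

variable [Finite G] (S : Setup D) {F : Type} [Field F] [Fintype F] (hF : Fintype.card F = 2 ^ 2)
  (hM : ∀ a ∈ D, Nonempty (Model D a F))
include S hF hM

omit hF hM [Finite G] in
/-- The group of a base is elementary abelian. -/
theorem Setup.closure_elem {B : Set G} (hsub : B ⊆ D) (hc : ∀ x ∈ B, ∀ y ∈ B, Commute x y) :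
    (∀ x ∈ Subgroup.closure B, ∀ y ∈ Subgroup.closure B, Commute x y) ∧
      ∀ x ∈ Subgroup.closure B, x * x = 1 := by
  have h1 : ∀ x ∈ Subgroup.closure B, ∀ y ∈ B, Commute x y := by
    intro x hx y hy
    induction hx using Subgroup.closure_induction with
    | mem z hz => exact hc z hz y hy
    | one => exact Commute.one_left y
    | mul u v _ _ i1 i2 => exact i1.mul_left i2
    | inv u _ i1 => exact i1.inv_left
  have h2 : ∀ x ∈ Subgroup.closure B, ∀ y ∈ Subgroup.closure B, Commute x y := by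
    intro x hx y hy
    induction hy using Subgroup.closure_induction with
    | mem z hz => exact h1 x hx z hz
    | one => exact Commute.one_right x
    | mul u v _ _ i1 i2 => exact i1.mul_right i2
    | inv u _ i1 => exact i1.inv_right
  refine ⟨h2, fun x hx => ?_⟩
  induction hx using Subgroup.closure_induction with
  | mem z hz => exact S.sqd (hsub hz)
  | one => exact one_mul 1
  | mul u v hu hv i1 i2 => rw [(h2 v hv u hu).mul_mul_mul_comm, i1, i2, one_mul]
  | inv u _ i1 => rw [← mul_inv_rev, i1, inv_one]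

/-- An involution commuting with a base is in its group. -/
theorem IsBase.mem_closure {B : Set G} (hB : IsBase D B) {t : G} (ht : t * t = 1)
    (h : ∀ b ∈ B, Commute t b) : t ∈ Subgroup.closure B := by
  by_cases ht1 : t = 1
  · exact ht1 ▸ one_mem _
  rcases invol_cases S hF hM (orderOf_eq_prime (by rw [pow_two]; exact ht) ht1) with
    htD | ⟨p, q, hp, hq, rfl⟩ | ⟨p, q, r, T, rfl⟩
  · exact Subgroup.subset_closure (hB.mem_of_comm S hF hM htD h)
  · have hm : ∀ b ∈ B, Commute b p ∧ Commute b q := fun b hb =>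
      S.commute_both hp hq.1 (hB.sub hb) hq.2.2 hq.2.1.symm (h b hb).symm
    exact mul_mem (Subgroup.subset_closure (hB.mem_of_comm S hF hM hp fun b hb => (hm b hb).1.symm))
      (Subgroup.subset_closure (hB.mem_of_comm S hF hM hq.1 fun b hb => (hm b hb).2.symm))
  · have hm : ∀ b ∈ B, Commute b p ∧ Commute b q ∧ Commute b r := fun b hb =>
      commute_all S hF hM (hB.sub hb) T (h b hb).symm
    exact mul_mem (mul_mem
      (Subgroup.subset_closure (hB.mem_of_comm S hF hM T.ha fun b hb => (hm b hb).1.symm))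
      (Subgroup.subset_closure (hB.mem_of_comm S hF hM T.hb fun b hb => (hm b hb).2.1.symm)))
      (Subgroup.subset_closure (hB.mem_of_comm S hF hM T.hc fun b hb => (hm b hb).2.2.symm))

/-- An involution outside the group of a base fixes at most six of its members. -/
theorem IsBase.fixed_le {B : Set G} (hB : IsBase D B) {t : G} (ht : t * t = 1)
    (htE : t ∉ Subgroup.closure B) : {b | b ∈ B ∧ Commute t b}.ncard ≤ 6 := by
  classical
  rcases Set.eq_empty_or_nonempty {b | b ∈ B ∧ Commute t b} with h | ⟨a, haB, hta⟩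
  · rw [h]; simp
  set Q := {b | b ∈ B ∧ Commute t b} with hQ
  have ha := hB.sub haB
  obtain ⟨A⟩ := hM a ha
  by_contra hgt
  push Not at hgt
  have hlink : ∀ e ∈ B, e ≠ a → e ∈ link D a := fun e he hea => ⟨hB.sub he, hea, hB.comm a haB e he⟩
  have h6 : 6 ≤ (Q \ {a}).ncard := by
    have := Set.ncard_sdiff_singleton_add_one (show a ∈ Q from ⟨haB, hta⟩) (Set.toFinite _)
    omega
  obtain ⟨x, ⟨hxB, htx⟩, hxa⟩ : (Q \ {a}).Nonempty := (Set.ncard_pos (Set.toFinite _)).1 (by omega)
  have lx := hlink x hxB hxa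
  obtain ⟨y, ⟨⟨hyB, hty⟩, hya⟩, hyx⟩ : ((Q \ {a}) \ {x}).Nonempty := by
    refine (Set.ncard_pos (Set.toFinite _)).1 ?_
    have := Set.ncard_sdiff_singleton_add_one (show x ∈ Q \ {a} from ⟨⟨hxB, htx⟩, hxa⟩) (Set.toFinite _)
    omega
  have ly := hlink y hyB hya
  obtain ⟨u₁, h₁⟩ := A.exists_pt_of_link S hF ha lx
  obtain ⟨u₂, h₂⟩ := A.exists_pt_of_link S hF ha ly
  have h5 := A.line_count S hF ha lx ly h₁ h₂ (hB.comm x hxB y hyB) (Ne.symm hyx)
  obtain ⟨z, ⟨⟨hzB, htz⟩, hza⟩, hz⟩ : ((Q \ {a}) \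
      {e | ∃ (le : e ∈ link D a) (w : Fin 6 → F), IsPt (A.img le) w ∧ w ∈ Submodule.span F {u₁, u₂}}).Nonempty := by
    refine (Set.ncard_pos (Set.toFinite _)).1 ?_
    have := Set.ncard_le_ncard_sdiff_add_ncard (Q \ {a})
      {e | ∃ (le : e ∈ link D a) (w : Fin 6 → F), IsPt (A.img le) w ∧ w ∈ Submodule.span F {u₁, u₂}} (Set.toFinite _)
    omega
  have lz := hlink z hzB hza
  obtain ⟨u₃, h₃⟩ := A.exists_pt_of_link S hF ha lz
  have hp : ∀ {s r : G} (ls : s ∈ link D a) (lr : r ∈ link D a), s ∈ B → r ∈ B → ∀ {v w : Fin 6 → F},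
      IsPt (A.img ls) v → IsPt (A.img lr) w → Cfsg.hermForm 6 F 2 v w = 0 :=
    fun ls lr hs hr _ _ hv hw => (A.comm_iff S hF ha ls lr hv hw).1 (hB.comm _ hs _ hr)
  have P : IsPlane u₁ u₂ u₃ := ⟨h₁.1.2, h₂.1.2, h₃.1.2, hp lx ly hxB hyB h₁ h₂, hp lx lz hxB hzB h₁ h₃,
    hp ly lz hyB hzB h₂ h₃, h₁.1.1, A.notMem S hF ha lx ly h₁ h₂ (Ne.symm hyx),
    fun h => hz ⟨lz, u₃, h₃, h⟩⟩
  have htH : t ∈ Subgroup.closure (link D a) := by
    rw [← centralizer_eq S hF hM ha]; exact Subgroup.mem_centralizer_singleton_iff.2 hta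
  obtain ⟨T, hT, hTT⟩ := U6.exists_invol_lift hF (x := A.ψ ⟨t, htH⟩) (by
    rw [← map_mul, show (⟨t, htH⟩ : ↥(Subgroup.closure (link D a))) * ⟨t, htH⟩ = 1 from Subtype.ext ht, map_one])
  have himg : ∀ {e : G} (le : e ∈ link D a) {v : Fin 6 → F}, IsPt (A.img le) v →
      ∃ lm : t * e * t⁻¹ ∈ link D a, IsPt (A.img lm) (act T v) := by
    intro e le v hv
    refine ⟨Model.conj_mem S le ⟨t, htH⟩, ?_⟩
    rw [A.img_conj S le ⟨t, htH⟩, ← hT]
    exact hv.conj hF T
  have hfix : ∀ {e : G} (le : e ∈ link D a) {v : Fin 6 → F}, IsPt (A.img le) v → Commute t e → act T v = v := by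
    intro e le v hv hte
    obtain ⟨lm, hm⟩ := himg le hv
    have heq : A.img lm = A.img le := by
      simp only [Model.img, show t * e * t⁻¹ = e from by rw [hte.eq, mul_inv_cancel_right]]
    rw [heq] at hm
    obtain ⟨c, hc, hcv⟩ := IsPt.span_eq hF hv hm
    have h2 : act T (act T v) = v := by rw [← PSUAut.act_mul, hTT, PSUAut.act_one]
    rw [hcv, PSUAut.act_smul, hcv, smul_smul] at h2
    have hcc : c * c = 1 := smul_left_injective F hv.1.1 (by simpa using h2)
    have hc1 : c = 1 := by
      have := U6.cube_eq_one hF hc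
      rw [pow_succ, pow_two, hcc, one_mul] at this
      exact this
    rw [hcv, hc1, one_smul]
  have f1 := hfix lx h₁ htx
  have f2 := hfix ly h₂ hty
  have f3 := hfix lz h₃ htz
  refine htE (hB.mem_closure S hF hM ht fun e he => ?_)
  by_cases hea : e = a
  · exact hea ▸ hta
  have le := hlink e he hea
  obtain ⟨v, hv⟩ := A.exists_pt_of_link S hF ha le
  obtain ⟨lm, hm⟩ := himg le hv
  obtain ⟨p, q, r, hpqr⟩ := Submodule.mem_span_triple.1 (A.mem_plane S hF ha lx ly lz le h₁ h₂ h₃ P
    (hB.comm e he x hxB) (hB.comm e he y hyB) (hB.comm e he z hzB) hv)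
  have hv' : act T v = v := by
    rw [← hpqr, PSUAut.act_add, PSUAut.act_add, PSUAut.act_smul, PSUAut.act_smul, PSUAut.act_smul, f1, f2, f3]
  rw [hv'] at hm
  exact mul_inv_eq_iff_eq_mul.1 (A.img_inj S ha lm le (IsPt.unique hF hm hv))

/-- A member lies in `891` bases. -/
theorem bases_one {a : G} (ha : a ∈ D) : {B | IsBase D B ∧ a ∈ B}.ncard = 891 := by
  classical
  have := Fintype.ofFinite G
  set T := {B | IsBase D B ∧ a ∈ B} with hT
  have h21 : ∀ B ∈ T, {z | z ∈ link D a ∧ z ∈ B}.ncard = 21 := by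
    rintro B ⟨hB, haB⟩
    have hset : {z | z ∈ link D a ∧ z ∈ B} = B \ {a} := by
      ext z
      exact ⟨fun ⟨l, h⟩ => ⟨h, l.2.1⟩, fun ⟨h, n⟩ => ⟨⟨hB.sub h, n, hB.comm a haB z h⟩, h⟩⟩
    have := Set.ncard_sdiff_singleton_add_one haB (Set.toFinite _)
    rw [hB.card] at this
    rw [hset]; omega
  have h27 : ∀ c ∈ link D a, {B | B ∈ T ∧ c ∈ B}.ncard = 27 := fun c hc => by
    rw [← bases_two S hF hM ha hc]
    congr 1
    ext B
    exact ⟨fun ⟨⟨h, h1⟩, h2⟩ => ⟨h, h1, h2⟩, fun ⟨h, h1, h2⟩ => ⟨⟨h, h1⟩, h2⟩⟩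
  have := Finset.card_mul_eq_card_mul (fun (B : Set G) (z : G) => z ∈ B) (s := T.toFinset)
    (t := (link D a).toFinset) (m := 21) (n := 27) (fun B hB => by
      rw [← h21 B (Set.mem_toFinset.1 hB), Set.ncard_eq_toFinset_card']
      congr 1; ext z
      simp only [Finset.bipartiteAbove, Finset.mem_filter, Set.mem_toFinset, Set.mem_ofPred_eq])
    (fun z hz => by
      rw [← h27 z (Set.mem_toFinset.1 hz), Set.ncard_eq_toFinset_card']
      congr 1; ext B
      simp only [Finset.bipartiteBelow, Finset.mem_filter, Set.mem_toFinset, Set.mem_ofPred_eq])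
  rw [← Set.ncard_eq_toFinset_card', ← Set.ncard_eq_toFinset_card', link_ncard_eq S hF hM ha] at this
  omega

/-- There are `142155` bases. -/
theorem bases_ncard : {B | IsBase D B}.ncard = 142155 := by
  classical
  have := Fintype.ofFinite G
  set T := {B | IsBase D B} with hT
  have h1 : ∀ c ∈ D, {B | B ∈ T ∧ c ∈ B}.ncard = 891 := fun c hc => bases_one S hF hM hc
  have := Finset.card_mul_eq_card_mul (fun (B : Set G) (z : G) => z ∈ B) (s := T.toFinset)
    (t := D.toFinset) (m := 22) (n := 891) (fun B hB => by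
      rw [← (Set.mem_toFinset.1 hB : IsBase D B).card, Set.ncard_eq_toFinset_card']
      congr 1; ext z
      simp only [Finset.bipartiteAbove, Finset.mem_filter, Set.mem_toFinset]
      exact and_iff_right_of_imp fun h => (Set.mem_toFinset.1 hB : IsBase D B).sub h)
    (fun z hz => by
      rw [← h1 z (Set.mem_toFinset.1 hz), Set.ncard_eq_toFinset_card']
      congr 1; ext B
      simp only [Finset.bipartiteBelow, Finset.mem_filter, Set.mem_toFinset, Set.mem_ofPred_eq])
  rw [← Set.ncard_eq_toFinset_card', ← Set.ncard_eq_toFinset_card', ncard_eq S hF hM] at this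
  omega

/-- A Sylow 2-subgroup contains a base. -/
theorem exists_base_in_sylow (T : Sylow 2 G) : ∃ B, IsBase D B ∧ B ⊆ ((T : Subgroup G) : Set G) ∧
    ∀ t ∈ (T : Subgroup G), ∀ b ∈ B, t * b * t⁻¹ ∈ B := by
  classical
  haveI : Fact (Nat.Prime 2) := ⟨Nat.prime_two⟩
  have hconj : ∀ (g : G) (B : {B : Set G // IsBase D B}), IsBase D ((fun x => g * x * g⁻¹) '' B.1) := by
    intro g B
    refine ⟨?_, ?_, by rw [Set.ncard_image_of_injective _ (fun x y h => by simpa using h), B.2.card]⟩
    · rintro _ ⟨x, hx, rfl⟩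
      exact S.tt.conj g x (B.2.sub hx)
    · rintro _ ⟨x, hx, rfl⟩ _ ⟨y, hy, rfl⟩
      exact (Commute.conj_iff g).2 (B.2.comm x hx y hy)
  letI : MulAction ↥(T : Subgroup G) {B : Set G // IsBase D B} :=
    { smul := fun t B => ⟨(fun x => (t : G) * x * (t : G)⁻¹) '' B.1, hconj t B⟩
      one_smul := fun B => Subtype.ext (by
        show (fun x => ((1 : ↥(T : Subgroup G)) : G) * x * ((1 : ↥(T : Subgroup G)) : G)⁻¹) '' B.1 = B.1
        simp)
      mul_smul := fun s t B => Subtype.ext (by
        show (fun x => ((s * t : ↥(T : Subgroup G)) : G) * x * ((s * t : ↥(T : Subgroup G)) : G)⁻¹) '' B.1 =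
          (fun x => (s : G) * x * (s : G)⁻¹) '' ((fun x => (t : G) * x * (t : G)⁻¹) '' B.1)
        rw [Set.image_image]
        simp [mul_assoc]) }
  obtain ⟨⟨B, hB⟩, hfix⟩ := IsPGroup.nonempty_fixed_point_of_prime_not_dvd_card (p := 2) T.isPGroup'
    {B : Set G // IsBase D B} (by
      rw [show Nat.card {B : Set G // IsBase D B} = 142155 by
        rw [← bases_ncard S hF hM, ← Nat.card_coe_set_eq]; rfl]
      norm_num)
  have hnorm : ∀ t ∈ (T : Subgroup G), ∀ b ∈ B, t * b * t⁻¹ ∈ B := fun t ht b hb => by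
    have h : (fun x => t * x * t⁻¹) '' B = B := congrArg Subtype.val (hfix ⟨t, ht⟩)
    exact h ▸ Set.mem_image_of_mem _ hb
  refine ⟨B, hB, ?_, hnorm⟩
  obtain ⟨-, hsq⟩ := S.closure_elem hB.sub hB.comm
  have hEp : IsPGroup 2 (Subgroup.closure B) := fun e => ⟨1, Subtype.ext (by
    rw [pow_one, SubgroupClass.coe_pow, pow_two]; exact hsq e.1 e.2)⟩
  have hN : (T : Subgroup G) ≤ Subgroup.normalizer (Subgroup.closure B : Set G) := by
    intro t ht
    refine Subgroup.mem_normalizer_iff.2 fun x => ⟨fun hx => ?_, fun hx => ?_⟩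
    · induction hx using Subgroup.closure_induction with
      | mem z hz => exact Subgroup.subset_closure (hnorm t ht z hz)
      | one => simp
      | mul u v _ _ i1 i2 => simpa [mul_assoc] using mul_mem i1 i2
      | inv u _ i1 => simpa [mul_assoc] using inv_mem i1
    · have key : ∀ z ∈ Subgroup.closure B, t⁻¹ * z * t⁻¹⁻¹ ∈ Subgroup.closure B := by
        intro z hz
        induction hz using Subgroup.closure_induction with
        | mem z hz => exact Subgroup.subset_closure (hnorm t⁻¹ (inv_mem ht) z hz)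
        | one => simp
        | mul u v _ _ i1 i2 => simpa [mul_assoc] using mul_mem i1 i2
        | inv u _ i1 => simpa [mul_assoc] using inv_mem i1
      simpa [mul_assoc] using key _ hx
  have hsup := T.is_maximal' (IsPGroup.to_sup_of_normal_right' T.isPGroup' hEp hN) le_sup_left
  exact fun b hb => hsup ▸ Subgroup.mem_sup_right (Subgroup.subset_closure hb)

/-- The group of the base of a Sylow 2-subgroup is its only elementary abelian subgroup of largest order. -/
theorem elementary_card_lt {T : Sylow 2 G} {B : Set G} (hB : IsBase D B)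
    (hBT : B ⊆ ((T : Subgroup G) : Set G)) (hnorm : ∀ t ∈ (T : Subgroup G), ∀ b ∈ B, t * b * t⁻¹ ∈ B)
    {A : Subgroup G} (hA : A ≤ T) (hAc : ∀ x ∈ A, ∀ y ∈ A, Commute x y) (hA2 : ∀ x ∈ A, x * x = 1)
    (hne : A ≠ Subgroup.closure B) : Nat.card A < Nat.card (Subgroup.closure B) := by
  classical
  haveI : Fact (Nat.Prime 2) := ⟨Nat.prime_two⟩
  set E := Subgroup.closure B with hE
  obtain ⟨hEc, hE2⟩ := S.closure_elem hB.sub hB.comm
  have hET : E ≤ T := (Subgroup.closure_le _).2 hBT
  have inv2 : ∀ {x : G}, x * x = 1 → x⁻¹ = x := fun h => inv_eq_self h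
  by_contra hge
  push Not at hge
  -- a counterexample of largest order, then largest intersection with `E`
  let P : Subgroup G → Prop := fun A => A ≤ T ∧ (∀ x ∈ A, ∀ y ∈ A, Commute x y) ∧ (∀ x ∈ A, x * x = 1) ∧
    A ≠ E ∧ Nat.card E ≤ Nat.card A
  let μ : Subgroup G → ℕ := fun A => Nat.card A * (Nat.card G + 1) + Nat.card ↥(A ⊓ E)
  obtain ⟨A₁, hA₁, hmax⟩ := Set.exists_max_image {A | P A} μ (Set.toFinite _) ⟨A, hA, hAc, hA2, hne, hge⟩
  clear! A
  obtain ⟨hA, hAc, hA2, hne, hge⟩ := hA₁
  set A := A₁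
  have notle : ∀ {A : Subgroup G}, Nat.card E ≤ Nat.card A → A ≠ E → ¬ A ≤ E := fun h h' hle =>
    h' (Subgroup.eq_of_le_of_card_ge hle h)
  obtain ⟨a₀, ha₀, ha₀E⟩ := SetLike.not_le_iff_exists.1 (notle hge hne)
  have hnormE : ∀ t ∈ (T : Subgroup G), ∀ z ∈ E, t * z * t⁻¹ ∈ E := by
    intro t ht z hz
    induction hz using Subgroup.closure_induction with
    | mem z hz => exact Subgroup.subset_closure (hnorm t ht z hz)
    | one => simp
    | mul u v _ _ i1 i2 => simpa [mul_assoc] using mul_mem i1 i2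
    | inv u _ i1 => simpa [mul_assoc] using inv_mem i1
  have conjE : ∀ {a z : G}, a ∈ A → z ∈ E → a * z * a ∈ E := fun {a z} ha hz => by
    have := hnormE a (hA ha) z hz
    rwa [inv2 (hA2 a ha)] at this
  -- the centraliser of `A` in `E` lies in `A`
  have hcent : ∀ x ∈ E, (∀ a ∈ A, Commute x a) → x ∈ A := by
    intro x hx hxA
    by_contra hxA'
    set A' := A ⊔ Subgroup.zpowers x with hA'
    have hgen : A' = Subgroup.closure ((A : Set G) ∪ {x}) := by
      rw [Subgroup.closure_union, Subgroup.closure_eq, ← Subgroup.zpowers_eq_closure]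
    have hc' : ∀ u ∈ A', ∀ v ∈ A', Commute u v := by
      have h1 : ∀ u ∈ A', ∀ v ∈ (A : Set G) ∪ {x}, Commute u v := by
        intro u hu v hv
        rw [hgen] at hu
        induction hu using Subgroup.closure_induction with
        | mem w hw =>
          rcases hw with hw | rfl <;> rcases hv with hv | rfl
          · exact hAc w hw v hv
          · exact (hxA w hw).symm
          · exact hxA v hv
          · exact Commute.refl _
        | one => exact Commute.one_left v
        | mul _ _ _ _ i1 i2 => exact i1.mul_left i2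
        | inv _ _ i1 => exact i1.inv_left
      intro u hu v hv
      rw [hgen] at hv
      induction hv using Subgroup.closure_induction with
      | mem w hw => exact h1 u hu w hw
      | one => exact Commute.one_right u
      | mul _ _ _ _ i1 i2 => exact i1.mul_right i2
      | inv _ _ i1 => exact i1.inv_right
    have h2' : ∀ u ∈ A', u * u = 1 := by
      intro u hu
      have hu' := hu
      rw [hgen] at hu
      induction hu using Subgroup.closure_induction with
      | mem w hw =>
        rcases hw with hw | rfl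
        · exact hA2 w hw
        · exact hE2 _ hx
      | one => exact one_mul 1
      | mul p q hp hq i1 i2 =>
        have hp' : p ∈ A' := hgen ▸ hp
        have hq' : q ∈ A' := hgen ▸ hq
        rw [(hc' q hq' p hp').mul_mul_mul_comm, i1 hp', i2 hq', one_mul]
      | inv p hp i1 =>
        have hp' : p ∈ A' := hgen ▸ hp
        rw [← mul_inv_rev, i1 hp', inv_one]
    have hlt : A < A' := lt_of_le_of_ne le_sup_left fun h =>
      hxA' (h ▸ Subgroup.mem_sup_right (Subgroup.mem_zpowers x))
    have hcard : Nat.card A < Nat.card A' := by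
      by_contra hle
      push Not at hle
      exact hlt.ne (Subgroup.eq_of_le_of_card_ge hlt.le hle)
    have := hmax A' ⟨sup_le hA (by rw [Subgroup.zpowers_le]; exact hET hx), hc', h2',
      fun h => ha₀E (h ▸ Subgroup.mem_sup_left ha₀), hge.trans hcard.le⟩
    simp only [μ] at this
    have h3 : Nat.card ↥(A ⊓ E) ≤ Nat.card G := Subgroup.card_le_card_group _
    nlinarith
  set A₀ := A ⊓ E with hA₀
  -- the action is quadratic
  have hquad : ∀ x ∈ E, ∀ a ∈ A, ∀ d ∈ A, d * (x * (a * x * a)) * d = x * (a * x * a) := by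
    intro x hx
    let f : G → G := fun a => x * (a * x * a)
    have hfE : ∀ a ∈ A, f a ∈ E := fun a ha => mul_mem hx (conjE ha hx)
    suffices hfA : ∀ a ∈ A, f a ∈ A by
      intro a ha d hd
      show d * f a * d = f a
      rw [(hAc d hd _ (hfA a ha)).eq, mul_assoc, hA2 d hd, mul_one]
    by_contra hcon
    push Not at hcon
    obtain ⟨a₁, ha₁, hfa₁⟩ := hcon
    set M := A₀ ⊔ Subgroup.closure (f '' (A : Set G)) with hMdef
    have hME : M ≤ E := sup_le inf_le_right ((Subgroup.closure_le _).2 (by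
      rintro _ ⟨a, ha, rfl⟩; exact hfE a ha))
    set C := A ⊓ Subgroup.centralizer (M : Set G) with hC
    have hA0C : A₀ ≤ C := fun z hz => ⟨hz.1, Subgroup.mem_centralizer_iff.2 fun m hm =>
      hEc m (hME hm) z hz.2⟩
    have hMC : ∀ m ∈ M, ∀ c ∈ C, Commute m c := fun m hm c hc =>
      Subgroup.mem_centralizer_iff.1 hc.2 m hm
    have hinf : M ⊓ C = A₀ :=
      le_antisymm (fun z hz => ⟨hz.2.1, hME hz.1⟩) (le_inf le_sup_left hA0C)
    -- injectivity of the commutator map modulo `A₀`
    have hinj : ∀ a ∈ A, ∀ a' ∈ A, f a * f a' ∈ A₀ → a * a' ∈ C := by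
      intro a ha a' ha' hw
      set c := a * a' with hc
      have hcA : c ∈ A := mul_mem ha ha'
      have hxc : a * (f a * f a') * a = f c := by
        have e : f a * f a' = a * x * a * (a' * x * a') := by
          show x * (a * x * a) * (x * (a' * x * a')) = _
          rw [(hEc _ (conjE ha hx) x hx).mul_mul_mul_comm x, hE2 x hx, one_mul]
        rw [e]
        show _ = x * (a * a' * x * (a * a'))
        rw [show a * a' * x * (a * a') = a * a' * x * (a' * a) by rw [(hAc a ha a' ha').eq]]
        simp only [mul_assoc, cancel₂ (hA2 a ha)]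
      rw [(hAc a ha _ hw.1).eq, mul_assoc, hA2 a ha, mul_one] at hxc
      refine ⟨hcA, Subgroup.mem_centralizer_iff.2 fun m hm => ?_⟩
      have hfd : ∀ d ∈ A, c * f d * c = f d := by
        intro d hd
        have e1 : c * x * c = x * f c := by
          show _ = x * (x * (c * x * c))
          rw [cancel₂ (hE2 x hx)]
        have hwd : d * f c * d = f c := by
          rw [← hxc, (hAc d hd _ hw.1).eq, mul_assoc, hA2 d hd, mul_one]
        calc c * f d * c = c * x * (c * c) * (d * x * d) * c := by rw [hA2 c hcA, mul_one]; simp only [f, mul_assoc]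
          _ = c * x * c * (d * (c * x * c) * d) := by
            rw [show d * (c * x * c) * d = c * (d * x * d) * c by
              simp only [mul_assoc]
              rw [← mul_assoc d c, ← mul_assoc c d, (hAc d hd c hcA).eq, (hAc c hcA d hd).eq]]
            simp only [mul_assoc]
          _ = x * f c * (d * (x * f c) * d) := by rw [e1]
          _ = x * f c * (d * x * d * (d * f c * d)) := by simp only [mul_assoc, cancel₂ (hA2 d hd)]
          _ = f d * (f c * f c) := by
            rw [hwd, (hEc _ (hfE c hcA) _ (conjE hd hx)).mul_mul_mul_comm x]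
          _ = f d := by rw [hE2 _ (hfE c hcA), mul_one]
      have hcm : Commute m c := by
        have hm' : m ∈ Subgroup.closure ((A₀ : Set G) ∪ f '' (A : Set G)) := by
          rw [Subgroup.closure_union, Subgroup.closure_eq]; exact hm
        clear hm
        induction hm' using Subgroup.closure_induction with
        | mem z hz =>
          rcases hz with hz | ⟨d, hd, rfl⟩
          · exact hAc z hz.1 c hcA
          · show f d * c = c * f d
            calc f d * c = c * f d * c * c := by rw [hfd d hd]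
              _ = c * f d := by rw [mul_assoc _ c c, hA2 c hcA, mul_one]
        | one => exact Commute.one_left c
        | mul _ _ _ _ i1 i2 => exact i1.mul_left i2
        | inv _ _ i1 => exact i1.inv_left
      exact hcm.eq
    have hidx : Nat.card (↥A ⧸ C.subgroupOf A) ≤ Nat.card (↥M ⧸ A₀.subgroupOf M) := by
      refine Nat.card_le_card_of_injective (fun q => QuotientGroup.mk (⟨f (q.out : ↥A).1,
        Subgroup.mem_sup_right (Subgroup.subset_closure ⟨_, q.out.2, rfl⟩)⟩ : ↥M)) ?_
      intro q q' h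
      have h' := QuotientGroup.eq.1 h
      rw [Subgroup.mem_subgroupOf, Subgroup.coe_mul, Subgroup.coe_inv,
        inv2 (hE2 _ (hfE _ q.out.2))] at h'
      rw [← q.out_eq, ← q'.out_eq]
      refine QuotientGroup.eq.2 ?_
      rw [Subgroup.mem_subgroupOf, Subgroup.coe_mul, Subgroup.coe_inv, inv2 (hA2 _ q.out.2)]
      exact hinj _ q.out.2 _ q'.out.2 h'
    have hcA : Nat.card (↥A ⧸ C.subgroupOf A) * Nat.card C = Nat.card A := by
      rw [← Nat.card_congr (Subgroup.subgroupOfEquivOfLe (inf_le_left : C ≤ A)).toEquiv,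
        ← Subgroup.card_eq_card_quotient_mul_card_subgroup]
    have hmM : Nat.card (↥M ⧸ A₀.subgroupOf M) * Nat.card A₀ = Nat.card M := by
      rw [← Nat.card_congr (Subgroup.subgroupOfEquivOfLe (le_sup_left : A₀ ≤ M)).toEquiv,
        ← Subgroup.card_eq_card_quotient_mul_card_subgroup]
    have hprod := CfsgLib.PGroup.card_mul_card_le_sup_inf M C
    rw [hinf] at hprod
    have hge' : Nat.card A ≤ Nat.card ↥(M ⊔ C) := by
      refine Nat.le_of_mul_le_mul_right (le_trans ?_ hprod) (Nat.card_pos (α := ↥A₀))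
      rw [← hcA, ← hmM]
      calc Nat.card (↥A ⧸ C.subgroupOf A) * Nat.card C * Nat.card A₀
          ≤ Nat.card (↥M ⧸ A₀.subgroupOf M) * Nat.card C * Nat.card A₀ :=
            Nat.mul_le_mul_right _ (Nat.mul_le_mul_right _ hidx)
        _ = _ := by ring
    -- the new group is elementary abelian
    set A' := M ⊔ C with hA'
    have hgen : A' = Subgroup.closure ((M : Set G) ∪ (C : Set G)) := by
      rw [Subgroup.closure_union, Subgroup.closure_eq, Subgroup.closure_eq]
    have hpair : ∀ u ∈ (M : Set G) ∪ (C : Set G), ∀ v ∈ (M : Set G) ∪ (C : Set G), Commute u v := by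
      rintro u (hu | hu) v (hv | hv)
      · exact hEc u (hME hu) v (hME hv)
      · exact hMC u hu v hv
      · exact (hMC v hv u hu).symm
      · exact hAc u hu.1 v hv.1
    have hc' : ∀ u ∈ A', ∀ v ∈ A', Commute u v := by
      intro u hu v hv
      rw [hgen] at hu hv
      have h1 : ∀ w ∈ (M : Set G) ∪ (C : Set G), Commute u w := by
        intro w hw
        clear hv
        induction hu using Subgroup.closure_induction with
        | mem z hz => exact hpair z hz w hw
        | one => exact Commute.one_left w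
        | mul _ _ _ _ i1 i2 => exact i1.mul_left i2
        | inv _ _ i1 => exact i1.inv_left
      induction hv using Subgroup.closure_induction with
      | mem w hw => exact h1 w hw
      | one => exact Commute.one_right u
      | mul _ _ _ _ i1 i2 => exact i1.mul_right i2
      | inv _ _ i1 => exact i1.inv_right
    have h2' : ∀ u ∈ A', u * u = 1 := by
      intro u hu
      have hu' := hu
      rw [hgen] at hu
      induction hu using Subgroup.closure_induction with
      | mem w hw =>
        rcases hw with hw | hw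
        · exact hE2 w (hME hw)
        · exact hA2 w hw.1
      | one => exact one_mul 1
      | mul p q hp hq i1 i2 =>
        have hp' : p ∈ A' := hgen ▸ hp
        have hq' : q ∈ A' := hgen ▸ hq
        rw [(hc' q hq' p hp').mul_mul_mul_comm, i1 hp', i2 hq', one_mul]
      | inv p hp i1 =>
        have hp' : p ∈ A' := hgen ▸ hp
        rw [← mul_inv_rev, i1 hp', inv_one]
    have hneE : A' ≠ E := by
      intro h
      -- then `E` would lie in every maximal subgroup containing `A`
      have hC0 : C ≤ E := h ▸ le_sup_right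
      have hEM : E ≤ M := by
        rw [← h]
        exact sup_le le_rfl fun z hz => Subgroup.mem_sup_left ⟨hz.1, hC0 hz⟩
      set Q : Subgroup G := A ⊔ E with hQ
      have hQp : IsPGroup 2 Q := T.isPGroup'.to_le (sup_le hA hET)
      haveI : Group.IsNilpotent ↥Q := hQp.isNilpotent
      have hAne : A.subgroupOf Q ≠ ⊤ := by
        rw [Ne, Subgroup.subgroupOf_eq_top]
        intro hle
        refine ha₀E (hB.mem_closure S hF (by assumption) (hA2 a₀ ha₀) fun b hb => hAc a₀ ha₀ b ?_)
        exact hle (Subgroup.mem_sup_right (Subgroup.subset_closure hb))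
      obtain ⟨H, hH, hAH⟩ := (eq_top_or_exists_le_coatom (A.subgroupOf Q)).resolve_left hAne
      haveI : H.Normal := Subgroup.NormalizerCondition.normal_of_coatom H normalizerCondition_of_isNilpotent hH
      apply hH.1
      have hAH' : ∀ z (hz : z ∈ A), (⟨z, Subgroup.mem_sup_left hz⟩ : ↥Q) ∈ H := fun z hz =>
        hAH (Subgroup.mem_subgroupOf.2 hz)
      have hEH : ∀ z ∈ E, ∀ hz : z ∈ Q, (⟨z, hz⟩ : ↥Q) ∈ H := by
        intro z hzE
        have hzM : z ∈ Subgroup.closure ((A₀ : Set G) ∪ f '' (A : Set G)) := by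
          rw [Subgroup.closure_union, Subgroup.closure_eq]; exact hEM hzE
        clear hzE
        induction hzM using Subgroup.closure_induction with
        | mem z hz =>
          intro hz'
          rcases hz with hz | ⟨a, ha, rfl⟩
          · exact hAH' z hz.1
          · have hxQ : x ∈ Q := Subgroup.mem_sup_right hx
            have haQ : a ∈ Q := Subgroup.mem_sup_left ha
            have h1 := Subgroup.Normal.conj_mem inferInstance _ (hAH' a ha) (⟨x, hxQ⟩ : ↥Q)
            have h2 := mul_mem h1 (hAH' a ha)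
            convert h2 using 1
            refine Subtype.ext ?_
            show x * (a * x * a) = x * a * x⁻¹ * a
            rw [inv2 (hE2 x hx)]; simp only [mul_assoc]
        | one => intro _; exact one_mem H
        | mul u v hu hv i1 i2 =>
          intro _
          have hle : Subgroup.closure ((A₀ : Set G) ∪ f '' (A : Set G)) ≤ Q := by
            rw [Subgroup.closure_union, Subgroup.closure_eq]
            exact (hME.trans le_sup_right : M ≤ Q)
          exact mul_mem (i1 (hle hu)) (i2 (hle hv))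
        | inv u hu i1 =>
          intro hz'
          exact inv_mem (i1 (by simpa using inv_mem hz'))
      rw [eq_top_iff]
      rintro ⟨z, hz⟩ -
      have : z ∈ Subgroup.closure ((A : Set G) ∪ (E : Set G)) := by
        rw [Subgroup.closure_union, Subgroup.closure_eq, Subgroup.closure_eq]; exact hz
      have hle : Subgroup.closure ((A : Set G) ∪ (E : Set G)) ≤ Q := by
        rw [Subgroup.closure_union, Subgroup.closure_eq, Subgroup.closure_eq]
      revert hz
      induction this using Subgroup.closure_induction with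
      | mem z hz' =>
        intro hz
        rcases hz' with hz' | hz'
        · exact hAH' z hz'
        · exact hEH z hz' hz
      | one => intro _; exact one_mem H
      | mul u v hu hv i1 i2 => intro _; exact mul_mem (i1 (hle hu)) (i2 (hle hv))
      | inv u hu i1 => intro hz; exact inv_mem (i1 (by simpa using inv_mem hz))
    have hle := hmax A' ⟨sup_le (hME.trans hET) (le_trans inf_le_left hA), hc', h2', hneE,
      hge.trans hge'⟩
    simp only [μ] at hle
    have h3 : Nat.card ↥(A' ⊓ E) ≤ Nat.card G := Subgroup.card_le_card_group _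
    have h4 : Nat.card ↥(A ⊓ E) ≤ Nat.card G := Subgroup.card_le_card_group _
    have heq : Nat.card A' = Nat.card A := by
      refine le_antisymm ?_ hge'
      by_contra hlt
      push Not at hlt
      nlinarith
    rw [heq] at hle
    have hsub : A ⊓ E ≤ A' ⊓ E := fun z hz =>
      ⟨Subgroup.mem_sup_left (Subgroup.mem_sup_left hz), hz.2⟩
    have : A ⊓ E = A' ⊓ E := Subgroup.eq_of_le_of_card_ge hsub (by omega)
    have hf1 : f a₁ ∈ A' ⊓ E :=
      ⟨Subgroup.mem_sup_left (Subgroup.mem_sup_right (Subgroup.subset_closure ⟨a₁, ha₁, rfl⟩)), hfE a₁ ha₁⟩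
    rw [← this] at hf1
    exact hfa₁ hf1.1
  -- two elements of `A` outside `E` agree on the members they both move
  have hnb : ∀ {a : G}, a ∈ A → ∀ b ∈ B, a * b * a ∈ B := fun {a} ha b hb => by
    have := hnorm a (hA ha) b hb
    rwa [inv2 (hA2 a ha)] at this
  have hmoved : ∀ {a : G}, a ∈ A → a ∉ E → 16 ≤ {b | b ∈ B ∧ ¬ Commute a b}.ncard := by
    intro a ha haE
    have h := hB.fixed_le S hF hM (hA2 a ha) haE
    have hset : {b | b ∈ B ∧ ¬ Commute a b} = B \ {b | b ∈ B ∧ Commute a b} := by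
      ext b; exact ⟨fun h => ⟨h.1, fun h' => h.2 h'.2⟩, fun h => ⟨h.1, fun h' => h.2 ⟨h.1, h'⟩⟩⟩
    rw [hset, Set.ncard_sdiff (fun b hb => hb.1), hB.card]
    omega
  have hmv : ∀ {a b : G}, a ∈ A → ¬ Commute a b → a * b * a ≠ b := fun {a b} ha h e => h (by
    calc a * b = a * b * (a * a) := by rw [hA2 a ha, mul_one]
      _ = a * b * a * a := by simp only [mul_assoc]
      _ = b * a := by rw [e])
  have htwo : ∀ a ∈ A, a ∉ E → a₀ * a ∈ E := by
    intro a ha haE
    by_contra hnE
    have hc : a₀ * a ∈ A := mul_mem ha₀ ha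
    have h6 := hB.fixed_le S hF hM (hA2 _ hc) hnE
    have hsub : {b | b ∈ B ∧ ¬ Commute a₀ b} ∩ {b | b ∈ B ∧ ¬ Commute a b} ⊆
        {b | b ∈ B ∧ Commute (a₀ * a) b} := by
      rintro b ⟨⟨hb, hb₀⟩, -, hba⟩
      refine ⟨hb, ?_⟩
      have hq := hquad b (Subgroup.subset_closure hb) a₀ ha₀ a ha
      rw [show a * (b * (a₀ * b * a₀)) * a = a * b * a * (a * (a₀ * b * a₀) * a) by
        simp only [mul_assoc, cancel₂ (hA2 a ha)]] at hq
      have hb' := hnb ha₀ b hb
      have hb'' := hnb ha b hb
      have hne1 : a * b * a ≠ a * (a₀ * b * a₀) * a := fun e => hmv ha₀ hb₀ (by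
        have := congrArg (fun g => a * g * a) e
        simpa [mul_assoc, cancel₂ (hA2 a ha), hA2 a ha] using this.symm)
      rcases pair_unique S hF hM (hB.sub hb'') (hB.sub (hnb ha _ hb')) (hB.sub hb) (hB.sub hb') hne1
          (fun e => hmv ha₀ hb₀ e.symm) (hB.comm _ hb'' _ (hnb ha _ hb')) (hB.comm _ hb _ hb') hq with
        ⟨h1, -⟩ | ⟨h1, -⟩
      · exact absurd h1 (hmv ha hba)
      · have : a₀ * a * b * (a₀ * a) = b := by
          calc a₀ * a * b * (a₀ * a) = a₀ * a * b * (a * a₀) := by rw [(hAc a₀ ha₀ a ha).eq]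
            _ = a₀ * (a * b * a) * a₀ := by simp only [mul_assoc]
            _ = b := by rw [h1]; simp only [mul_assoc, cancel₂ (hA2 a₀ ha₀), hA2 a₀ ha₀, mul_one]
        exact not_not.1 fun hn => hmv hc hn this
    have h1 := Set.ncard_le_ncard hsub (Set.toFinite _)
    have h2 := Set.ncard_union_add_ncard_inter {b | b ∈ B ∧ ¬ Commute a₀ b} {b | b ∈ B ∧ ¬ Commute a b}
      (Set.toFinite _) (Set.toFinite _)
    have h3 : ({b | b ∈ B ∧ ¬ Commute a₀ b} ∪ {b | b ∈ B ∧ ¬ Commute a b}).ncard ≤ 22 := by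
      rw [← hB.card]; exact Set.ncard_le_ncard (fun b hb => hb.elim (·.1) (·.1)) (Set.toFinite _)
    have := hmoved ha₀ ha₀E
    have := hmoved ha haE
    omega
  have hA02 : Nat.card A ≤ 2 * Nat.card A₀ := by
    have hu : (A : Set G) ⊆ (A₀ : Set G) ∪ (fun z => a₀ * z) '' (A₀ : Set G) := by
      intro a ha
      by_cases haE : a ∈ E
      · exact Or.inl ⟨ha, haE⟩
      · exact Or.inr ⟨a₀ * a, ⟨mul_mem ha₀ ha, htwo a ha haE⟩, cancel₂ (hA2 a₀ ha₀) a⟩
    have h := (Set.ncard_le_ncard hu (Set.toFinite _)).trans (Set.ncard_union_le _ _)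
    rw [Set.ncard_image_of_injective _ (mul_right_injective a₀), ← Nat.card_coe_set_eq,
      ← Nat.card_coe_set_eq] at h
    simp only [SetLike.coe_sort_coe] at h
    omega
  -- `E` is at least three times as large as its intersection with `A`
  let g : ↥E →* G :=
    { toFun := fun z => z * (a₀ * z * a₀)
      map_one' := by simp [hA2 a₀ ha₀]
      map_mul' := fun u v => by
        show (u * v : G) * (a₀ * (u * v) * a₀) = u * (a₀ * u * a₀) * (v * (a₀ * v * a₀))
        rw [(hEc _ (conjE ha₀ u.2) _ v.2).mul_mul_mul_comm]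
        simp only [mul_assoc, cancel₂ (hA2 a₀ ha₀)] }
  have hker : A₀.subgroupOf E ≤ g.ker := fun z hz => by
    rw [MonoidHom.mem_ker]
    show (z : G) * (a₀ * z * a₀) = 1
    rw [(hAc a₀ ha₀ _ (Subgroup.mem_subgroupOf.1 hz).1).eq, mul_assoc (z : G) a₀ a₀, hA2 a₀ ha₀, mul_one,
      hE2 _ z.2]
  obtain ⟨b, hb, hb₀⟩ : {b | b ∈ B ∧ ¬ Commute a₀ b}.Nonempty :=
    (Set.ncard_pos (Set.toFinite _)).1 (by have := hmoved ha₀ ha₀E; omega)
  obtain ⟨c, ⟨hc, hc₀⟩, hcb⟩ : ({b | b ∈ B ∧ ¬ Commute a₀ b} \ {b, a₀ * b * a₀}).Nonempty := by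
    refine (Set.ncard_pos (Set.toFinite _)).1 ?_
    have := hmoved ha₀ ha₀E
    have := Set.ncard_le_ncard_sdiff_add_ncard {b | b ∈ B ∧ ¬ Commute a₀ b} {b, a₀ * b * a₀} (Set.toFinite _)
    have : ({b, a₀ * b * a₀} : Set G).ncard ≤ 2 := by
      refine (Set.ncard_insert_le _ _).trans ?_
      simp
    omega
  have hrange : 3 ≤ Nat.card g.range := by
    rw [← SetLike.coe_sort_coe, Nat.card_coe_set_eq]
    have hne0 : ∀ {b : G}, b ∈ B → ¬ Commute a₀ b → b * (a₀ * b * a₀) ≠ 1 := fun {b} hb h e => hmv ha₀ h (by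
      rw [mul_eq_one_iff_inv_eq, inv2 (S.sqd (hB.sub hb))] at e
      exact e.symm)
    have hbc : b * (a₀ * b * a₀) ≠ c * (a₀ * c * a₀) := fun e => by
      rcases pair_unique S hF hM (hB.sub hb) (hB.sub (hnb ha₀ b hb)) (hB.sub hc) (hB.sub (hnb ha₀ c hc))
          (fun e => hmv ha₀ hb₀ e.symm) (fun e => hmv ha₀ hc₀ e.symm) (hB.comm _ hb _ (hnb ha₀ b hb))
          (hB.comm _ hc _ (hnb ha₀ c hc)) e with ⟨h1, -⟩ | ⟨-, h2⟩
      · exact hcb (Or.inl h1.symm)
      · exact hcb (Or.inr h2.symm)
    have h3 : ({1, b * (a₀ * b * a₀), c * (a₀ * c * a₀)} : Set G).ncard = 3 :=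
      Set.ncard_eq_three.2 ⟨_, _, _, (hne0 hb hb₀).symm, (hne0 hc hc₀).symm, hbc, rfl⟩
    rw [← h3]
    refine Set.ncard_le_ncard ?_ (Set.toFinite _)
    rintro _ (rfl | rfl | rfl)
    · exact one_mem _
    · exact ⟨⟨b, Subgroup.subset_closure hb⟩, rfl⟩
    · exact ⟨⟨c, Subgroup.subset_closure hc⟩, rfl⟩
  have hk1 := Subgroup.card_le_of_le hker
  rw [Nat.card_congr (Subgroup.subgroupOfEquivOfLe (inf_le_right : A₀ ≤ E)).toEquiv] at hk1
  have hk2 := Subgroup.card_mul_index g.ker
  rw [Subgroup.index_ker] at hk2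
  have : 0 < Nat.card A₀ := Nat.card_pos
  nlinarith

/-- The members in a Sylow 2-subgroup generate its Thompson subgroup. -/
theorem closure_eq_thompson (T : Sylow 2 G) :
    Subgroup.closure {x : G | x ∈ D ∧ x ∈ (T : Subgroup G)} = Cfsg.thompsonSubgroupOf 2 (T : Subgroup G) := by
  obtain ⟨B, hB, hBT, hnorm⟩ := exists_base_in_sylow S hF hM T
  obtain ⟨hEc, hE2⟩ := S.closure_elem hB.sub hB.comm
  have hset : {x : G | x ∈ D ∧ x ∈ (T : Subgroup G)} = B := by
    refine Set.Subset.antisymm (fun x hx => hB.mem_of_comm S hF hM hx.1 fun b hb => ?_)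
      fun b hb => ⟨hB.sub hb, hBT hb⟩
    rcases S.tt.cond x hx.1 b (hB.sub hb) with h | h
    · exact h
    · have h3 : (x * b) ^ 3 = 1 := pow_three_eq_one (S.sqd hx.1) (S.sqd (hB.sub hb)) h
      obtain ⟨k, hk⟩ := T.isPGroup' ⟨x * b, mul_mem hx.2 (hBT hb)⟩
      have hk' : (x * b) ^ (2 ^ k) = 1 := congrArg Subtype.val hk
      have h1 : x * b = 1 := orderOf_eq_one_iff.1 (Nat.eq_one_of_dvd_coprimes
        (show Nat.Coprime (2 ^ k) 3 from Nat.Coprime.pow_left _ (by norm_num))
        (orderOf_dvd_of_pow_eq_one hk') (orderOf_dvd_of_pow_eq_one h3))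
      rw [show x = b by rw [mul_eq_one_iff_eq_inv, S.tt.inv_eq (hB.sub hb)] at h1; exact h1]
  rw [hset]
  set E := Subgroup.closure B with hE
  have hET : E ≤ T := (Subgroup.closure_le _).2 hBT
  have hmap : ∀ A : Subgroup ↥(T : Subgroup G), Cfsg.IsElementaryAbelian 2 A →
      (∀ x ∈ A.map (T : Subgroup G).subtype, ∀ y ∈ A.map (T : Subgroup G).subtype, Commute x y) ∧
        ∀ x ∈ A.map (T : Subgroup G).subtype, x * x = 1 := by
    rintro A ⟨hc, h2⟩
    refine ⟨?_, ?_⟩
    · rintro _ ⟨x, hx, rfl⟩ _ ⟨y, hy, rfl⟩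
      have h := hc.is_comm.comm ⟨x, hx⟩ ⟨y, hy⟩
      exact congrArg (fun z : ↥A => ((z : ↥(T : Subgroup G)) : G)) h
    · rintro _ ⟨x, hx, rfl⟩
      rw [← map_mul, ← pow_two, h2 x hx, map_one]
  have hEt : Cfsg.IsElementaryAbelian 2 (E.subgroupOf T) := by
    refine ⟨⟨⟨fun x y => Subtype.ext (Subtype.ext (hEc _ x.2 _ y.2).eq)⟩⟩, fun x hx => Subtype.ext ?_⟩
    rw [SubgroupClass.coe_pow, pow_two]
    exact hE2 _ hx
  have hcard : Nat.card (E.subgroupOf T) = Nat.card E :=
    Nat.card_congr (Subgroup.subgroupOfEquivOfLe hET).toEquiv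
  have huniq : ∀ A : Subgroup ↥(T : Subgroup G), Cfsg.IsElementaryAbelian 2 A → A ≠ E.subgroupOf T →
      Nat.card A < Nat.card E := by
    intro A hA hne
    obtain ⟨hc, h2⟩ := hmap A hA
    have h := elementary_card_lt S hF hM hB hBT hnorm (Subgroup.map_subtype_le A) hc h2 fun e =>
      hne (Subgroup.map_injective (Subgroup.subtype_injective _)
        (by rw [Subgroup.map_subgroupOf_eq_of_le hET]; exact e))
    rwa [Nat.card_congr (A.equivMapOfInjective _ (Subgroup.subtype_injective _)).toEquiv.symm] at h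
  have hmax : Cfsg.maxElementaryAbelianSubgroups 2 ↥(T : Subgroup G) = {E.subgroupOf T} := by
    ext A
    constructor
    · rintro ⟨hA, hmax⟩
      by_contra hne
      have := huniq A hA hne
      have := hmax _ hEt
      omega
    · rintro rfl
      refine ⟨hEt, fun A hA => ?_⟩
      by_cases h : A = E.subgroupOf T
      · rw [h]
      · exact hcard.symm ▸ (huniq A hA h).le
  rw [Cfsg.thompsonSubgroupOf, Cfsg.thompsonSubgroup, hmax, sSup_singleton, Subgroup.map_subgroupOf_eq_of_le hET]

end CfsgLib.M22
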