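import Cfsg.Agent.Lib.ThreeTransp.M23Count
import Cfsg.Prelude.Def_CaseTheorems

/-!
# Groups of type `M(23)`: the group of a link

The group of the link of a member contains it, is quasisimple and has centre generated by it.
-/

set_option autoImplicit false

namespace CfsgLib.M23

open CfsgLib.ThreeTransp CfsgLib.SporMisc CfsgLib.ThreeTransp.Factor
open scoped commutatorElement

variable {G : Type*} [Group G] {D : Set G}
variable [Finite G] (S : Setup D)
include S

/-- A subgroup containing the members commuting with `a` and one further member is everything. -/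
theorem eq_top_of_perp {a e : G} (ha : a ∈ D) (he : e ∈ D) (hne : ¬ Commute a e) {M : Subgroup G}
    (hM : ∀ x ∈ D, Commute a x → x ∈ M) (heM : e ∈ M) : M = ⊤ := by
  have hT := S.hyp.ttc
  obtain ⟨b, hb⟩ : (link D a).Nonempty :=
    (Set.ncard_pos (Set.toFinite _)).1 (by rw [link_ncard_eq S ha]; norm_num)
  have hw : ∃ a ∈ D, ∃ b ∈ D, a ≠ b ∧ Commute a b := ⟨a, ha, b, hb.1, hb.2.1.symm, hb.2.2⟩
  obtain ⟨hconn, h2, h3⟩ := hT.of_primitive S.prim hw
  obtain ⟨L, -, hL, -, hC⟩ := hT.exists_main_component h2 h3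
  obtain ⟨-, hmax⟩ := hT.maximal_perp S.prim hw hL hC hconn ha
  set H := Subgroup.closure (insert e (perp D a)) with hH
  have hds : Cfsg.IsDSubgroup D H := by
    refine le_antisymm ((Subgroup.closure_le _).2 fun x hx => hx.2)
      ((Subgroup.closure_le _).2 fun x hx => Subgroup.subset_closure ⟨?_, Subgroup.subset_closure hx⟩)
    rcases hx with rfl | hx
    · exact he
    · exact hx.1
  have hle : H ≤ M := (Subgroup.closure_le _).2 (by
    rintro x (rfl | hx)
    · exact heM
    · exact hM x hx.1 hx.2)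
  rcases hmax H hds (Subgroup.closure_mono (Set.subset_insert _ _)) with h | h
  · exfalso
    have hle' : Subgroup.closure (perp D a) ≤ Subgroup.centralizer {a} := (Subgroup.closure_le _).2
      fun y hy => Subgroup.mem_centralizer_singleton_iff.2 hy.2.eq.symm
    have : e ∈ Subgroup.closure (perp D a) := h ▸ Subgroup.subset_closure (Set.mem_insert _ _)
    exact hne (Subgroup.mem_centralizer_singleton_iff.1 (hle' this)).symm
  · exact eq_top_iff.2 (h ▸ hle)

theorem center_trivial {z : G} (h : ∀ x ∈ D, Commute z x) : z = 1 := by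
  have hz : z ∈ Subgroup.center G := by
    refine Subgroup.mem_center_iff.2 fun g => ?_
    have hle : Subgroup.closure D ≤ Subgroup.centralizer {z} := (Subgroup.closure_le _).2
      fun y hy => Subgroup.mem_centralizer_singleton_iff.2 (h y hy).symm.eq
    exact Subgroup.mem_centralizer_singleton_iff.1 (hle (S.gen ▸ Subgroup.mem_top g))
  rwa [S.type.1, Subgroup.mem_bot] at hz

/-- An element fixing `a` and its link moves a member not commuting with `a` at most to its conjugate by `a`. -/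
theorem kernel_cases {a z e : G} (ha : a ∈ D) (hza : Commute z a) (h : ∀ x ∈ link D a, Commute z x)
    (he : e ∈ D) (hne : ¬ Commute a e) : z * e * z⁻¹ = e ∨ z * e * z⁻¹ = a * e * a := by
  set e' := z * e * z⁻¹ with he'
  have he'D : e' ∈ D := S.tt.conj z e he
  have fix : ∀ {f : G}, f ∈ link D a → z * f * z⁻¹ = f := fun hf => by
    rw [(h _ hf).eq, mul_inv_cancel_right]
  have hne' : ¬ Commute a e' := fun hc => hne ((Commute.conj_iff z).1
    (by rwa [show z * a * z⁻¹ = a by rw [hza.eq, mul_inv_cancel_right]]))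
  have hW : ∀ {f : G}, f ∈ link D a → (f ∈ link D e ↔ f ∈ link D e') := by
    intro f hf
    constructor
    · intro hfe
      have := link_conj S.tt z hfe
      rwa [fix hf] at this
    · intro hfe
      have := (link_conj_iff S.tt z).1 hfe
      rwa [show z⁻¹ * f * z = f by rw [mul_assoc, ← (h _ hf).eq, inv_mul_cancel_left]] at this
  obtain ⟨x, hxa, hxe⟩ := common_nonempty S ha he hne
  have hxe' : x ∈ link D e' := (hW hxa).1 hxe
  have la := link_swap ha hxa
  have le := link_swap he hxe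
  have le' := link_swap he'D hxe'
  have T := S.link_setup hxa.1
  obtain ⟨F, _, _, hF, hM⟩ := T.exists_models
  have hn : ¬ Commute (pj la) (pj le) := fun hc => hne ((S.pj_comm hxa.1 la le).1 hc)
  have hn' : ¬ Commute (pj la) (pj le') := fun hc => hne' ((S.pj_comm hxa.1 la le').1 hc)
  have hcom : link (E D x) (pj la) ∩ link (E D x) (pj le) = link (E D x) (pj la) ∩ link (E D x) (pj le') := by
    ext q
    refine and_congr_right fun hqa => ?_
    obtain ⟨f, lf, rfl⟩ := Setup.pj_surj hqa.1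
    have hfa : f ∈ link D a := (S.pj_link hxa.1 la lf).1 hqa
    rw [S.pj_link hxa.1 le lf, S.pj_link hxa.1 le' lf]
    exact hW hfa
  rcases M22.same_common T hF hM (pj_mem la) (pj_mem le) (pj_mem le') hn hn' hcom with hc | hc
  · exact Or.inl (S.pj_inj hxa.1 le' le hc)
  · obtain ⟨hm, hpj⟩ := S.pj_conj hxa.1 la le
    exact Or.inr (S.pj_inj hxa.1 le' hm (hc.trans hpj.symm))

/-- An element fixing a member and its link is trivial or that member. -/
theorem eq_one_or_eq {a z : G} (ha : a ∈ D) (hza : Commute z a) (h : ∀ x ∈ link D a, Commute z x) :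
    z = 1 ∨ z = a := by
  obtain ⟨e, he, hne⟩ : ∃ e ∈ D, ¬ Commute a e := by
    obtain ⟨u, hu, v, hv, huv⟩ := S.exists_noncommuting
    obtain ⟨g, hg⟩ := S.cls hu ha
    exact ⟨g * v * g⁻¹, S.tt.conj g v hv, fun hc => huv ((Commute.conj_iff g).1 (hg.symm ▸ hc))⟩
  have key : ∀ w : G, Commute w a → (∀ x ∈ link D a, Commute w x) → w * e * w⁻¹ = e → w = 1 := by
    intro w hwa hw hwe
    refine center_trivial S fun x hx => ?_
    have : Subgroup.centralizer ({w} : Set G) = ⊤ := eq_top_of_perp S ha he hne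
      (fun y hy hc => Subgroup.mem_centralizer_singleton_iff.2 (by
        by_cases hya : y = a
        · rw [hya]; exact hwa.symm.eq
        · exact (hw y ⟨hy, hya, hc⟩).symm.eq))
      (Subgroup.mem_centralizer_singleton_iff.2 (mul_inv_eq_iff_eq_mul.1 hwe).symm)
    exact (Subgroup.mem_centralizer_singleton_iff.1 (this ▸ Subgroup.mem_top x)).symm
  rcases kernel_cases S ha hza h he hne with h0 | h0
  · exact Or.inl (key z hza h h0)
  · right
    have := key (a * z) ((Commute.refl a).mul_left hza) (fun x hx => hx.2.2.mul_left (h x hx)) (by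
      rw [show a * z * e * (a * z)⁻¹ = a * (z * e * z⁻¹) * a⁻¹ by group, h0, S.tt.inv_eq ha]
      simp only [mul_assoc, cancel₂ (S.sqd ha), S.sqd ha, mul_one])
    rw [← cancel₂ (S.sqd ha) z, this, mul_one]

omit S [Finite G] in
theorem mem_center_of_commute {a x : G} {hx : x ∈ linkSub D a} (h : ∀ y ∈ link D a, Commute x y) :
    (⟨x, hx⟩ : ↥(linkSub D a)) ∈ Subgroup.center ↥(linkSub D a) :=
  M22.mem_center_of_commute h

theorem pj_eq_one_cases {a x : G} (ha : a ∈ D) (hx : x ∈ linkSub D a)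
    (h : ((⟨x, hx⟩ : ↥(linkSub D a)) : Q D a) = 1) : x = 1 ∨ x = a :=
  eq_one_or_eq S ha (linkSub_commute hx) fun _ hy =>
    M22.commute_of_mem_center ((QuotientGroup.eq_one_iff _).1 h) hy

/-- Five commuting members of a double link with the image of `b` as product have product `b * a`. -/
theorem five_prod {a b c d p q r : G} (ha : a ∈ D) (hb : b ∈ link D a) (hnd' : [c, d, p, q, r].Nodup)
    (hmem' : ∀ x ∈ [c, d, p, q, r], x ∈ link D a ∩ link D b)
    (hcomm' : ∀ x ∈ [c, d, p, q, r], ∀ y ∈ [c, d, p, q, r], Commute x y)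
    (hc : c ∈ link D a) (hd : d ∈ link D a) (lp : p ∈ link D a) (lq : q ∈ link D a) (lr : r ∈ link D a)
    (hprod : pj hc * pj hd * pj lp * pj lq * pj lr = pj hb) : c * d * p * q * r = b * a := by
  have hin : b⁻¹ * (c * d * p * q * r) ∈ linkSub D a :=
    mul_mem (inv_mem (Subgroup.subset_closure hb))
      (mul_mem (mul_mem (mul_mem (mul_mem (Subgroup.subset_closure hc) (Subgroup.subset_closure hd))
        (Subgroup.subset_closure lp)) (Subgroup.subset_closure lq)) (Subgroup.subset_closure lr))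
  have hker : ((⟨_, hin⟩ : ↥(linkSub D a)) : Q D a) = 1 := by
    show (pj hb)⁻¹ * (pj hc * pj hd * pj lp * pj lq * pj lr) = 1
    rw [hprod, inv_mul_cancel]
  rcases pj_eq_one_cases S ha hin hker with h | h
  swap
  · exact inv_mul_eq_iff_eq_mul.1 h
  exfalso
  -- otherwise five members of the link of `b` have product one modulo the centre
  have hprod' : c * d * p * q * r = b := (inv_mul_eq_one.1 h).symm
  have T' := S.link_setup hb.1
  obtain ⟨F', _, _, hF', hM'⟩ := T'.exists_models
  have lc : c ∈ link D b := (hmem' c (by simp)).2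
  have ld : d ∈ link D b := (hmem' d (by simp)).2
  have lp' : p ∈ link D b := (hmem' p (by simp)).2
  have lq' : q ∈ link D b := (hmem' q (by simp)).2
  have lr' : r ∈ link D b := (hmem' r (by simp)).2
  have hl' : ∀ y ∈ [pj lc, pj ld, pj lp', pj lq', pj lr'],
      ∃ (x : G) (lx : x ∈ link D b), x ∈ [c, d, p, q, r] ∧ pj lx = y := by
    intro y hy
    simp only [List.mem_cons, List.not_mem_nil, or_false] at hy
    rcases hy with rfl | rfl | rfl | rfl | rfl
    exacts [⟨c, lc, by simp, rfl⟩, ⟨d, ld, by simp, rfl⟩, ⟨p, lp', by simp, rfl⟩, ⟨q, lq', by simp, rfl⟩,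
      ⟨r, lr', by simp, rfl⟩]
  refine M22.five_ne_one T' hF' hM' (fun y hy => ?_) ?_ (fun y hy y' hy' => ?_)
    (show pj lc * pj ld * pj lp' * pj lq' * pj lr' = 1 from ?_)
  · obtain ⟨x, lx, -, rfl⟩ := hl' y hy
    exact pj_mem lx
  · simp only [List.nodup_cons, List.mem_cons, List.not_mem_nil, or_false, not_or, List.nodup_nil,
      not_false_eq_true, and_true] at hnd' ⊢
    obtain ⟨⟨n01, n02, n03, n04⟩, ⟨n12, n13, n14⟩, ⟨n23, n24⟩, n34⟩ := hnd'
    have inj : ∀ {s t : G} (ls : s ∈ link D b) (lt : t ∈ link D b), s ≠ t → pj ls ≠ pj lt :=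
      fun ls lt h e => h (S.pj_inj hb.1 ls lt e)
    exact ⟨⟨inj _ _ n01, inj _ _ n02, inj _ _ n03, inj _ _ n04⟩, ⟨inj _ _ n12, inj _ _ n13, inj _ _ n14⟩,
      ⟨inj _ _ n23, inj _ _ n24⟩, inj _ _ n34⟩
  · obtain ⟨x, lx, hx, rfl⟩ := hl' y hy
    obtain ⟨x', lx', hx', rfl⟩ := hl' y' hy'
    exact (S.pj_comm hb.1 lx lx').2 (hcomm' x hx x' hx')
  · have hin' : c * d * p * q * r ∈ linkSub D b :=
      mul_mem (mul_mem (mul_mem (mul_mem (Subgroup.subset_closure lc) (Subgroup.subset_closure ld))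
        (Subgroup.subset_closure lp')) (Subgroup.subset_closure lq')) (Subgroup.subset_closure lr')
    show ((⟨_, hin'⟩ : ↥(linkSub D b)) : Q D b) = 1
    exact (QuotientGroup.eq_one_iff _).2 (mem_center_of_commute fun y hy => hprod'.symm ▸ hy.2.2)

/-- Five members of the double link with product `b * a`. -/
theorem exists_five {a b c : G} (ha : a ∈ D) (hb : b ∈ link D a) (hc : c ∈ link D a ∩ link D b) :
    ∀ {d : G}, d ∈ link D a ∩ link D b ∩ link D c →
    ∃ p q r : G, [c, d, p, q, r].Nodup ∧ (∀ x ∈ [c, d, p, q, r], x ∈ link D a ∩ link D b) ∧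
      (∀ x ∈ [c, d, p, q, r], ∀ y ∈ [c, d, p, q, r], Commute x y) ∧ c * d * p * q * r = b * a := by
  intro d hd
  have T := S.link_setup ha
  obtain ⟨F, _, _, hF, hM⟩ := T.exists_models
  obtain ⟨p', q', r', hnd, hmem, hcomm, hprod⟩ := M22.exists_five T hF hM (pj_mem hb)
    ((S.pj_link ha hb hc.1).2 hc.2) (c := pj hd.1.1)
    ⟨(S.pj_link ha hb hd.1.1).2 hd.1.2, (S.pj_link ha hc.1 hd.1.1).2 hd.2⟩
  obtain ⟨p, lp, rfl⟩ := Setup.pj_surj (hmem p' (by simp)).1
  obtain ⟨q, lq, rfl⟩ := Setup.pj_surj (hmem q' (by simp)).1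
  obtain ⟨r, lr, rfl⟩ := Setup.pj_surj (hmem r' (by simp)).1
  have ldA : d ∈ link D a := hd.1.1
  have hl : ∀ x ∈ [c, d, p, q, r], ∃ lx : x ∈ link D a, pj lx ∈ [pj hc.1, pj ldA, pj lp, pj lq, pj lr] := by
    intro x hx
    simp only [List.mem_cons, List.not_mem_nil, or_false] at hx
    rcases hx with rfl | rfl | rfl | rfl | rfl
    exacts [⟨hc.1, by simp⟩, ⟨ldA, by simp⟩, ⟨lp, by simp⟩, ⟨lq, by simp⟩, ⟨lr, by simp⟩]
  have hmem' : ∀ x ∈ [c, d, p, q, r], x ∈ link D a ∩ link D b := fun x hx => by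
    obtain ⟨lx, hpx⟩ := hl x hx
    exact ⟨lx, (S.pj_link ha hb lx).1 (hmem _ hpx)⟩
  have hcomm' : ∀ x ∈ [c, d, p, q, r], ∀ y ∈ [c, d, p, q, r], Commute x y := fun x hx y hy => by
    obtain ⟨lx, hpx⟩ := hl x hx
    obtain ⟨ly, hpy⟩ := hl y hy
    exact (S.pj_comm ha lx ly).1 (hcomm _ hpx _ hpy)
  have hnd' : [c, d, p, q, r].Nodup := by
    simp only [List.nodup_cons, List.mem_cons, List.not_mem_nil, or_false, not_or, List.nodup_nil,
      not_false_eq_true, and_true] at hnd ⊢
    obtain ⟨⟨n01, n02, n03, n04⟩, ⟨n12, n13, n14⟩, ⟨n23, n24⟩, n34⟩ := hnd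
    exact ⟨⟨fun e => n01 (by subst e; rfl), fun e => n02 (by subst e; rfl), fun e => n03 (by subst e; rfl),
      fun e => n04 (by subst e; rfl)⟩, ⟨fun e => n12 (by subst e; rfl), fun e => n13 (by subst e; rfl),
      fun e => n14 (by subst e; rfl)⟩, ⟨fun e => n23 (by subst e; rfl), fun e => n24 (by subst e; rfl)⟩,
      fun e => n34 (by subst e; rfl)⟩
  exact ⟨p, q, r, hnd', hmem', hcomm', five_prod S ha hb hnd' hmem' hcomm' hc.1 ldA lp lq lr hprod⟩

/-- A member is in the group of its link, as a product of six of its members. -/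
theorem exists_six {a : G} (ha : a ∈ D) : ∃ b c d p q r : G, b ∈ link D a ∧ c ∈ link D a ∧ d ∈ link D a ∧
    p ∈ link D a ∧ q ∈ link D a ∧ r ∈ link D a ∧ b * (c * d * p * q * r) = a := by
  obtain ⟨b, hb⟩ : (link D a).Nonempty :=
    (Set.ncard_pos (Set.toFinite _)).1 (by rw [link_ncard_eq S ha]; norm_num)
  obtain ⟨c, hc⟩ : (link D a ∩ link D b).Nonempty :=
    (Set.ncard_pos (Set.toFinite _)).1 (by rw [link_two_ncard S ha hb]; norm_num)
  obtain ⟨d, hd⟩ : (link D a ∩ link D b ∩ link D c).Nonempty :=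
    (Set.ncard_pos (Set.toFinite _)).1 (by rw [link_three_ncard S ha hb hc]; norm_num)
  obtain ⟨p, q, r, -, hmem, -, hprod⟩ := exists_five S ha hb hc hd
  exact ⟨b, c, d, p, q, r, hb, hc.1, hd.1.1, (hmem p (by simp)).1, (hmem q (by simp)).1, (hmem r (by simp)).1,
    by rw [hprod, cancel₂ (S.sqd hb.1)]⟩

theorem self_mem_linkSub {a : G} (ha : a ∈ D) : a ∈ linkSub D a := by
  obtain ⟨b, c, d, p, q, r, hb, hc, hd, hp, hq, hr, h⟩ := exists_six S ha
  exact h.subst (motive := fun x => x ∈ linkSub D a)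
    (mul_mem (Subgroup.subset_closure hb) (mul_mem (mul_mem (mul_mem (mul_mem (Subgroup.subset_closure hc)
      (Subgroup.subset_closure hd)) (Subgroup.subset_closure hp)) (Subgroup.subset_closure hq))
        (Subgroup.subset_closure hr)))

theorem center_link {a : G} (ha : a ∈ D) : Subgroup.center ↥(linkSub D a) =
    (Subgroup.zpowers a).subgroupOf (linkSub D a) := by
  ext ⟨x, hx⟩
  rw [Subgroup.mem_subgroupOf]
  constructor
  · intro h
    rcases pj_eq_one_cases S ha hx ((QuotientGroup.eq_one_iff _).2 h) with rfl | rfl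
    · exact one_mem _
    · exact Subgroup.mem_zpowers _
  · intro h
    obtain ⟨k, rfl⟩ := Subgroup.mem_zpowers_iff.1 h
    exact mem_center_of_commute fun y hy => hy.2.2.zpow_left k

theorem quotient_simple {a : G} (ha : a ∈ D) : IsSimpleGroup (Q D a) := by
  have T := S.link_setup ha
  obtain ⟨F, _, _, hF, hM⟩ := T.exists_models
  exact M22.isSimple T hF hM

theorem link_isPerfect {a : G} (ha : a ∈ D) : Group.IsPerfect ↥(linkSub D a) := by
  haveI := quotient_simple S ha
  set H := linkSub D a with hH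
  let π : ↥H →* Abelianization ↥H := Abelianization.of
  obtain ⟨u, hu, v, hv, huv⟩ := (S.link_setup ha).exists_noncommuting
  have hperf : commutator (Q D a) = ⊤ := by
    rcases IsSimpleGroup.eq_bot_or_eq_top_of_normal (commutator (Q D a)) inferInstance with h | h
    · exfalso
      apply huv
      have : ⁅u, v⁆ ∈ (⊥ : Subgroup (Q D a)) :=
        h ▸ Subgroup.commutator_mem_commutator (Subgroup.mem_top u) (Subgroup.mem_top v)
      exact commutatorElement_eq_one_iff_mul_comm.1 (Subgroup.mem_bot.1 this)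
    · exact h
  have hmap : (commutator ↥H).map (QuotientGroup.mk' (Subgroup.center ↥H)) = ⊤ := by
    rw [commutator_def, Subgroup.map_commutator, ← MonoidHom.range_eq_map,
      MonoidHom.range_eq_top.2 (QuotientGroup.mk'_surjective _), ← commutator_def, hperf]
  -- modulo commutators every element is central
  have hdec : ∀ x : ↥H, π x = 1 ∨ π x = π ⟨a, self_mem_linkSub S ha⟩ := by
    intro x
    obtain ⟨m, hm, hmx⟩ := Subgroup.mem_map.1 (hmap ▸ Subgroup.mem_top (QuotientGroup.mk' _ x))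
    have hc : m⁻¹ * x ∈ Subgroup.center ↥H := QuotientGroup.eq.1 hmx
    have hπm : π m = 1 := by
      rw [← MonoidHom.mem_ker, Abelianization.ker_of]; exact hm
    have hxm : π x = π (m⁻¹ * x) := by rw [map_mul, map_inv, hπm, inv_one, one_mul]
    rcases pj_eq_one_cases S ha (m⁻¹ * x).2 ((QuotientGroup.eq_one_iff _).2 hc) with h | h
    · exact Or.inl (by rw [hxm, show m⁻¹ * x = 1 from Subtype.ext h, map_one])
    · exact Or.inr (by rw [hxm, show m⁻¹ * x = ⟨a, self_mem_linkSub S ha⟩ from Subtype.ext h])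
  have hπa : π ⟨a, self_mem_linkSub S ha⟩ = 1 := by
    obtain ⟨b, c, d, p, q, r, hb, hc, hd, hp, hq, hr, h⟩ := exists_six S ha
    have hs : ∀ {e : G} (he : e ∈ link D a), π ⟨e, Subgroup.subset_closure he⟩ =
        π ⟨b, Subgroup.subset_closure hb⟩ := by
      intro e he
      obtain ⟨k, hk, hke⟩ := S.hyp.exists_conj_link ha hb he
      have : (⟨e, Subgroup.subset_closure he⟩ : ↥H) =
          ⟨k, hk⟩ * ⟨b, Subgroup.subset_closure hb⟩ * (⟨k, hk⟩ : ↥H)⁻¹ := Subtype.ext hke.symm
      rw [this, map_mul, map_mul, map_inv, mul_comm (π _), mul_inv_cancel_right]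
    have hs2 : π ⟨b, Subgroup.subset_closure hb⟩ * π ⟨b, Subgroup.subset_closure hb⟩ = 1 := by
      rw [← map_mul, ← map_one π]
      exact congrArg π (Subtype.ext (S.sqd hb.1))
    have : (⟨a, self_mem_linkSub S ha⟩ : ↥H) = ⟨b, Subgroup.subset_closure hb⟩ *
        (⟨c, Subgroup.subset_closure hc⟩ * ⟨d, Subgroup.subset_closure hd⟩ * ⟨p, Subgroup.subset_closure hp⟩ *
          ⟨q, Subgroup.subset_closure hq⟩ * ⟨r, Subgroup.subset_closure hr⟩) := Subtype.ext h.symm
    rw [this]
    simp only [map_mul, hs hc, hs hd, hs hp, hs hq, hs hr]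
    simp [mul_assoc, hs2]
  constructor
  rw [← Abelianization.ker_of]
  refine MonoidHom.ker_eq_top_iff.2 (MonoidHom.ext fun x => ?_)
  rcases hdec x with h | h
  · exact h
  · exact h.trans hπa

theorem link_quasisimple {a : G} (ha : a ∈ D) : Cfsg.IsQuasisimple ↥(linkSub D a) :=
  ⟨link_isPerfect S ha, quotient_simple S ha⟩

theorem card_linkSub {a : G} (ha : a ∈ D) :
    Nat.card ↥(linkSub D a) = 2 * (2 ^ 17 * 3 ^ 9 * 5 ^ 2 * 7 * 11 * 13) := by
  have T := S.link_setup ha
  obtain ⟨F, _, _, hF, hM⟩ := T.exists_models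
  rw [Subgroup.card_eq_card_quotient_mul_card_subgroup (Subgroup.center ↥(linkSub D a)),
    show Nat.card (↥(linkSub D a) ⧸ Subgroup.center ↥(linkSub D a)) = _ from M22.card_eq T hF hM,
    center_link S ha, Nat.card_congr (Subgroup.subgroupOfEquivOfLe
      (Subgroup.zpowers_le.2 (self_mem_linkSub S ha))).toEquiv, Nat.card_zpowers,
    orderOf_eq_prime (by rw [pow_two]; exact S.sqd ha) (S.tt.ne_one a ha), mul_comm]

theorem isSimple : IsSimpleGroup G := by
  have hT := S.hyp.ttc
  obtain ⟨a, ha, -⟩ := S.exists_noncommuting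
  obtain ⟨b, hb⟩ : (link D a).Nonempty :=
    (Set.ncard_pos (Set.toFinite _)).1 (by rw [link_ncard_eq S ha]; norm_num)
  obtain ⟨hconn, h2, h3⟩ := hT.of_primitive S.prim ⟨a, ha, b, hb.1, hb.2.1.symm, hb.2.2⟩
  haveI := hT.simple_commutator S.type.1 h2 h3 hconn
  have htop : commutator G = ⊤ := by
    rw [eq_top_iff, ← S.gen, Subgroup.closure_le]
    intro d hd
    have hperf := (link_isPerfect S hd).commutator_eq_top
    have : (commutator ↥(linkSub D d)).map (linkSub D d).subtype ≤ commutator G := by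
      rw [commutator_def, Subgroup.map_commutator, ← MonoidHom.range_eq_map, Subgroup.range_subtype,
        commutator_def]
      exact Subgroup.commutator_mono le_top le_top
    refine this ⟨⟨d, self_mem_linkSub S hd⟩, ?_, rfl⟩
    rw [hperf]
    exact Subgroup.mem_top _
  haveI : Nontrivial G := ⟨⟨a, 1, S.tt.ne_one a ha⟩⟩
  let f : ↥(commutator G) →* G := (commutator G).subtype
  exact IsSimpleGroup.isSimpleGroup_of_surjective f fun g => ⟨⟨g, htop ▸ Subgroup.mem_top g⟩, rfl⟩

end CfsgLib.M23
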