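import Cfsg.Agent.Lib.ThreeTransp.M23Invol
import Cfsg.Agent.Lib.ThreeTransp.M22Unique

/-!
# Groups of type `M(23)`: the members are the only class of 3-transpositions

The trace of a further class on the link group of a member would be a further class for the quotient of type
`M(22)`.
-/

set_option autoImplicit false

namespace CfsgLib.M23

open CfsgLib.ThreeTransp CfsgLib.SporMisc CfsgLib.ThreeTransp.Factor
open CfsgLib.M22 (Tri)

variable {G : Type*} [Group G] {D : Set G}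
variable [Finite G] (S : Setup D)
include S

/-- An element of a class of 3-transpositions in the group of a link has trivial image or image in the link. -/
theorem class_image {a : G} (ha : a ∈ D) {E' : Set G} (hE : IsTT E') {x : G} (hxE : x ∈ E')
    (hx : x ∈ linkSub D a) (hne : ((⟨x, hx⟩ : ↥(linkSub D a)) : Q D a) ≠ 1) :
    ((⟨x, hx⟩ : ↥(linkSub D a)) : Q D a) ∈ E D a := by
  have T := S.link_setup ha
  obtain ⟨F, _, _, hF, hM⟩ := T.exists_models
  haveI := quotient_simple S ha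
  set q : Q D a := ((⟨x, hx⟩ : ↥(linkSub D a)) : Q D a) with hq
  set C : Set (Q D a) := {y | IsConj q y} with hC
  have hmem : ∀ y ∈ C, ∃ (z : G) (hz : z ∈ linkSub D a), z ∈ E' ∧ ((⟨z, hz⟩ : ↥(linkSub D a)) : Q D a) = y := by
    intro y hy
    obtain ⟨g, rfl⟩ := isConj_iff.1 (show IsConj q y from hy)
    obtain ⟨h, rfl⟩ := QuotientGroup.mk_surjective g
    exact ⟨(h : G) * x * (h : G)⁻¹, mul_mem (mul_mem h.2 hx) (inv_mem h.2), hE.conj _ x hxE, rfl⟩
  have hne' : ∀ y ∈ C, y ≠ 1 := by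
    intro y hy h1
    obtain ⟨g, hg⟩ := isConj_iff.1 (show IsConj q y from hy)
    rw [h1, mul_inv_eq_one] at hg
    exact hne (mul_eq_left.1 hg)
  refine (M22.class_eq T hF hM (E := C) ⟨⟨?_, ?_⟩, ⟨q, IsConj.refl q, ?_⟩, ?_⟩) ▸ (IsConj.refl q : q ∈ C)
  · intro y hy
    obtain ⟨z, hz, hzE, rfl⟩ := hmem y hy
    refine orderOf_eq_prime ?_ (hne' _ hy)
    rw [pow_two, ← QuotientGroup.mk_mul, show (⟨z, hz⟩ : ↥(linkSub D a)) * ⟨z, hz⟩ = 1 from
      Subtype.ext (hE.sq z hzE), QuotientGroup.mk_one]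
  · intro y hy y' hy'
    obtain ⟨z, hz, hzE, rfl⟩ := hmem y hy
    obtain ⟨z', hz', hzE', rfl⟩ := hmem y' hy'
    rcases hE.cond z hzE z' hzE' with hc | hc
    · left
      have hm : (⟨z, hz⟩ : ↥(linkSub D a)) * ⟨z', hz'⟩ * (⟨z, hz⟩ * ⟨z', hz'⟩) = 1 := Subtype.ext (by
        show z * z' * (z * z') = 1
        rw [hc.symm.mul_mul_mul_comm, hE.sq z hzE, hE.sq z' hzE', one_mul])
      rw [← QuotientGroup.mk_mul, pow_two, ← QuotientGroup.mk_mul, hm, QuotientGroup.mk_one]
    · right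
      have hm : ((⟨z, hz⟩ : ↥(linkSub D a)) * ⟨z', hz'⟩) ^ 3 = 1 := Subtype.ext
        (pow_three_eq_one (hE.sq z hzE) (hE.sq z' hzE') hc)
      rw [← QuotientGroup.mk_mul, ← QuotientGroup.mk_pow, hm, QuotientGroup.mk_one]
  · rfl
  · haveI hn : (Subgroup.closure C).Normal := normal_closure_of_invariant fun g y hy =>
      IsConj.trans (show IsConj q y from hy) (isConj_iff.2 ⟨g, rfl⟩)
    rcases hn.eq_bot_or_eq_top with h | h
    · exact absurd (Subgroup.mem_bot.1 (h ▸ Subgroup.subset_closure (IsConj.refl q : q ∈ C))) hne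
    · exact h

/-- A conjugation-invariant set of 3-transpositions forming one class is the given one. -/
theorem class_eq {E' : Set G} (hE : Cfsg.IsThreeTranspositionClass E') : E' = D := by
  have hT := isTT_of_class hE
  obtain ⟨⟨hord, -⟩, ⟨d, hd, hcl⟩, -⟩ := hE
  have hiso : ∀ {x : G}, IsConj d x → x ∈ E' := fun h => hcl ▸ h
  obtain ⟨a, ha, -⟩ := S.exists_noncommuting
  obtain ⟨b, hb⟩ : (link D a).Nonempty :=
    (Set.ncard_pos (Set.toFinite _)).1 (by rw [link_ncard_eq S ha]; norm_num)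
  obtain ⟨c, hc⟩ : (link D a ∩ link D b).Nonempty :=
    (Set.ncard_pos (Set.toFinite _)).1 (by rw [link_two_ncard S ha hb]; norm_num)
  obtain ⟨g, hg⟩ : (link D a ∩ link D b ∩ link D c).Nonempty :=
    (Set.ncard_pos (Set.toFinite _)).1 (by rw [link_three_ncard S ha hb hc]; norm_num)
  have T := S.link_setup ha
  obtain ⟨F, _, _, hF, hM⟩ := T.exists_models
  have hdD : d ∈ D := by
    rcases invol_cases S (hord d hd) with h | ⟨a', b', ha', hb', rfl⟩ | ⟨a', b', c', T', rfl⟩
    · exact h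
    · exfalso
      have hN := M22.pair_notMem T hF hM (pj_mem hb) ((S.pj_link ha hb hc.1).2 hc.2)
      exact hN.2 (class_image S ha hT (hiso (pair_conj S ha' hb' hb.1 hc.2))
        (mul_mem (Subgroup.subset_closure hb) (Subgroup.subset_closure hc.1)) hN.1)
    · exfalso
      have U : Tri D b c g := ⟨hb.1, hc.1.1, hg.1.1.1, hc.2.2.1.symm, hg.1.2.2.1.symm, hg.2.2.1.symm, hc.2.2.2,
        hg.1.2.2.2, hg.2.2.2⟩
      obtain ⟨k, k1, k2, k3⟩ := tri_conj S T' U
      have hconj : IsConj (a' * b' * c') (b * c * g) :=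
        isConj_iff.2 ⟨k, by rw [← k1, ← k2, ← k3]; group⟩
      have hN := M22.tri_notMem T hF hM (a := pj hb) (b := pj hc.1) (c := pj hg.1.1)
        ⟨pj_mem hb, pj_mem hc.1, pj_mem hg.1.1, fun e => U.ab (S.pj_inj ha _ _ e),
          fun e => U.ac (S.pj_inj ha _ _ e), fun e => U.bc (S.pj_inj ha _ _ e), (S.pj_comm ha _ _).2 U.cab,
          (S.pj_comm ha _ _).2 U.cac, (S.pj_comm ha _ _).2 U.cbc⟩
      exact hN.2 (class_image S ha hT (hiso hconj)
        (mul_mem (mul_mem (Subgroup.subset_closure hb) (Subgroup.subset_closure hc.1))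
          (Subgroup.subset_closure hg.1.1)) hN.1)
  ext x
  rw [hcl]
  constructor
  · intro h
    obtain ⟨k, rfl⟩ := isConj_iff.1 (show IsConj d x from h)
    exact S.tt.conj k d hdD
  · intro h
    obtain ⟨k, rfl⟩ := S.cls hdD h
    exact isConj_iff.2 ⟨k, rfl⟩

end CfsgLib.M23
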