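import Cfsg.Agent.Lib.ThreeTransp.M24Count

/-!
# Groups of type `M(24)`: the group of a link

The group of the link of a member contains it and has centre generated by it, with simple quotient.
-/

set_option autoImplicit false

namespace CfsgLib.M24

open CfsgLib.ThreeTransp CfsgLib.SporMisc CfsgLib.ThreeTransp.Factor
open CfsgLib.M23 (Q E pj pj_mem link_swap)

/-- In type `M(23)` at most two members share the common link with a member they do not commute with. -/
theorem same_common {K : Type*} [Group K] [Finite K] {E₀ : Set K} (S : M23.Setup E₀) {a e e' : K} (ha : a ∈ E₀)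
    (he : e ∈ E₀) (he'D : e' ∈ E₀) (hnc : ¬ Commute a e) (hnc' : ¬ Commute a e')
    (hW' : link E₀ a ∩ link E₀ e = link E₀ a ∩ link E₀ e') : e' = e ∨ e' = a * e * a := by
  have hW : ∀ {f : K}, f ∈ link E₀ a → (f ∈ link E₀ e ↔ f ∈ link E₀ e') := fun {f} hf =>
    ⟨fun h => (hW' ▸ (⟨hf, h⟩ : f ∈ link E₀ a ∩ link E₀ e) : f ∈ link E₀ a ∩ link E₀ e').2,
      fun h => (hW'.symm ▸ (⟨hf, h⟩ : f ∈ link E₀ a ∩ link E₀ e') : f ∈ link E₀ a ∩ link E₀ e).2⟩
  obtain ⟨x, hxa, hxe⟩ := M23.common_nonempty S ha he hnc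
  have hxe' : x ∈ link E₀ e' := (hW hxa).1 hxe
  have la := link_swap ha hxa
  have le := link_swap he hxe
  have le' := link_swap he'D hxe'
  have T := S.link_setup hxa.1
  obtain ⟨F, _, _, hF, hM⟩ := T.exists_models
  have hn : ¬ Commute (pj la) (pj le) := fun hc => hnc ((S.pj_comm hxa.1 la le).1 hc)
  have hn' : ¬ Commute (pj la) (pj le') := fun hc => hnc' ((S.pj_comm hxa.1 la le').1 hc)
  have hcom : link (E E₀ x) (pj la) ∩ link (E E₀ x) (pj le) = link (E E₀ x) (pj la) ∩ link (E E₀ x) (pj le') := by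
    ext q
    refine and_congr_right fun hqa => ?_
    obtain ⟨f, lf, rfl⟩ := M23.Setup.pj_surj hqa.1
    have hfa : f ∈ link E₀ a := (S.pj_link hxa.1 la lf).1 hqa
    rw [S.pj_link hxa.1 le lf, S.pj_link hxa.1 le' lf]
    exact hW hfa
  rcases M22.same_common T hF hM (pj_mem la) (pj_mem le) (pj_mem le') hn hn' hcom with hc | hc
  · exact Or.inl (S.pj_inj hxa.1 le' le hc)
  · obtain ⟨hm, hpj⟩ := S.pj_conj hxa.1 la le
    exact Or.inr (S.pj_inj hxa.1 le' hm (hc.trans hpj.symm))

variable {G : Type*} [Group G] {D : Set G}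
variable [Finite G] (S : Setup D)
include S

/-- A subgroup containing the members commuting with `a` and one further member is everything. -/
theorem eq_top_of_perp {a e : G} (ha : a ∈ D) (he : e ∈ D) (hne : ¬ Commute a e) {M : Subgroup G}
    (hM : ∀ x ∈ D, Commute a x → x ∈ M) (heM : e ∈ M) : M = ⊤ := by
  have hT := S.hyp.ttc
  obtain ⟨b, hb⟩ : (link D a).Nonempty :=
    (Set.ncard_pos (Set.toFinite _)).1 (by rw [link_ncard_eq S ha]; norm_num)
  have hw : ∃ a ∈ D, ∃ b ∈ D, a ≠ b ∧ Commute a b := ⟨a, ha, b, hb.1, hb.2.1.symm, hb.2.2⟩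
  obtain ⟨hconn, h2, h3⟩ := hT.of_primitive S.prim hw
  obtain ⟨L, -, hL, -, hC⟩ := hT.exists_main_component h2 h3
  obtain ⟨-, hmax⟩ := hT.maximal_perp S.prim hw hL hC hconn ha
  set H := Subgroup.closure (insert e (perp D a)) with hH
  have hds : Cfsg.IsDSubgroup D H := by
    refine le_antisymm ((Subgroup.closure_le _).2 fun x hx => hx.2)
      ((Subgroup.closure_le _).2 fun x hx => Subgroup.subset_closure ⟨?_, Subgroup.subset_closure hx⟩)
    rcases hx with rfl | hx
    · exact he
    · exact hx.1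
  have hle : H ≤ M := (Subgroup.closure_le _).2 (by
    rintro x (rfl | hx)
    · exact heM
    · exact hM x hx.1 hx.2)
  rcases hmax H hds (Subgroup.closure_mono (Set.subset_insert _ _)) with h | h
  · exfalso
    have hle' : Subgroup.closure (perp D a) ≤ Subgroup.centralizer {a} := (Subgroup.closure_le _).2
      fun y hy => Subgroup.mem_centralizer_singleton_iff.2 hy.2.eq.symm
    have : e ∈ Subgroup.closure (perp D a) := h ▸ Subgroup.subset_closure (Set.mem_insert _ _)
    exact hne (Subgroup.mem_centralizer_singleton_iff.1 (hle' this)).symm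
  · exact eq_top_iff.2 (h ▸ hle)

theorem center_trivial {z : G} (h : ∀ x ∈ D, Commute z x) : z = 1 := by
  have hz : z ∈ Subgroup.center G := by
    refine Subgroup.mem_center_iff.2 fun g => ?_
    have hle : Subgroup.closure D ≤ Subgroup.centralizer {z} := (Subgroup.closure_le _).2
      fun y hy => Subgroup.mem_centralizer_singleton_iff.2 (h y hy).symm.eq
    exact Subgroup.mem_centralizer_singleton_iff.1 (hle (S.gen ▸ Subgroup.mem_top g))
  rwa [S.type.1, Subgroup.mem_bot] at hz

/-- An element fixing `a` and its link moves a member not commuting with `a` at most to its conjugate by `a`. -/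
theorem kernel_cases {a z e : G} (ha : a ∈ D) (hza : Commute z a) (h : ∀ x ∈ link D a, Commute z x)
    (he : e ∈ D) (hne : ¬ Commute a e) : z * e * z⁻¹ = e ∨ z * e * z⁻¹ = a * e * a := by
  set e' := z * e * z⁻¹ with he'
  have he'D : e' ∈ D := S.tt.conj z e he
  have fix : ∀ {f : G}, f ∈ link D a → z * f * z⁻¹ = f := fun hf => by
    rw [(h _ hf).eq, mul_inv_cancel_right]
  have hne' : ¬ Commute a e' := fun hc => hne ((Commute.conj_iff z).1
    (by rwa [show z * a * z⁻¹ = a by rw [hza.eq, mul_inv_cancel_right]]))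
  have hW : ∀ {f : G}, f ∈ link D a → (f ∈ link D e ↔ f ∈ link D e') := by
    intro f hf
    constructor
    · intro hfe
      have := link_conj S.tt z hfe
      rwa [fix hf] at this
    · intro hfe
      have := (link_conj_iff S.tt z).1 hfe
      rwa [show z⁻¹ * f * z = f by rw [mul_assoc, ← (h _ hf).eq, inv_mul_cancel_left]] at this
  obtain ⟨x, hxa, hxe⟩ := common_nonempty S ha he hne
  have hxe' : x ∈ link D e' := (hW hxa).1 hxe
  have la := link_swap ha hxa
  have le := link_swap he hxe
  have le' := link_swap he'D hxe'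
  have T := S.link_setup hxa.1
  have hn : ¬ Commute (pj la) (pj le) := fun hc => hne ((S.pj_comm hxa.1 la le).1 hc)
  have hn' : ¬ Commute (pj la) (pj le') := fun hc => hne' ((S.pj_comm hxa.1 la le').1 hc)
  have hcom : link (E D x) (pj la) ∩ link (E D x) (pj le) = link (E D x) (pj la) ∩ link (E D x) (pj le') := by
    ext q
    refine and_congr_right fun hqa => ?_
    obtain ⟨f, lf, rfl⟩ := Setup.pj_surj hqa.1
    have hfa : f ∈ link D a := (S.pj_link hxa.1 la lf).1 hqa
    rw [S.pj_link hxa.1 le lf, S.pj_link hxa.1 le' lf]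
    exact hW hfa
  rcases same_common T (pj_mem la) (pj_mem le) (pj_mem le') hn hn' hcom with hc | hc
  · exact Or.inl (S.pj_inj hxa.1 le' le hc)
  · obtain ⟨hm, hpj⟩ := S.pj_conj hxa.1 la le
    exact Or.inr (S.pj_inj hxa.1 le' hm (hc.trans hpj.symm))

/-- An element fixing a member and its link is trivial or that member. -/
theorem eq_one_or_eq {a z : G} (ha : a ∈ D) (hza : Commute z a) (h : ∀ x ∈ link D a, Commute z x) :
    z = 1 ∨ z = a := by
  obtain ⟨e, he, hne⟩ : ∃ e ∈ D, ¬ Commute a e := by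
    obtain ⟨u, hu, v, hv, huv⟩ := S.exists_noncommuting
    obtain ⟨g, hg⟩ := S.cls hu ha
    exact ⟨g * v * g⁻¹, S.tt.conj g v hv, fun hc => huv ((Commute.conj_iff g).1 (hg.symm ▸ hc))⟩
  have key : ∀ w : G, Commute w a → (∀ x ∈ link D a, Commute w x) → w * e * w⁻¹ = e → w = 1 := by
    intro w hwa hw hwe
    refine center_trivial S fun x hx => ?_
    have : Subgroup.centralizer ({w} : Set G) = ⊤ := eq_top_of_perp S ha he hne
      (fun y hy hc => Subgroup.mem_centralizer_singleton_iff.2 (by
        by_cases hya : y = a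
        · rw [hya]; exact hwa.symm.eq
        · exact (hw y ⟨hy, hya, hc⟩).symm.eq))
      (Subgroup.mem_centralizer_singleton_iff.2 (mul_inv_eq_iff_eq_mul.1 hwe).symm)
    exact (Subgroup.mem_centralizer_singleton_iff.1 (this ▸ Subgroup.mem_top x)).symm
  rcases kernel_cases S ha hza h he hne with h0 | h0
  · exact Or.inl (key z hza h h0)
  · right
    have := key (a * z) ((Commute.refl a).mul_left hza) (fun x hx => hx.2.2.mul_left (h x hx)) (by
      rw [show a * z * e * (a * z)⁻¹ = a * (z * e * z⁻¹) * a⁻¹ by group, h0, S.tt.inv_eq ha]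
      simp only [mul_assoc, cancel₂ (S.sqd ha), S.sqd ha, mul_one])
    rw [← cancel₂ (S.sqd ha) z, this, mul_one]

omit S [Finite G] in
theorem mem_center_of_commute {a x : G} {hx : x ∈ linkSub D a} (h : ∀ y ∈ link D a, Commute x y) :
    (⟨x, hx⟩ : ↥(linkSub D a)) ∈ Subgroup.center ↥(linkSub D a) :=
  M22.mem_center_of_commute h

theorem pj_eq_one_cases {a x : G} (ha : a ∈ D) (hx : x ∈ linkSub D a)
    (h : ((⟨x, hx⟩ : ↥(linkSub D a)) : Q D a) = 1) : x = 1 ∨ x = a :=
  eq_one_or_eq S ha (linkSub_commute hx) fun _ hy =>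
    M22.commute_of_mem_center ((QuotientGroup.eq_one_iff _).1 h) hy


/-- A member is in the group of its link. -/
theorem self_mem_linkSub {a : G} (ha : a ∈ D) : a ∈ linkSub D a := by
  obtain ⟨b, hb⟩ : (link D a).Nonempty :=
    (Set.ncard_pos (Set.toFinite _)).1 (by rw [link_ncard_eq S ha]; norm_num)
  have la := link_swap ha hb
  have h := M23.self_mem_linkSub (S.link_setup hb.1) (pj_mem la)
  have hle : linkSub (E D b) (pj la) ≤ ((linkSub D a).subgroupOf (linkSub D b)).map
      (QuotientGroup.mk' (Subgroup.center ↥(linkSub D b))) := by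
    rw [Subgroup.closure_le]
    intro q hq
    obtain ⟨f, lf, rfl⟩ := Setup.pj_surj hq.1
    exact ⟨⟨f, Subgroup.subset_closure lf⟩, Subgroup.subset_closure ((S.pj_link hb.1 la lf).1 hq), rfl⟩
  obtain ⟨m, hm, hma⟩ := Subgroup.mem_map.1 (hle h)
  have hker : ((m⁻¹ * ⟨a, Subgroup.subset_closure la⟩ : ↥(linkSub D b)) : Q D b) = 1 := by
    show QuotientGroup.mk' _ (m⁻¹ * ⟨a, Subgroup.subset_closure la⟩) = 1
    rw [map_mul, map_inv, hma]
    exact inv_mul_cancel _
  have hm' : (m : G) ∈ linkSub D a := hm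
  rcases pj_eq_one_cases S hb.1 (m⁻¹ * ⟨a, Subgroup.subset_closure la⟩ : ↥(linkSub D b)).2 hker with h | h
  · exact (inv_mul_eq_one.1 (show (m : G)⁻¹ * a = 1 from h)) ▸ hm'
  · have : (m : G) * b ∈ linkSub D a := mul_mem hm' (Subgroup.subset_closure hb)
    rwa [← inv_mul_eq_iff_eq_mul.1 (show (m : G)⁻¹ * a = b from h)] at this

theorem center_link {a : G} (ha : a ∈ D) : Subgroup.center ↥(linkSub D a) =
    (Subgroup.zpowers a).subgroupOf (linkSub D a) := by
  ext ⟨x, hx⟩
  rw [Subgroup.mem_subgroupOf]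
  constructor
  · intro h
    rcases pj_eq_one_cases S ha hx ((QuotientGroup.eq_one_iff _).2 h) with rfl | rfl
    · exact one_mem _
    · exact Subgroup.mem_zpowers _
  · intro h
    obtain ⟨k, rfl⟩ := Subgroup.mem_zpowers_iff.1 h
    exact mem_center_of_commute fun y hy => hy.2.2.zpow_left k

theorem quotient_simple {a : G} (ha : a ∈ D) : IsSimpleGroup (Q D a) := by
  have T := S.link_setup ha
  exact M23.isSimple T

theorem card_linkSub {a : G} (ha : a ∈ D) :
    Nat.card ↥(linkSub D a) = 2 * (2 ^ 18 * 3 ^ 13 * 5 ^ 2 * 7 * 11 * 13 * 17 * 23) := by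
  rw [Subgroup.card_eq_card_quotient_mul_card_subgroup (Subgroup.center ↥(linkSub D a)),
    show Nat.card (↥(linkSub D a) ⧸ Subgroup.center ↥(linkSub D a)) = _ from M23.card_eq (S.link_setup ha),
    center_link S ha, Nat.card_congr (Subgroup.subgroupOfEquivOfLe
      (Subgroup.zpowers_le.2 (self_mem_linkSub S ha))).toEquiv, Nat.card_zpowers,
    orderOf_eq_prime (by rw [pow_two]; exact S.sqd ha) (S.tt.ne_one a ha), mul_comm]

end CfsgLib.M24
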