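import Cfsg.Agent.Lib.ThreeTransp.M24Model

/-!
# Groups of type `M(24)`: the number of 3-transpositions

There are `306936` members; two non-commuting members have `3240` common neighbours, and every further
neighbour of one of them commutes with `360` of these.
-/

set_option autoImplicit false

namespace CfsgLib.M24

open CfsgLib.ThreeTransp CfsgLib.SporMisc CfsgLib.ThreeTransp.Factor
open CfsgLib.M23 (Q E pj pj_mem link_swap)

variable {G : Type*} [Group G] {D : Set G}
variable [Finite G] (S : Setup D)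
include S

theorem link_ncard_eq {a : G} (ha : a ∈ D) : (link D a).ncard = 31671 := by
  rw [← M23.ncard_eq (S.link_setup ha)]
  have h := S.card_transfer ha (fun _ => True) (fun _ => True) fun _ _ => Iff.rfl
  rw [show {e | e ∈ link D a ∧ True} = link D a from Set.ext fun _ => and_iff_left trivial,
    show {q | q ∈ E D a ∧ True} = E D a from Set.ext fun _ => and_iff_left trivial] at h
  exact h

theorem link_two_ncard {a b : G} (ha : a ∈ D) (hb : b ∈ link D a) :
    (link D a ∩ link D b).ncard = 3510 := by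
  rw [← M23.link_ncard_eq (S.link_setup ha) (pj_mem hb)]
  have h := S.card_transfer ha (fun e => e ∈ link D b) (fun q => q ∈ link (E D a) (pj hb))
    fun e he => (S.pj_link ha hb he).symm
  rw [show {q | q ∈ E D a ∧ q ∈ link (E D a) (pj hb)} = link (E D a) (pj hb) from
    Set.ext fun q => and_iff_right_of_imp fun h => h.1] at h
  exact h

theorem link_three_ncard {a b c : G} (ha : a ∈ D) (hb : b ∈ link D a) (hc : c ∈ link D a ∩ link D b) :
    (link D a ∩ link D b ∩ link D c).ncard = 693 := by
  rw [← M23.link_two_ncard (S.link_setup ha) (pj_mem hb) ((S.pj_link ha hb hc.1).2 hc.2)]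
  have h := S.card_transfer ha (fun e => e ∈ link D b ∧ e ∈ link D c)
    (fun q => q ∈ link (E D a) (pj hb) ∧ q ∈ link (E D a) (pj hc.1))
    fun e he => and_congr (S.pj_link ha hb he).symm (S.pj_link ha hc.1 he).symm
  rw [show {q | q ∈ E D a ∧ q ∈ link (E D a) (pj hb) ∧ q ∈ link (E D a) (pj hc.1)} =
    link (E D a) (pj hb) ∩ link (E D a) (pj hc.1) from
    Set.ext fun q => and_iff_right_of_imp fun h => h.1.1] at h
  rw [← h, Set.inter_assoc]
  rfl

theorem link_three_nc_ncard {a x y : G} (ha : a ∈ D) (hx : x ∈ link D a) (hy : y ∈ link D a)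
    (hxy : ¬ Commute x y) : (link D a ∩ link D x ∩ link D y).ncard = 351 := by
  rw [← M23.common_ncard_eq (S.link_setup ha) (pj_mem hx) (pj_mem hy)
    (fun h => hxy ((S.pj_comm ha hx hy).1 h))]
  have h := S.card_transfer ha (fun e => e ∈ link D x ∧ e ∈ link D y)
    (fun q => q ∈ link (E D a) (pj hx) ∧ q ∈ link (E D a) (pj hy))
    fun e he => and_congr (S.pj_link ha hx he).symm (S.pj_link ha hy he).symm
  rw [show {q | q ∈ E D a ∧ q ∈ link (E D a) (pj hx) ∧ q ∈ link (E D a) (pj hy)} =
    link (E D a) (pj hx) ∩ link (E D a) (pj hy) from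
    Set.ext fun q => and_iff_right_of_imp fun h => h.1.1] at h
  rw [← h, Set.inter_assoc]
  rfl

theorem link_four_ncard {a b c d : G} (ha : a ∈ D) (hb : b ∈ link D a) (hc : c ∈ link D a ∩ link D b)
    (hd : d ∈ link D a ∩ link D b ∩ link D c) :
    (link D a ∩ link D b ∩ link D c ∩ link D d).ncard = 180 := by
  rw [← M23.link_three_ncard (S.link_setup ha) (pj_mem hb) ((S.pj_link ha hb hc.1).2 hc.2) (c := pj hd.1.1)
    ⟨(S.pj_link ha hb hd.1.1).2 hd.1.2, (S.pj_link ha hc.1 hd.1.1).2 hd.2⟩]
  have h := S.card_transfer ha (fun e => e ∈ link D b ∧ e ∈ link D c ∧ e ∈ link D d)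
    (fun q => q ∈ link (E D a) (pj hb) ∧ q ∈ link (E D a) (pj hc.1) ∧ q ∈ link (E D a) (pj hd.1.1))
    fun e he => and_congr (S.pj_link ha hb he).symm
      (and_congr (S.pj_link ha hc.1 he).symm (S.pj_link ha hd.1.1 he).symm)
  rw [show {q | q ∈ E D a ∧ q ∈ link (E D a) (pj hb) ∧ q ∈ link (E D a) (pj hc.1) ∧
      q ∈ link (E D a) (pj hd.1.1)} =
    link (E D a) (pj hb) ∩ link (E D a) (pj hc.1) ∩ link (E D a) (pj hd.1.1) from
    Set.ext fun q => ⟨fun h => ⟨⟨h.2.1, h.2.2.1⟩, h.2.2.2⟩, fun h => ⟨h.1.1.1, h.1.1, h.1.2, h.2⟩⟩] at h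
  rw [← h]
  congr 1
  ext e
  exact ⟨fun h => ⟨h.1.1.1, h.1.1.2, h.1.2, h.2⟩, fun h => ⟨⟨⟨h.1, h.2.1⟩, h.2.2.1⟩, h.2.2.2⟩⟩

theorem common_valency {a c x : G} (ha : a ∈ D) (hc : c ∈ D) (hnc : ¬ Commute a c)
    (hx : x ∈ link D a ∩ link D c) : (link D a ∩ link D c ∩ link D x).ncard = 351 := by
  rw [Set.inter_comm, ← Set.inter_assoc]
  exact link_three_nc_ncard S hx.1.1 (link_swap ha hx.1) (link_swap hc hx.2) hnc

theorem trans_nonlink {a c c' : G} (ha : a ∈ D) (hc : c ∈ D) (hc' : c' ∈ D) (hnc : ¬ Commute a c)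
    (hnc' : ¬ Commute a c') : ∃ g : G, Commute g a ∧ g * c * g⁻¹ = c' :=
  S.fisch.exists_conj_noncomm ha hc hc' hnc hnc'

theorem common_ncard_le {a c c' : G} (ha : a ∈ D) (hc : c ∈ D) (hc' : c' ∈ D) (hnc : ¬ Commute a c)
    (hnc' : ¬ Commute a c') : (link D a ∩ link D c).ncard ≤ (link D a ∩ link D c').ncard := by
  obtain ⟨g, hg, rfl⟩ := trans_nonlink S ha hc hc' hnc hnc'
  exact Set.ncard_le_ncard_of_injOn (fun e => g * e * g⁻¹)
    (fun e he => ⟨S.link_conj_fix hg he.1, link_conj S.tt g he.2⟩) (fun _ _ _ _ e => by simpa using e)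
    (Set.toFinite _)

theorem common_ncard_eq_of {a c a' c' : G} (ha : a ∈ D) (hc : c ∈ D) (hnc : ¬ Commute a c) (ha' : a' ∈ D)
    (hc' : c' ∈ D) (hnc' : ¬ Commute a' c') :
    (link D a ∩ link D c).ncard = (link D a' ∩ link D c').ncard := by
  obtain ⟨g, rfl⟩ := S.cls ha' ha
  have key : ∀ (g u v : G), (link D u ∩ link D v).ncard ≤
      (link D (g * u * g⁻¹) ∩ link D (g * v * g⁻¹)).ncard := fun g u v =>
    Set.ncard_le_ncard_of_injOn (fun e => g * e * g⁻¹)
      (fun e he => ⟨link_conj S.tt g he.1, link_conj S.tt g he.2⟩) (fun _ _ _ _ e => by simpa using e)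
      (Set.toFinite _)
  have h1 : ¬ Commute (g * a' * g⁻¹) (g * c' * g⁻¹) := fun h => hnc' ((Commute.conj_iff g).1 h)
  have hgc := S.tt.conj g c' hc'
  have e : (link D (g * a' * g⁻¹) ∩ link D (g * c' * g⁻¹)).ncard = (link D a' ∩ link D c').ncard := by
    refine le_antisymm ?_ (key g a' c')
    have := key g⁻¹ (g * a' * g⁻¹) (g * c' * g⁻¹)
    simpa [mul_assoc] using this
  rw [← e]
  exact le_antisymm (common_ncard_le S ha hc hgc hnc h1) (common_ncard_le S ha hgc hc h1 hnc)

/-- Non-commuting members have a common neighbour. -/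
theorem common_nonempty {a c : G} (ha : a ∈ D) (hc : c ∈ D) (hnc : ¬ Commute a c) :
    (link D a ∩ link D c).Nonempty := by
  have hc' : c ∈ comp D Commute a := S.hyp.conn a ha c hc ▸ mem_comp_self _ _ _
  obtain ⟨v, hv, hav, hne⟩ : ∃ v ∈ D, ¬ Commute a v ∧ (link D a ∩ link D v).Nonempty := by
    by_contra hcon
    push Not at hcon
    apply hnc
    change Relation.ReflTransGen _ a c at hc'
    clear hc hnc
    induction hc' with
    | refl => exact Commute.refl a
    | @tail u v _ huv ih =>
      by_contra hav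
      have hu : u ≠ a := fun e => hav (e ▸ huv.2.2)
      have : (link D a ∩ link D v).Nonempty :=
        ⟨u, ⟨huv.1, hu, ih⟩, huv.1, fun e => hav (e ▸ ih), huv.2.2.symm⟩
      exact this.ne_empty (hcon v huv.2.1 hav)
  have h := (Set.ncard_pos (Set.toFinite _)).2 hne
  rw [← common_ncard_eq_of S ha hc hnc ha hv hav] at h
  exact (Set.ncard_pos (Set.toFinite _)).1 h

/-- The discriminant of the commuting graph is a square. -/
theorem discr_square {a c : G} (ha : a ∈ D) (hc : c ∈ D) (hnc : ¬ Commute a c) :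
    ∃ l : ℕ, l * (link D a ∩ link D c).ncard = 31671 * 28160 ∧
      IsSquare (((3510 : ℤ) - (link D a ∩ link D c).ncard) ^ 2 +
        4 * (31671 - ((link D a ∩ link D c).ncard : ℤ))) := by
  classical
  haveI := Fintype.ofFinite G
  set μ := (link D a ∩ link D c).ncard with hμ
  have hμ0 : 0 < μ := (Set.ncard_pos (Set.toFinite _)).2 (common_nonempty S ha hc hnc)
  have hcount := M22.count_pairs (s := {e | e ∈ D ∧ ¬ Commute a e}) (t := link D a)
    (fun e x => x ∈ link D e) (m := μ) (n := 28160)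
    (fun e he => common_ncard_eq_of S ha he.1 he.2 ha hc hnc) (fun x hx => by
      have h : {e | e ∈ {e | e ∈ D ∧ ¬ Commute a e} ∧ x ∈ link D e} =
          link D x \ insert a (link D a ∩ link D x) := by
        ext e
        constructor
        · rintro ⟨⟨he, hne⟩, hxe⟩
          refine ⟨link_swap he hxe, fun h => hne ?_⟩
          rcases h with rfl | h
          · exact Commute.refl _
          · exact h.1.2.2
        · rintro ⟨hex, he'⟩
          refine ⟨⟨hex.1, fun hae => he' ?_⟩, link_swap hx.1 hex⟩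
          by_cases hea : e = a
          · exact Or.inl hea
          · exact Or.inr ⟨⟨hex.1, hea, hae⟩, hex⟩
      rw [h, Set.ncard_sdiff (Set.insert_subset (link_swap ha hx) Set.inter_subset_right),
        Set.ncard_insert_of_notMem (fun h => h.1.2.1 rfl) (Set.toFinite _), link_ncard_eq S hx.1,
        link_two_ncard S ha hx])
  rw [link_ncard_eq S ha] at hcount
  set l := {e | e ∈ D ∧ ¬ Commute a e}.ncard with hl
  refine ⟨l, hcount, ?_⟩
  have hn : Fintype.card ↥D = 31672 + l := by
    have hun : D = insert a (link D a) ∪ {e | e ∈ D ∧ ¬ Commute a e} := by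
      ext e
      constructor
      · intro he
        by_cases hae : Commute a e
        · by_cases hea : e = a
          · exact Or.inl (Or.inl hea)
          · exact Or.inl (Or.inr ⟨he, hea, hae⟩)
        · exact Or.inr ⟨he, hae⟩
      · rintro ((rfl | h) | h)
        · exact ha
        · exact h.1
        · exact h.1
    have hdis : Disjoint (insert a (link D a)) {e | e ∈ D ∧ ¬ Commute a e} := by
      rw [Set.disjoint_left]
      rintro e (rfl | h) ⟨-, hc'⟩
      · exact hc' (Commute.refl _)
      · exact hc' h.2.2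
    rw [← Nat.card_eq_fintype_card, Nat.card_coe_set_eq]
    conv_lhs => rw [hun]
    rw [Set.ncard_union_eq hdis (Set.toFinite _) (Set.toFinite _),
      Set.ncard_insert_of_notMem (fun h => h.2.1 rfl) (Set.toFinite _), link_ncard_eq S ha]
  haveI : Nonempty ↥D := ⟨⟨a, ha⟩⟩
  have hcard : ∀ (x y : ↥D), Nat.card {z : ↥D // (z.1 ∈ link D x.1) ∧ (z.1 ∈ link D y.1)} =
      (link D x.1 ∩ link D y.1).ncard := fun x y =>
    (Nat.card_congr
      { toFun := fun z => (⟨z.1.1, z.2⟩ : ↥(link D x.1 ∩ link D y.1))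
        invFun := fun z => ⟨⟨z.1, z.2.1.1⟩, z.2⟩
        left_inv := fun _ => rfl
        right_inv := fun _ => rfl }).trans (Nat.card_coe_set_eq _)
  refine srg_discr (fun x y : ↥D => y.1 ∈ link D x.1) (fun x y h => link_swap x.2 h)
    (fun x h => h.2.1 rfl) (k := 31671) (l := 3510) (m := μ) (fun x => ?_)
    (fun x y h => (hcard x y).trans (link_two_ncard S x.2 h)) (fun x y hne h => ?_) ?_
  · rw [← link_ncard_eq S x.2, ← Nat.card_coe_set_eq]
    exact Nat.card_congr
      { toFun := fun z => (⟨z.1.1, z.2⟩ : ↥(link D x.1))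
        invFun := fun z => ⟨⟨z.1, z.2.1⟩, z.2⟩
        left_inv := fun _ => rfl
        right_inv := fun _ => rfl }
  · exact (hcard x y).trans (common_ncard_eq_of S x.2 y.2
      (fun hxy => h ⟨y.2, fun e => hne (Subtype.ext e).symm, hxy⟩) ha hc hnc)
  · rw [hn]
    push_cast
    intro h
    rcases le_or_gt μ 3510 with h693 | h693
    · nlinarith
    by_cases h694 : μ = 3511
    · rw [h694] at hcount h
      omega
    · have h1 : (2 : ℤ) ≤ (μ : ℤ) - 3510 := by omega
      have h2 : (l : ℤ) * μ = 31671 * 28160 := by exact_mod_cast hcount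
      have h3 : (μ : ℤ) ≤ 31671 := by
        have := Set.ncard_le_ncard (Set.inter_subset_left (t := link D c)) (Set.toFinite (link D a))
        rw [link_ncard_eq S ha] at this
        exact_mod_cast this
      nlinarith

/-- Counting the neighbours in the common link of the remaining neighbours of `a`. -/
theorem variance {a c : G} (ha : a ∈ D) (hc : c ∈ D) (hnc : ¬ Commute a c) (t : ℤ) :
    ∀ (w : ℤ), w = (link D a ∩ link D c).ncard →
      ∃ T : Finset G, (∀ z, z ∈ T ↔ z ∈ link D a ∧ z ∉ link D c) ∧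
        ∑ z ∈ T, ((({x | x ∈ link D a ∩ link D c ∧ z ∈ link D x}).ncard : ℤ) - t) ^ 2 =
          w * (351 * w) - 2 * t * (3159 * w) + t ^ 2 * (31671 - w) := by
  classical
  haveI := Fintype.ofFinite G
  intro w hw
  set W : Finset G := (link D a ∩ link D c).toFinset with hWdef
  set L : Finset G := (link D a).toFinset with hLdef
  let A : G → G → ℤ := fun x z => if z ∈ link D x then 1 else 0
  let n : G → ℤ := fun z => ∑ x ∈ W, A x z
  have hWL : W ⊆ L := fun x hx => Set.mem_toFinset.2 (Set.mem_toFinset.1 hx).1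
  have hWc : (W.card : ℤ) = w := by rw [hw, hWdef, Set.ncard_eq_toFinset_card']
  have hLc : L.card = 31671 := by rw [hLdef, ← Set.ncard_eq_toFinset_card', link_ncard_eq S ha]
  have sum_if : ∀ (s : Finset G) (p : G → Prop) [DecidablePred p],
      ∑ z ∈ s, (if p z then (1 : ℤ) else 0) = ({z | z ∈ s ∧ p z}).ncard := by
    intro s p _
    rw [Finset.sum_boole, ← Set.ncard_coe_finset]
    congr 2
    ext z
    simp
  have hn : ∀ z, n z = ({x | x ∈ link D a ∩ link D c ∧ z ∈ link D x}).ncard := by
    intro z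
    simp only [n, A, sum_if]
    congr 2
    ext x
    simp [W]
  have s1 : ∑ z ∈ L, n z = w * 3510 := by
    simp only [n]
    rw [Finset.sum_comm, Finset.sum_congr rfl (g := fun _ => (3510 : ℤ)) fun x hx => ?_,
      Finset.sum_const, nsmul_eq_mul, hWc]
    · simp only [A, sum_if]
      rw [show {z | z ∈ L ∧ z ∈ link D x} = link D a ∩ link D x from by ext z; simp [L],
        link_two_ncard S ha (Set.mem_toFinset.1 hx).1]
      rfl
  have s2 : ∑ z ∈ L, n z ^ 2 = w * (3510 + 351 * 693 + (w - 352) * 351) := by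
    simp only [n, sq, Finset.sum_mul_sum]
    rw [Finset.sum_comm, Finset.sum_congr rfl
      (g := fun _ => (3510 + 351 * 693 + (w - 352) * 351 : ℤ)) fun x hx => ?_,
      Finset.sum_const, nsmul_eq_mul, hWc]
    · have hx' := Set.mem_toFinset.1 hx
      rw [Finset.sum_comm]
      have hin : ∀ y ∈ W, ∑ z ∈ L, A x z * A y z = (link D a ∩ link D x ∩ link D y).ncard := by
        intro y _
        simp only [A, ite_mul, one_mul, zero_mul, ← ite_and, sum_if]
        congr 2
        ext z
        simp [L, and_assoc]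
        tauto
      rw [Finset.sum_congr rfl hin, ← Finset.insert_erase hx, Finset.sum_insert (Finset.notMem_erase x W),
        ← Finset.sum_filter_add_sum_filter_not (W.erase x) (fun y => Commute x y)]
      have hcard1 : (((W.erase x).filter fun y => Commute x y).card : ℤ) = 351 := by
        suffices h : ((W.erase x).filter fun y => Commute x y).card = 351 by exact_mod_cast h
        rw [← Set.ncard_coe_finset, ← common_valency S ha hc hnc hx']
        congr 1
        ext y
        simp only [Finset.coe_filter, Finset.mem_erase, W, Set.mem_toFinset, Set.mem_setOf_eq, Set.mem_inter_iff]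
        exact ⟨fun h => ⟨h.1.2, h.1.2.1.1, h.1.1, h.2⟩, fun h => ⟨⟨h.2.2.1, h.1⟩, h.2.2.2⟩⟩
      rw [Finset.sum_congr rfl (g := fun _ => (693 : ℤ)) (s₁ := (W.erase x).filter fun y => Commute x y)
          fun y hy => ?_,
        Finset.sum_congr rfl (g := fun _ => (351 : ℤ)) (s₁ := (W.erase x).filter fun y => ¬ Commute x y)
          fun y hy => ?_]
      · have hsplit := Finset.card_filter_add_card_filter_not (s := W.erase x) (fun y => Commute x y)
        rw [Finset.card_erase_of_mem hx] at hsplit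
        have hpos : 0 < W.card := Finset.card_pos.2 ⟨x, hx⟩
        have hc2 : (((W.erase x).filter fun y => ¬ Commute x y).card : ℤ) = w - 352 := by omega
        rw [Finset.sum_const, Finset.sum_const, nsmul_eq_mul, nsmul_eq_mul, hcard1, hc2, Set.inter_assoc,
          Set.inter_self, link_two_ncard S ha hx'.1]
        push_cast
        ring
      · simp only [Finset.mem_filter, Finset.mem_erase, W, Set.mem_toFinset] at hy
        rw [link_three_nc_ncard S ha hx'.1 hy.1.2.1 hy.2]
        rfl
      · simp only [Finset.mem_filter, Finset.mem_erase, W, Set.mem_toFinset] at hy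
        rw [link_three_ncard S ha hx'.1 ⟨hy.1.2.1, hy.1.2.1.1, hy.1.1, hy.2⟩]
        rfl
  have hnW : ∀ z ∈ W, n z = 351 := by
    intro z hz
    have hz' := Set.mem_toFinset.1 hz
    rw [hn]
    suffices h : {x | x ∈ link D a ∩ link D c ∧ z ∈ link D x}.ncard = 351 by exact_mod_cast h
    rw [← common_valency S ha hc hnc hz']
    congr 1
    ext x
    exact ⟨fun h => ⟨h.1, link_swap h.1.1.1 h.2⟩, fun h => ⟨h.1, link_swap hz'.1.1 h.2⟩⟩
  refine ⟨L \ W, fun z => ?_, ?_⟩
  · simp [L, W]
  have e1 := Finset.sum_sdiff (f := n) hWL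
  rw [s1, Finset.sum_congr rfl hnW, Finset.sum_const, nsmul_eq_mul, hWc] at e1
  have e2 := Finset.sum_sdiff (f := fun z => n z ^ 2) hWL
  rw [s2, Finset.sum_congr (s₁ := W) rfl (g := fun _ => (123201 : ℤ)) (fun z hz => by rw [hnW z hz]; norm_num),
    Finset.sum_const (s := W), nsmul_eq_mul, hWc] at e2
  have hTc : ((L \ W).card : ℤ) = 31671 - w := by
    have := Finset.card_sdiff_of_subset hWL
    have := Finset.card_le_card hWL
    omega
  simp only [← hn, sub_sq, Finset.sum_add_distrib, Finset.sum_sub_distrib, Finset.sum_const, nsmul_eq_mul, hTc]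
  rw [← Finset.sum_mul, ← Finset.mul_sum]
  linear_combination e2 - 2 * t * e1

omit [Group G] [Finite G] S in
/-- Factorisations of `28160`. -/
theorem factor_cases {y u : ℕ} (hy : y ≤ 167) (h : y * (y + u) = 28160) :
    u ∈ [28159, 14078, 7036, 5627, 3512, 2806, 2549, 1744, 1388, 1258, 848, 664, 596, 457, 376, 272, 232, 146,
      92, 16] := by
  interval_cases y <;> simp only [List.mem_cons, List.not_mem_nil, or_false] <;> omega

/-- Two non-commuting members have `3240` common neighbours. -/
theorem common_ncard_eq {a c : G} (ha : a ∈ D) (hc : c ∈ D) (hnc : ¬ Commute a c) :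
    (link D a ∩ link D c).ncard = 3240 := by
  obtain ⟨l, hl, e, he⟩ := discr_square S ha hc hnc
  set μ := (link D a ∩ link D c).ncard with hμ
  have hle : μ ≤ 31671 := by
    have := Set.ncard_le_ncard (Set.inter_subset_left (t := link D c)) (Set.toFinite (link D a))
    rwa [link_ncard_eq S ha] at this
  obtain ⟨u, hu⟩ : ∃ u : ℕ, (μ : ℤ) = 3512 + u ∨ (μ : ℤ) = 3512 - u :=
    ⟨((μ : ℤ) - 3512).natAbs, by omega⟩
  obtain ⟨E, hE⟩ : ∃ E : ℕ, (E : ℤ) * E = (u : ℤ) ^ 2 + 112640 := by
    refine ⟨e.natAbs, ?_⟩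
    rw [Int.natAbs_mul_self', ← he]
    rcases hu with h | h <;> rw [h] <;> ring
  have hEu : u < E := by nlinarith
  obtain ⟨x, rfl⟩ : ∃ x, E = u + x := ⟨E - u, by omega⟩
  have hx : x * (x + 2 * u) = 112640 := by
    have : ((x * (x + 2 * u) : ℕ) : ℤ) = 112640 := by push_cast at hE ⊢; linear_combination hE
    exact_mod_cast this
  obtain ⟨y, rfl⟩ : ∃ y, x = 2 * y := by
    refine ⟨x / 2, ?_⟩
    rcases Nat.even_or_odd x with h | h
    · obtain ⟨k, rfl⟩ := h; omega
    · exfalso
      have hodd : Odd (x * (x + 2 * u)) := h.mul (h.add_even (even_two_mul u))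
      rw [hx] at hodd
      exact absurd hodd (by decide)
  have hy : y * (y + u) = 28160 := by nlinarith
  have hy167 : y ≤ 167 := by nlinarith
  have hu' := factor_cases hy167 hy
  simp only [List.mem_cons, List.not_mem_nil, or_false] at hu'
  have hlZ : (l : ℤ) * (μ : ℤ) = 891855360 := by exact_mod_cast hl
  have cases3 : μ = 3240 ∨ μ = 3366 ∨ μ = 31671 := by
    rcases hu' with rfl | rfl | rfl | rfl | rfl | rfl | rfl | rfl | rfl | rfl | rfl | rfl | rfl | rfl | rfl | rfl |
      rfl | rfl | rfl | rfl <;> rcases hu with h | h <;>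
      (rw [h] at hlZ; norm_num at hlZ <;> omega)
  rcases cases3 with h | h | h
  · exact h
  · exfalso
    obtain ⟨T, -, hT⟩ := variance S ha hc hnc 376 3366 (by rw [← hμ, h]; rfl)
    have h0 : (0 : ℤ) ≤ ∑ z ∈ T, ((({x | x ∈ link D a ∩ link D c ∧ z ∈ link D x}).ncard : ℤ) - 376) ^ 2 :=
      Finset.sum_nonneg fun z _ => sq_nonneg _
    rw [hT] at h0
    norm_num at h0
  · exfalso
    obtain ⟨T, -, hT⟩ := variance S ha hc hnc 10000 31671 (by rw [← hμ, h]; rfl)
    have h0 : (0 : ℤ) ≤ ∑ z ∈ T, ((({x | x ∈ link D a ∩ link D c ∧ z ∈ link D x}).ncard : ℤ) - 10000) ^ 2 :=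
      Finset.sum_nonneg fun z _ => sq_nonneg _
    rw [hT] at h0
    norm_num at h0

/-- A further neighbour of `a` commutes with `360` common neighbours of `a` and `c`. -/
theorem outside_valency {a c z : G} (ha : a ∈ D) (hc : c ∈ D) (hnc : ¬ Commute a c) (hz : z ∈ link D a)
    (hzc : z ∉ link D c) : {x | x ∈ link D a ∩ link D c ∧ z ∈ link D x}.ncard = 360 := by
  obtain ⟨T, hmem, hT⟩ := variance S ha hc hnc 360 3240 (by rw [common_ncard_eq S ha hc hnc]; rfl)
  rw [show (3240 : ℤ) * (351 * 3240) - 2 * 360 * (3159 * 3240) + 360 ^ 2 * (31671 - 3240) = 0 by norm_num,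
    Finset.sum_eq_zero_iff_of_nonneg fun z _ => sq_nonneg _] at hT
  have := pow_eq_zero_iff two_ne_zero |>.1 (hT z ((hmem z).2 ⟨hz, hzc⟩))
  omega

/-- A neighbour of `a` commutes with a common neighbour of `a` and `c`. -/
theorem exists_commuting' {a c z : G} (ha : a ∈ D) (hc : c ∈ D) (hnc : ¬ Commute a c) (hz : z ∈ link D a) :
    ∃ m, m ∈ link D a ∩ link D c ∧ Commute m z := by
  by_cases hzc : z ∈ link D c
  · exact ⟨z, ⟨hz, hzc⟩, Commute.refl z⟩
  · obtain ⟨m, hm, hmz⟩ : {x | x ∈ link D a ∩ link D c ∧ z ∈ link D x}.Nonempty :=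
      (Set.ncard_pos (Set.toFinite _)).1 (by rw [outside_valency S ha hc hnc hz hzc]; norm_num)
    exact ⟨m, hm, hmz.2.2⟩

theorem ncard_eq : D.ncard = 306936 := by
  obtain ⟨a, ha, c, hc, hnc⟩ := S.exists_noncommuting
  obtain ⟨l, hl, -⟩ := discr_square S ha hc hnc
  have hcount := M22.count_pairs (s := {e | e ∈ D ∧ ¬ Commute a e}) (t := link D a)
    (fun e x => x ∈ link D e) (m := 3240) (n := 28160)
    (fun e he => common_ncard_eq S ha he.1 he.2) (fun x hx => by
      have h : {e | e ∈ {e | e ∈ D ∧ ¬ Commute a e} ∧ x ∈ link D e} =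
          link D x \ insert a (link D a ∩ link D x) := by
        ext e
        constructor
        · rintro ⟨⟨he, hne⟩, hxe⟩
          refine ⟨link_swap he hxe, fun h => hne ?_⟩
          rcases h with rfl | h
          · exact Commute.refl _
          · exact h.1.2.2
        · rintro ⟨hex, he'⟩
          refine ⟨⟨hex.1, fun hae => he' ?_⟩, link_swap hx.1 hex⟩
          by_cases hea : e = a
          · exact Or.inl hea
          · exact Or.inr ⟨⟨hex.1, hea, hae⟩, hex⟩
      rw [h, Set.ncard_sdiff (Set.insert_subset (link_swap ha hx) Set.inter_subset_right),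
        Set.ncard_insert_of_notMem (fun h => h.1.2.1 rfl) (Set.toFinite _), link_ncard_eq S hx.1,
        link_two_ncard S ha hx])
  rw [link_ncard_eq S ha] at hcount
  have hun : D = insert a (link D a) ∪ {e | e ∈ D ∧ ¬ Commute a e} := by
    ext e
    constructor
    · intro he
      by_cases hae : Commute a e
      · by_cases hea : e = a
        · exact Or.inl (Or.inl hea)
        · exact Or.inl (Or.inr ⟨he, hea, hae⟩)
      · exact Or.inr ⟨he, hae⟩
    · rintro ((rfl | h) | h)
      · exact ha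
      · exact h.1
      · exact h.1
  have hdis : Disjoint (insert a (link D a)) {e | e ∈ D ∧ ¬ Commute a e} := by
    rw [Set.disjoint_left]
    rintro e (rfl | h) ⟨-, hc'⟩
    · exact hc' (Commute.refl _)
    · exact hc' h.2.2
  rw [hun, Set.ncard_union_eq hdis (Set.toFinite _) (Set.toFinite _),
    Set.ncard_insert_of_notMem (fun h => h.2.1 rfl) (Set.toFinite _), link_ncard_eq S ha]
  omega

end CfsgLib.M24
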