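import Cfsg.Agent.Lib.ThreeTransp.M23Unique

/-!
# Groups of type `M(24)`: the links as groups of type `M(23)`

For a primitive class of 3-transpositions of type `M(24)` with central cores in the group of the link of a
member, the group of the link of every member, modulo its centre, is with the image of the link a primitive
3-transposition group of type `M(23)`.
-/

set_option autoImplicit false

namespace CfsgLib.M24

open CfsgLib.ThreeTransp CfsgLib.SporMisc CfsgLib.ThreeTransp.Factor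
open CfsgLib.M23 (centralQuotEquiv closureQuotEquiv image_link isOfTypeM22_equiv Q E pj pj_mem)

section Transport

variable {A B : Type*} [Group A] [Group B]

/-- Being of type `M(23)` is invariant under isomorphism. -/
theorem isOfTypeM23_equiv (e : A ≃* B) {E₀ : Set A} {E' : Set B} (hE : e '' E₀ = E')
    (h : Cfsg.IsOfTypeM23 A E₀) : Cfsg.IsOfTypeM23 B E' := by
  obtain ⟨hZ, d, hd, c, hc, hdc, hH, c₃, hc₃, R, hR, hμ, ⟨g⟩⟩ := h
  subst hE
  refine ⟨?_, e d, ⟨d, hd, rfl⟩, e c, ⟨c, hc, rfl⟩, fun hh => hdc (by simpa using hh.map e.symm),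
    ?_, c₃, hc₃, R, hR, hμ, ?_⟩
  · rw [eq_bot_iff]
    intro z hz
    have : e.symm z ∈ Subgroup.center A := Subgroup.mem_center_iff.2 fun g =>
      e.injective (by simpa using Subgroup.mem_center_iff.1 hz (e g))
    rw [hZ, Subgroup.mem_bot] at this
    exact Subgroup.mem_bot.2 (by simpa using congrArg e this)
  · have himg : e.toMonoidHom '' link E₀ d = link (e '' E₀) (e d) := image_link e E₀ d
    have hmap : (linkSub E₀ d).map e.toMonoidHom = linkSub (e '' E₀) (e d) := by
      rw [MonoidHom.map_closure, himg]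
    let φ : ↥(linkSub E₀ d) ≃* ↥(linkSub (e '' E₀) (e d)) :=
      (e.subgroupMap _).trans (MulEquiv.subgroupCongr hmap)
    refine isOfTypeM22_equiv (centralQuotEquiv φ) ?_ hH
    ext z
    constructor
    · rintro ⟨_, ⟨x, hx, rfl⟩, rfl⟩
      refine ⟨φ x, ?_, rfl⟩
      show e (x : A) ∈ link (e '' E₀) (e d)
      rw [← himg]
      exact ⟨x, hx, rfl⟩
    · rintro ⟨y, hy, rfl⟩
      refine ⟨(φ.symm y : Q E₀ d), ⟨φ.symm y, ?_, rfl⟩, ?_⟩
      · show (φ.symm y : A) ∈ link E₀ d
        have h1 : e (φ.symm y : A) = (y : B) := congrArg Subtype.val (φ.apply_symm_apply y)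
        have h2 : (y : B) ∈ e.toMonoidHom '' link E₀ d := himg ▸ hy
        obtain ⟨x, hx, hxy⟩ := h2
        rw [show (φ.symm y : A) = x from e.injective (h1.trans hxy.symm)]
        exact hx
      · show centralQuotEquiv φ ((φ.symm y : ↥(linkSub E₀ d)) : Q E₀ d) = (QuotientGroup.mk y : Q (e '' E₀) (e d))
        exact congrArg QuotientGroup.mk (φ.apply_symm_apply y)
  · obtain ⟨k⟩ := closureQuotEquiv e (S := link E₀ d ∩ link E₀ c)
      (T := link (e '' E₀) (e d) ∩ link (e '' E₀) (e c)) (by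
        rw [Set.image_inter e.injective, image_link, image_link])
    exact ⟨k.trans g⟩

end Transport

variable {G : Type*} [Group G]

/-- The hypotheses: a primitive generating class of 3-transpositions of type `M(24)` with central cores in
the groups of the links. -/
structure Setup (D : Set G) : Prop where
  tt : IsTT D
  gen : Subgroup.closure D = ⊤
  prim : Cfsg.IsPrimitiveUnderConj D
  type : Cfsg.IsOfTypeM24 G D
  hyp : PrimHyp D
  fisch : FischerHyp D
  cores : ∀ a ∈ D, Cfsg.pCore 2 ↥(linkSub D a) ≤ Subgroup.center ↥(linkSub D a) ∧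
    Cfsg.pCore 3 ↥(linkSub D a) ≤ Subgroup.center ↥(linkSub D a)

theorem Setup.of_group [Finite G] {D : Set G} (hD : Cfsg.IsThreeTranspositionGroup D)
    (hp : Cfsg.IsPrimitiveUnderConj D) (ht : Cfsg.IsOfTypeM24 G D) {d₀ : G} (hd₀ : d₀ ∈ D)
    (h2 : Cfsg.pCore 2 ↥(linkSub D d₀) ≤ Subgroup.center ↥(linkSub D d₀))
    (h3 : Cfsg.pCore 3 ↥(linkSub D d₀) ≤ Subgroup.center ↥(linkSub D d₀)) : Setup D :=
  have h := m24_facts hD hp hd₀ h2 h3 ht
  ⟨IsTT.of_group hD, hD.2.2, hp, ht, h.1, h.2.1, fun _ ha =>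
    ⟨cores_conj h.1.ttc hd₀ ha h2, cores_conj h.1.ttc hd₀ ha h3⟩⟩

variable {D : Set G}

namespace Setup

variable (S : Setup D)
include S

theorem cls {a b : G} (ha : a ∈ D) (hb : b ∈ D) : ∃ g : G, g * a * g⁻¹ = b := S.prim.1 a ha b hb

theorem sqd {a : G} (ha : a ∈ D) : a * a = 1 := S.tt.sq a ha

theorem exists_noncommuting : ∃ a ∈ D, ∃ b ∈ D, ¬Commute a b := by
  obtain ⟨-, d, hd, c, hc, hdc, -⟩ := S.type
  exact ⟨d, hd, c, hc, hdc⟩

theorem link_conj_fix {a z : G} (hz : Commute z a) {e : G} (he : e ∈ link D a) :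
    z * e * z⁻¹ ∈ link D a := by
  have := link_conj S.tt z he
  rwa [hz.eq, mul_inv_cancel_right] at this

/-- Every link quotient is of type `M(23)`. -/
theorem link_type {a : G} (ha : a ∈ D) : Cfsg.IsOfTypeM23 (Q D a) (E D a) := by
  obtain ⟨-, d, hd, c, -, -, hM, -⟩ := S.type
  obtain ⟨g, hg⟩ := S.cls hd ha
  have himg : (MulAut.conj g).toMonoidHom '' link D d = link D a := by
    ext x
    constructor
    · rintro ⟨y, hy, rfl⟩
      exact hg ▸ link_conj S.tt g hy
    · intro hx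
      exact ⟨g⁻¹ * x * g, (link_conj_iff S.tt g).1 (hg.symm ▸ hx), by simp [mul_assoc]⟩
  have hmap : (linkSub D d).map (MulAut.conj g).toMonoidHom = linkSub D a := by
    rw [MonoidHom.map_closure, himg]
  let φ : ↥(linkSub D d) ≃* ↥(linkSub D a) :=
    ((MulAut.conj g).subgroupMap _).trans (MulEquiv.subgroupCongr hmap)
  refine isOfTypeM23_equiv (centralQuotEquiv φ) ?_ hM
  ext z
  constructor
  · rintro ⟨_, ⟨x, hx, rfl⟩, rfl⟩
    refine ⟨φ x, ?_, rfl⟩
    have := link_conj S.tt g (show (x : G) ∈ link D d from hx)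
    rwa [hg] at this
  · rintro ⟨y, hy, rfl⟩
    refine ⟨(φ.symm y : Q D d), ⟨φ.symm y, ?_, rfl⟩, ?_⟩
    · show (φ.symm y : G) ∈ link D d
      have h1 : g * (φ.symm y : G) * g⁻¹ = (y : G) := congrArg Subtype.val (φ.apply_symm_apply y)
      have h0 : (y : G) ∈ link D (g * d * g⁻¹) := by rw [hg]; exact hy
      have h2 := (link_conj_iff S.tt g).1 h0
      rw [← h1] at h2
      simpa [mul_assoc] using h2
    · show centralQuotEquiv φ ((φ.symm y : ↥(linkSub D d)) : Q D d) = (y : Q D a)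
      simp [centralQuotEquiv]

variable [Finite G]

theorem link_ttc {a : G} (ha : a ∈ D) : TTC (linkIn D a) := by
  obtain ⟨-, u, hu, v, hv, huv, -⟩ := S.link_type ha
  exact S.hyp.link_ttc ha (nontriv_of_qSet hu hv fun e => huv (e ▸ Commute.refl _))

theorem link_conn {a : G} (ha : a ∈ D) : ∀ x ∈ linkIn D a, ∀ y ∈ linkIn D a,
    comp (linkIn D a) Commute x = comp (linkIn D a) Commute y := by
  obtain ⟨-, d, hd, c, hc, hdc, -, N, hN, ⟨e⟩, -⟩ := S.type
  have hns : ¬ Group.IsSolvable (Subgroup.closure (link D d ∩ link D c)) := by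
    intro hs
    haveI : Group.IsSolvable N := @Group.isSolvable_of_isSolvable_injective _ _ _ _ N.subtype
      N.subtype_injective (isSolvable_quot hs)
    exact not_solvable_pOmega (Group.isSolvable_of_surjective (f := e.toMonoidHom) e.surjective)
  exact linkIn_connected S.tt ha fun x hx y hy hxy =>
    not_solvable_pair S.fisch hd hc hdc hns hx hy hxy

theorem link_setup {a : G} (ha : a ∈ D) : M23.Setup (E D a) := by
  have hl := S.link_ttc ha
  have hq := qSet_ttc hl
  have hK := q_primHyp hl (S.cores a ha).1 (S.cores a ha).2 (S.link_conn ha)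
  have hcore : ∀ p : ℕ, p.Prime → Cfsg.pCore p (Q D a) ≤ Subgroup.center (Q D a) := fun p hp => by
    haveI := Fact.mk hp
    haveI := CfsgLib.Cores.pCore_characteristic (G := Q D a) p
    haveI := (CfsgLib.Cores.isPGroup_pCore (G := Q D a) p).isNilpotent
    rw [hK.sol (Cfsg.pCore p (Q D a)) inferInstance inferInstance]
    exact bot_le
  obtain ⟨L, -, hL, -, hC⟩ := hq.exists_main_component (hcore 2 Nat.prime_two) (hcore 3 Nat.prime_three)
  have hp := hq.primitive_of_index hL hC (hq.index_le_two_of_connected hL hC hK.conn)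
  exact M23.Setup.of_group ⟨⟨fun x hx => orderOf_eq_prime (by rw [pow_two]; exact hq.tt.sq x hx)
      (hq.tt.ne_one x hx), fun x hx y hy => by
    rcases hq.tt.cond x hx y hy with hc | hc
    · exact Or.inl (by rw [hc.mul_pow, pow_two, pow_two, hq.tt.sq x hx, hq.tt.sq y hy, one_mul])
    · exact Or.inr (pow_three_eq_one (hq.tt.sq x hx) (hq.tt.sq y hy) hc)⟩, hq.tt.conj, hq.gen⟩ hp
    (S.link_type ha)

theorem pj_inj {a e f : G} (ha : a ∈ D) (he : e ∈ link D a) (hf : f ∈ link D a)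
    (h : pj he = pj hf) : e = f :=
  congrArg Subtype.val (q_inj (S.link_ttc ha) (show (⟨e, _⟩ : ↥(linkSub D a)) ∈ linkIn D a from he)
    (show (⟨f, _⟩ : ↥(linkSub D a)) ∈ linkIn D a from hf) h)

theorem pj_comm {a e f : G} (ha : a ∈ D) (he : e ∈ link D a) (hf : f ∈ link D a) :
    Commute (pj he) (pj hf) ↔ Commute e f :=
  (q_commute (S.link_ttc ha) (show (⟨e, _⟩ : ↥(linkSub D a)) ∈ linkIn D a from he)
    (show (⟨f, _⟩ : ↥(linkSub D a)) ∈ linkIn D a from hf)).trans commute_coe_iff.symm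

theorem pj_link {a e f : G} (ha : a ∈ D) (he : e ∈ link D a) (hf : f ∈ link D a) :
    pj hf ∈ link (E D a) (pj he) ↔ f ∈ link D e := by
  constructor
  · rintro ⟨-, h2, h3⟩
    exact ⟨hf.1, fun h => h2 (by subst h; rfl), (S.pj_comm ha he hf).1 h3⟩
  · rintro ⟨-, h2, h3⟩
    exact ⟨pj_mem hf, fun h => h2 (S.pj_inj ha hf he h), (S.pj_comm ha he hf).2 h3⟩

omit S [Finite G] in
theorem pj_surj {a : G} {q : Q D a} (hq : q ∈ E D a) : ∃ (e : G) (he : e ∈ link D a), pj he = q := by
  obtain ⟨x, hx, rfl⟩ := hq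
  exact ⟨x, hx, rfl⟩

omit [Finite G] in
theorem pj_conj {a e f : G} (ha : a ∈ D) (he : e ∈ link D a) (hf : f ∈ link D a) :
    ∃ h : e * f * e ∈ link D a, pj h = pj he * pj hf * pj he := by
  have h := S.link_conj_fix he.2.2.symm hf
  rw [S.tt.inv_eq he.1] at h
  exact ⟨h, rfl⟩

/-- Counting in a link through its quotient. -/
theorem card_transfer {a : G} (ha : a ∈ D) (P : G → Prop) (P' : Q D a → Prop)
    (h : ∀ (e : G) (he : e ∈ link D a), P e ↔ P' (pj he)) :
    {e | e ∈ link D a ∧ P e}.ncard = {q | q ∈ E D a ∧ P' q}.ncard := by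
  refine Set.ncard_congr (fun e he => pj he.1) (fun e he => ⟨pj_mem he.1, (h e he.1).1 he.2⟩)
    (fun e f he hf => S.pj_inj ha he.1 hf.1) ?_
  rintro q ⟨hq, hP⟩
  obtain ⟨e, he, rfl⟩ := pj_surj hq
  exact ⟨e, ⟨he, (h e he).2 hP⟩, rfl⟩

end Setup

end CfsgLib.M24
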