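import Mathlib

/-!
# Counting in a Steiner system `S(5,8,24)`

Blocks of eight points in a set of twenty-four, exactly one through any five.  Two blocks never meet in three
points, a block and three further points are met suitably by a further block, and the two families used for
parity arguments have odd size.
-/

set_option autoImplicit false

namespace CfsgLib.SteinerOctad

open Finset

variable {α : Type*} [DecidableEq α]

/-- Blocks of eight points of a set of twenty-four, exactly one through any five points. -/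
structure Is24 (J : Finset α) (O : Finset (Finset α)) : Prop where
  hJ : J.card = 24
  sub : ∀ B ∈ O, B ⊆ J
  card : ∀ B ∈ O, B.card = 8
  ex : ∀ T, T ⊆ J → T.card = 5 → ∃ B ∈ O, T ⊆ B
  uniq : ∀ B ∈ O, ∀ B' ∈ O, ∀ T, T.card = 5 → T ⊆ B → T ⊆ B' → B = B'

variable {J : Finset α} {O : Finset (Finset α)}

/-- The number of blocks through a set of at most five points. -/
theorem Is24.count (h : Is24 J O) {T : Finset α} {t : ℕ} (hT : T ⊆ J) (ht : T.card = t) (h5 : t ≤ 5) :
    (O.filter fun B => T ⊆ B).card * (8 - t).choose (5 - t) = (24 - t).choose (5 - t) := by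
  subst ht
  have := card_mul_eq_card_mul (fun (B X : Finset α) => X ⊆ B \ T) (s := O.filter fun B => T ⊆ B)
    (t := (J \ T).powersetCard (5 - T.card)) (m := (8 - T.card).choose (5 - T.card)) (n := 1) ?_ ?_
  · rwa [card_powersetCard, card_sdiff_of_subset hT, h.hJ, mul_one] at this
  · intro B hB
    rw [mem_filter] at hB
    rw [show bipartiteAbove (fun (B X : Finset α) => X ⊆ B \ T) ((J \ T).powersetCard (5 - T.card)) B =
      (B \ T).powersetCard (5 - T.card) from ?_, card_powersetCard, card_sdiff_of_subset hB.2, h.card B hB.1]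
    ext X
    simp only [bipartiteAbove, mem_filter, mem_powersetCard]
    exact ⟨fun hX => ⟨hX.2, hX.1.2⟩, fun hX => ⟨⟨hX.1.trans (sdiff_subset_sdiff (h.sub B hB.1) le_rfl), hX.2⟩, hX.1⟩⟩
  · intro X hX
    rw [mem_powersetCard] at hX
    have hd : Disjoint T X := disjoint_left.2 fun x hx hx' => (mem_sdiff.1 (hX.1 hx')).2 hx
    have hc : (T ∪ X).card = 5 := by rw [card_union_of_disjoint hd, hX.2]; omega
    obtain ⟨B, hB, hsub⟩ := h.ex (T ∪ X) (union_subset hT (hX.1.trans sdiff_subset)) hc
    rw [card_eq_one]
    refine ⟨B, ?_⟩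
    ext B'
    simp only [bipartiteBelow, mem_filter, mem_singleton]
    constructor
    · rintro ⟨⟨hB', hT'⟩, hX'⟩
      exact h.uniq B' hB' B hB _ hc (union_subset hT' (hX'.trans sdiff_subset)) hsub
    · rintro rfl
      exact ⟨⟨hB, subset_union_left.trans hsub⟩, fun x hx =>
        mem_sdiff.2 ⟨hsub (mem_union_right _ hx), (mem_sdiff.1 (hX.1 hx)).2⟩⟩

/-- Counting incidences of subsets of a set with the blocks through another. -/
theorem Is24.sum_choose {k n : ℕ} {T Q : Finset α} {F : Finset (Finset α)}
    (hn : ∀ X ∈ Q.powersetCard k, (F.filter fun B => T ∪ X ⊆ B).card = n) :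
    ∑ B ∈ F.filter (fun B => T ⊆ B), (B ∩ Q).card.choose k = Q.card.choose k * n := by
  have e1 : ∀ B : Finset α, (B ∩ Q).card.choose k = ((Q.powersetCard k).filter fun X => X ⊆ B).card := by
    intro B
    rw [← card_powersetCard]
    congr 1
    ext X
    simp only [mem_powersetCard, mem_filter, subset_inter_iff]
    tauto
  simp only [e1, card_filter]
  rw [sum_comm, ← card_powersetCard, ← smul_eq_mul, ← sum_const]
  refine sum_congr rfl fun X hX => ?_
  rw [← hn X hX, ← card_filter, filter_filter]
  congr 1
  ext B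
  simp [union_subset_iff]

theorem Is24.choose_sum (h : Is24 J O) {k t s : ℕ} {T Q : Finset α} (hQ : Q ∈ O) (hT : T ⊆ J) (ht : T.card = t)
    (hd : Disjoint T Q) (hk : t + k ≤ 5)
    (hs : (24 - (t + k)).choose (5 - (t + k)) = s * (8 - (t + k)).choose (5 - (t + k))) :
    ∑ B ∈ O.filter (fun B => T ⊆ B), (B ∩ Q).card.choose k = (8 : ℕ).choose k * s := by
  rw [Is24.sum_choose (n := s) fun X hX => ?_, h.card Q hQ]
  rw [mem_powersetCard] at hX
  have hc : (T ∪ X).card = t + k := by rw [card_union_of_disjoint (disjoint_of_subset_right hX.1 hd), ht, hX.2]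
  have := h.count (union_subset hT (hX.1.trans (h.sub Q hQ))) hc hk
  rw [hs] at this
  exact Nat.eq_of_mul_eq_mul_right (Nat.choose_pos (by omega)) this

theorem Is24.five_inter (h : Is24 J O) {B B' : Finset α} (hB : B ∈ O) (hB' : B' ∈ O) (h5 : 5 ≤ (B ∩ B').card) :
    B = B' := by
  obtain ⟨T, hT, hc⟩ := exists_subset_card_eq h5
  exact h.uniq B hB B' hB' T hc (hT.trans inter_subset_left) (hT.trans inter_subset_right)

/-- Two blocks do not meet in exactly three points. -/
theorem Is24.inter_ne_three (h : Is24 J O) {B Q : Finset α} (hB : B ∈ O) (hQ : Q ∈ O) : (B ∩ Q).card ≠ 3 := by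
  intro h3
  have hd : Disjoint (∅ : Finset α) Q := disjoint_empty_left _
  have e3 := h.choose_sum (k := 3) (s := 21) hQ (empty_subset J) card_empty hd (by norm_num)
    (by norm_num [Nat.choose_eq_descFactorial_div_factorial])
  have e4 := h.choose_sum (k := 4) (s := 5) hQ (empty_subset J) card_empty hd (by norm_num)
    (by norm_num [Nat.choose_eq_descFactorial_div_factorial])
  simp only [empty_subset, filter_true, show (8 : ℕ).choose 3 = 56 by decide, show (8 : ℕ).choose 4 = 70 by decide]
    at e3 e4
  have hQB : B ∈ O.erase Q := mem_erase.2 ⟨fun e => by rw [e, inter_self, h.card Q hQ] at h3; omega, hB⟩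
  rw [← add_sum_erase O _ hQ, inter_self, h.card Q hQ] at e3 e4
  have hle : ∀ B' ∈ O.erase Q, 4 * (B' ∩ Q).card.choose 4 + (if (B' ∩ Q).card = 3 then 1 else 0) ≤
      (B' ∩ Q).card.choose 3 := by
    intro B' hB'
    have h4 : (B' ∩ Q).card ≤ 4 := by
      by_contra h5
      exact (mem_erase.1 hB').1 (h.five_inter (mem_erase.1 hB').2 hQ (by omega))
    interval_cases (B' ∩ Q).card <;> decide
  have hs := sum_le_sum hle
  rw [sum_add_distrib, ← mul_sum] at hs
  have h1 : 1 ≤ ∑ B' ∈ O.erase Q, if (B' ∩ Q).card = 3 then 1 else 0 :=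
    le_trans (by simp [h3]) (single_le_sum (f := fun B' => if (B' ∩ Q).card = 3 then 1 else 0)
      (fun _ _ => Nat.zero_le _) hQB)
  simp only [show (8 : ℕ).choose 3 = 56 by decide, show (8 : ℕ).choose 4 = 70 by decide] at e3 e4
  omega

/-- Some block through three points off a block meets it in at least four points. -/
theorem Is24.exists_four (h : Is24 J O) {Q T : Finset α} (hQ : Q ∈ O) (hT : T ⊆ J) (ht : T.card = 3)
    (hd : Disjoint T Q) : ∃ B ∈ O, T ⊆ B ∧ 4 ≤ (B ∩ Q).card := by
  by_contra hcon
  push Not at hcon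
  have e2 := h.choose_sum (k := 2) (s := 1) hQ hT ht hd (by norm_num) (by norm_num)
  have hle : ∀ B ∈ O.filter (fun B => T ⊆ B), (B ∩ Q).card.choose 2 ≤ 1 := by
    intro B hB
    rw [mem_filter] at hB
    have h3 := h.inter_ne_three hB.1 hQ
    have h4 := hcon B hB.1 hB.2
    interval_cases (B ∩ Q).card <;> first | decide | exact absurd rfl h3
  have hs := sum_le_sum hle
  have h21 := h.count hT ht (by norm_num)
  rw [e2, show (8 : ℕ).choose 2 = 28 by decide, sum_const, smul_eq_mul] at hs
  norm_num [Nat.choose_eq_descFactorial_div_factorial, Nat.descFactorial] at h21 hs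
  omega

/-- There are `759` blocks. -/
theorem Is24.card_blocks (h : Is24 J O) : O.card = 759 := by
  have := h.count (empty_subset J) card_empty (by norm_num)
  simp only [empty_subset, filter_true] at this
  norm_num [Nat.choose_eq_descFactorial_div_factorial, Nat.descFactorial] at this
  omega

/-- The blocks through a point that avoid a given block not containing it: fifteen. -/
theorem Is24.card_disjoint (h : Is24 J O) {Q : Finset α} {w : α} (hQ : Q ∈ O) (hw : w ∈ J) (hwQ : w ∉ Q) :
    (O.filter fun B => w ∈ B ∧ Disjoint B Q).card = 15 := by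
  have hd : Disjoint ({w} : Finset α) Q := disjoint_singleton_left.2 hwQ
  have hT : ({w} : Finset α) ⊆ J := singleton_subset_iff.2 hw
  have e0 := h.count hT (card_singleton w) (by norm_num)
  have e1 := h.choose_sum (k := 1) (s := 77) hQ hT (card_singleton w) hd (by norm_num)
    (by norm_num [Nat.choose_eq_descFactorial_div_factorial])
  have e2 := h.choose_sum (k := 2) (s := 21) hQ hT (card_singleton w) hd (by norm_num)
    (by norm_num [Nat.choose_eq_descFactorial_div_factorial])
  have e4 := h.choose_sum (k := 4) (s := 1) hQ hT (card_singleton w) hd (by norm_num) (by norm_num)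
  set F := O.filter fun B => {w} ⊆ B with hF
  have key : ∀ B ∈ F, (if (B ∩ Q).card = 0 then 1 else 0) + (B ∩ Q).card.choose 1 +
      3 * (B ∩ Q).card.choose 4 = 1 + (B ∩ Q).card.choose 2 := by
    intro B hB
    rw [hF, mem_filter] at hB
    have h4 : (B ∩ Q).card ≤ 4 := by
      by_contra h5
      exact hwQ ((h.five_inter hB.1 hQ (by omega)) ▸ singleton_subset_iff.1 hB.2)
    have h3 := h.inter_ne_three hB.1 hQ
    interval_cases (B ∩ Q).card <;> first | decide | exact absurd rfl h3
  have hsum := sum_congr rfl key (s₁ := F)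
  simp only [sum_add_distrib, ← mul_sum, sum_const, smul_eq_mul] at hsum
  rw [e1, e2, e4, sum_ite, sum_const_zero, add_zero, sum_const, smul_eq_mul] at hsum
  have hset : (O.filter fun B => w ∈ B ∧ Disjoint B Q) = F.filter fun B => (B ∩ Q).card = 0 := by
    ext B
    simp only [hF, mem_filter, singleton_subset_iff, card_eq_zero, ← disjoint_iff_inter_eq_empty, and_assoc]
  rw [hset]
  simp only [show (8 : ℕ).choose 1 = 8 by decide, show (8 : ℕ).choose 2 = 28 by decide,
    show (8 : ℕ).choose 4 = 70 by decide] at hsum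
  norm_num [Nat.choose_eq_descFactorial_div_factorial, Nat.descFactorial] at e0
  omega

end CfsgLib.SteinerOctad
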