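import Cfsg.Agent.Lib.ThreeTransp.M24Invol
import Cfsg.Agent.Lib.ThreeTransp.CommProd
import Cfsg.Agent.Lib.ThreeTransp.SteinerOctad

/-!
# Groups of type `M(24)`: octads

Five pairwise commuting members lie in a set of eight with product one; no odd number of commuting members
has product one; the members commuting with an octad, in the model of the common link of three of its members.
-/

set_option autoImplicit false

namespace CfsgLib.M24

open CfsgLib.ThreeTransp CfsgLib.SporMisc CfsgLib.ThreeTransp.Factor CfsgLib.CommProd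
open CfsgLib.U6 (IsPt IsPlane)
open CfsgLib.PSUAut (Isot)
open CfsgLib.M22 (Tri)
open CfsgLib.UnitarySpec (psuMk)

variable {G : Type*} [Group G]

/-- Pairwise commuting members. -/
def IsClique (D : Set G) (A : Finset G) : Prop := (A : Set G) ⊆ D ∧ ∀ x ∈ A, ∀ y ∈ A, Commute x y

/-- Eight pairwise commuting members with product one. -/
def IsOctad (D : Set G) (Q : Finset G) : Prop := IsClique D Q ∧ Q.card = 8 ∧ prodSet Q = 1

/-- The members off a set commuting with all of it. -/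
def around (D : Set G) (Q : Finset G) : Set G := {z | z ∈ D ∧ z ∉ Q ∧ ∀ q ∈ Q, Commute z q}

variable {D : Set G}

theorem IsClique.mono {A B : Finset G} (hA : IsClique D A) (h : B ⊆ A) : IsClique D B :=
  ⟨fun _ hx => hA.1 (h hx), fun x hx y hy => hA.2 x (h hx) y (h hy)⟩

variable [Finite G] (S : Setup D)
include S

theorem IsClique.sq {A : Finset G} (hA : IsClique D A) : ∀ x ∈ (A : Set G), x * x = 1 :=
  fun _ hx => S.sqd (hA.1 hx)

variable [DecidableEq G]

theorem small_ne_one {A : Finset G} (hA : IsClique D A) (h1 : A.Nonempty) (h4 : A.card ≤ 4) : prodSet A ≠ 1 := by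
  intro he
  have hprod : A.toList.prod = 1 := by
    rw [prodSet_eq (pairwise_of_subset hA.2 subset_rfl)] at he
    rw [← he]
    have hpw : ((A.toList.toFinset : Finset G) : Set G).Pairwise (Function.onFun Commute id) := by
      rw [Finset.toList_toFinset]
      exact pairwise_of_subset hA.2 subset_rfl
    rw [← List.map_id A.toList, ← Finset.noncommProd_toFinset A.toList id hpw A.nodup_toList]
    exact Finset.noncommProd_congr (Finset.toList_toFinset A) (fun _ _ => rfl) _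
  rcases list_cases (D := D) (Nat.one_le_iff_ne_zero.2 (Finset.card_ne_zero.2 h1)) h4 A.nodup_toList
    (Finset.length_toList A) (fun x hx => hA.1 (Finset.mem_toList.1 hx))
    (fun x hx y hy => hA.2 x (Finset.mem_toList.1 hx) y (Finset.mem_toList.1 hy)) hprod with
    ⟨-, h⟩ | ⟨-, a, b, ha, hb, h⟩ | ⟨-, a, b, c, T, h⟩ | ⟨-, a, b, c, d, U, h⟩
  · exact S.tt.ne_one 1 h rfl
  · exact (pair_notMem S ha hb).1 h
  · exact (tri_notMem S T).1 h
  · exact (quad_notMem S U).1 h

omit [Finite G] [DecidableEq G] S in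
theorem mem_triple_link {T : Finset G} (hT : IsClique D T) {a b c z : G} (ha : a ∈ T) (hb : b ∈ T) (hc : c ∈ T)
    (hz : z ∈ D) (h : ∀ t ∈ T, Commute z t) (n1 : z ≠ a) (n2 : z ≠ b) (n3 : z ≠ c) :
    z ∈ link D a ∩ link D b ∩ link D c :=
  ⟨⟨⟨hz, n1, (h a ha).symm⟩, hz, n2, (h b hb).symm⟩, hz, n3, (h c hc).symm⟩

/-- The product of a line in the link of a triple. -/
theorem line_prod_cases {a b c : G} (ha : a ∈ D) (hb : b ∈ link D a) (hc : c ∈ link D a ∩ link D b) {L : Finset G}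
    (hL : IsClique D L) (h5 : L.card = 5) (hLW : ∀ x ∈ L, x ∈ link D a ∩ link D b ∩ link D c)
    (hX : ∀ w ∈ link D a ∩ link D b ∩ link D c, Commute (prodSet L) w) :
    ∃ A : Finset G, A ⊆ {a, b, c} ∧ c ∈ A ∧ prodSet L = prodSet A := by
  obtain ⟨F, _, _, hF, ψ, -, -, -, hkill, hfive⟩ := exists_triple_model S ha hb hc
  obtain ⟨e₀, L₁, n₀, rfl, c₁⟩ := Finset.card_eq_succ.1 h5
  obtain ⟨e₁, L₂, n₁, rfl, c₂⟩ := Finset.card_eq_succ.1 c₁
  obtain ⟨e₂, L₃, n₂, rfl, c₃⟩ := Finset.card_eq_succ.1 c₂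
  obtain ⟨e₃, L₄, n₃, rfl, c₄⟩ := Finset.card_eq_succ.1 c₃
  obtain ⟨e₄, rfl⟩ := Finset.card_eq_one.1 c₄
  have hp : prodSet (insert e₀ (insert e₁ (insert e₂ (insert e₃ ({e₄} : Finset G))))) = e₀ * e₁ * e₂ * e₃ * e₄ := by
    have hpw := pairwise_of_subset hL.2 subset_rfl
    rw [prodSet_insert n₀ hpw, prodSet_insert n₁ (hpw.mono (Finset.coe_subset.2 (Finset.subset_insert _ _))),
      prodSet_insert n₂ (hpw.mono (Finset.coe_subset.2 ((Finset.subset_insert _ _).trans (Finset.subset_insert _ _)))),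
      prodSet_insert n₃ (hpw.mono (Finset.coe_subset.2
        (((Finset.subset_insert _ _).trans (Finset.subset_insert _ _)).trans (Finset.subset_insert _ _)))),
      prodSet_singleton]
    simp only [mul_assoc]
  have hm : e₀ * e₁ * e₂ * e₃ * e₄ ∈ tripleSub D a b c := by
    rw [← hp]
    exact prodSet_mem fun x hx => Subgroup.subset_closure (hLW x hx)
  have hmem : ∀ x ∈ [e₀, e₁, e₂, e₃, e₄],
      x ∈ (insert e₀ (insert e₁ (insert e₂ (insert e₃ ({e₄} : Finset G))))) := by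
    intro x hx; simpa using hx
  have hnd : [e₀, e₁, e₂, e₃, e₄].Nodup := by
    simp only [Finset.mem_insert, Finset.mem_singleton, not_or] at n₀ n₁ n₂ n₃
    simp only [List.nodup_cons, List.mem_cons, List.not_mem_nil, or_false, not_or, List.nodup_nil,
      not_false_eq_true, and_true]
    tauto
  obtain ⟨s, hs, he⟩ := hfive e₀ e₁ e₂ e₃ e₄ hnd (fun x hx => hLW x (hmem x hx))
    (fun x hx y hy => hL.2 x (hmem x hx) y (hmem y hy)) hm (hkill ⟨_, hm⟩ fun w hw => by
      show Commute (e₀ * e₁ * e₂ * e₃ * e₄) w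
      rw [← hp]; exact hX w hw)
  have hca : c ∉ ({a} : Finset G) := by simpa using hc.1.2.1
  have hcb : c ∉ ({b} : Finset G) := by simpa using hc.2.2.1
  have hba : b ∉ ({a} : Finset G) := by simpa using hb.2.1
  have hcba : c ∉ ({b, a} : Finset G) := by simp [hc.1.2.1, hc.2.2.1]
  have hC : IsClique D {c, b, a} := by
    refine ⟨by simp [Set.insert_subset_iff, hc.1.1, hb.1, ha], ?_⟩
    simp only [Finset.mem_insert, Finset.mem_singleton]
    rintro x (rfl | rfl | rfl) y (rfl | rfl | rfl)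
    exacts [Commute.refl _, hc.2.2.2.symm, hc.1.2.2.symm, hc.2.2.2, Commute.refl _, hb.2.2.symm, hc.1.2.2,
      hb.2.2, Commute.refl _]
  have pw : ∀ {A : Finset G}, A ⊆ {c, b, a} → (A : Set G).Pairwise Commute :=
    fun h => pairwise_of_subset (hC.mono h).2 subset_rfl
  rw [hp, he]
  rcases hs with hs | hs | hs | hs <;> rw [hs]
  · exact ⟨{c}, by simp, by simp, by rw [prodSet_singleton, mul_one]⟩
  · exact ⟨{c, a}, by simp [Finset.insert_subset_iff], by simp,
      by rw [prodSet_insert hca (pw (by simp [Finset.insert_subset_iff])), prodSet_singleton]⟩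
  · exact ⟨{c, b}, by simp [Finset.insert_subset_iff], by simp,
      by rw [prodSet_insert hcb (pw (by simp [Finset.insert_subset_iff])), prodSet_singleton]⟩
  · exact ⟨{c, b, a}, by simp [Finset.insert_subset_iff], by simp,
      by rw [prodSet_insert hcba (pw subset_rfl), prodSet_insert hba (pw (Finset.subset_insert _ _)), prodSet_singleton]⟩

/-- The members around five commuting members, in a model: a line and the points orthogonal to it. -/
structure LineModel (D : Set G) (Q T : Finset G) (F : Type) [Field F] [Fintype F]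
    (Pt : G → (Fin 6 → F) → Prop) (u v : Fin 6 → F) : Prop where
  card : Fintype.card F = 2 ^ 2
  hu : Isot 2 u
  hv : Isot 2 v
  huv : Cfsg.hermForm 6 F 2 u v = 0
  hli : v ∉ Submodule.span F {u}
  exists_pt : ∀ z ∈ D, z ∉ Q → (∀ t ∈ T, Commute z t) → ∃ w, Pt z w
  pt : ∀ z w, Pt z w → z ∈ around D Q ∧ Isot 2 w ∧ Cfsg.hermForm 6 F 2 w u = 0 ∧
    Cfsg.hermForm 6 F 2 w v = 0 ∧ w ∉ Submodule.span F {u, v}
  comm : ∀ z z' w w', Pt z w → Pt z' w' → (Commute z z' ↔ Cfsg.hermForm 6 F 2 w w' = 0)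
  conj : ∀ z z' w w', Pt z w → Pt z' w' → Pt (z' * z * z') (w + Cfsg.hermForm 6 F 2 w w' • w')
  exists_mem : ∀ w, Isot 2 w → Cfsg.hermForm 6 F 2 w u = 0 → Cfsg.hermForm 6 F 2 w v = 0 →
    w ∉ Submodule.span F {u, v} → ∃ z, Pt z w

/-- Five pairwise commuting members lie in an octad; a member commuting with them commutes with the octad. -/
theorem exists_octad_model {T : Finset G} (hT : IsClique D T) (h5 : T.card = 5) :
    ∃ Q, T ⊆ Q ∧ IsOctad D Q ∧ (∀ z ∈ D, (∀ t ∈ T, Commute z t) → ∀ q ∈ Q, Commute z q) ∧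
      ∃ (F : Type) (_ : Field F) (_ : Fintype F) (Pt : G → (Fin 6 → F) → Prop) (u v : Fin 6 → F),
        LineModel D Q T F Pt u v := by
  obtain ⟨a, T₁, n₀, rfl, c₁⟩ := Finset.card_eq_succ.1 h5
  obtain ⟨b, T₂, n₁, rfl, c₂⟩ := Finset.card_eq_succ.1 c₁
  obtain ⟨c, T₃, n₂, rfl, c₃⟩ := Finset.card_eq_succ.1 c₂
  obtain ⟨d, e, hde, rfl⟩ := Finset.card_eq_two.1 c₃
  simp only [Finset.mem_insert, Finset.mem_singleton, not_or] at n₀ n₁ n₂
  obtain ⟨nab, nac, nad, nae⟩ := n₀
  obtain ⟨nbc, nbd, nbe⟩ := n₁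
  obtain ⟨ncd, nce⟩ := n₂
  set T : Finset G := insert a (insert b (insert c {d, e})) with hTdef
  have mT : a ∈ T ∧ b ∈ T ∧ c ∈ T ∧ d ∈ T ∧ e ∈ T := by simp [hTdef]
  obtain ⟨maT, mbT, mcT, mdT, meT⟩ := mT
  have ha := hT.1 maT
  have hb : b ∈ link D a := ⟨hT.1 mbT, Ne.symm nab, hT.2 a maT b mbT⟩
  have hc : c ∈ link D a ∩ link D b :=
    ⟨⟨hT.1 mcT, Ne.symm nac, hT.2 a maT c mcT⟩, hT.1 mcT, Ne.symm nbc, hT.2 b mbT c mcT⟩
  obtain ⟨F, iF, iF', hF, ψ, hpt, hfacts, hsurj, hkill, hfive⟩ := exists_triple_model S ha hb hc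
  set W := link D a ∩ link D b ∩ link D c with hW
  have md : d ∈ W := mem_triple_link hT maT mbT mcT (hT.1 mdT) (hT.2 d mdT) (Ne.symm nad) (Ne.symm nbd) (Ne.symm ncd)
  have me : e ∈ W := mem_triple_link hT maT mbT mcT (hT.1 meT) (hT.2 e meT) (Ne.symm nae) (Ne.symm nbe) (Ne.symm nce)
  obtain ⟨u, hu⟩ := hpt d md
  obtain ⟨v, hv⟩ := hpt e me
  have huv := (U6.IsPt.commute_iff hF hu hv).1 ((hfacts d e md me).2.2 (hT.2 d mdT e meT))
  have hne : ψ ⟨d, Subgroup.subset_closure md⟩ ≠ ψ ⟨e, Subgroup.subset_closure me⟩ :=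
    fun h => hde ((hfacts d e md me).1 h)
  have hli := U6.IsPt.notMem_span hF hu hv hne
  obtain ⟨X₂, X₃, X₄, w₂, w₃, w₄, k₂, k₃, k₄, s₂, s₃, s₄, hnd, hprod, hall⟩ := U6.exists_line hF hu hv huv hne
  obtain ⟨f, mf, rfl⟩ := hsurj _ _ k₂
  obtain ⟨g, mg, rfl⟩ := hsurj _ _ k₃
  obtain ⟨h, mh, rfl⟩ := hsurj _ _ k₄
  let P : G → (Fin 6 → F) → Prop := fun z w => ∃ hz : z ∈ W, IsPt (ψ ⟨z, Subgroup.subset_closure hz⟩) w
  have lineP : ∀ x ∈ ({d, e, f, g, h} : Finset G), ∃ w, P x w ∧ w ∈ Submodule.span F {u, v} := by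
    intro x hx
    simp only [Finset.mem_insert, Finset.mem_singleton] at hx
    rcases hx with rfl | rfl | rfl | rfl | rfl
    exacts [⟨u, ⟨md, hu⟩, Submodule.subset_span (Set.mem_insert _ _)⟩,
      ⟨v, ⟨me, hv⟩, Submodule.subset_span (Set.mem_insert_of_mem _ rfl)⟩, ⟨w₂, ⟨mf, k₂⟩, s₂⟩, ⟨w₃, ⟨mg, k₃⟩, s₃⟩,
      ⟨w₄, ⟨mh, k₄⟩, s₄⟩]
  have onLine : ∀ {x : G} {w : Fin 6 → F}, P x w → w ∈ Submodule.span F {u, v} →
      x ∈ ({d, e, f, g, h} : Finset G) := by
    rintro x w ⟨hx, hw⟩ sw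
    have := hall _ _ hw sw
    simp only [List.mem_cons, List.not_mem_nil, or_false] at this
    simp only [Finset.mem_insert, Finset.mem_singleton]
    rcases this with k | k | k | k | k
    exacts [Or.inl ((hfacts x d hx md).1 k), Or.inr (Or.inl ((hfacts x e hx me).1 k)),
      Or.inr (Or.inr (Or.inl ((hfacts x f hx mf).1 k))), Or.inr (Or.inr (Or.inr (Or.inl ((hfacts x g hx mg).1 k)))),
      Or.inr (Or.inr (Or.inr (Or.inr ((hfacts x h hx mh).1 k))))]
  set L : Finset G := {d, e, f, g, h} with hLdef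
  have hLW : ∀ x ∈ L, x ∈ W := fun x hx => by obtain ⟨w, ⟨hxW, -⟩, -⟩ := lineP x hx; exact hxW
  have hLc : IsClique D L := by
    refine ⟨fun x hx => (hLW x hx).1.1.1, fun x hx y hy => ?_⟩
    obtain ⟨w, ⟨hxW, hw⟩, sw⟩ := lineP x hx
    obtain ⟨w', ⟨hyW, hw'⟩, sw'⟩ := lineP y hy
    exact (hfacts x y hxW hyW).2.1
      ((U6.IsPt.commute_iff hF hw hw').2 (U6.perp_of_mem_span hF hu.1.2 hv.1.2 huv sw sw'))
  have hnd' : [d, e, f, g, h].Nodup := by
    classical
    refine List.Nodup.of_map (fun x => if hx : x ∈ W then ψ ⟨x, Subgroup.subset_closure hx⟩ else 1) ?_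
    simp only [List.map_cons, List.map_nil]
    rw [dif_pos md, dif_pos me, dif_pos mf, dif_pos mg, dif_pos mh]
    exact hnd
  have hL5 : L.card = 5 := by
    rw [show L = [d, e, f, g, h].toFinset by simp [hLdef], List.toFinset_card_of_nodup hnd']; rfl
  set C : Finset G := {a, b, c} with hCdef
  have hCT : C ⊆ T := by simp [hCdef, hTdef, Finset.insert_subset_iff]
  have hCc : IsClique D C := hT.mono hCT
  have hC3 : C.card = 3 := by simp [hCdef, nab, nac, nbc]
  have hcl : IsClique D (C ∪ L) := by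
    refine ⟨by rw [Finset.coe_union]; exact Set.union_subset hCc.1 hLc.1, fun x hx y hy => ?_⟩
    have key : ∀ {x y : G}, x ∈ C → y ∈ L → Commute x y := by
      intro x y hx hy
      simp only [hCdef, Finset.mem_insert, Finset.mem_singleton] at hx
      rcases hx with e | e | e <;> rw [e]
      exacts [(hLW _ hy).1.1.2.2, (hLW _ hy).1.2.2.2, (hLW _ hy).2.2.2]
    rcases Finset.mem_union.1 hx with hx | hx <;> rcases Finset.mem_union.1 hy with hy | hy
    exacts [hCc.2 x hx y hy, key hx hy, (key hy hx).symm, hLc.2 x hx y hy]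
  have hdisj : Disjoint C L := by
    rw [Finset.disjoint_left]
    intro x hx hx'
    simp only [hCdef, Finset.mem_insert, Finset.mem_singleton] at hx
    rcases hx with rfl | rfl | rfl
    exacts [(hLW x hx').1.1.2.1 rfl, (hLW x hx').1.2.2.1 rfl, (hLW x hx').2.2.1 rfl]
  -- the product of the line
  obtain ⟨s, hs, hX⟩ : ∃ s, (s = 1 ∨ s = a ∨ s = b ∨ s = b * a) ∧ prodSet L = c * s := by
    have hm : d * e * f * g * h ∈ tripleSub D a b c := mul_mem (mul_mem (mul_mem (mul_mem (Subgroup.subset_closure md)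
      (Subgroup.subset_closure me)) (Subgroup.subset_closure mf)) (Subgroup.subset_closure mg))
      (Subgroup.subset_closure mh)
    obtain ⟨s, hs, he⟩ := hfive d e f g h hnd'
      (fun x hx => hLW x (by simpa [hLdef] using hx))
      (fun x hx y hy => hLc.2 x (by simpa [hLdef] using hx) y (by simpa [hLdef] using hy)) hm (by
        rw [← hprod, ← map_mul, ← map_mul, ← map_mul, ← map_mul]; rfl)
    refine ⟨s, hs, ?_⟩
    rw [← he, hLdef]
    have hpw := pairwise_of_subset hLc.2 subset_rfl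
    simp only [List.nodup_cons, List.mem_cons, List.not_mem_nil, or_false, not_or, List.nodup_nil,
      not_false_eq_true, and_true] at hnd'
    obtain ⟨⟨p1, p2, p3, p4⟩, ⟨p5, p6, p7⟩, ⟨p8, p9⟩, p10⟩ := hnd'
    rw [prodSet_insert (by simp [p1, p2, p3, p4]) hpw,
      prodSet_insert (by simp [p5, p6, p7]) (hpw.mono (by simp [hLdef])),
      prodSet_insert (by simp [p8, p9]) (hpw.mono (by simp [hLdef, Set.insert_subset_iff])),
      prodSet_insert (by simp [p10]) (hpw.mono (by simp [hLdef, Set.insert_subset_iff])), prodSet_singleton]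
    simp only [mul_assoc]
  have hXW : ∀ w ∈ W, Commute (prodSet L) w := by
    rintro w ⟨⟨la, lb⟩, lc⟩
    rw [hX]
    rcases hs with hs | hs | hs | hs <;> rw [hs]
    exacts [lc.2.2.mul_left (Commute.one_left w), lc.2.2.mul_left la.2.2, lc.2.2.mul_left lb.2.2,
      lc.2.2.mul_left (lb.2.2.mul_left la.2.2)]
  have hL1 : prodSet L = prodSet C := by
    obtain ⟨A₁, h₁, m₁, e₁⟩ := line_prod_cases S ha hb hc hLc hL5 hLW hXW
    obtain ⟨A₂, h₂, m₂, e₂⟩ := line_prod_cases S hb.1 (a := b) (b := c) (c := a) hc.2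
      ⟨M23.link_swap ha hb, M23.link_swap ha hc.1⟩ hLc hL5
      (fun x hx => ⟨⟨(hLW x hx).1.2, (hLW x hx).2⟩, (hLW x hx).1.1⟩) fun w hw => hXW w ⟨⟨hw.2, hw.1.1⟩, hw.1.2⟩
    obtain ⟨A₃, h₃, m₃, e₃⟩ := line_prod_cases S hc.1.1 (a := c) (b := a) (c := b) (M23.link_swap ha hc.1)
      ⟨M23.link_swap hb.1 hc.2, hb⟩ hLc hL5
      (fun x hx => ⟨⟨(hLW x hx).2, (hLW x hx).1.1⟩, (hLW x hx).1.2⟩) fun w hw => hXW w ⟨⟨hw.1.2, hw.2⟩, hw.1.1⟩
    have eqv : ∀ {A A' : Finset G}, A ⊆ C → A' ⊆ C → prodSet A = prodSet A' → A = A' := by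
      intro A A' hA hA' he
      by_contra hne
      have hsub : symmDiff A A' ⊆ C := fun x hx =>
        (Finset.mem_symmDiff.1 hx).elim (fun h => hA h.1) fun h => hA' h.1
      refine small_ne_one S (hCc.mono hsub) ?_ (by have := Finset.card_le_card hsub; omega) ?_
      · rw [Finset.nonempty_iff_ne_empty]
        exact fun h0 => hne (symmDiff_eq_bot.1 h0)
      · rw [prodSet_symmDiff hCc.2 (hCc.sq S) (Finset.coe_subset.2 hA) (Finset.coe_subset.2 hA'), he,
          prodSet_sq hCc.2 (hCc.sq S) (Finset.coe_subset.2 hA')]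
    have i₁ : A₁ ⊆ C := h₁
    have i₂ : A₂ ⊆ C := h₂.trans (by simp [hCdef, Finset.insert_subset_iff])
    have i₃ : A₃ ⊆ C := h₃.trans (by simp [hCdef, Finset.insert_subset_iff])
    obtain rfl := eqv i₂ i₁ (e₂.symm.trans e₁)
    obtain rfl := eqv i₃ i₁ (e₃.symm.trans e₁)
    rw [e₁, show A₃ = C from Finset.Subset.antisymm i₁ (by
      simp [hCdef, Finset.insert_subset_iff, m₁, m₂, m₃])]
  set Q := C ∪ L with hQdef
  have hQ : IsOctad D Q := ⟨hcl, by rw [hQdef, Finset.card_union_of_disjoint hdisj, hC3, hL5], by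
    rw [hQdef, prodSet_union hcl.2 (Finset.coe_subset.2 Finset.subset_union_left)
      (Finset.coe_subset.2 Finset.subset_union_right) hdisj, hL1, prodSet_sq hCc.2 (hCc.sq S) subset_rfl]⟩
  have hTQ : T ⊆ Q := by simp [hTdef, hQdef, hCdef, hLdef, Finset.insert_subset_iff]
  have hperp : ∀ z ∈ D, (∀ t ∈ T, Commute z t) → ∀ q ∈ Q, Commute z q := by
    intro z hz hzT q hq
    rcases Finset.mem_union.1 hq with hq | hq
    · exact hzT q (hCT hq)
    by_cases hzC : z ∈ C
    · exact hcl.2 z (Finset.mem_union_left _ hzC) q (Finset.mem_union_right _ hq)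
    simp only [hCdef, Finset.mem_insert, Finset.mem_singleton, not_or] at hzC
    have zW : z ∈ W := mem_triple_link hT maT mbT mcT hz hzT hzC.1 hzC.2.1 hzC.2.2
    obtain ⟨wz, hwz⟩ := hpt z zW
    obtain ⟨w, ⟨hqW, hw⟩, sw⟩ := lineP q hq
    exact (hfacts z q zW hqW).2.1 ((U6.IsPt.commute_iff hF hwz hw).2 (U6.perp_span_right hF sw
      ((U6.IsPt.commute_iff hF hwz hu).1 ((hfacts z d zW md).2.2 (hzT d mdT)))
      ((U6.IsPt.commute_iff hF hwz hv).1 ((hfacts z e zW me).2.2 (hzT e meT)))))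
  refine ⟨Q, hTQ, hQ, hperp, F, iF, iF', fun z w => z ∈ around D Q ∧ P z w, u, v, hF, hu.1, hv.1, huv, hli,
    ?_, ?_, ?_, ?_, ?_⟩
  · intro z hz hzQ hzT
    simp only [hQdef, hCdef, Finset.mem_union, Finset.mem_insert, Finset.mem_singleton, not_or] at hzQ
    have zW : z ∈ W := mem_triple_link hT maT mbT mcT hz hzT hzQ.1.1 hzQ.1.2.1 hzQ.1.2.2
    obtain ⟨w, hw⟩ := hpt z zW
    refine ⟨w, ⟨hz, ?_, hperp z hz hzT⟩, zW, hw⟩
    simp only [hQdef, hCdef, Finset.mem_union, Finset.mem_insert, Finset.mem_singleton, not_or]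
    exact hzQ
  · rintro z w ⟨hzR, hzW, hw⟩
    exact ⟨hzR, hw.1, (U6.IsPt.commute_iff hF hw hu).1 ((hfacts z d hzW md).2.2 (hzR.2.2 d (hTQ mdT))),
      (U6.IsPt.commute_iff hF hw hv).1 ((hfacts z e hzW me).2.2 (hzR.2.2 e (hTQ meT))),
      fun sw => hzR.2.1 (Finset.mem_union_right _ (onLine ⟨hzW, hw⟩ sw))⟩
  · rintro z z' w w' ⟨-, hzW, hw⟩ ⟨-, hzW', hw'⟩
    exact ⟨fun hh => (U6.IsPt.commute_iff hF hw hw').1 ((hfacts z z' hzW hzW').2.2 hh),
      fun hh => (hfacts z z' hzW hzW').2.1 ((U6.IsPt.commute_iff hF hw hw').2 hh)⟩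
  · rintro z z' w w' ⟨hzR, hzW, hw⟩ ⟨hzR', hzW', hw'⟩
    have cq : ∀ {q : G}, Commute z q → Commute z' q → Commute (z' * z * z') q := fun h h' =>
      (h'.mul_left h).mul_left h'
    have hD : z' * z * z' ∈ D := S.tt.cj_mem hzR'.1 hzR.1
    have back : ∀ q, Commute z' q → z' * z * z' = q → z = q := by
      intro q hq hh
      have : z = z' * (z' * z * z') * z' := by
        simp only [mul_assoc, cancel₂ (S.sqd hzR'.1), S.sqd hzR'.1, mul_one]
      rw [this, hh, hq.eq, mul_assoc, S.sqd hzR'.1, mul_one]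
    have hR : z' * z * z' ∈ around D Q := ⟨hD, fun hh => hzR.2.1 (back _ (hzR'.2.2 _ hh) rfl ▸ hh),
      fun q hq => cq (hzR.2.2 q hq) (hzR'.2.2 q hq)⟩
    have hconjW : z' * z * z' ∈ W := mem_triple_link hT maT mbT mcT hD (fun t ht => hR.2.2 t (hTQ ht))
      (fun hh => hR.2.1 (hh ▸ hTQ maT)) (fun hh => hR.2.1 (hh ▸ hTQ mbT)) (fun hh => hR.2.1 (hh ▸ hTQ mcT))
    refine ⟨hR, hconjW, ?_⟩
    obtain ⟨-, M, hM, hMv⟩ := hw'
    have hk := U6.IsPt.conj hF hw M
    have hinv : (ψ ⟨z', Subgroup.subset_closure hzW'⟩)⁻¹ = ψ ⟨z', Subgroup.subset_closure hzW'⟩ := by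
      rw [← map_inv]
      exact congrArg ψ (Subtype.ext (S.tt.inv_eq hzR'.1))
    rw [hM, show psuMk M * ψ ⟨z, Subgroup.subset_closure hzW⟩ * (psuMk M)⁻¹ =
        ψ ⟨z' * z * z', Subgroup.subset_closure hconjW⟩ by
      rw [hMv, hinv, ← map_mul, ← map_mul]; rfl] at hk
    exact hk
  · intro w hw hwu hwv hns
    obtain ⟨y, hy⟩ := U6.exists_pt hF hw
    obtain ⟨z, hz, rfl⟩ := hsurj y w hy
    have hzC : z ∉ C := by
      simp only [hCdef, Finset.mem_insert, Finset.mem_singleton, not_or]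
      exact ⟨hz.1.1.2.1, hz.1.2.2.1, hz.2.2.1⟩
    have hzT : ∀ t ∈ T, Commute z t := by
      intro t ht
      simp only [hTdef, Finset.mem_insert, Finset.mem_singleton] at ht
      rcases ht with rfl | rfl | rfl | rfl | rfl
      exacts [hz.1.1.2.2.symm, hz.1.2.2.2.symm, hz.2.2.2.symm,
        (hfacts z t hz md).2.1 ((U6.IsPt.commute_iff hF hy hu).2 hwu),
        (hfacts z t hz me).2.1 ((U6.IsPt.commute_iff hF hy hv).2 hwv)]
    refine ⟨z, ⟨hz.1.1.1, fun hzQ => ?_, hperp z hz.1.1.1 hzT⟩, hz, hy⟩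
    rcases Finset.mem_union.1 hzQ with hh | hh
    · exact hzC hh
    · obtain ⟨w', ⟨_, hw'⟩, sw'⟩ := lineP z hh
      obtain ⟨r, -, hr⟩ := U6.IsPt.span_eq hF hw' hy
      exact hns (hr ▸ Submodule.smul_mem _ r sw')

/-- At most six commuting members do not have product one. -/
theorem six_ne_one {A : Finset G} (hA : IsClique D A) (h1 : A.Nonempty) (h6 : A.card ≤ 6) : prodSet A ≠ 1 := by
  intro he
  by_cases h4 : A.card ≤ 4
  · exact small_ne_one S hA h1 h4 he
  obtain ⟨T, hTA, hT5⟩ := Finset.exists_subset_card_eq (show 5 ≤ A.card by omega)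
  obtain ⟨Q, hTQ, hQ, hperp, -⟩ := exists_octad_model S (hA.mono hTA) hT5
  have hU : IsClique D (A ∪ Q) := by
    refine ⟨by rw [Finset.coe_union]; exact Set.union_subset hA.1 hQ.1.1, fun x hx y hy => ?_⟩
    have key : ∀ {x y : G}, x ∈ A → y ∈ Q → Commute x y :=
      fun {x y} hx hy => hperp x (hA.1 hx) (fun t ht => hA.2 x hx t (hTA ht)) y hy
    rcases Finset.mem_union.1 hx with hx | hx <;> rcases Finset.mem_union.1 hy with hy | hy
    exacts [hA.2 x hx y hy, key hx hy, (key hy hx).symm, hQ.1.2 x hx y hy]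
  have hsub : symmDiff A Q ⊆ A ∪ Q := fun x hx =>
    (Finset.mem_symmDiff.1 hx).elim (fun h => Finset.mem_union_left _ h.1) fun h => Finset.mem_union_right _ h.1
  have hcard : (symmDiff A Q).card + 2 * (A ∩ Q).card = A.card + 8 := by
    rw [symmDiff_def, Finset.sup_eq_union, Finset.card_union_of_disjoint disjoint_sdiff_sdiff, ← hQ.2.1]
    have h2 := Finset.card_sdiff_add_card_inter A Q
    have h3 := Finset.card_sdiff_add_card_inter Q A
    rw [Finset.inter_comm Q] at h3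
    omega
  have hi : 5 ≤ (A ∩ Q).card := hT5 ▸ Finset.card_le_card (Finset.subset_inter hTA hTQ)
  have hi' : (A ∩ Q).card ≤ A.card := Finset.card_le_card Finset.inter_subset_left
  refine small_ne_one S (hU.mono hsub) (Finset.card_pos.1 (by omega)) (by omega) ?_
  rw [prodSet_symmDiff hU.2 (hU.sq S) (by simp) (by simp), he, hQ.2.2, one_mul]

/-- Octads among commuting members sharing five members agree. -/
theorem octad_unique {Q Q' T : Finset G} (hQ : IsOctad D Q) (hQ' : IsOctad D Q') (hU : IsClique D (Q ∪ Q'))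
    (h5 : T.card = 5) (h : T ⊆ Q) (h' : T ⊆ Q') : Q = Q' := by
  by_contra hne
  have hsub : symmDiff Q Q' ⊆ Q ∪ Q' := fun x hx =>
    (Finset.mem_symmDiff.1 hx).elim (fun h => Finset.mem_union_left _ h.1) fun h => Finset.mem_union_right _ h.1
  have hcard : (symmDiff Q Q').card + 2 * (Q ∩ Q').card = 16 := by
    rw [symmDiff_def, Finset.sup_eq_union, Finset.card_union_of_disjoint disjoint_sdiff_sdiff]
    have h2 := Finset.card_sdiff_add_card_inter Q Q'
    have h3 := Finset.card_sdiff_add_card_inter Q' Q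
    rw [Finset.inter_comm Q'] at h3
    have := hQ.2.1
    have := hQ'.2.1
    omega
  have hi : 5 ≤ (Q ∩ Q').card := h5 ▸ Finset.card_le_card (Finset.subset_inter h h')
  refine six_ne_one S (hU.mono hsub) ?_ (by omega) ?_
  · rw [Finset.nonempty_iff_ne_empty]
    exact fun h0 => hne (symmDiff_eq_bot.1 h0)
  · rw [prodSet_symmDiff hU.2 (hU.sq S) (by simp) (by simp), hQ.2.2, hQ'.2.2, one_mul]

/-- Pairwise commuting members with product one are even in number. -/
theorem even_of_prod {A : Finset G} (hA : IsClique D A) (he : prodSet A = 1) : Even A.card := by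
  induction hn : A.card using Nat.strong_induction_on generalizing A with
  | h n ih =>
    subst hn
    by_cases h6 : A.card ≤ 6
    · rcases A.eq_empty_or_nonempty with rfl | h1
      · simp
      · exact absurd he (six_ne_one S hA h1 h6)
    obtain ⟨T, hTA, hT5⟩ := Finset.exists_subset_card_eq (show 5 ≤ A.card by omega)
    obtain ⟨Q, hTQ, hQ, hperp, -⟩ := exists_octad_model S (hA.mono hTA) hT5
    have hU : IsClique D (A ∪ Q) := by
      refine ⟨by rw [Finset.coe_union]; exact Set.union_subset hA.1 hQ.1.1, fun x hx y hy => ?_⟩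
      have key : ∀ {x y : G}, x ∈ A → y ∈ Q → Commute x y :=
        fun {x y} hx hy => hperp x (hA.1 hx) (fun t ht => hA.2 x hx t (hTA ht)) y hy
      rcases Finset.mem_union.1 hx with hx | hx <;> rcases Finset.mem_union.1 hy with hy | hy
      exacts [hA.2 x hx y hy, key hx hy, (key hy hx).symm, hQ.1.2 x hx y hy]
    have hsub : symmDiff A Q ⊆ A ∪ Q := fun x hx =>
      (Finset.mem_symmDiff.1 hx).elim (fun h => Finset.mem_union_left _ h.1) fun h => Finset.mem_union_right _ h.1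
    have hcard : (symmDiff A Q).card + 2 * (A ∩ Q).card = A.card + 8 := by
      rw [symmDiff_def, Finset.sup_eq_union, Finset.card_union_of_disjoint disjoint_sdiff_sdiff, ← hQ.2.1]
      have h2 := Finset.card_sdiff_add_card_inter A Q
      have h3 := Finset.card_sdiff_add_card_inter Q A
      rw [Finset.inter_comm Q] at h3
      omega
    have hi : 5 ≤ (A ∩ Q).card := hT5 ▸ Finset.card_le_card (Finset.subset_inter hTA hTQ)
    have h2 := ih _ (by omega) (hU.mono hsub)
      (by rw [prodSet_symmDiff hU.2 (hU.sq S) (by simp) (by simp), he, hQ.2.2, one_mul]) rfl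
    rw [Nat.even_iff] at h2 ⊢
    omega

omit [DecidableEq G] in
/-- A commuting set of twenty-four members contains what commutes with it. -/
theorem mem_base {J : Finset G} (hJ : IsClique D J) (h24 : J.card = 24) {z : G} (hz : z ∈ D)
    (h : ∀ j ∈ J, Commute z j) : z ∈ J := by
  classical
  by_contra hzJ
  have := width_le S (X := ((insert z J : Finset G) : Set G))
    (by rw [Finset.coe_insert]; exact Set.insert_subset hz hJ.1) (by
    simp only [Finset.coe_insert, Set.mem_insert_iff, Finset.mem_coe]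
    rintro x (rfl | hx) y (rfl | hy)
    exacts [Commute.refl _, h y hy, (h x hx).symm, hJ.2 x hx y hy])
  rw [Set.ncard_coe_finset, Finset.card_insert_of_notMem hzJ, h24] at this
  omega

/-- The octads in a base form a Steiner system. -/
theorem steiner {J : Finset G} (hJ : IsClique D J) (h24 : J.card = 24) :
    SteinerOctad.Is24 J ((J.powersetCard 8).filter fun Q => prodSet Q = 1) := by
  refine ⟨h24, fun B hB => (Finset.mem_powersetCard.1 (Finset.mem_filter.1 hB).1).1,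
    fun B hB => (Finset.mem_powersetCard.1 (Finset.mem_filter.1 hB).1).2, fun T hT h5 => ?_,
    fun B hB B' hB' T h5 h h' => ?_⟩
  · obtain ⟨Q, hTQ, hQ, hperp, -⟩ := exists_octad_model S (hJ.mono hT) h5
    refine ⟨Q, Finset.mem_filter.2 ⟨Finset.mem_powersetCard.2 ⟨fun q hq => ?_, hQ.2.1⟩, hQ.2.2⟩, hTQ⟩
    exact mem_base S hJ h24 (hQ.1.1 hq) fun j hj =>
      (hperp j (hJ.1 hj) (fun t ht => hJ.2 j hj t (hT ht)) q hq).symm
  · rw [Finset.mem_filter, Finset.mem_powersetCard] at hB hB'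
    exact octad_unique S ⟨hJ.mono hB.1.1, hB.1.2, hB.2⟩ ⟨hJ.mono hB'.1.1, hB'.1.2, hB'.2⟩
      (hJ.mono (Finset.union_subset hB.1.1 hB'.1.1)) h5 h h'

/-- The model of the members around an octad. -/
theorem around_model {Q : Finset G} (hQ : IsOctad D Q) :
    ∃ (F : Type) (_ : Field F) (_ : Fintype F) (Pt : G → (Fin 6 → F) → Prop) (u v : Fin 6 → F),
      (∀ z ∈ around D Q, ∃ w, Pt z w) ∧ ∃ T, LineModel D Q T F Pt u v := by
  obtain ⟨T, hTQ, hT5⟩ := Finset.exists_subset_card_eq (show 5 ≤ Q.card by rw [hQ.2.1]; norm_num)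
  obtain ⟨Q', hTQ', hQ', hperp, F, iF, iF', Pt, u, v, hM⟩ := exists_octad_model S (hQ.1.mono hTQ) hT5
  have hU : IsClique D (Q ∪ Q') := by
    refine ⟨by rw [Finset.coe_union]; exact Set.union_subset hQ.1.1 hQ'.1.1, fun x hx y hy => ?_⟩
    have key : ∀ {x y : G}, x ∈ Q → y ∈ Q' → Commute x y :=
      fun {x y} hx hy => hperp x (hQ.1.1 hx) (fun t ht => hQ.1.2 x hx t (hTQ ht)) y hy
    rcases Finset.mem_union.1 hx with hx | hx <;> rcases Finset.mem_union.1 hy with hy | hy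
    exacts [hQ.1.2 x hx y hy, key hx hy, (key hy hx).symm, hQ'.1.2 x hx y hy]
  obtain rfl := octad_unique S hQ hQ' hU hT5 hTQ hTQ'
  exact ⟨F, iF, iF', Pt, u, v, fun z hz => hM.exists_pt z hz.1 hz.2.1 fun t ht => hz.2.2 t (hTQ ht), T, hM⟩

/-- Commuting is transitive among the members around an octad. -/
theorem around_trans {Q : Finset G} (hQ : IsOctad D Q) {x y z : G} (hx : x ∈ around D Q) (hy : y ∈ around D Q)
    (hz : z ∈ around D Q) (hxy : Commute x y) (hyz : Commute y z) : Commute x z := by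
  obtain ⟨F, iF, iF', Pt, u, v, hex, T, M⟩ := around_model S hQ
  obtain ⟨wx, px⟩ := hex x hx
  obtain ⟨wy, py⟩ := hex y hy
  obtain ⟨wz, pz⟩ := hex z hz
  obtain ⟨-, ix, xu, xv, -⟩ := M.pt _ _ px
  obtain ⟨-, iy, yu, yv, hyL⟩ := M.pt _ _ py
  obtain ⟨-, iz, zu, zv, -⟩ := M.pt _ _ pz
  have hF := M.card
  have P : IsPlane u v wy := ⟨M.hu.2, M.hv.2, iy.2, M.huv, (U6.comm_zero hF).1 yu, (U6.comm_zero hF).1 yv, M.hu.1,
    M.hli, hyL⟩
  obtain ⟨p, q, r, hr⟩ := P.mem_of_perp hF zu zv ((M.comm z y wz wy pz py).1 hyz.symm)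
  refine ((M.comm z x wz wx pz px).2 ?_).symm
  rw [hr, U6.add_left hF, U6.add_left hF, U6.smul_left hF, U6.smul_left hF, U6.smul_left hF,
    (U6.comm_zero hF).1 xu, (U6.comm_zero hF).1 xv, (M.comm y x wy wx py px).1 hxy.symm,
    mul_zero, mul_zero, mul_zero, add_zero, add_zero]

/-- Of three pairwise non-commuting members around an octad one commutes with the third of the other two. -/
theorem around_third {Q : Finset G} (hQ : IsOctad D Q) {x y z : G} (hx : x ∈ around D Q) (hy : y ∈ around D Q)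
    (hz : z ∈ around D Q) (hxy : ¬ Commute x y) (hzx : ¬ Commute z x) (hzy : ¬ Commute z y) :
    Commute z (y * x * y) := by
  obtain ⟨F, iF, iF', Pt, u, v, hex, T, M⟩ := around_model S hQ
  obtain ⟨wx, px⟩ := hex x hx
  obtain ⟨wy, py⟩ := hex y hy
  obtain ⟨wz, pz⟩ := hex z hz
  obtain ⟨-, ix, xu, xv, hxL⟩ := M.pt _ _ px
  obtain ⟨-, iy, yu, yv, -⟩ := M.pt _ _ py
  obtain ⟨-, iz, zu, zv, -⟩ := M.pt _ _ pz
  have hF := M.card
  have := U6.charTwo hF
  refine (M.comm _ _ _ _ pz (M.conj _ _ _ _ px py)).2 ?_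
  have h0 : Cfsg.hermForm 6 F 2 wx wy ≠ 0 := fun h => hxy ((M.comm x y wx wy px py).2 h)
  have p0 : Cfsg.hermForm 6 F 2 wz wx ≠ 0 := fun h => hzx ((M.comm z x wz wx pz px).2 h)
  have q0 : Cfsg.hermForm 6 F 2 wz wy ≠ 0 := fun h => hzy ((M.comm z y wz wy pz py).2 h)
  set η := Cfsg.hermForm 6 F 2 wx wy with hη
  set p := Cfsg.hermForm 6 F 2 wz wx with hp
  set q := Cfsg.hermForm 6 F 2 wz wy with hq
  have h3 := U6.cube_eq_one hF h0
  have hyx : Cfsg.hermForm 6 F 2 wy wx = η ^ 2 := U6.conj_form hF wx wy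
  have hyz : Cfsg.hermForm 6 F 2 wy wz = q ^ 2 := U6.conj_form hF wz wy
  have hxz : Cfsg.hermForm 6 F 2 wx wz = p ^ 2 := U6.conj_form hF wz wx
  have P : IsPlane u v wx := ⟨M.hu.2, M.hv.2, ix.2, M.huv, (U6.comm_zero hF).1 xu, (U6.comm_zero hF).1 xv, M.hu.1,
    M.hli, hxL⟩
  have hnu : ∀ r : F, Cfsg.hermForm 6 F 2 (wz + r • wy) u = 0 := fun r => by
    rw [U6.add_left hF, U6.smul_left hF, zu, yu, mul_zero, add_zero]
  have hnv : ∀ r : F, Cfsg.hermForm 6 F 2 (wz + r • wy) v = 0 := fun r => by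
    rw [U6.add_left hF, U6.smul_left hF, zv, yv, mul_zero, add_zero]
  obtain ⟨s, t, r, hr⟩ := P.mem_of_perp hF (hnu (p * η)) (hnv (p * η)) (by
    rw [U6.add_left hF, U6.smul_left hF, hyx]
    linear_combination p * h3 + CharTwo.add_self_eq_zero p)
  have hr' : wz = s • u + t • v + r • wx + (p * η) • wy := by
    rw [← hr, add_assoc, U6.vadd_self hF, add_zero]
  have er : q = r * η := by
    rw [hq, hr', U6.add_left hF, U6.add_left hF, U6.add_left hF, U6.smul_left hF, U6.smul_left hF, U6.smul_left hF,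
      U6.smul_left hF, (U6.comm_zero hF).1 yu, (U6.comm_zero hF).1 yv, iy.2]
    simp only [mul_zero, add_zero, zero_add, hη]
  have eiso : r * p ^ 2 + p * η * q ^ 2 = 0 := by
    have h := iz.2
    conv_lhs at h => arg 4; rw [hr']
    rw [U6.add_left hF, U6.add_left hF, U6.add_left hF, U6.smul_left hF, U6.smul_left hF, U6.smul_left hF,
      U6.smul_left hF, (U6.comm_zero hF).1 zu, (U6.comm_zero hF).1 zv, hxz, hyz] at h
    simpa using h
  rw [U6.add_right hF, U6.smul_right hF, ← hp, ← hq]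
  have hm : p * q * (p + η ^ 2 * q) = 0 := by
    linear_combination η * eiso + p ^ 2 * er
  exact (mul_eq_zero.1 hm).resolve_left (mul_ne_zero p0 q0)

/-- Some member around an octad of a base lies outside the base. -/
theorem exists_off {J Q : Finset G} (hJ : IsClique D J) (h24 : J.card = 24) (hQJ : Q ⊆ J) (hQ : IsOctad D Q) :
    ∃ w ∈ around D Q, w ∉ J := by
  obtain ⟨F, iF, iF', Pt, u, v, hex, T, M⟩ := around_model S hQ
  obtain ⟨j, hj, hjQ⟩ : ∃ j ∈ J, j ∉ Q := by
    by_contra h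
    push Not at h
    have := Finset.card_le_card (show J ⊆ Q from h)
    rw [h24, hQ.2.1] at this
    omega
  obtain ⟨wj, pj'⟩ := hex j ⟨hJ.1 hj, hjQ, fun q hq => hJ.2 j hj q (hQJ hq)⟩
  obtain ⟨-, ij, ju, jv, jL⟩ := M.pt _ _ pj'
  have hF := M.card
  obtain ⟨y, hy, py, hy1⟩ := U6.exists_iso_pairing hF ![u, v] ij.2 (fun i => by fin_cases i <;> assumption)
    (by rwa [Matrix.range_cons, Matrix.range_cons, Matrix.range_empty, Set.union_empty, Set.singleton_union])
  have hyu := py 0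
  have hyv := py 1
  simp only [Matrix.cons_val_zero, Matrix.cons_val_one] at hyu hyv
  have hyL : y ∉ Submodule.span F {u, v} := fun h =>
    one_ne_zero (hy1.symm.trans ((U6.comm_zero hF).1 (U6.perp_span_right hF h ju jv)))
  obtain ⟨w, pw⟩ := M.exists_mem y hy hyu hyv hyL
  refine ⟨w, (M.pt _ _ pw).1, fun hwJ => ?_⟩
  exact one_ne_zero (hy1.symm.trans ((M.comm _ _ _ _ pw pj').1 (hJ.2 w hwJ j hj)))

end CfsgLib.M24
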