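import Mathlib
import Cfsg.Prelude.Def_SporadicB
import Cfsg.Prelude.Def_Local
import Cfsg.Agent.Lib.Cores.Components
import Cfsg.Agent.Lib.PGroup.Basic
import Cfsg.Agent.Lib.ThreeTransp.Affine54

/-!
3-transposition groups `G` with `F*(G) = O₂(G)` and `G/O₂(G)` of order twice a power of 3.
-/

set_option linter.style.haveILetI false
set_option linter.unusedSectionVars false

namespace CfsgLib.ThreeTransp.RadicalFiftyFour

open Subgroup Cfsg

/-! ### Groups of order `2 · 3ᵏ` generated by involutions -/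

section Abstract

variable {X : Type*} [Group X] [Finite X]

/-- The setting. -/
structure Inv23 (X : Type*) [Group X] (k : ℕ) : Prop where
  card : Nat.card X = 2 * 3 ^ k
  gen : closure {i : X | i * i = 1 ∧ i ≠ 1} = ⊤
  cube : ∀ i j : X, i * i = 1 → i ≠ 1 → j * j = 1 → j ≠ 1 → (i * j) ^ 3 = 1

namespace Inv23

variable {k : ℕ} (h : Inv23 X k)

include h

theorem exists_inv : ∃ d : X, d * d = 1 ∧ d ≠ 1 := by
  haveI : Fact (Nat.Prime 2) := ⟨Nat.prime_two⟩
  obtain ⟨d, hd⟩ := exists_prime_orderOf_dvd_card' (G := X) 2 ⟨_, h.card⟩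
  exact ⟨d, by rw [← pow_two, ← hd, pow_orderOf_eq_one], fun e => by rw [e, orderOf_one] at hd; omega⟩

theorem conj_of_inv {d i : X} (hd : d * d = 1) (hd1 : d ≠ 1) (hi : i * i = 1) (hi1 : i ≠ 1) :
    ∃ x : X, x * d * x⁻¹ = i := by
  haveI : Fact (Nat.Prime 3) := ⟨Nat.prime_three⟩
  by_cases hdi : d = i
  · exact ⟨1, by simp [hdi]⟩
  have h3 := h.cube d i hd hd1 hi hi1
  refine ⟨d * i, ?_⟩
  rw [Affine54.braid_of_cube hd hi h3, mul_inv_rev, show i * d * i * (i⁻¹ * d⁻¹) = i by group]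

theorem exists_index_two : ∃ P : Subgroup X, P.Normal ∧ IsPGroup 3 P ∧ P.index = 2 := by
  haveI : Fact (Nat.Prime 3) := ⟨Nat.prime_three⟩
  obtain ⟨P⟩ : Nonempty (Sylow 3 X) := inferInstance
  have hP : Nat.card (P : Subgroup X) = 3 ^ k := by
    rw [P.card_eq_multiplicity, h.card, Nat.factorization_mul (by norm_num) (by positivity),
      Nat.Prime.factorization_pow Nat.prime_three]
    simp [Nat.Prime.factorization Nat.prime_two]
  have hidx : (P : Subgroup X).index = 2 := by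
    have := (P : Subgroup X).card_mul_index
    rw [hP, h.card, mul_comm 2] at this
    exact mul_left_cancel₀ (by positivity) this
  exact ⟨P, normal_of_index_eq_two hidx, P.2, hidx⟩

theorem not_mem {P : Subgroup X} (hP : IsPGroup 3 P) {i : X} (hi : i * i = 1) (hi1 : i ≠ 1) : i ∉ P := by
  intro hiP
  haveI : Fact (Nat.Prime 3) := ⟨Nat.prime_three⟩
  obtain ⟨n, hn⟩ := IsPGroup.iff_card.1 hP
  have h1 : orderOf i ∣ 3 ^ n := hn ▸ Subgroup.orderOf_dvd_natCard _ hiP
  have h2 : orderOf i ∣ 2 := orderOf_dvd_of_pow_eq_one (by rw [pow_two, hi])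
  rcases (Nat.dvd_prime Nat.prime_two).1 h2 with e | e
  · exact hi1 (orderOf_eq_one_iff.1 e)
  · rw [e] at h1
    have := Nat.prime_two.dvd_of_dvd_pow h1
    omega

/-- An element inverted by the involution `d`, with respect to the index-2 subgroup. -/
theorem inverted_facts {P : Subgroup X} (hP : IsPGroup 3 P) (hidx : P.index = 2) {d x : X}
    (hd : d * d = 1) (hd1 : d ≠ 1) :
    (x ∈ P ∧ d * x * d = x⁻¹) ↔ (d * x * (d * x) = 1 ∧ d * x ≠ 1) := by
  have hdP := h.not_mem hP hd hd1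
  constructor
  · rintro ⟨hx, hxd⟩
    refine ⟨?_, fun e => hdP ?_⟩
    · rw [show d * x * (d * x) = d * x * d * x by group, hxd, inv_mul_cancel]
    · rw [eq_inv_of_mul_eq_one_left e]; exact inv_mem hx
  · rintro ⟨h1, h2⟩
    refine ⟨?_, mul_eq_one_iff_eq_inv.1 (by rw [← h1]; group)⟩
    have hi := h.not_mem hP h1 h2
    have := (Subgroup.mul_mem_iff_of_index_two hidx (a := d) (b := d * x)).2 ⟨fun e => absurd e hdP, fun e => absurd e hi⟩
    rwa [← mul_assoc, hd, one_mul] at this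

theorem inverted_cube {P : Subgroup X} (hP : IsPGroup 3 P) (hidx : P.index = 2) {d x : X}
    (hd : d * d = 1) (hd1 : d ≠ 1) (hx : x ∈ P) (hxd : d * x * d = x⁻¹) : x ^ 3 = 1 := by
  obtain ⟨h1, h2⟩ := (h.inverted_facts hP hidx hd hd1).1 ⟨hx, hxd⟩
  have := h.cube d (d * x) hd hd1 h1 h2
  rwa [← mul_assoc, hd, one_mul] at this

theorem closure_inverted {P : Subgroup X} (hP : IsPGroup 3 P) (hidx : P.index = 2) [P.Normal] {d : X}
    (hd : d * d = 1) (hd1 : d ≠ 1) {H : Subgroup X} (hdH : d ∈ H)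
    (hI : ∀ x ∈ P, d * x * d = x⁻¹ → x ∈ H) : H = ⊤ := by
  rw [eq_top_iff, ← h.gen, Subgroup.closure_le]
  rintro i ⟨hi, hi1⟩
  obtain ⟨h1, h2⟩ := (h.inverted_facts hP hidx hd hd1 (x := d * i)).2 (by
    rw [← mul_assoc d d i, hd, one_mul]; exact ⟨hi, hi1⟩)
  have := mul_mem hdH (hI _ h1 h2)
  rwa [← mul_assoc, hd, one_mul] at this

/-- Generation by three involutions. -/
theorem three_generators
    (no3 : ∀ d : X, d * d = 1 → d ≠ 1 → ∀ x y : X, d * x * d = x⁻¹ → d * y * d = y⁻¹ →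
      x ^ 3 = 1 → y ^ 3 = 1 → x * y = y * x → x ≠ 1 → y ∈ zpowers x)
    (cyc : ∀ a b : X, (∀ g, a * g = g * a) → (∀ g, b * g = g * b) → a ^ 3 = 1 → b ^ 3 = 1 → a ≠ 1 →
      b ∈ zpowers a) :
    ∃ d e f : X, (d * d = 1 ∧ d ≠ 1) ∧ (e * e = 1 ∧ e ≠ 1) ∧ (f * f = 1 ∧ f ≠ 1) ∧
      closure {d, e, f} = ⊤ := by
  obtain ⟨P, hPn, hP, hidx⟩ := h.exists_index_two
  haveI := hPn
  obtain ⟨d₀, hd₀, hd₀1⟩ := h.exists_inv
  -- the cyclic case
  have hsmall : ∀ d : X, d * d = 1 → d ≠ 1 → ∀ x ∈ P, d * x * d = x⁻¹ →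
      (∀ y ∈ P, d * y * d = y⁻¹ → y ∈ zpowers x) →
      ∃ d e f : X, (d * d = 1 ∧ d ≠ 1) ∧ (e * e = 1 ∧ e ≠ 1) ∧ (f * f = 1 ∧ f ≠ 1) ∧
        closure {d, e, f} = ⊤ := by
    intro d hd hd1 x hx hxd hall
    obtain ⟨h1, h2⟩ := (h.inverted_facts hP hidx hd hd1).1 ⟨hx, hxd⟩
    refine ⟨d, d * x, d * x, ⟨hd, hd1⟩, ⟨h1, h2⟩, ⟨h1, h2⟩,
      h.closure_inverted hP hidx hd hd1 (subset_closure (by simp)) fun y hy hyd => ?_⟩
    have hxH : x ∈ closure ({d, d * x, d * x} : Set X) := by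
      have : d * (d * x) ∈ closure ({d, d * x, d * x} : Set X) :=
        mul_mem (subset_closure (by simp)) (subset_closure (by simp))
      rwa [← mul_assoc, hd, one_mul] at this
    exact zpowers_le.2 hxH (hall y hy hyd)
  by_cases hcen : ∃ d : X, (d * d = 1 ∧ d ≠ 1) ∧ ∃ x ∈ P, d * x * d = x⁻¹ ∧ x ≠ 1 ∧ ∀ y ∈ P, x * y = y * x
  · obtain ⟨d, ⟨hd, hd1⟩, x, hx, hxd, hx1, hxc⟩ := hcen
    exact hsmall d hd hd1 x hx hxd fun y hy hyd => no3 d hd hd1 x y hxd hyd
      (h.inverted_cube hP hidx hd hd1 hx hxd) (h.inverted_cube hP hidx hd hd1 hy hyd) (hxc y hy) hx1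
  push Not at hcen
  -- the centre of `P` is central
  have hsplit : ∀ g : X, ∀ d : X, d * d = 1 → d ≠ 1 → g ∈ P ∨ d * g ∈ P := fun g d hd hd1 => by
    by_cases hg : g ∈ P
    · exact .inl hg
    · exact .inr ((Subgroup.mul_mem_iff_of_index_two hidx).2
        ⟨fun e => absurd e (h.not_mem hP hd hd1), fun e => absurd e hg⟩)
  have hZ : ∀ z ∈ P, (∀ y ∈ P, z * y = y * z) → ∀ g : X, z * g = g * z := by
    intro z hz hzc
    have hfix : ∀ d : X, d * d = 1 → d ≠ 1 → d * z * d = z := by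
      intro d hd hd1
      have hdi := inv_eq_of_mul_eq_one_right hd
      have hdz : d * z * d ∈ P := by
        have := hPn.conj_mem z hz d
        rwa [hdi] at this
      have hdzc : ∀ y ∈ P, d * z * d * y = y * (d * z * d) := fun y hy => by
        have hy' : d * y * d ∈ P := by
          have := hPn.conj_mem y hy d
          rwa [hdi] at this
        calc d * z * d * y = d * (z * (d * y * d)) * d := by
              rw [show d * (z * (d * y * d)) * d = d * z * d * y * (d * d) by group, hd, mul_one]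
          _ = d * ((d * y * d) * z) * d := by rw [hzc _ hy']
          _ = y * (d * z * d) := by
              rw [show d * ((d * y * d) * z) * d = (d * d) * y * (d * z * d) by group, hd, one_mul]
      by_contra hne
      obtain ⟨y, hy, hyne⟩ := hcen d ⟨hd, hd1⟩ (z⁻¹ * (d * z * d)) (mul_mem (inv_mem hz) hdz) (by
          rw [mul_inv_rev, inv_inv,
            show d * (z⁻¹ * (d * z * d)) * d = (d * z⁻¹ * d) * z * (d * d) by group, hd, mul_one,
            mul_inv_rev, mul_inv_rev, hdi, mul_assoc d z⁻¹ d])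
        (fun e => hne ((inv_mul_eq_one.1 e).symm))
      refine hyne ?_
      calc z⁻¹ * (d * z * d) * y = z⁻¹ * (y * (d * z * d)) := by rw [mul_assoc, hdzc y hy]
        _ = (z⁻¹ * y) * (d * z * d) := by group
        _ = (y * z⁻¹) * (d * z * d) := by rw [(Commute.inv_left (hzc y hy)).eq]
        _ = y * (z⁻¹ * (d * z * d)) := by group
    intro g
    rcases hsplit g d₀ hd₀ hd₀1 with hg | hg
    · exact hzc g hg
    · have e := hfix d₀ hd₀ hd₀1
      have hc : Commute z d₀ := by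
        show z * d₀ = d₀ * z
        calc z * d₀ = (d₀ * z * d₀) * d₀ := by rw [e]
          _ = d₀ * z * (d₀ * d₀) := by group
          _ = d₀ * z := by rw [hd₀, mul_one]
      have e2 := hc.mul_right (hzc _ hg : Commute z (d₀ * g))
      rwa [← mul_assoc, hd₀, one_mul] at e2
  by_cases hab : ∀ a ∈ P, ∀ b ∈ P, a * b = b * a
  · refine hsmall d₀ hd₀ hd₀1 1 (one_mem P) (by simp [hd₀]) fun y hy hyd => ?_
    by_cases hy1 : y = 1
    · rw [hy1]; exact one_mem _
    · obtain ⟨y', hy', hne⟩ := hcen d₀ ⟨hd₀, hd₀1⟩ y hy hyd hy1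
      exact absurd (hab y hy y' hy') hne
  -- an inverted element of the second centre
  obtain ⟨d, hd, hd1, x, hx, hxd, hxnc, hxc⟩ : ∃ d : X, d * d = 1 ∧ d ≠ 1 ∧ ∃ x ∈ P, d * x * d = x⁻¹ ∧
      (∃ y ∈ P, x * y ≠ y * x) ∧ ∀ y ∈ P, ∀ y' ∈ P, x * y * x⁻¹ * y⁻¹ * y' = y' * (x * y * x⁻¹ * y⁻¹) := by
    push Not at hab
    obtain ⟨a, ha, b, hb, hne⟩ := hab
    haveI : Fact (Nat.Prime 3) := ⟨Nat.prime_three⟩
    haveI : Nontrivial (P ⧸ center P) := by
      refine (QuotientGroup.nontrivial_iff).2 fun e => hne ?_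
      have : (⟨b, hb⟩ : P) ∈ center P := e ▸ mem_top _
      exact congrArg Subtype.val (mem_center_iff.1 this ⟨a, ha⟩)
    haveI := (hP.to_quotient (center P)).center_nontrivial
    obtain ⟨⟨wq, hwq⟩, hw1⟩ := exists_ne (1 : center (P ⧸ center P))
    obtain ⟨⟨w, hw⟩, rfl⟩ := QuotientGroup.mk'_surjective _ wq
    have hwnc : ∃ y ∈ P, w * y ≠ y * w := by
      by_contra! hall
      exact hw1 (Subtype.ext ((QuotientGroup.eq_one_iff _).2
        (mem_center_iff.2 fun y => Subtype.ext (hall y y.2).symm)))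
    have hwc : ∀ y ∈ P, ∀ y' ∈ P, w * y * w⁻¹ * y⁻¹ * y' = y' * (w * y * w⁻¹ * y⁻¹) := by
      intro y hy y' hy'
      have hq := mem_center_iff.1 hwq (QuotientGroup.mk' _ ⟨y, hy⟩)
      rw [← map_mul, ← map_mul, QuotientGroup.mk'_apply, QuotientGroup.mk'_apply] at hq
      have hq' := mem_center_iff.1 (QuotientGroup.eq.1 hq) ⟨w, hw⟩
      have hq2 := mem_center_iff.1 (QuotientGroup.eq.1 hq)
      have e : ∀ c : P, (c : X) * ((y * w)⁻¹ * (w * y)) = ((y * w)⁻¹ * (w * y)) * c :=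
        fun c => congrArg Subtype.val (hq2 c)
      have ec := hZ _ (mul_mem (inv_mem (mul_mem hy hw)) (mul_mem hw hy)) fun c hc => (e ⟨c, hc⟩).symm
      have : w * y * w⁻¹ * y⁻¹ = (y * w)⁻¹ * (w * y) := by
        calc w * y * w⁻¹ * y⁻¹ = (y * w) * ((y * w)⁻¹ * (w * y)) * (y * w)⁻¹ := by group
          _ = (y * w)⁻¹ * (w * y) := by rw [← ec (y * w), mul_inv_cancel_right]
      rw [this]
      exact ec y'
    by_contra! hno
    obtain ⟨y₀, hy₀, hy₀ne⟩ := hwnc
    refine hy₀ne ?_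
    have hfix : ∀ d : X, d * d = 1 → d ≠ 1 → Commute d w := by
      intro d hd hd1
      have hdi := inv_eq_of_mul_eq_one_right hd
      have hdw : d * w * d ∈ P := by
        have := hPn.conj_mem w hw d
        rwa [hdi] at this
      have hxd : d * (w⁻¹ * (d * w * d)) * d = (w⁻¹ * (d * w * d))⁻¹ := by
        rw [mul_inv_rev, inv_inv,
          show d * (w⁻¹ * (d * w * d)) * d = (d * w⁻¹ * d) * w * (d * d) by group, hd, mul_one,
          mul_inv_rev, mul_inv_rev, hdi, mul_assoc d w⁻¹ d]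
      by_cases hcx : ∀ y ∈ P, w⁻¹ * (d * w * d) * y = y * (w⁻¹ * (d * w * d))
      · by_cases e : w⁻¹ * (d * w * d) = 1
        · show d * w = w * d
          have e' := inv_mul_eq_one.1 e
          calc d * w = (d * w * d) * d := by rw [mul_assoc, hd, mul_one]
            _ = w * d := by rw [← e']
        · obtain ⟨y, hy, hne⟩ := hcen d ⟨hd, hd1⟩ _ (mul_mem (inv_mem hw) hdw) hxd e
          exact absurd (hcx y hy) hne
      · push Not at hcx
        obtain ⟨y1, hy1, hy1ne⟩ := hcx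
        obtain ⟨y, hy, y', hy', hne⟩ := hno d hd hd1 _ (mul_mem (inv_mem hw) hdw) hxd ⟨y1, hy1, hy1ne⟩
        refine absurd ?_ hne
        -- commutators with `d w d` are central
        have hc1 : ∀ a ∈ P, ∀ g, (w * a * w⁻¹ * a⁻¹) * g = g * (w * a * w⁻¹ * a⁻¹) := fun a ha =>
          hZ _ (mul_mem (mul_mem (mul_mem hw ha) (inv_mem hw)) (inv_mem ha)) (hwc a ha)
        obtain ⟨v, hv⟩ : ∃ v, v = d * w * d := ⟨_, rfl⟩
        rw [← hv] at hdw ⊢
        have hvi : d * v * d = w := by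
          rw [hv, show d * (d * w * d) * d = (d * d) * w * (d * d) by group, hd, one_mul, mul_one]
        have hd' : d * y * d ∈ P := by
          have := hPn.conj_mem y hy d
          rwa [hdi] at this
        have hcv : ∀ g, (v * y * v⁻¹ * y⁻¹) * g = g * (v * y * v⁻¹ * y⁻¹) := by
          intro g
          have e : v * y * v⁻¹ * y⁻¹ = d * (w * (d * y * d) * w⁻¹ * (d * y * d)⁻¹) * d := by
            rw [hv]; simp only [mul_inv_rev, hdi]; group
            simp [mul_assoc, hd]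
          rw [e, ← hc1 _ hd' d, mul_assoc _ d d, hd, mul_one]
          exact hc1 _ hd' g
        obtain ⟨c, hc⟩ : ∃ c, c = v * y * v⁻¹ * y⁻¹ := ⟨_, rfl⟩
        obtain ⟨c', hc'⟩ : ∃ c', c' = w * y * w⁻¹ * y⁻¹ := ⟨_, rfl⟩
        have e : w⁻¹ * v * y * (w⁻¹ * v)⁻¹ * y⁻¹ = c * c'⁻¹ := by
          calc w⁻¹ * v * y * (w⁻¹ * v)⁻¹ * y⁻¹ = w⁻¹ * (c * (y * w)) * y⁻¹ := by rw [hc]; group
            _ = w⁻¹ * ((y * w) * c) * y⁻¹ := by rw [hc, hcv]
            _ = w⁻¹ * y * w * (c * y⁻¹) := by group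
            _ = w⁻¹ * y * w * y⁻¹ * c := by rw [hc, hcv]; group
            _ = w⁻¹ * (c'⁻¹ * w) * c := by rw [hc']; group
            _ = c * c'⁻¹ := by
              rw [show c'⁻¹ * w = w * c'⁻¹ from ((show Commute c' w from hc' ▸ hc1 y hy w).inv_left).eq,
                inv_mul_cancel_left, hc, ← hcv]
        rw [e]
        have h1 : Commute c y' := hc ▸ hcv y'
        have h2 : Commute c' y' := hc' ▸ hc1 y hy y'
        exact (h1.mul_left h2.inv_left).eq
    have hcen' : ∀ g : X, w * g = g * w := by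
      intro g
      have hle : closure {i : X | i * i = 1 ∧ i ≠ 1} ≤ centralizer ({w} : Set X) := by
        rw [Subgroup.closure_le]
        rintro i ⟨hi, hi1⟩
        exact mem_centralizer_singleton_iff.2 (hfix i hi hi1).eq
      rw [h.gen] at hle
      exact (mem_centralizer_singleton_iff.1 (hle (mem_top g))).symm
    exact hcen' y₀
  have hx1 : x ≠ 1 := fun e => by
    obtain ⟨y, _, hne⟩ := hxnc
    exact hne (by rw [e, one_mul, mul_one])
  have hx3 := h.inverted_cube hP hidx hd hd1 hx hxd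
  obtain ⟨cm, hcm⟩ : ∃ cm : X → X, cm = fun y => x * y * x⁻¹ * y⁻¹ := ⟨_, rfl⟩
  have hcmc : ∀ y ∈ P, ∀ g, cm y * g = g * cm y := by
    intro y hy
    rw [hcm]
    exact hZ _ (mul_mem (mul_mem (mul_mem hx hy) (inv_mem hx)) (inv_mem hy)) (hxc y hy)
  have hconj : ∀ y, x * y * x⁻¹ = cm y * y := fun y => by rw [hcm]; group
  have hmul : ∀ y ∈ P, ∀ y' ∈ P, cm (y * y') = cm y * cm y' := by
    intro y hy y' hy'
    have e : cm (y * y') = cm y * (y * cm y' * y⁻¹) := by rw [hcm]; group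
    rw [e]
    congr 1
    rw [hcm]
    rw [← hxc y' hy' y hy]; group
  have hcm3 : ∀ y ∈ P, cm y ^ 3 = 1 := by
    intro y hy
    have hxm : x * cm y * x⁻¹ = cm y := by rw [← hcmc y hy x, mul_inv_cancel_right]
    have hstep : ∀ n : ℕ, x ^ n * y * (x ^ n)⁻¹ = cm y ^ n * y := by
      intro n
      induction n with
      | zero => simp
      | succ n ih =>
        rw [pow_succ' x n, show x * x ^ n * y * (x * x ^ n)⁻¹ = x * (x ^ n * y * (x ^ n)⁻¹) * x⁻¹ by group,
          ih, show x * (cm y ^ n * y) * x⁻¹ = (x * cm y ^ n * x⁻¹) * (x * y * x⁻¹) by group, hconj y,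
          ← conj_pow, hxm, ← mul_assoc, ← pow_succ]
    have := hstep 3
    rw [hx3, inv_one, one_mul, mul_one] at this
    exact (mul_eq_right.1 this.symm)
  obtain ⟨y, hy, hyd, hyne⟩ : ∃ y ∈ P, d * y * d = y⁻¹ ∧ cm y ≠ 1 := by
    by_contra! hall
    obtain ⟨y₁, hy₁, hne⟩ := hxnc
    refine hne ?_
    have hle : P ≤ centralizer ({x} : Set X) := by
      have hdx : ∀ g : X, g ∈ P → d * g * d ∈ P := fun g hg => by
        have := hPn.conj_mem g hg d
        rwa [inv_eq_of_mul_eq_one_right hd] at this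
      have htop := h.closure_inverted hP hidx hd hd1
        (H := (centralizer ({x} : Set X) ⊓ P) ⊔ zpowers d) (mem_sup_right (mem_zpowers d)) fun z hz hzd =>
          mem_sup_left ⟨mem_centralizer_singleton_iff.2 (by
            have := hall z hz hzd
            rw [hcm, mul_inv_eq_one, mul_inv_eq_iff_eq_mul] at this
            exact this.symm), hz⟩
      have hN : zpowers d ≤ normalizer ((centralizer ({x} : Set X) ⊓ P : Subgroup X) : Set X) := by
        rw [zpowers_le]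
        have hstab : ∀ g ∈ centralizer ({x} : Set X) ⊓ P, d * g * d ∈ centralizer ({x} : Set X) ⊓ P := by
          rintro g ⟨hg, hgP⟩
          refine ⟨mem_centralizer_singleton_iff.2 ?_, hdx g hgP⟩
          have hg' : Commute g x⁻¹ := (Commute.inv_right (mem_centralizer_singleton_iff.1 hg))
          calc d * g * d * x = d * g * (d * x * d) * d := by
                rw [show d * g * (d * x * d) * d = d * g * d * x * (d * d) by group, hd, mul_one]
            _ = d * (g * x⁻¹) * d := by rw [hxd]; group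
            _ = d * (x⁻¹ * g) * d := by rw [hg'.eq]
            _ = (d * x⁻¹ * d) * (d * g * d) := by
                rw [show (d * x⁻¹ * d) * (d * g * d) = d * x⁻¹ * (d * d) * g * d by group, hd, mul_one]
                group
            _ = x * (d * g * d) := by
                rw [← hxd, show d * (d * x * d) * d = (d * d) * x * (d * d) by group, hd, one_mul, mul_one]
        rw [mem_normalizer_iff, inv_eq_of_mul_eq_one_right hd]
        refine fun g => ⟨hstab g, fun hg => ?_⟩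
        have := hstab _ hg
        rwa [show d * (d * g * d) * d = (d * d) * g * (d * d) by group, hd, one_mul, mul_one] at this
      intro g hg
      have hg' : g ∈ (centralizer ({x} : Set X) ⊓ P) ⊔ zpowers d := htop ▸ mem_top g
      rw [← SetLike.mem_coe, coe_mul_of_right_le_normalizer_left _ _ hN, Set.mem_mul] at hg'
      obtain ⟨a, ha, b, hb, rfl⟩ := hg'
      have hbP : b ∈ P := by
        have := mul_mem (inv_mem (show a ∈ P from ha.2)) hg
        rwa [inv_mul_cancel_left] at this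
      obtain ⟨m, rfl⟩ := mem_zpowers_iff.1 hb
      rcases Int.even_or_odd m with ⟨j, rfl⟩ | ⟨j, rfl⟩
      · rw [← two_mul, zpow_mul, zpow_two, hd, one_zpow, mul_one]; exact ha.1
      · exfalso
        rw [zpow_add, zpow_mul, zpow_two, hd, one_zpow, one_mul, zpow_one] at hbP
        exact h.not_mem hP hd hd1 hbP
    exact (mem_centralizer_singleton_iff.1 (hle hy₁)).symm
  obtain ⟨g1, g2⟩ := (h.inverted_facts hP hidx hd hd1).1 ⟨hx, hxd⟩
  obtain ⟨g3, g4⟩ := (h.inverted_facts hP hidx hd hd1).1 ⟨hy, hyd⟩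
  refine ⟨d, d * x, d * y, ⟨hd, hd1⟩, ⟨g1, g2⟩, ⟨g3, g4⟩,
    h.closure_inverted hP hidx hd hd1 (subset_closure (by simp)) fun i hi hid => ?_⟩
  obtain ⟨H, hH⟩ : ∃ H, H = closure ({d, d * x, d * y} : Set X) := ⟨_, rfl⟩
  rw [← hH]
  have hgen : ∀ z, d * z ∈ ({d, d * x, d * y} : Set X) → z ∈ H := fun z hz => by
    have := mul_mem (show d ∈ H from hH ▸ subset_closure (by simp)) (show d * z ∈ H from hH ▸ subset_closure hz)
    rwa [← mul_assoc, hd, one_mul] at this
  have hxH : x ∈ H := hgen x (by simp)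
  have hyH : y ∈ H := hgen y (by simp)
  obtain ⟨m, hm⟩ := mem_zpowers_iff.1 (cyc (cm y) (cm i) (hcmc y hy) (hcmc i hi) (hcm3 y hy) (hcm3 i hi) hyne)
  -- shift `i` by a power of `y` on both sides
  obtain ⟨j, hj⟩ : ∃ j, j = (y ^ m) * i * (y ^ m) := ⟨_, rfl⟩
  have hjP : j ∈ P := hj ▸ mul_mem (mul_mem (zpow_mem hy m) hi) (zpow_mem hy m)
  have hjd : d * j * d = j⁻¹ := by
    have e : d * y ^ m * d = (y ^ m)⁻¹ := by
      calc d * y ^ m * d = d * y ^ m * d⁻¹ := by rw [inv_eq_of_mul_eq_one_right hd]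
        _ = (d * y * d⁻¹) ^ m := (conj_zpow).symm
        _ = (y ^ m)⁻¹ := by rw [inv_eq_of_mul_eq_one_right hd, hyd, inv_zpow]
    calc d * j * d = (d * y ^ m * d) * (d * i * d) * (d * y ^ m * d) := by
          rw [hj, show (d * y ^ m * d) * (d * i * d) * (d * y ^ m * d) =
            d * y ^ m * (d * d) * i * (d * d) * y ^ m * d by group, hd, mul_one, mul_one]
          group
      _ = j⁻¹ := by rw [e, hid, hj]; group
  have hcmy : ∀ n : ℕ, cm (y ^ n) = cm y ^ n := by
    intro n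
    induction n with
    | zero => simp [hcm]
    | succ n ih => rw [pow_succ, hmul _ (pow_mem hy n) _ hy, ih, pow_succ]
  have hcmz : cm (y ^ m) = cm y ^ m := by
    rcases Int.eq_nat_or_neg m with ⟨n, rfl | rfl⟩
    · rw [zpow_natCast, zpow_natCast, hcmy]
    · rw [zpow_neg, zpow_neg, zpow_natCast, zpow_natCast, eq_inv_iff_mul_eq_one,
        ← hcmy, ← hmul _ (inv_mem (pow_mem hy n)) _ (pow_mem hy n), inv_mul_cancel]
      simp [hcm]
  have hcj : cm j = 1 := by
    rw [hj, hmul _ (mul_mem (zpow_mem hy m) hi) _ (zpow_mem hy m), hmul _ (zpow_mem hy m) _ hi, hcmz, ← hm, ← zpow_add, ← zpow_add,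
      show m + m + m = 3 * m by ring, zpow_mul]
    rw [show cm y ^ (3 : ℤ) = cm y ^ (3 : ℕ) from zpow_natCast _ 3, hcm3 y hy, one_zpow]
  have hjx : x * j = j * x := by
    have := hconj j
    rw [hcj, one_mul] at this
    exact mul_inv_eq_iff_eq_mul.1 this
  have hjH : j ∈ H := zpowers_le.2 hxH (no3 d hd hd1 x j hxd hjd hx3
    (h.inverted_cube hP hidx hd hd1 hjP hjd) hjx hx1)
  have := mul_mem (mul_mem (inv_mem (zpow_mem hyH m)) hjH) (inv_mem (zpow_mem hyH m))
  rw [hj] at this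
  simpa [mul_assoc] using this

end Inv23

end Abstract

/-! ### The action on a chief factor -/

section Module

variable {Y A : Type*} [Group Y] [CommGroup A]

/-- Two distinct involutions satisfy the norm relation. -/
def NormRel (ρ : Y →* MulAut A) : Prop :=
  ∀ i j : Y, i * i = 1 → i ≠ 1 → j * j = 1 → j ≠ 1 → i ≠ j → ∀ u : A,
    (u * ρ i u) * ρ (i * j) (u * ρ i u) * ρ (i * j * (i * j)) (u * ρ i u) = 1

theorem four_norms (ρ : Y →* MulAut A) (hA : ∀ u : A, u * u = 1) {a b : Y} (hab : Commute a b)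
    (hb : b ^ 3 = 1) {w : A} (h0 : w * ρ a w * ρ (a * a) w = 1)
    (h1 : w * ρ b w * ρ (b * b) w = 1) (h2 : w * ρ (a * b) w * ρ (a * b * (a * b)) w = 1)
    (h3 : w * ρ (a * (b * b)) w * ρ (a * (b * b) * (a * (b * b))) w = 1) : w = 1 := by
  have e1 : a * b * (a * b) = a * a * (b * b) := by rw [← pow_two, hab.mul_pow, pow_two, pow_two]
  have e2 : a * (b * b) * (a * (b * b)) = a * a * b := by
    rw [← pow_two, (hab.mul_right hab).mul_pow, pow_two, pow_two,
      show b * b * (b * b) = b ^ 3 * b by rw [pow_three']; group, hb, one_mul]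
  rw [e1] at h2
  rw [e2] at h3
  have g1 := congrArg (ρ b) h0
  have g2 := congrArg (ρ (b * b)) h0
  simp only [map_mul (ρ b), map_mul (ρ (b * b)), map_one (ρ b), map_one (ρ (b * b)), ← MulAut.mul_apply,
    ← map_mul ρ] at g1 g2
  rw [← hab.eq, ← (hab.mul_left hab).eq] at g1
  rw [← (hab.mul_right hab).eq, ← ((hab.mul_left hab).mul_right (hab.mul_left hab)).eq] at g2
  have hre : (w * w * w) * ((ρ b w * ρ (a * b) w * ρ (a * a * b) w) *
      (ρ (b * b) w * ρ (a * (b * b)) w * ρ (a * a * (b * b)) w)) =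
      (w * ρ b w * ρ (b * b) w) * (w * ρ (a * b) w * ρ (a * a * (b * b)) w) *
        (w * ρ (a * (b * b)) w * ρ (a * a * b) w) := by ac_rfl
  rw [g1, g2, h1, h2, h3, mul_one, mul_one, mul_one, hA w, one_mul] at hre
  exact hre

theorem no3_of_norm {ρ : Y →* MulAut A} (hA : ∀ u : A, u * u = 1) (hn : NormRel ρ)
    (hnt : ∀ i : Y, i * i = 1 → i ≠ 1 → ρ i ≠ 1) :
    ∀ d : Y, d * d = 1 → d ≠ 1 → ∀ x y : Y, d * x * d = x⁻¹ → d * y * d = y⁻¹ →
      x ^ 3 = 1 → y ^ 3 = 1 → x * y = y * x → x ≠ 1 → y ∈ zpowers x := by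
  intro d hd hd1 x y hxd hyd hx3 hy3 hxy hx1
  by_contra hy
  have hy1 : y ≠ 1 := fun e => hy (e ▸ one_mem _)
  have hc : Commute x y := hxy
  have hstep : ∀ T : Y, d * T * d = T⁻¹ → T ^ 3 = 1 → T ≠ 1 → ∀ u : A,
      (u * ρ d u) * ρ T (u * ρ d u) * ρ (T * T) (u * ρ d u) = 1 := by
    intro T hTd hT3 hT1 u
    have hj : d * T * (d * T) = 1 := by
      rw [show d * T * (d * T) = d * T * d * T by group, hTd, inv_mul_cancel]
    have hj1 : d * T ≠ 1 := by
      intro e
      have : T = d := by rw [← inv_eq_of_mul_eq_one_right hd, inv_eq_of_mul_eq_one_right e]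
      subst this
      rw [pow_succ, pow_two, hd, one_mul] at hT3
      exact hT1 hT3
    have := hn d (d * T) hd hd1 hj hj1 (fun e => hT1 (mul_left_cancel (a := d) (by rw [← e, mul_one]))) u
    rwa [← mul_assoc, hd, one_mul] at this
  have hmulinv : ∀ S T : Y, d * S * d = S⁻¹ → d * T * d = T⁻¹ → Commute S T → d * (S * T) * d = (S * T)⁻¹ := by
    intro S T hS hT hST
    rw [show d * (S * T) * d = (d * S * d) * (d * T * d) by
      rw [show (d * S * d) * (d * T * d) = d * S * (d * d) * T * d by group, hd, mul_one]; group,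
      hS, hT, hST.eq, mul_inv_rev]
  have hne1 : x * y ≠ 1 := fun e => hy (by rw [eq_inv_of_mul_eq_one_right e]; exact inv_mem (mem_zpowers x))
  have hyy : y * y = y⁻¹ := by
    rw [eq_comm]; refine inv_eq_of_mul_eq_one_right ?_
    rw [← hy3, pow_three']; group
  have hne2 : x * (y * y) ≠ 1 := fun e => hy (by
    rw [hyy, mul_inv_eq_one] at e; rw [← e]; exact mem_zpowers x)
  refine hnt d hd hd1 (MulEquiv.ext fun u => ?_)
  have hyy3 : (y * y) ^ 3 = 1 := by rw [(Commute.refl y).mul_pow, hy3, one_mul]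
  have hw := four_norms ρ hA hc hy3 (hstep x hxd hx3 hx1 u) (hstep y hyd hy3 hy1 u)
    (hstep _ (hmulinv x y hxd hyd hc) (by rw [hc.mul_pow, hx3, hy3, one_mul]) hne1 u)
    (hstep _ (hmulinv x (y * y) hxd (hmulinv y y hyd hyd (Commute.refl y)) (hc.mul_right hc))
      (by rw [(hc.mul_right hc).mul_pow, hx3, hyy3, one_mul]) hne2 u)
  rw [MulAut.one_apply]
  exact (mul_left_cancel (a := u) (hw.trans (hA u).symm))

theorem cyc_of_irr {ρ : Y →* MulAut A} (hA : ∀ u : A, u * u = 1) (hρ : Function.Injective ρ)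
    (hirr : ∀ W : Subgroup A, (∀ y : Y, ∀ z ∈ W, ρ y z ∈ W) → W = ⊥ ∨ W = ⊤) :
    ∀ a b : Y, (∀ g, a * g = g * a) → (∀ g, b * g = g * b) → a ^ 3 = 1 → b ^ 3 = 1 → a ≠ 1 →
      b ∈ zpowers a := by
  intro a b hca hcb ha hb ha1
  by_contra hba
  have hstep : ∀ T : Y, (∀ g, T * g = g * T) → T ^ 3 = 1 → T ≠ 1 → ∀ w : A,
      w * ρ T w * ρ (T * T) w = 1 := by
    intro T hT hT3 hT1 w
    let W : Subgroup A :=
      { carrier := {z | ρ T z = z}
        one_mem' := map_one _
        mul_mem' := fun {z z'} hz hz' => by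
          show ρ T (z * z') = z * z'
          rw [map_mul, show ρ T z = z from hz, show ρ T z' = z' from hz']
        inv_mem' := fun {z} hz => by
          show ρ T z⁻¹ = z⁻¹
          rw [map_inv, show ρ T z = z from hz] }
    rcases hirr W (fun y z hz => by
      show ρ T (ρ y z) = ρ y z
      rw [← MulAut.mul_apply, ← map_mul, hT y, map_mul, MulAut.mul_apply, show ρ T z = z from hz]) with e | e
    · rw [← Subgroup.mem_bot, ← e]
      show ρ T (w * ρ T w * ρ (T * T) w) = _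
      rw [map_mul, map_mul, ← MulAut.mul_apply, ← MulAut.mul_apply, ← map_mul, ← map_mul,
        show T * (T * T) = T ^ 3 by rw [pow_three']; group, hT3, map_one, MulAut.one_apply]
      simp only [mul_comm, mul_left_comm]
    · refine absurd (hρ (MulEquiv.ext fun z => ?_ : ρ T = ρ 1)) hT1
      rw [map_one, MulAut.one_apply]
      exact (e ▸ Subgroup.mem_top z : z ∈ W)
  have hb1 : b ≠ 1 := fun e => hba (e ▸ one_mem _)
  have hc : Commute a b := hca b
  have hne1 : a * b ≠ 1 := fun e => hba (by rw [eq_inv_of_mul_eq_one_right e]; exact inv_mem (mem_zpowers a))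
  have hbb : b * b = b⁻¹ := by
    rw [eq_comm]; refine inv_eq_of_mul_eq_one_right ?_
    rw [← hb, pow_three']; group
  have hne2 : a * (b * b) ≠ 1 := fun e => hba (by
    rw [hbb, mul_inv_eq_one] at e; rw [← e]; exact mem_zpowers a)
  have hcbb : ∀ g, b * b * g = g * (b * b) := fun g => (Commute.mul_left (hcb g) (hcb g)).eq
  refine ha1 (hρ (MulEquiv.ext fun w => ?_))
  have h0 : ∀ v : A, v = 1 := fun v => four_norms ρ hA hc hb (hstep a hca ha ha1 v) (hstep b hcb hb hb1 v)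
    (hstep _ (fun g => (Commute.mul_left (hca g) (hcb g)).eq)
      (by rw [hc.mul_pow, ha, hb, one_mul]) hne1 v)
    (hstep _ (fun g => (Commute.mul_left (hca g) (hcbb g)).eq)
      (by rw [(hc.mul_right hc).mul_pow, ha, (Commute.refl b).mul_pow, hb, one_mul, one_mul]) hne2 v)
  rw [h0 (ρ a w), h0 (ρ 1 w)]

/-- Three generators, obtained in the image of an irreducible action and lifted. -/
theorem three_gen_lift {X : Type*} [Group X] [Finite X] {k : ℕ} (h : Inv23 X k) (ρ : X →* MulAut A)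
    (hA : ∀ u : A, u * u = 1) (hn : NormRel ρ) (hnt : ∀ i : X, i * i = 1 → i ≠ 1 → ρ i ≠ 1)
    (hirr : ∀ W : Subgroup A, (∀ x : X, ∀ z ∈ W, ρ x z ∈ W) → W = ⊥ ∨ W = ⊤) :
    ∃ d e f : X, (d * d = 1 ∧ d ≠ 1) ∧ (e * e = 1 ∧ e ≠ 1) ∧ (f * f = 1 ∧ f ≠ 1) ∧
      closure {d, e, f} = ⊤ := by
  have hπ := ρ.rangeRestrict_surjective
  haveI : Finite ρ.range := Finite.of_surjective _ hπ
  have hodd : Odd (3 ^ k) := Odd.pow (by decide)
  have hpow : ∀ {M : Type _} [Group M] {y : M}, y * y = 1 → y ^ (3 ^ k) = y := by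
    intro M _ y hy
    obtain ⟨m, hm⟩ := hodd
    rw [hm, pow_succ, pow_mul, pow_two, hy, one_pow, one_mul]
  have hsq : ∀ x : X, x ^ (3 ^ k) * x ^ (3 ^ k) = 1 := fun x => by
    rw [← pow_add, ← two_mul, ← h.card, pow_card_eq_one']
  have hlift : ∀ y : ρ.range, y * y = 1 → y ≠ 1 → ∃ x : X, (x * x = 1 ∧ x ≠ 1) ∧ ρ.rangeRestrict x = y := by
    intro y hy hy1
    obtain ⟨x, hx⟩ := hπ y
    refine ⟨x ^ (3 ^ k), ⟨hsq x, fun e => hy1 ?_⟩, by rw [map_pow, hx, hpow hy]⟩
    have := congrArg ρ.rangeRestrict e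
    rwa [map_pow, hx, hpow hy, map_one] at this
  have himg : ∀ i : X, i * i = 1 → i ≠ 1 →
      ρ.rangeRestrict i * ρ.rangeRestrict i = 1 ∧ ρ.rangeRestrict i ≠ 1 := fun i hi hi1 =>
    ⟨by rw [← map_mul, hi, map_one], fun e => hnt i hi hi1 (congrArg Subtype.val e)⟩
  obtain ⟨k', hk'⟩ : ∃ k', Nat.card ρ.range = 2 * 3 ^ k' := by
    obtain ⟨i, hi, hi1⟩ := h.exists_inv
    obtain ⟨g1, g2⟩ := himg i hi hi1
    have h2 : 2 ∣ Nat.card ρ.range := by
      rw [← orderOf_eq_prime (p := 2) (by rw [pow_two, g1]) g2]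
      exact orderOf_dvd_natCard _
    obtain ⟨m, hm⟩ := h2
    have hd : 2 * m ∣ 2 * 3 ^ k := hm ▸ h.card ▸ Subgroup.card_range_dvd ρ
    obtain ⟨k', _, hk'⟩ := (Nat.dvd_prime_pow Nat.prime_three).1 (Nat.dvd_of_mul_dvd_mul_left (by norm_num) hd)
    exact ⟨k', by rw [hm, hk']⟩
  have hY : Inv23 ρ.range k' :=
    { card := hk'
      gen := by
        refine eq_top_iff.2 (le_trans (le_of_eq (MonoidHom.range_eq_top.2 hπ).symm) ?_)
        rw [MonoidHom.range_eq_map ρ.rangeRestrict, ← h.gen, MonoidHom.map_closure]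
        refine closure_mono ?_
        rintro _ ⟨i, ⟨hi, hi1⟩, rfl⟩
        exact himg i hi hi1
      cube := fun i j hi hi1 hj hj1 => by
        obtain ⟨x, ⟨hx, hx1⟩, rfl⟩ := hlift i hi hi1
        obtain ⟨x', ⟨hx', hx'1⟩, rfl⟩ := hlift j hj hj1
        rw [← map_mul, ← map_pow, h.cube x x' hx hx1 hx' hx'1, map_one] }
  have hnY : NormRel ρ.range.subtype := by
    intro i j hi hi1 hj hj1 hij u
    obtain ⟨x, ⟨hx, hx1⟩, rfl⟩ := hlift i hi hi1
    obtain ⟨x', ⟨hx', hx'1⟩, rfl⟩ := hlift j hj hj1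
    have := hn x x' hx hx1 hx' hx'1 (fun e => hij (by rw [e])) u
    simpa using this
  obtain ⟨d', e', f', hd', he', hf', hgen⟩ := hY.three_generators
    (no3_of_norm hA hnY fun i _ hi1 e => hi1 (Subtype.ext e))
    (cyc_of_irr hA ρ.range.subtype_injective fun W hW => hirr W fun x z hz => hW (ρ.rangeRestrict x) z hz)
  obtain ⟨d, hd, rfl⟩ := hlift d' hd'.1 hd'.2
  obtain ⟨e, he, rfl⟩ := hlift e' he'.1 he'.2
  obtain ⟨f, hf, rfl⟩ := hlift f' hf'.1 hf'.2
  refine ⟨d, e, f, hd, he, hf, ?_⟩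
  obtain ⟨H0, hH0⟩ : ∃ H0, H0 = closure ({d, e, f} : Set X) := ⟨_, rfl⟩
  rw [← hH0]
  -- the kernel is central
  have hcentral : ∀ z : X, ρ z = 1 → ∀ g, z * g = g * z := by
    intro z hz g
    have hle : closure {i : X | i * i = 1 ∧ i ≠ 1} ≤ centralizer ({z} : Set X) := by
      rw [Subgroup.closure_le]
      rintro i ⟨hi, hi1⟩
      rw [SetLike.mem_coe, mem_centralizer_singleton_iff]
      by_contra hne
      obtain ⟨j, hj⟩ : ∃ j, j = z⁻¹ * i * z := ⟨_, rfl⟩
      have hjj : j * j = 1 := by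
        rw [hj, show z⁻¹ * i * z * (z⁻¹ * i * z) = z⁻¹ * (i * i) * z by group, hi, mul_one, inv_mul_cancel]
      have hj1 : j ≠ 1 := fun e => hi1 (by
        calc i = z * (z⁻¹ * i * z) * z⁻¹ := by group
          _ = 1 := by rw [← hj, e, mul_one, mul_inv_cancel])
      have hij : i ≠ j := fun e => hne (by
        calc i * z = j * z := by rw [← e]
          _ = z⁻¹ * i * z * z := by rw [hj]
          _ = _ := by
            have : z * i = i * z := by
              calc z * i = z * j := by rw [← e]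
                _ = i * z := by rw [hj]; group
            rw [mul_assoc z⁻¹ i z, ← this, inv_mul_cancel_left, ← this])
      have hρj : ρ j = ρ i := by rw [hj, map_mul, map_mul, map_inv, hz, inv_one, one_mul, mul_one]
      refine hnt i hi hi1 (MulEquiv.ext fun u => ?_)
      have hT : ρ (i * j) = 1 := by rw [map_mul, hρj, ← map_mul, hi, map_one]
      have := hn i j hi hi1 hjj hj1 hij u
      rw [map_mul ρ (i * j), hT, one_mul, MulAut.one_apply, hA, one_mul] at this
      rw [MulAut.one_apply]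
      exact mul_left_cancel (a := u) (this.trans (hA u).symm)
    rw [h.gen] at hle
    exact (mem_centralizer_singleton_iff.1 (hle (mem_top g))).symm
  rw [eq_top_iff, ← h.gen, Subgroup.closure_le]
  rintro i ⟨hi, hi1⟩
  obtain ⟨g, hg, hgi⟩ : ∃ g ∈ H0, ρ.rangeRestrict g = ρ.rangeRestrict i := by
    have hmap : H0.map ρ.rangeRestrict = ⊤ := by
      rw [hH0, MonoidHom.map_closure, ← hgen]
      simp [Set.image_insert_eq]
    exact Subgroup.mem_map.1 (hmap.symm ▸ mem_top (ρ.rangeRestrict i))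
  obtain ⟨z, hz⟩ : ∃ z, z = g⁻¹ * i := ⟨_, rfl⟩
  have hρz : ρ z = 1 := by
    have := congrArg Subtype.val hgi
    rw [MonoidHom.coe_rangeRestrict, MonoidHom.coe_rangeRestrict] at this
    rw [hz, map_mul, map_inv, this, inv_mul_cancel]
  have hzc : g * z = z * g := (hcentral z hρz g).symm
  have hzz : z * z ∈ H0 := by
    have e : g * z = i := by rw [hz, mul_inv_cancel_left]
    have : z * z = g⁻¹ * g⁻¹ := by
      have : (g * g) * (z * z) = 1 := by
        rw [show g * g * (z * z) = g * (g * z) * z by group, hzc,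
          show g * (z * g) * z = (g * z) * (g * z) by group, e, hi]
      rw [← mul_inv_rev]
      exact (inv_eq_of_mul_eq_one_right this).symm
    rw [this]; exact mul_mem (inv_mem hg) (inv_mem hg)
  have hz3 : z ^ (3 ^ k) = 1 := by
    by_contra hne
    exact hnt _ (hsq z) hne (by rw [map_pow, hρz, one_pow])
  have hzH : z ∈ H0 := by
    obtain ⟨m, hm⟩ := hodd
    have : z = (z * z) ^ (m + 1) := by
      rw [← pow_two, ← pow_mul, show 2 * (m + 1) = (2 * m + 1) + 1 by ring, pow_succ, ← hm, hz3, one_mul]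
    rw [this]; exact pow_mem hzz _
  have : g * z = i := by rw [hz, mul_inv_cancel_left]
  exact this ▸ mul_mem hg hzH

end Module

/-! ### The group level -/

section Quot

variable {X : Type*} [Group X] [Finite X] {k : ℕ}

theorem chief_three_gen {Q : Type*} [Group Q] (π : Q →* X) (hπ : Function.Surjective π) (h : Inv23 X k)
    {E : Set Q} (hconj : ∀ q, ∀ e ∈ E, q * e * q⁻¹ ∈ E)
    (hdich : ∀ d ∈ E, ∀ e ∈ E, (d * e) ^ 2 = 1 ∨ (d * e) ^ 3 = 1)
    (hlift : ∀ i : X, i * i = 1 → i ≠ 1 → ∃ e ∈ E, π e = i)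
    (N : Subgroup Q) [N.Normal] (hN2 : ∀ n ∈ N, n * n = 1) (hNker : N ≤ π.ker) (hker : π.ker ≤ centralizer (N : Set Q))
    (hmin : ∀ W : Subgroup Q, W.Normal → W ≤ N → W = ⊥ ∨ W = N) (hne : centralizer (N : Set Q) ≠ ⊤) :
    (∃ d e f : X, (d * d = 1 ∧ d ≠ 1) ∧ (e * e = 1 ∧ e ≠ 1) ∧ (f * f = 1 ∧ f ≠ 1) ∧
      closure {d, e, f} = ⊤) ∧
      (∀ d : X, d * d = 1 → d ≠ 1 → ∀ x y : X, d * x * d = x⁻¹ → d * y * d = y⁻¹ →
        x ^ 3 = 1 → y ^ 3 = 1 → x * y = y * x → x ≠ 1 → y ∈ zpowers x) := by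
  letI : CommGroup N :=
    { (inferInstance : Group N) with
      mul_comm := fun a b => by
        have hi : ∀ c : N, c⁻¹ = c := fun c => inv_eq_of_mul_eq_one_right (Subtype.ext (hN2 c c.2))
        calc a * b = (a * b)⁻¹ := (hi _).symm
          _ = b * a := by rw [mul_inv_rev, hi, hi] }
  obtain ⟨φ, hφ⟩ : ∃ φ : Q →* MulAut N, ∀ q (n : N), (φ q n : Q) = q * n * q⁻¹ :=
    ⟨MulAut.conjNormal, fun q n => MulAut.conjNormal_apply q n⟩
  have hle : π.ker ≤ φ.ker := fun q hq => by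
    rw [MonoidHom.mem_ker]
    refine MulEquiv.ext fun n => Subtype.ext ?_
    rw [hφ, MulAut.one_apply, ← mem_centralizer_iff.1 (hker hq) n n.2, mul_inv_cancel_right]
  obtain ⟨ρ, hρ'⟩ : ∃ ρ : X →* MulAut N, ∀ q, ρ (π q) = φ q :=
    ⟨π.liftOfSurjective hπ ⟨φ, hle⟩, fun q => π.liftOfRightInverse_comp_apply _ _ _ q⟩
  have hρ : ∀ q (n : N), (ρ (π q) n : Q) = q * n * q⁻¹ := fun q n => by rw [hρ', hφ]
  have hnorm : NormRel ρ := by
    intro i j hi hi1 hj hj1 hij u
    obtain ⟨p, hp, rfl⟩ := hlift i hi hi1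
    obtain ⟨q, hq, rfl⟩ := hlift j hj hj1
    have hcube : ∀ p' ∈ E, π p' = π p → (p' * q) ^ 3 = 1 := by
      intro p' hp' e
      refine (hdich p' hp' q hq).resolve_left fun h2 => hij ?_
      have e2 : (π p * π q) * (π p * π q) = 1 := by
        have := congrArg π h2
        rwa [map_pow, map_mul, e, map_one, pow_two] at this
      have e3 := h.cube _ _ hi hi1 hj hj1
      rw [pow_succ, pow_two, e2, one_mul] at e3
      exact (mul_eq_one_iff_eq_inv.1 e3).trans (inv_eq_of_mul_eq_one_right hj)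
    have hu : π (u : Q) * π p * (π (u : Q))⁻¹ = π p := by
      rw [MonoidHom.mem_ker.1 (hNker u.2), one_mul, inv_one, mul_one]
    obtain ⟨T, hT⟩ : ∃ T, T = p * q := ⟨_, rfl⟩
    obtain ⟨v, hv⟩ : ∃ v : N, v = u * ρ (π p) u := ⟨_, rfl⟩
    rw [← hv]
    have hT3 : T ^ 3 = 1 := hT ▸ hcube p hp rfl
    have hvT : (v : Q) * T = (u : Q) * p * (u : Q)⁻¹ * q := by
      rw [hv, Subgroup.coe_mul, hρ, hT, show ((u : Q))⁻¹ = u from inv_eq_of_mul_eq_one_right (hN2 u u.2)]
      group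
    have hvT3 : ((v : Q) * T) ^ 3 = 1 := by
      rw [hvT]
      exact hcube _ (hconj u p hp) (by rw [map_mul, map_mul, map_inv, hu])
    rw [← map_mul π p q, ← hT, ← map_mul π T T]
    refine Subtype.ext ?_
    rw [Subgroup.coe_mul, Subgroup.coe_mul, hρ, hρ, Subgroup.coe_one]
    calc (v : Q) * (T * v * T⁻¹) * (T * T * v * (T * T)⁻¹)
        = ((v : Q) * T) ^ 3 * (T ^ 3)⁻¹ := by rw [pow_three', pow_three']; group
      _ = 1 := by rw [hvT3, hT3, inv_one, one_mul]
  have hnt : ∀ i : X, i * i = 1 → i ≠ 1 → ρ i ≠ 1 := by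
    intro i hi hi1 e
    refine hne (eq_top_iff.2 fun q _ => ?_)
    have hle : closure {j : X | j * j = 1 ∧ j ≠ 1} ≤ ρ.ker := by
      rw [Subgroup.closure_le]
      rintro j ⟨hj, hj1⟩
      obtain ⟨x, rfl⟩ := h.conj_of_inv hi hi1 hj hj1
      rw [SetLike.mem_coe, MonoidHom.mem_ker, map_mul, map_mul, e, mul_one, map_inv, mul_inv_cancel]
    rw [h.gen] at hle
    refine mem_centralizer_iff.2 fun n hn => ?_
    have := hρ q ⟨n, hn⟩
    rw [MonoidHom.mem_ker.1 (hle (mem_top (π q))), MulAut.one_apply] at this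
    exact eq_mul_inv_iff_mul_eq.1 this
  refine ⟨three_gen_lift h ρ (fun u => Subtype.ext (hN2 u u.2)) hnorm hnt fun W hW => ?_,
    no3_of_norm (fun u => Subtype.ext (hN2 u u.2)) hnorm hnt⟩
  haveI : (W.map N.subtype).Normal := ⟨by
    rintro _ ⟨z, hz, rfl⟩ g
    exact ⟨ρ (π g) z, hW _ z hz, hρ g z⟩⟩
  rcases hmin _ this (map_subtype_le W) with e | e
  · exact .inl ((map_eq_bot_iff_of_injective _ N.subtype_injective).1 e)
  · refine .inr (eq_top_iff.2 fun z _ => ?_)
    obtain ⟨z', hz', hzz⟩ := Subgroup.mem_map.1 (show (z : Q) ∈ W.map N.subtype from (SetLike.ext_iff.1 e (z : Q)).2 z.2)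
    rwa [N.subtype_injective hzz] at hz'

end Quot

section Class

variable {H : Type*} [Group H] {E : Set H}

theorem class_conj (hE : IsThreeTranspositionClass E) (g : H) {e : H} (he : e ∈ E) : g * e * g⁻¹ ∈ E := by
  obtain ⟨d, _, hd⟩ := hE.2.1
  rw [hd] at he ⊢
  exact IsConj.trans he (isConj_iff.2 ⟨g, rfl⟩)

theorem class_conj_of (hE : IsThreeTranspositionClass E) {a b : H} (ha : a ∈ E) (hb : b ∈ E) :
    ∃ g, g * a * g⁻¹ = b := by
  obtain ⟨d, _, hd⟩ := hE.2.1
  rw [hd] at ha hb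
  exact isConj_iff.1 ((IsConj.symm ha).trans hb)

theorem class_sq (hE : IsThreeTranspositionClass E) {e : H} (he : e ∈ E) : e * e = 1 := by
  rw [← pow_two, ← hE.1.1 e he, pow_orderOf_eq_one]

theorem mem_zpowers_invol {G : Type*} [Group G] {j x : G} (hj : j * j = 1) (hx : x ∈ zpowers j) :
    x = 1 ∨ x = j := by
  obtain ⟨m, rfl⟩ := mem_zpowers_iff.1 hx
  rcases Int.even_or_odd m with ⟨i, rfl⟩ | ⟨i, rfl⟩
  · exact .inl (by rw [← two_mul, zpow_mul, zpow_two, hj, one_zpow])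
  · exact .inr (by rw [zpow_add, zpow_mul, zpow_two, hj, one_zpow, one_mul, zpow_one])

/-- A class of 3-transpositions has a single image in a 2-group. -/
theorem image_single (hE : IsThreeTranspositionClass E) {M : Type*} [Group M] (f : H →* M)
    (hM : IsPGroup 2 M) {a b : H} (ha : a ∈ E) (hb : b ∈ E) : f a = f b := by
  have hcomm : ∀ a ∈ E, ∀ b ∈ E, f a * f b = f b * f a := by
    intro a ha b hb
    have hsa : f a * f a = 1 := by rw [← map_mul, class_sq hE ha, map_one]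
    have hsb : f b * f b = 1 := by rw [← map_mul, class_sq hE hb, map_one]
    rcases hE.1.2 a ha b hb with h | h
    · have h' : (f a * f b) * (f a * f b) = 1 := by rw [← pow_two, ← map_mul, ← map_pow, h, map_one]
      calc f a * f b = (f a * f b)⁻¹ := (inv_eq_of_mul_eq_one_right h').symm
        _ = _ := by rw [mul_inv_rev, inv_eq_of_mul_eq_one_right hsa, inv_eq_of_mul_eq_one_right hsb]
    · obtain ⟨t, ht⟩ := hM (f a * f b)
      have h3 : (f a * f b) ^ 3 = 1 := by rw [← map_mul, ← map_pow, h, map_one]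
      have := pow_gcd_eq_one.2 ⟨h3, ht⟩
      rw [Nat.Coprime.pow_right t (show Nat.Coprime 3 2 by norm_num), pow_one] at this
      rw [mul_eq_one_iff_eq_inv.1 this, inv_eq_of_mul_eq_one_right hsb]
  obtain ⟨g, rfl⟩ := class_conj_of hE ha hb
  have hle : closure E ≤ (centralizer ({f a} : Set M)).comap f := by
    rw [Subgroup.closure_le]
    intro e he
    exact mem_centralizer_singleton_iff.2 (hcomm e he a ha)
  rw [hE.2.2] at hle
  have := mem_centralizer_singleton_iff.1 (hle (mem_top g))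
  rw [map_mul, map_mul, map_inv, this, mul_inv_cancel_right]

theorem not_isPGroup_two (hE : IsThreeTranspositionClass E) (hE2 : ∃ a ∈ E, ∃ b ∈ E, a ≠ b) :
    ¬ IsPGroup 2 H := fun h => by
  obtain ⟨a, ha, b, hb, hne⟩ := hE2
  exact hne (image_single hE (MonoidHom.id H) h ha hb)

variable [Finite H] (V : Subgroup H) [V.Normal] {k : ℕ}

open scoped Pointwise in
theorem inv23_quot (hE : IsThreeTranspositionClass E) (hcard : Nat.card (H ⧸ V) = 2 * 3 ^ k) :
    Inv23 (H ⧸ V) k ∧ ∀ i : H ⧸ V, i * i = 1 → i ≠ 1 → ∃ e ∈ E, QuotientGroup.mk' V e = i := by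
  haveI : Fact (Nat.Prime 2) := ⟨Nat.prime_two⟩
  haveI : Fact (Nat.Prime 3) := ⟨Nat.prime_three⟩
  obtain ⟨π, hπ⟩ : ∃ π, π = QuotientGroup.mk' V := ⟨_, rfl⟩
  have hsurj : Function.Surjective π := hπ ▸ QuotientGroup.mk'_surjective V
  have hEV : ∀ e ∈ E, π e ≠ 1 := by
    intro e he e1
    have hle : closure E ≤ π.ker := by
      rw [Subgroup.closure_le]
      intro f hf
      obtain ⟨g, rfl⟩ := class_conj_of hE he hf
      rw [SetLike.mem_coe, MonoidHom.mem_ker, map_mul, map_mul, e1, mul_one, map_inv, mul_inv_cancel]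
    rw [hE.2.2] at hle
    have : Nat.card (H ⧸ V) = 1 := by
      rw [Nat.card_eq_one_iff_unique]
      refine ⟨⟨fun x y => ?_⟩, inferInstance⟩
      obtain ⟨a, rfl⟩ := hsurj x
      obtain ⟨b, rfl⟩ := hsurj y
      rw [MonoidHom.mem_ker.1 (hle (mem_top a)), MonoidHom.mem_ker.1 (hle (mem_top b))]
    have h1 : 1 ≤ 3 ^ k := Nat.one_le_pow _ _ (by norm_num)
    omega
  have hconj : ∀ i j : H ⧸ V, i * i = 1 → i ≠ 1 → j * j = 1 → j ≠ 1 → ∃ x, x * i * x⁻¹ = j := by
    intro i j hi hi1 hj hj1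
    have hc : ∀ z : H ⧸ V, z * z = 1 → z ≠ 1 →
        Nat.card (zpowers z) = 2 ^ (Nat.card (H ⧸ V)).factorization 2 := by
      intro z hz hz1
      rw [Nat.card_zpowers, orderOf_eq_prime (p := 2) (by rw [pow_two, hz]) hz1, hcard,
        Nat.factorization_mul (by norm_num) (by positivity), Nat.Prime.factorization_pow Nat.prime_three]
      simp [Nat.Prime.factorization Nat.prime_two]
    obtain ⟨x, hx⟩ := MulAction.exists_smul_eq (H ⧸ V) (Sylow.ofCard (zpowers i) (hc i hi hi1))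
      (Sylow.ofCard (zpowers j) (hc j hj hj1))
    refine ⟨x, ?_⟩
    have hm : x * i * x⁻¹ ∈ zpowers j := by
      have hx' := congrArg (fun S : Sylow 2 (H ⧸ V) => (S : Subgroup (H ⧸ V))) hx
      rw [Sylow.coe_subgroup_smul] at hx'
      exact (SetLike.ext_iff.1 hx' _).1 (Subgroup.smul_mem_pointwise_smul i (MulAut.conj x) _ (mem_zpowers i))
    exact (mem_zpowers_invol hj hm).resolve_left fun e => hi1 (conj_eq_one_iff.1 e)
  have hlift : ∀ i : H ⧸ V, i * i = 1 → i ≠ 1 → ∃ e ∈ E, π e = i := by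
    intro i hi hi1
    obtain ⟨e, he, -⟩ := hE.2.1
    obtain ⟨x, hx⟩ := hconj (π e) i (by rw [← map_mul, class_sq hE he, map_one]) (hEV e he) hi hi1
    obtain ⟨g, rfl⟩ := hsurj x
    exact ⟨g * e * g⁻¹, class_conj hE g he, by rw [map_mul, map_mul, map_inv, hx]⟩
  refine ⟨⟨hcard, ?_, ?_⟩, hπ ▸ hlift⟩
  · refine eq_top_iff.2 (le_trans (le_of_eq (MonoidHom.range_eq_top.2 hsurj).symm) ?_)
    rw [MonoidHom.range_eq_map π, ← hE.2.2, MonoidHom.map_closure]
    refine closure_mono ?_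
    rintro _ ⟨e, he, rfl⟩
    exact ⟨by rw [← map_mul, class_sq hE he, map_one], hEV e he⟩
  · intro i j hi hi1 hj hj1
    obtain ⟨p, hp, rfl⟩ := hlift i hi hi1
    obtain ⟨q, hq, rfl⟩ := hlift j hj hj1
    rcases hE.1.2 p hp q hq with h | h
    · obtain ⟨S⟩ : Nonempty (Sylow 3 (H ⧸ V)) := inferInstance
      have hS : Nat.card (S : Subgroup (H ⧸ V)) = 3 ^ k := by
        rw [S.card_eq_multiplicity, hcard, Nat.factorization_mul (by norm_num) (by positivity),
          Nat.Prime.factorization_pow Nat.prime_three]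
        simp [Nat.Prime.factorization Nat.prime_two]
      have hidx : (S : Subgroup (H ⧸ V)).index = 2 := by
        have := (S : Subgroup (H ⧸ V)).card_mul_index
        rw [hS, hcard, mul_comm 2] at this
        exact mul_left_cancel₀ (by positivity) this
      have hnot : ∀ z : H ⧸ V, z * z = 1 → z ≠ 1 → z ∉ (S : Subgroup (H ⧸ V)) := by
        intro z hz hz1 hzS
        have h1 : orderOf z ∣ 3 ^ k := hS ▸ Subgroup.orderOf_dvd_natCard _ hzS
        rw [orderOf_eq_prime (p := 2) (by rw [pow_two, hz]) hz1] at h1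
        have := Nat.prime_two.dvd_of_dvd_pow h1
        omega
      have h2 : (π p * π q) * (π p * π q) = 1 := by rw [← map_mul, ← map_mul, ← pow_two, h, map_one]
      have hmem := (Subgroup.mul_mem_iff_of_index_two hidx (a := π p) (b := π q)).2
        ⟨fun e => absurd e (hnot _ hi hi1), fun e => absurd e (hnot _ hj hj1)⟩
      have : π p * π q = 1 := by_contra fun hne => hnot _ h2 hne hmem
      rw [this, one_pow]
    · rw [← map_mul, ← map_pow, h, map_one]

/-- A chief factor inside `V` on which not all elements act trivially. -/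
theorem exists_chief (hV : IsPGroup 2 V) (hC : centralizer (V : Set H) ≤ V)
    (h3 : 3 ∣ Nat.card (H ⧸ V)) :
    ∃ (M : Subgroup H) (_ : M.Normal), M ≤ V ∧ ∃ N : Subgroup (H ⧸ M), N.Normal ∧ (∀ n ∈ N, n * n = 1) ∧
      N ≤ V.map (QuotientGroup.mk' M) ∧ V.map (QuotientGroup.mk' M) ≤ centralizer (N : Set (H ⧸ M)) ∧
      (∀ W : Subgroup (H ⧸ M), W.Normal → W ≤ N → W = ⊥ ∨ W = N) ∧
      centralizer (N : Set (H ⧸ M)) ≠ ⊤ := by
  haveI : Fact (Nat.Prime 2) := ⟨Nat.prime_two⟩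
  haveI : Fact (Nat.Prime 3) := ⟨Nat.prime_three⟩
  -- an element of odd order not centralising `V`
  obtain ⟨r₀, hr₀, hr₀V⟩ : ∃ r : H, Odd (orderOf r) ∧ r ∉ V := by
    obtain ⟨x, hx⟩ := exists_prime_orderOf_dvd_card' (G := H ⧸ V) 3 h3
    obtain ⟨h, rfl⟩ := QuotientGroup.mk'_surjective V x
    obtain ⟨a, m, hm, he⟩ := Nat.exists_eq_pow_mul_and_not_dvd (orderOf_pos h).ne' 2 (by norm_num)
    refine ⟨h ^ (2 ^ a), ?_, fun hmem => ?_⟩
    · rw [← Nat.not_even_iff_odd, even_iff_two_dvd]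
      exact fun h2 => hm (h2.trans (orderOf_dvd_of_pow_eq_one (by rw [← pow_mul, ← he, pow_orderOf_eq_one])))
    · have h1 : QuotientGroup.mk' V h ^ (2 ^ a) = 1 := by
        rw [← map_pow]; exact (QuotientGroup.eq_one_iff _).2 hmem
      have := orderOf_dvd_of_pow_eq_one h1
      rw [hx] at this
      have := Nat.prime_three.dvd_of_dvd_pow this
      omega
  obtain ⟨N₀, ⟨hN₀n, hN₀V, r, hr, n, hn, hrn⟩, hN₀min⟩ :=
    wellFounded_lt.has_min {N : Subgroup H | N.Normal ∧ N ≤ V ∧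
      ∃ r : H, Odd (orderOf r) ∧ ∃ n ∈ N, r * n * r⁻¹ ≠ n}
      ⟨V, inferInstance, le_rfl, r₀, hr₀, by
        by_contra! hall
        refine hr₀V (hC (mem_centralizer_iff.2 fun v hv => ?_))
        calc v * r₀ = (r₀ * v * r₀⁻¹) * r₀ := by rw [hall v hv]
          _ = r₀ * v := by group⟩
  obtain ⟨M, ⟨hMn, hMlt⟩, hMmax⟩ :=
    wellFounded_gt.has_min {M : Subgroup H | M.Normal ∧ M < N₀}
      ⟨⊥, inferInstance, bot_lt_iff_ne_bot.2 fun e => hrn (by
        rw [e, mem_bot] at hn; rw [hn]; group)⟩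
  haveI := hMn
  haveI := hN₀n
  have hMV : M ≤ V := hMlt.le.trans hN₀V
  have hMfix : ∀ s : H, Odd (orderOf s) → ∀ m ∈ M, s * m * s⁻¹ = m := fun s hs m hm => by
    by_contra hne
    exact hN₀min M ⟨hMn, hMV, s, hs, m, hm, hne⟩ hMlt
  have hmkM : ∀ g : H, QuotientGroup.mk' M g = 1 ↔ g ∈ M := fun g => QuotientGroup.eq_one_iff g
  obtain ⟨f, hf⟩ : ∃ f, f = QuotientGroup.mk' M := ⟨_, rfl⟩
  rw [← hf] at hmkM
  have hsurj : Function.Surjective f := hf ▸ QuotientGroup.mk'_surjective M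
  have hne : r * n * r⁻¹ * n⁻¹ ∉ M := by
    intro hm
    obtain ⟨m, hmdef⟩ : ∃ m, m = r * n * r⁻¹ * n⁻¹ := ⟨_, rfl⟩
    rw [← hmdef] at hm
    have hstep : ∀ j : ℕ, r ^ j * n * (r ^ j)⁻¹ = m ^ j * n := by
      intro j
      induction j with
      | zero => simp
      | succ j ih =>
        rw [pow_succ' r j, show r * r ^ j * n * (r * r ^ j)⁻¹ = r * (r ^ j * n * (r ^ j)⁻¹) * r⁻¹ by group, ih,
          show r * (m ^ j * n) * r⁻¹ = (r * m ^ j * r⁻¹) * (r * n * r⁻¹) by group,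
          hMfix r hr _ (pow_mem hm j), pow_succ m j, hmdef]
        group
    have h1 : m ^ orderOf r = 1 := by
      have := hstep (orderOf r)
      rw [pow_orderOf_eq_one, one_mul, inv_one, mul_one] at this
      exact mul_eq_right.1 this.symm
    obtain ⟨t, ht⟩ := hV ⟨m, hMV hm⟩
    have h2 : m ^ (2 ^ t) = 1 := congrArg Subtype.val ht
    have := pow_gcd_eq_one.2 ⟨h1, h2⟩
    rw [Nat.Coprime.pow_right t (Nat.coprime_two_right.2 hr), pow_one, hmdef, mul_inv_eq_one] at this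
    exact hrn this
  obtain ⟨N, hN⟩ : ∃ N, N = N₀.map f := ⟨_, rfl⟩
  haveI hNn : N.Normal := hN ▸ hN₀n.map f hsurj
  have hNbot : N ≠ ⊥ := by
    intro e
    have hh : ∀ g ∈ N₀, g ∈ M := fun g hg => (hmkM g).1 (by
      rw [← Subgroup.mem_bot, ← e, hN]; exact mem_map_of_mem _ hg)
    exact hMlt.not_ge hh
  have hmin : ∀ W : Subgroup (H ⧸ M), W.Normal → W ≤ N → W = ⊥ ∨ W = N := by
    intro W hW hWN
    have hM_le : M ≤ W.comap f := fun g hg => by
      rw [mem_comap, (hmkM g).2 hg]; exact one_mem _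
    have hle : W.comap f ≤ N₀ := fun g hg => by
      have h1 : f g ∈ N₀.map f := hN ▸ hWN hg
      obtain ⟨g', hg', e⟩ := Subgroup.mem_map.1 h1
      have : g'⁻¹ * g ∈ M := (hmkM _).1 (by rw [map_mul, map_inv, e, inv_mul_cancel])
      have := mul_mem hg' (hMlt.le this)
      rwa [mul_inv_cancel_left] at this
    rcases eq_or_lt_of_le hle with e | e
    · exact .inr (le_antisymm hWN (by rw [hN, ← e]; exact map_comap_le _ _))
    · refine .inl ((eq_bot_iff).2 fun x hx => ?_)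
      obtain ⟨g, rfl⟩ := hsurj x
      rw [mem_bot, hmkM]
      by_contra hgM
      exact hMmax (W.comap f) ⟨hW.comap f, e⟩ (lt_of_le_of_ne hM_le fun e' => hgM (e' ▸ mem_comap.2 hx))
  obtain ⟨Vb, hVb⟩ : ∃ Vb, Vb = V.map f := ⟨_, rfl⟩
  haveI hVbn : Vb.Normal := hVb ▸ Subgroup.Normal.map inferInstance f hsurj
  have hNV : N ≤ Vb := hN ▸ hVb ▸ map_mono hN₀V
  have hVbp : IsPGroup 2 Vb := hVb ▸ hV.map f
  have hcentral : Vb ≤ centralizer (N : Set (H ⧸ M)) := by
    have hW : N ⊓ centralizer (Vb : Set (H ⧸ M)) ≠ ⊥ := by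
      intro e
      have hsub : N.subgroupOf Vb ≠ ⊥ := by
        rw [Ne, subgroupOf_eq_bot, disjoint_iff, inf_eq_left.2 hNV]; exact hNbot
      refine CfsgLib.PGroup.inf_center_ne_bot hVbp (N.subgroupOf Vb) hsub (eq_bot_iff.2 ?_)
      rintro ⟨x, hxV⟩ ⟨hx, hxc⟩
      have : x ∈ N ⊓ centralizer (Vb : Set (H ⧸ M)) :=
        ⟨hx, mem_centralizer_iff.2 fun v hv => congrArg Subtype.val (mem_center_iff.1 hxc ⟨v, hv⟩)⟩
      rw [e, mem_bot] at this
      exact Subgroup.mem_bot.2 (Subtype.ext this)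
    have := (hmin _ inferInstance inf_le_left).resolve_left hW
    exact le_centralizer_iff.1 (inf_eq_left.1 this)
  have hcomm : ∀ a ∈ N, ∀ b ∈ N, a * b = b * a := fun a ha b hb =>
    mem_centralizer_iff.1 (hcentral (hNV hb)) a ha
  obtain ⟨W, hW⟩ : ∃ W : Subgroup (H ⧸ M), ∀ x, x ∈ W ↔ x ∈ N ∧ x * x = 1 :=
    ⟨{ carrier := {x | x ∈ N ∧ x * x = 1}
       one_mem' := ⟨one_mem _, one_mul 1⟩
       mul_mem' := fun {x y} hx hy => ⟨mul_mem hx.1 hy.1, by
        rw [show x * y * (x * y) = x * (y * x) * y by group, hcomm y hy.1 x hx.1,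
          show x * (x * y) * y = (x * x) * (y * y) by group, hx.2, hy.2, one_mul]⟩
       inv_mem' := fun {x} hx => ⟨inv_mem hx.1, by rw [← mul_inv_rev, hx.2, inv_one]⟩ }, fun x => Iff.rfl⟩
  have hWn : W.Normal := ⟨fun x hx g => (hW _).2 ⟨hNn.conj_mem x ((hW x).1 hx).1 g, by
    rw [show g * x * g⁻¹ * (g * x * g⁻¹) = g * (x * x) * g⁻¹ by group, ((hW x).1 hx).2, mul_one, mul_inv_cancel]⟩⟩
  have hWbot : W ≠ ⊥ := by
    intro e
    obtain ⟨x, hxN, hx⟩ := CfsgLib.PGroup.exists_orderOf_eq hVbp (H := N.subgroupOf Vb) (by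
      rw [Ne, subgroupOf_eq_bot, disjoint_iff, inf_eq_left.2 hNV]; exact hNbot)
    have h2 : (x : H ⧸ M) * x = 1 := by
      have := congrArg Subtype.val (hx ▸ pow_orderOf_eq_one x : x ^ 2 = 1)
      simpa [pow_two] using this
    have : (x : H ⧸ M) ∈ W := (hW _).2 ⟨hxN, h2⟩
    rw [e, mem_bot] at this
    rw [show x = 1 from Subtype.ext this, orderOf_one] at hx
    omega
  have hWN := (hmin W hWn fun x hx => ((hW x).1 hx).1).resolve_left hWbot
  refine ⟨M, hMn, hMV, N, hNn, fun x hx => ((hW x).1 (hWN.symm ▸ hx)).2, hf ▸ hVb ▸ hNV,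
    hf ▸ hVb ▸ hcentral, hmin, fun e => hne ?_⟩
  have h := mem_centralizer_iff.1 (e ▸ mem_top (f r) : f r ∈ centralizer (N : Set (H ⧸ M))) (f n)
    (hN ▸ mem_map_of_mem _ hn)
  rw [← hmkM, map_mul, map_mul, map_mul, ← h, map_inv, map_inv]
  group

theorem quot_three_gen (hE : IsThreeTranspositionClass E) (hV : IsPGroup 2 V)
    (hC : centralizer (V : Set H) ≤ V) (hcard : Nat.card (H ⧸ V) = 2 * 3 ^ k) (hk : k ≠ 0) :
    (∃ d e f : H ⧸ V, (d * d = 1 ∧ d ≠ 1) ∧ (e * e = 1 ∧ e ≠ 1) ∧ (f * f = 1 ∧ f ≠ 1) ∧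
      closure {d, e, f} = ⊤) ∧
      (∀ d : H ⧸ V, d * d = 1 → d ≠ 1 → ∀ x y : H ⧸ V, d * x * d = x⁻¹ → d * y * d = y⁻¹ →
        x ^ 3 = 1 → y ^ 3 = 1 → x * y = y * x → x ≠ 1 → y ∈ zpowers x) := by
  obtain ⟨hX, hlift⟩ := inv23_quot V hE hcard
  obtain ⟨M, hMn, hMV, N, hNn, hN2, hNV, hcentral, hmin, hne⟩ :=
    exists_chief V hV hC (hcard ▸ dvd_mul_of_dvd_right (dvd_pow_self 3 hk) 2)
  haveI := hMn
  haveI := hNn
  obtain ⟨π, hπ⟩ : ∃ π : H ⧸ M →* H ⧸ V, ∀ g : H, π (QuotientGroup.mk' M g) = QuotientGroup.mk' V g :=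
    ⟨QuotientGroup.lift M (QuotientGroup.mk' V) (by rw [QuotientGroup.ker_mk']; exact hMV), fun g => rfl⟩
  have hker : π.ker = V.map (QuotientGroup.mk' M) := by
    ext x
    obtain ⟨g, rfl⟩ := QuotientGroup.mk'_surjective M x
    rw [MonoidHom.mem_ker, hπ, QuotientGroup.mk'_apply, QuotientGroup.eq_one_iff]
    refine ⟨fun h => mem_map_of_mem _ h, fun h => ?_⟩
    obtain ⟨v, hv, e⟩ := Subgroup.mem_map.1 h
    have := mul_mem hv (hMV (QuotientGroup.eq.1 e))
    rwa [mul_inv_cancel_left] at this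
  refine chief_three_gen π (fun x => ?_) hX (E := QuotientGroup.mk' M '' E) ?_ ?_ ?_ N hN2 (hker ▸ hNV)
    (hker ▸ hcentral) hmin hne
  · obtain ⟨g, rfl⟩ := QuotientGroup.mk'_surjective V x
    exact ⟨_, hπ g⟩
  · rintro q _ ⟨e, he, rfl⟩
    obtain ⟨g, rfl⟩ := QuotientGroup.mk'_surjective M q
    exact ⟨g * e * g⁻¹, class_conj hE g he, by rw [map_mul, map_mul, map_inv]⟩
  · rintro _ ⟨d, hd, rfl⟩ _ ⟨e, he, rfl⟩
    rw [← map_mul, ← map_pow, ← map_pow]
    rcases hE.1.2 d hd e he with h | h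
    exacts [.inl (by rw [h, map_one]), .inr (by rw [h, map_one])]
  · intro i hi hi1
    obtain ⟨e, he, rfl⟩ := hlift i hi hi1
    exact ⟨_, ⟨e, he, rfl⟩, hπ e⟩

theorem pair_card {G : Type*} [Group G] {d e : G} (hd : d * d = 1) (he : e * e = 1) (h : (d * e) ^ 3 = 1) :
    ((closure ({d, e} : Set G) : Subgroup G) : Set G).Finite ∧
      ((closure ({d, e} : Set G) : Subgroup G) : Set G).ncard ≤ 6 := by
  have bde := Affine54.braid_of_cube hd he h
  have hsub : ((closure ({d, e} : Set G) : Subgroup G) : Set G) ⊆ Set.range (CfsgLib.SporMisc.wordK d e) := by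
    intro x hx
    have hinv : ∀ v ∈ ({d, e} : Set G), v⁻¹ = v := by
      rintro v (rfl | rfl)
      exacts [inv_eq_of_mul_eq_one_right hd, inv_eq_of_mul_eq_one_right he]
    have hstep : ∀ w ∈ Set.range (CfsgLib.SporMisc.wordK d e), ∀ v ∈ ({d, e} : Set G),
        w * v ∈ Set.range (CfsgLib.SporMisc.wordK d e) := by
      rintro _ ⟨i, rfl⟩ v hv
      obtain ⟨⟨j, hj⟩, ⟨j', hj'⟩⟩ := CfsgLib.SporMisc.wordK_mul_gen hd he bde i
      rcases hv with rfl | rfl
      exacts [⟨j, hj⟩, ⟨j', hj'⟩]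
    induction hx using Subgroup.closure_induction_right with
    | one => exact ⟨0, by simp [CfsgLib.SporMisc.wordK]⟩
    | mul_right v hv w hw ih => exact hstep _ ih _ hw
    | mul_inv_cancel v hv w hw ih => rw [hinv w hw]; exact hstep _ ih _ hw
  refine ⟨(Set.finite_range _).subset hsub, (Set.ncard_le_ncard hsub (Set.finite_range _)).trans ?_⟩
  rw [← Set.image_univ]
  exact (Set.ncard_image_le Set.finite_univ).trans (by rw [Set.ncard_univ]; simp)

theorem card_le_six {G : Type*} [Group G] {d e : G} {s : Set G} (hd : d * d = 1) (he : e * e = 1)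
    (h : (d * e) ^ 3 = 1) (hs : s ⊆ closure ({d, e} : Set G)) (htop : closure s = ⊤) : Nat.card G ≤ 6 := by
  have h2 := (pair_card hd he h).2
  have : closure ({d, e} : Set G) = ⊤ := eq_top_iff.2 (htop ▸ (closure_le _).2 hs)
  rwa [this, coe_top, Set.ncard_univ] at h2

/-- The conclusion. -/
theorem quot_iso (hE : IsThreeTranspositionClass E) (hE2 : ∃ a ∈ E, ∃ b ∈ E, a ≠ b) (hV : IsPGroup 2 V)
    (hC : centralizer (V : Set H) ≤ V) {P : Sylow 3 (H ⧸ V)} (hPn : (P : Subgroup (H ⧸ V)).Normal)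
    (hP : ∃ a : ℕ, (P : Subgroup (H ⧸ V)).index = 2 ^ a) :
    Nonempty (H ⧸ V ≃* Equiv.Perm (Fin 3)) ∨ ∃ (F : Type) (_ : Field F) (_ : Fintype F),
      Fintype.card F = 4 ∧ Nonempty (H ⧸ V ≃* ↥(_root_.commutator ↥(SU 3 F 2))) := by
  haveI : Fact (Nat.Prime 2) := ⟨Nat.prime_two⟩
  haveI : Fact (Nat.Prime 3) := ⟨Nat.prime_three⟩
  haveI := hPn
  obtain ⟨a, ha⟩ := hP
  obtain ⟨k, hk⟩ := IsPGroup.iff_card.1 P.2
  have hnot := not_isPGroup_two hE hE2
  have h2grp : ∀ t, Nat.card (H ⧸ V) = 2 ^ t → False := by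
    intro t ht
    obtain ⟨s, hs⟩ := IsPGroup.iff_card.1 hV
    refine hnot (IsPGroup.of_card (n := t + s) ?_)
    rw [card_eq_card_quotient_mul_card_subgroup V, ht, hs, pow_add]
  obtain ⟨c, hc⟩ : ∃ c, c = (QuotientGroup.mk' (P : Subgroup (H ⧸ V))).comp (QuotientGroup.mk' V) := ⟨_, rfl⟩
  have hcs : Function.Surjective c := by
    rw [hc]; exact (QuotientGroup.mk'_surjective _).comp (QuotientGroup.mk'_surjective V)
  obtain ⟨e₀, he₀, -⟩ := hE.2.1
  have hM : IsPGroup 2 ((H ⧸ V) ⧸ (P : Subgroup (H ⧸ V))) := IsPGroup.of_card (n := a) (by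
    rw [← index_eq_card, ha])
  have hle2 : (P : Subgroup (H ⧸ V)).index ≤ 2 := by
    have hle : (⊤ : Subgroup ((H ⧸ V) ⧸ (P : Subgroup (H ⧸ V)))) ≤ zpowers (c e₀) := by
      rw [← MonoidHom.range_eq_top.2 hcs, MonoidHom.range_eq_map c, ← hE.2.2, MonoidHom.map_closure,
        closure_le]
      rintro _ ⟨e, he, rfl⟩
      rw [image_single hE c hM he he₀]
      exact mem_zpowers _
    have h2 := card_le_of_le hle
    rw [card_top, Nat.card_zpowers, ← index_eq_card] at h2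
    exact h2.trans (Nat.le_of_dvd (by norm_num) (orderOf_dvd_of_pow_eq_one (by
      rw [pow_two, ← map_mul, class_sq hE he₀, map_one])))
  have hidx : (P : Subgroup (H ⧸ V)).index = 2 := by
    have : (P : Subgroup (H ⧸ V)).index ≠ 1 := by
      intro h1
      have hall : ∀ x : H ⧸ V, x * x = 1 → x = 1 := by
        intro x hx
        have hxP : x ∈ (P : Subgroup (H ⧸ V)) := index_eq_one.1 h1 ▸ mem_top x
        have h1' : orderOf x ∣ 3 ^ k := hk ▸ Subgroup.orderOf_dvd_natCard _ hxP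
        have h2' : orderOf x ∣ 2 := orderOf_dvd_of_pow_eq_one (by rw [pow_two, hx])
        rw [← orderOf_eq_one_iff]
        exact Nat.eq_one_of_dvd_coprimes (Nat.Coprime.pow_right k (by norm_num)) h2' h1'
      have hle : (⊤ : Subgroup H) ≤ V := by
        rw [← hE.2.2, closure_le]
        intro e he
        exact (QuotientGroup.eq_one_iff e).1 (hall _ (by rw [← QuotientGroup.mk_mul, class_sq hE he]; rfl))
      exact hnot (hV.of_injective (MonoidHom.id H |>.codRestrict V fun x => hle (mem_top x))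
        fun x y e => congrArg Subtype.val e)
    have : 0 < (P : Subgroup (H ⧸ V)).index := ha ▸ Nat.two_pow_pos a
    omega
  have hcard : Nat.card (H ⧸ V) = 2 * 3 ^ k := by
    rw [← (P : Subgroup (H ⧸ V)).card_mul_index, hk, hidx, mul_comm]
  have hk0 : k ≠ 0 := fun e => h2grp 1 (by rw [hcard, e]; rfl)
  obtain ⟨hX, -⟩ := inv23_quot V hE hcard
  obtain ⟨⟨d, e, f, ⟨hd, hd1⟩, ⟨he, he1⟩, ⟨hf, hf1⟩, htop⟩, hno3⟩ := quot_three_gen V hE hV hC hcard hk0
  have hefe : (e * f * e) * (e * f * e) = 1 := by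
    rw [show e * f * e * (e * f * e) = e * f * (e * e) * f * e by group, he, mul_one,
      show e * f * f * e = e * (f * f) * e by group, hf, mul_one, he]
  have hefe1 : e * f * e ≠ 1 := fun e' => hf1 (by
    calc f = (e * e) * f * (e * e) := by rw [he, one_mul, mul_one]
      _ = e * (e * f * e) * e := by group
      _ = 1 := by rw [e', mul_one, he])
  have hR : Affine54.Rels d e f :=
    ⟨hd, he, hf, hX.cube d e hd hd1 he he1, hX.cube d f hd hd1 hf hf1, hX.cube e f he he1 hf hf1,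
      hX.cube d _ hd hd1 hefe hefe1⟩
  have h54 := Affine54.card_le hR htop
  have hk3 : k ≤ 3 := by
    by_contra hk3
    have : 3 ^ 4 ≤ 3 ^ k := Nat.pow_le_pow_right (by norm_num) (by omega)
    omega
  have hne : ¬ (d = e ∧ d = f) := by
    rintro ⟨rfl, rfl⟩
    have h2 : Nat.card (H ⧸ V) ≤ 2 := by
      have hle : (⊤ : Subgroup (H ⧸ V)) ≤ zpowers d := by
        rw [← htop, closure_le]; intro x hx; simp at hx; rw [hx]; exact mem_zpowers d
      have := card_le_of_le hle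
      rwa [card_top, Nat.card_zpowers, orderOf_eq_prime (p := 2) (by rw [pow_two, hd]) hd1] at this
    have : 3 ≤ 3 ^ k := Nat.le_self_pow hk0 3
    omega
  interval_cases k
  · exact absurd rfl hk0
  · left
    rcases not_and_or.1 hne with h | h
    · exact Affine54.iso_perm_three hcard hd hd1 (hX.cube d e hd hd1 he he1) he h
    · exact Affine54.iso_perm_three hcard hd hd1 (hX.cube d f hd hd1 hf hf1) hf h
  · exfalso
    have hcomm : ∀ x ∈ (P : Subgroup (H ⧸ V)), ∀ y ∈ (P : Subgroup (H ⧸ V)), x * y = y * x :=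
      fun x hx y hy => congrArg Subtype.val
        ((IsPGroup.isMulCommutative_of_card_eq_prime_sq hk).is_comm.comm ⟨x, hx⟩ ⟨y, hy⟩)
    have hPd : ∀ z, z * z = 1 → z ≠ 1 → d * z ∈ (P : Subgroup (H ⧸ V)) := fun z hz hz1 =>
      (Subgroup.mul_mem_iff_of_index_two hidx).2
        ⟨fun e' => absurd e' (hX.not_mem P.2 hd hd1), fun e' => absurd e' (hX.not_mem P.2 hz hz1)⟩
    have hdinv : ∀ z : H ⧸ V, z * z = 1 → d * (d * z) * d = (d * z)⁻¹ := fun z hz => by
      rw [mul_inv_rev, inv_eq_of_mul_eq_one_right hd, inv_eq_of_mul_eq_one_right hz, ← mul_assoc d d z,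
        hd, one_mul]
    rcases eq_or_ne d e with rfl | hde
    · have := card_le_six hd hf (hX.cube d f hd hd1 hf hf1)
        (by rintro x (rfl | rfl | rfl) <;> exact subset_closure (by simp)) htop
      omega
    · have hxy := hcomm _ (hPd e he he1) _ (hPd f hf hf1)
      have hmem : d * f ∈ zpowers (d * e) :=
        hno3 d hd hd1 (d * e) (d * f) (hdinv e he) (hdinv f hf)
          (hX.cube d e hd hd1 he he1) (hX.cube d f hd hd1 hf hf1) hxy
          (fun e' => hde (by rw [← inv_eq_of_mul_eq_one_right hd, inv_eq_of_mul_eq_one_right e']))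
      have hsub : zpowers (d * e) ≤ closure ({d, e} : Set (H ⧸ V)) :=
        zpowers_le.2 (mul_mem (subset_closure (by simp)) (subset_closure (by simp)))
      have := card_le_six hd he (hX.cube d e hd hd1 he he1) (by
        rintro x (rfl | rfl | rfl)
        · exact subset_closure (by simp)
        · exact subset_closure (by simp)
        · have := mul_mem (subset_closure (by simp) : d ∈ closure ({d, e} : Set (H ⧸ V))) (hsub hmem)
          rwa [← mul_assoc, hd, one_mul] at this) htop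
      omega
  · right
    obtain ⟨F, hFld, hFin, hF⟩ : ∃ (F : Type) (_ : Field F) (_ : Fintype F), Fintype.card F = 4 :=
      ⟨GaloisField 2 2, inferInstance, Fintype.ofFinite _, by
        rw [Fintype.card_eq_nat_card, GaloisField.card 2 2 (by norm_num)]; rfl⟩
    obtain ⟨hc54, d', e', f', hR', htop'⟩ := Affine54.model (F := F) hF
    exact ⟨F, hFld, hFin, hF, Affine54.iso_of_triples hR htop hcard hR' htop' hc54⟩

/-- Splitting when the quotient is the group of order 54. -/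
theorem quot_splits (hE : IsThreeTranspositionClass E) {F : Type} [Field F] [Fintype F]
    (hF : Fintype.card F = 4) (φ : H ⧸ V ≃* ↥(_root_.commutator ↥(SU 3 F 2))) :
    ∃ K : Subgroup H, V.IsComplement' K := by
  obtain ⟨hc54, d', e', f', hR', htop'⟩ := Affine54.model (F := F) hF
  have hcard : Nat.card (H ⧸ V) = 2 * 3 ^ 3 := by rw [Nat.card_congr φ.toEquiv, hc54]; rfl
  obtain ⟨hX, hlift⟩ := inv23_quot V hE hcard
  obtain ⟨π, hπ⟩ : ∃ π, π = QuotientGroup.mk' V := ⟨_, rfl⟩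
  rw [← hπ] at hlift
  obtain ⟨d1, e1, f1, hR, htop⟩ : ∃ d e f : H ⧸ V, Affine54.Rels d e f ∧ closure {d, e, f} = ⊤ := by
    refine ⟨φ.symm d', φ.symm e', φ.symm f', ⟨?_, ?_, ?_, ?_, ?_, ?_, ?_⟩, ?_⟩
    · rw [← map_mul, hR'.sd, map_one]
    · rw [← map_mul, hR'.se, map_one]
    · rw [← map_mul, hR'.sf, map_one]
    · rw [← map_mul, ← map_pow, hR'.de, map_one]
    · rw [← map_mul, ← map_pow, hR'.df, map_one]
    · rw [← map_mul, ← map_pow, hR'.ef, map_one]
    · rw [← map_mul, ← map_mul, ← map_mul, ← map_pow, hR'.cross, map_one]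
    · have := congrArg (map φ.symm.toMonoidHom) htop'
      rw [MonoidHom.map_closure, map_top_of_surjective _ φ.symm.surjective] at this
      simpa [Set.image_insert_eq] using this
  have hne : ∀ {a b : H ⧸ V}, a * a = 1 → b * b = 1 → (a * b) ^ 3 = 1 →
      ({d1, e1, f1} : Set (H ⧸ V)) ⊆ closure {a, b} → False := fun ha hb hab hs => by
    have := card_le_six ha hb hab hs htop
    omega
  have hd1 : d1 ≠ 1 := fun e => hne hR.se hR.sf hR.ef (by
    rintro x (rfl | rfl | rfl)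
    exacts [e ▸ one_mem _, subset_closure (by simp), subset_closure (by simp)])
  have he1 : e1 ≠ 1 := fun e => hne hR.sd hR.sf hR.df (by
    rintro x (rfl | rfl | rfl)
    exacts [subset_closure (by simp), e ▸ one_mem _, subset_closure (by simp)])
  have hf1 : f1 ≠ 1 := fun e => hne hR.sd hR.se hR.de (by
    rintro x (rfl | rfl | rfl)
    exacts [subset_closure (by simp), subset_closure (by simp), e ▸ one_mem _])
  have hde : d1 ≠ e1 := fun e => hne hR.sd hR.sf hR.df (by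
    rintro x (rfl | rfl | rfl)
    exacts [subset_closure (by simp), e ▸ subset_closure (by simp), subset_closure (by simp)])
  have hdf : d1 ≠ f1 := fun e => hne hR.sd hR.se hR.de (by
    rintro x (rfl | rfl | rfl)
    exacts [subset_closure (by simp), subset_closure (by simp), e ▸ subset_closure (by simp)])
  have hef : e1 ≠ f1 := fun e => hne hR.sd hR.se hR.de (by
    rintro x (rfl | rfl | rfl)
    exacts [subset_closure (by simp), subset_closure (by simp), e ▸ subset_closure (by simp)])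
  have hdg : d1 ≠ e1 * f1 * e1 := fun e => hne hR.se hR.sf hR.ef (by
    rintro x (rfl | rfl | rfl)
    exacts [e ▸ mul_mem (mul_mem (subset_closure (by simp)) (subset_closure (by simp))) (subset_closure (by simp)),
      subset_closure (by simp), subset_closure (by simp)])
  obtain ⟨d, hd, rfl⟩ := hlift d1 hR.sd hd1
  obtain ⟨e, he, rfl⟩ := hlift e1 hR.se he1
  obtain ⟨f, hf, rfl⟩ := hlift f1 hR.sf hf1
  have hcube : ∀ p ∈ E, ∀ q ∈ E, π p ≠ π q → (π p * π q) ^ 3 = 1 → (p * q) ^ 3 = 1 := by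
    intro p hp q hq hne h3
    refine (hE.1.2 p hp q hq).resolve_left fun h2 => hne ?_
    have h2' : (π p * π q) ^ 2 = 1 := by rw [← map_mul, ← map_pow, h2, map_one]
    rw [pow_succ, h2', one_mul] at h3
    exact (mul_eq_one_iff_eq_inv.1 h3).trans
      (inv_eq_of_mul_eq_one_right (by rw [← map_mul, class_sq hE hq, map_one]))
  have hg : e * f * e ∈ E := by
    have := class_conj hE e hf
    rwa [inv_eq_of_mul_eq_one_right (class_sq hE he)] at this
  have hK : Affine54.Rels d e f := ⟨class_sq hE hd, class_sq hE he, class_sq hE hf,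
    hcube d hd e he hde hR.de, hcube d hd f hf hdf hR.df, hcube e he f hf hef hR.ef,
    hcube d hd _ hg (by rwa [map_mul, map_mul]) (by rw [map_mul, map_mul]; exact hR.cross)⟩
  obtain ⟨hfin, hK54⟩ := Affine54.closure_le_54 hK
  haveI : Finite (closure ({d, e, f} : Set H)) := hfin.to_subtype
  have hb := Affine54.bij_of_surj π (S := {π d, π e, π f}) rfl hK54 htop
    (by rintro x (rfl | rfl | rfl) <;> simp) (by rw [hcard]; rfl)
  refine ⟨closure {d, e, f}, isComplement'_of_disjoint_and_mul_eq_univ ?_ ?_⟩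
  · rw [disjoint_iff, eq_bot_iff]
    rintro x ⟨hxV, hxK⟩
    have : (⟨x, hxK⟩ : closure ({d, e, f} : Set H)) = 1 := hb.1 (by
      simp only [MonoidHom.comp_apply, coe_subtype, map_one]
      rw [hπ]; exact (QuotientGroup.eq_one_iff x).2 hxV)
    exact Subgroup.mem_bot.2 (congrArg Subtype.val this)
  · refine Set.eq_univ_of_forall fun x => ?_
    obtain ⟨⟨y, hy⟩, hy'⟩ := hb.2 (π x)
    simp only [MonoidHom.comp_apply, coe_subtype] at hy'
    refine Set.mem_mul.2 ⟨x * y⁻¹, ?_, y, hy, by group⟩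
    rw [SetLike.mem_coe, ← QuotientGroup.eq_one_iff, ← QuotientGroup.mk'_apply, map_mul, map_inv, ← hπ, hy',
      mul_inv_cancel]

end Class

end CfsgLib.ThreeTransp.RadicalFiftyFour
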