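import Cfsg.Agent.Lib.ThreeTransp.Rank3
import Cfsg.Agent.Lib.ThreeTransp.Width1
import Cfsg.Agent.Lib.ThreeTransp.LocalSymThree
import Cfsg.Agent.Lib.ThreeTransp.RadicalFiftyFour
import Cfsg.Prelude.Def_CaseTheorems

/-!
# Fischer: a non-central odd core in the local group forces `S₅`

If two commuting transpositions `d`, `e` and a third `f` are such that `e * f` lies in the odd core
of the group generated by the link of `d`, the commuting graph has no triangles; counting fixed
points of elements of order 3 modulo 3 then leaves three members in each link.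
-/

set_option autoImplicit false
set_option linter.unusedSectionVars false

namespace CfsgLib.ThreeTransp.OddCoreLink

open Subgroup

variable {G : Type*} [Group G]

/-- Conjugation by an involution. -/
def cj (g h : G) : G := g * h * g

theorem cj_invol {g : G} (hg : g * g = 1) (a : G) : cj g (cj g a) = a := by
  simp [cj, mul_assoc, cancel₂ hg, hg]

theorem cj_fix {g a : G} (hg : g * g = 1) (h : Commute g a) : cj g a = a := by
  rw [cj, h.eq, mul_assoc, hg, mul_one]

theorem cj_inj {g a b : G} (hg : g * g = 1) (h : cj g a = cj g b) : a = b := by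
  rw [← cj_invol hg a, h, cj_invol hg b]

theorem cj_comm {g h : G} (hc : Commute g h) (a : G) : cj g (cj h a) = cj h (cj g a) := by
  calc cj g (cj h a) = (g * h) * a * (h * g) := by simp only [cj]; group
    _ = (h * g) * a * (g * h) := by rw [hc.eq]
    _ = cj h (cj g a) := by simp only [cj]; group

theorem cj_braid {g h : G} (hb : g * h * g = h * g * h) (a : G) :
    cj g (cj h (cj g a)) = cj h (cj g (cj h a)) := by
  calc cj g (cj h (cj g a)) = (g * h * g) * a * (g * h * g) := by simp only [cj]; group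
    _ = (h * g * h) * a * (h * g * h) := by rw [hb]
    _ = _ := by simp only [cj]; group

theorem cj_conj (g h a : G) : cj (cj g h) a = cj g (cj h (cj g a)) := by
  simp only [cj]; group

theorem com_cj {g : G} (hg : g * g = 1) {a b : G} : Commute (cj g a) (cj g b) ↔ Commute a b := by
  have hgi := inv_eq_of_mul_eq_one_right hg
  have h := Commute.conj_iff (a := a) (b := b) g
  rwa [hgi] at h

theorem com_move {g : G} (hg : g * g = 1) {a b : G} : Commute a (cj g b) ↔ Commute (cj g a) b := by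
  conv_lhs => rw [← cj_invol hg a]
  exact com_cj hg

/-- An identity in the Coxeter group of type `D₅`. -/
theorem d5 {d c x e y : G} (sd : d * d = 1) (sc : c * c = 1) (sx : x * x = 1) (sy : y * y = 1)
    (bdc : d * c * d = c * d * c) (bcx : c * x * c = x * c * x) (bxe : x * e * x = e * x * e)
    (bxy : x * y * x = y * x * y) (se : e * e = 1) (cdx : Commute d x) (cde : Commute d e)
    (cdy : Commute d y) (cce : Commute c e) (ccy : Commute c y) (cey : Commute e y)
    (hne : ¬ Commute e x) (hey : e ≠ y) :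
    Commute d (cj c (cj x (cj y (cj d (cj c (cj x e)))))) ∧
      Commute e (cj c (cj x (cj y (cj d (cj c (cj x e)))))) ∧
      ¬ Commute c (cj c (cj x (cj y (cj d (cj c (cj x e)))))) ∧
      cj c (cj x (cj y (cj d (cj c (cj x e))))) ≠ d := by
  have hcd : cj c d = cj d c := bdc.symm
  have hxc : cj x c = cj c x := bcx.symm
  have hyx : cj y x = cj x y := bxy.symm
  have hex : cj e x = cj x e := bxe.symm
  obtain ⟨p, hp⟩ : ∃ p, p = cj x e := ⟨_, rfl⟩
  have hdp : cj d p = p := by
    rw [hp, cj_comm cdx, cj_fix sd cde]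
  rw [← hp]
  have hmv : ∀ A, cj x (cj y (cj d A)) = cj d (cj x (cj y A)) := fun A => by
    rw [cj_comm cdy.symm, cj_comm cdx.symm]
  refine ⟨?_, ?_, ?_, ?_⟩
  · rw [com_move sc, hcd, hmv, com_cj sd, com_move sx, hxc, cj_comm ccy.symm, com_cj sc, com_move sy, hyx,
      hp, com_cj sx]
    exact cey.symm
  · rw [com_move sc, cj_fix sc cce, com_move sx, ← hp, cj_comm cdy.symm, com_move sd, hdp, hp, ← hex,
      cj_comm cce, cj_comm cey.symm, com_cj se, ← hxc, com_move sy, hyx, com_cj sx]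
    exact ccy.symm
  · rw [com_move sc, cj_fix sc (Commute.refl c), com_move sx, hxc, com_move sy, cj_comm ccy.symm]
    intro h
    rw [← com_move sc, cj_braid bdc.symm, hdp, com_move sd, cj_comm cdy, cj_fix sd cdx, com_move sc, hyx,
      hp, com_move sx, cj_braid bcx.symm, cj_fix sc ccy, ← cj_fix sc cce, com_cj sc, ← hyx,
      ← cj_fix sy cey.symm, com_cj sy] at h
    exact hne h.symm
  · intro h
    have h1 := congrArg (cj c) h
    rw [cj_invol sc, hcd, hmv] at h1
    have h2 := congrArg (cj x) (cj_inj sd h1)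
    rw [cj_invol sx, hxc, cj_comm ccy.symm] at h2
    have h3 := congrArg (cj y) (cj_inj sc h2)
    rw [cj_invol sy, hp, hyx] at h3
    exact hey (cj_inj sx h3)

variable {D : Set G}

/-- `e * f` behaves as an element of the odd core of the local group of `d`. -/
def Good (D : Set G) (d e f : G) : Prop :=
  e ∈ link D d ∧ f ∈ link D d ∧ ¬ Commute e f ∧
    ∀ w ∈ D, Commute d w → Commute e w → w ≠ e → Commute f w

theorem Good.conj (hD : IsTT D) {d e f : G} (h : Good D d e f) (g : G) :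
    Good D (g * d * g⁻¹) (g * e * g⁻¹) (g * f * g⁻¹) := by
  refine ⟨link_conj hD g h.1, link_conj hD g h.2.1, fun hc => h.2.2.1 ((Commute.conj_iff g).1 hc),
    fun w hw hdw hew hwe => ?_⟩
  have hw' : g⁻¹ * w * g ∈ D := by simpa using hD.conj g⁻¹ w hw
  have key : ∀ u : G, Commute (g * u * g⁻¹) w ↔ Commute u (g⁻¹ * w * g) := fun u => by
    rw [← Commute.conj_iff g (a := u), show g * (g⁻¹ * w * g) * g⁻¹ = w by group]
  exact (key f).2 (h.2.2.2 _ hw' ((key d).1 hdw) ((key e).1 hew) fun e' => hwe (by rw [← e']; group))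

theorem link_symm {d e : G} (hd : d ∈ D) (he : e ∈ link D d) : d ∈ link D e :=
  ⟨hd, he.2.1.symm, he.2.2.symm⟩

/-- The group acts transitively on ordered commuting pairs. -/
theorem exists_pair_map [Finite G] (h : FischerHyp D) {d e d' e' : G} (hd : d ∈ D) (he : e ∈ link D d)
    (hd' : d' ∈ D) (he' : e' ∈ link D d') : ∃ g, g * d * g⁻¹ = d' ∧ g * e * g⁻¹ = e' := by
  obtain ⟨g₁, hg₁⟩ := h.isClass d hd d' hd'
  have h1 : g₁ * e * g₁⁻¹ ∈ link D d' := hg₁ ▸ link_conj h.tt g₁ he
  obtain ⟨g₂, hg₂, hg₂e⟩ := h.exists_conj_link hd' h1 he'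
  have hc : g₂ * d' = d' * g₂ := by
    have hle : closure (link D d') ≤ centralizer ({d'} : Set G) := by
      rw [closure_le]
      exact fun u hu => mem_centralizer_singleton_iff.2 hu.2.2.symm.eq
    exact mem_centralizer_singleton_iff.1 (hle hg₂)
  refine ⟨g₂ * g₁, ?_, ?_⟩
  · calc g₂ * g₁ * d * (g₂ * g₁)⁻¹ = g₂ * (g₁ * d * g₁⁻¹) * g₂⁻¹ := by group
      _ = d' := by rw [hg₁, hc, mul_inv_cancel_right]
  · rw [← hg₂e]; group

/-- An odd core which is not central gives a good triple. -/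
theorem exists_good [Finite G] (hD : IsTT D) {d : G}
    (hN : ¬ Cfsg.oddCore ↥(closure (link D d)) ≤ center ↥(closure (link D d))) :
    ∃ e f, Good D d e f := by
  obtain ⟨n, hnN, hnc⟩ : ∃ n, n ∈ Cfsg.oddCore ↥(closure (link D d)) ∧ n ∉ center ↥(closure (link D d)) :=
    SetLike.not_le_iff_exists.1 hN
  obtain ⟨e, he, hne⟩ : ∃ e ∈ link D d, ¬ Commute (n : G) e := by
    by_contra! hall
    refine hnc (mem_center_iff.2 fun y => Subtype.ext ?_)
    have hle : closure (link D d) ≤ centralizer ({(n : G)} : Set G) := by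
      rw [closure_le]
      exact fun u hu => mem_centralizer_singleton_iff.2 (hall u hu).symm.eq
    exact mem_centralizer_singleton_iff.1 (hle y.2)
  obtain ⟨N, hNdef⟩ : ∃ N, N = (Cfsg.oddCore ↥(closure (link D d))).map (closure (link D d)).subtype :=
    ⟨_, rfl⟩
  have hNodd : ∀ z ∈ N, z * z = 1 → z = 1 := by
    intro z hz hzz
    rw [hNdef] at hz
    obtain ⟨z', hz', rfl⟩ := hz
    have h2 : z' ^ 2 = 1 := Subtype.ext (by rw [pow_two]; exact hzz)
    have hodd : Odd (orderOf z') :=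
      CfsgLib.Cores.odd_card_oddCore.of_dvd_nat (Subgroup.orderOf_dvd_natCard _ hz')
    have := Nat.le_of_dvd (by norm_num) (orderOf_dvd_of_pow_eq_one h2)
    have h1 : orderOf z' = 1 := by
      obtain ⟨m, hm⟩ := hodd
      omega
    rw [orderOf_eq_one_iff.1 h1]; rfl
  have hNconj : ∀ u ∈ closure (link D d), ∀ z ∈ N, u * z * u⁻¹ ∈ N := by
    intro u hu z hz
    rw [hNdef] at hz ⊢
    obtain ⟨z', hz', rfl⟩ := hz
    exact ⟨⟨u, hu⟩ * z' * ⟨u, hu⟩⁻¹, (inferInstance : Normal _).conj_mem z' hz' _, rfl⟩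
  have hn : (n : G) ∈ N := hNdef ▸ mem_map_of_mem _ hnN
  have heH : e ∈ closure (link D d) := subset_closure he
  obtain ⟨f, hf⟩ : ∃ f, f = (n : G) * e * (n : G)⁻¹ := ⟨_, rfl⟩
  have hfe : f ≠ e := fun h => hne (mul_inv_eq_iff_eq_mul.1 (hf ▸ h))
  have hnd : Commute d (n : G) := by
    have hle : closure (link D d) ≤ centralizer ({d} : Set G) := by
      rw [closure_le]
      exact fun u hu => mem_centralizer_singleton_iff.2 hu.2.2.symm.eq
    exact (mem_centralizer_singleton_iff.1 (hle n.2)).symm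
  have hfl : f ∈ link D d := by
    have := link_conj hD (n : G) he
    rwa [← hnd.eq, mul_inv_cancel_right, ← hf] at this
  have hse := hD.sq e he.1
  have hsf := hD.sq f hfl.1
  have hef : e * f ∈ N := by
    have := mul_mem (hNconj e heH _ hn) (inv_mem hn)
    rw [inv_eq_self hse] at this
    rw [hf, show e * ((n : G) * e * (n : G)⁻¹) = e * n * e * (n : G)⁻¹ by group]
    exact this
  have hcomm : ∀ a b : G, a * a = 1 → b * b = 1 → Commute a b → a * b ∈ N → a = b := by
    intro a b ha hb hab hN'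
    have : a * b = 1 := hNodd _ hN' (by rw [hab.symm.mul_mul_mul_comm, ha, hb, one_mul])
    exact (eq_inv_of_mul_eq_one_left this).trans (inv_eq_self hb)
  have hnef : ¬ Commute e f := fun h => hfe (hcomm e f hse hsf h hef).symm
  refine ⟨e, f, he, hfl, hnef, fun w hw hdw hew hwe => ?_⟩
  by_contra hfw
  have hwd : w ≠ d := fun h => hfw (h ▸ hfl.2.2.symm)
  have hsw := hD.sq w hw
  have hwH : w ∈ closure (link D d) := subset_closure ⟨hw, hwd, hdw⟩
  have h1 : e * (w * f * w) ∈ N := by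
    have := hNconj w hwH _ hef
    rw [inv_eq_self hsw] at this
    rwa [show w * (e * f) * w = (w * e) * f * w by group, ← hew.eq,
      show e * w * f * w = e * (w * f * w) by group] at this
  have h2 : w * f ∈ N := by
    have := mul_mem (inv_mem hef) h1
    rw [← hD.braid hfl.1 hw hfw] at this
    rwa [mul_inv_rev, inv_eq_self hse, inv_eq_self hsf,
      show f * e * (e * (f * w * f)) = f * (e * e) * f * w * f by group, hse, mul_one, hsf, one_mul] at this
  have h3 : e * w ∈ N := by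
    have := mul_mem hef (inv_mem h2)
    rwa [mul_inv_rev, inv_eq_self hsw, inv_eq_self hsf, show e * f * (f * w) = e * (f * f) * w by group,
      hsf, mul_one] at this
  exact hwe (hcomm e w hse hsw hew h3).symm

theorem Good.all [Finite G] (h : FischerHyp D) {d₀ e₀ f₀ : G} (hd₀ : d₀ ∈ D) (hG : Good D d₀ e₀ f₀)
    {d e : G} (hd : d ∈ D) (he : e ∈ link D d) : ∃ f, Good D d e f := by
  obtain ⟨g, h1, h2⟩ := exists_pair_map h hd₀ hG.1 hd he
  exact ⟨_, h1 ▸ h2 ▸ hG.conj h.tt g⟩

theorem noncommute_pair [Finite G] (h : FischerHyp D) {d e y a f : G} (hd : d ∈ D)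
    (he : e ∈ link D d) (hy : y ∈ link D d) (hey : Commute e y) (hye : y ≠ e)
    (ha : Good D e d a) (hf : Good D d e f) : Commute a f := by
  by_contra haf
  obtain ⟨g, hgd, hge⟩ := exists_pair_map h hd he hd hy
  have hn := hgd ▸ hge ▸ hf.conj h.tt g
  have hc := hgd ▸ hge ▸ ha.conj h.tt g
  have hcn : ¬ Commute (g * a * g⁻¹) (g * f * g⁻¹) := fun hh => haf ((Commute.conj_iff g).1 hh)
  obtain ⟨c, hcdef⟩ : ∃ c, c = g * a * g⁻¹ := ⟨_, rfl⟩
  obtain ⟨n, hndef⟩ : ∃ n, n = g * f * g⁻¹ := ⟨_, rfl⟩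
  rw [← hcdef] at hc hcn
  rw [← hndef] at hn hcn
  have hcD := hc.2.1.1
  have hnD := hn.2.1.1
  have sc := h.tt.sq c hcD
  have sn := h.tt.sq n hnD
  have sd := h.tt.sq d hd
  have hne : Commute n e := hn.2.2.2 e he.1 he.2.2 hey.symm (fun e' => hye e'.symm)
  have hne' : n ≠ e := fun e' => hn.2.2.1 (e'.symm ▸ hey.symm)
  have hdn : Commute d n := hn.2.1.2.2
  have hnd : n ≠ d := hn.2.1.2.1
  have han : Commute a n := ha.2.2.2 n hnD hne.symm hdn hnd
  have hce : Commute c e := hc.2.2.2 e he.1 hey.symm he.2.2 he.2.1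
  have hfy : Commute f y := hf.2.2.2 y hy.1 hy.2.2 hey hye
  have hcf : Commute c f := hc.2.2.2 f hf.2.1.1 hfy.symm hf.2.1.2.2 hf.2.1.2.1
  have hnf : Commute n f := hn.2.2.2 f hf.2.1.1 hf.2.1.2.2 hfy.symm
    fun e' => hf.2.2.1 (e'.symm ▸ hey)
  have hce' : c ≠ e := fun e' => hc.2.2.1 (e'.symm ▸ he.2.2)
  -- the translated block property
  have hblock : ∀ w ∈ D, Commute c w → Commute e w → w ≠ e → Commute f w := by
    intro w hw hcw hew hwe
    have hbr := h.tt.braid hd hcD hc.2.2.1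
    have e1 : cj c (cj d c) = d := by rw [cj, cj, hbr]; simp [mul_assoc, cancel₂ sc, sc]
    obtain ⟨w', hw'⟩ : ∃ w', w' = cj c (cj d w) := ⟨_, rfl⟩
    have hfix : ∀ u, Commute c u → Commute d u → cj c (cj d u) = u := fun u h1 h2 => by
      rw [cj_fix sd h2, cj_fix sc h1]
    have hw'D : w' ∈ D := hw' ▸ h.tt.cj_mem hcD (h.tt.cj_mem hd hw)
    have k1 : Commute d w' := by
      have := (com_cj sc).2 ((com_cj sd).2 hcw)
      rwa [e1, ← hw'] at this
    have k2 : Commute e w' := by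
      rw [hw', ← hfix e hce he.2.2, com_cj sc, com_cj sd]; exact hew
    have k3 : w' ≠ e := fun e' => hwe (by
      rw [hw', ← hfix e hce he.2.2] at e'
      exact cj_inj sd (cj_inj sc e'))
    have k4 := hf.2.2.2 w' hw'D k1 k2 k3
    rwa [hw', ← hfix f hcf hf.2.1.2.2, com_cj sc, com_cj sd] at k4
  have hbcn : cj n c = cj c n := h.tt.braid hnD hcD fun hh => hcn hh.symm
  obtain ⟨z, hz⟩ : ∃ z, z = cj n (cj c a) := ⟨_, rfl⟩
  have hzD : z ∈ D := hz ▸ h.tt.cj_mem hnD (h.tt.cj_mem hcD ha.2.1.1)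
  have z1 : Commute c z := by rw [hz, com_move sn, hbcn, com_cj sc]; exact han.symm
  have z2 : Commute e z := by
    rw [hz, com_move sn, cj_fix sn hne, com_move sc, cj_fix sc hce]; exact ha.2.1.2.2
  have z3 : z ≠ e := fun e' => by
    rw [hz, ← cj_fix sn hne] at e'
    have e2 := cj_inj sn e'
    rw [← cj_fix sc hce] at e2
    exact ha.2.1.2.1 (cj_inj sc e2)
  have z4 := hblock z hzD z1 z2 z3
  rw [hz, com_move sn, cj_fix sn hnf, com_move sc, cj_fix sc hcf] at z4
  exact haf z4.symm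

/-- The commuting graph has no triangles. -/
theorem no_triangle [Finite G] (h : FischerHyp D) {d₀ e₀ f₀ : G} (hd₀ : d₀ ∈ D)
    (hG : Good D d₀ e₀ f₀) {d e y : G} (hd : d ∈ D) (he : e ∈ link D d) (hy : y ∈ link D d)
    (hey : Commute e y) : y = e := by
  by_contra hye
  obtain ⟨a, ha⟩ := Good.all h hd₀ hG he.1 (link_symm hd he)
  have hsub : link D d ⊆ link D a := by
    intro x hx
    have hxa : x ≠ a := fun e' => ha.2.2.1 (e' ▸ hx.2.2)
    refine ⟨hx.1, hxa, ?_⟩
    by_cases hxe : Commute e x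
    · by_cases hxe' : x = e
      · rw [hxe']; exact ha.2.1.2.2.symm
      · exact ha.2.2.2 x hx.1 hxe hx.2.2 hx.2.1
    · by_cases hgx : ∀ w ∈ D, Commute d w → Commute e w → w ≠ e → Commute x w
      · exact noncommute_pair h hd he hy hey hye ha ⟨he, hx, hxe, hgx⟩
      · push Not at hgx
        obtain ⟨w, hw, hdw, hew, hwe, hxw⟩ := hgx
        by_contra hax
        have hwd : w ≠ d := fun e' => hxw (e' ▸ hx.2.2.symm)
        obtain ⟨k1, k2, k3, k4⟩ := d5 (h.tt.sq d hd) (h.tt.sq a ha.2.1.1) (h.tt.sq x hx.1) (h.tt.sq w hw)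
          (h.tt.braid hd ha.2.1.1 ha.2.2.1) (h.tt.braid ha.2.1.1 hx.1 hax)
          (h.tt.braid hx.1 he.1 fun hh => hxe hh.symm) (h.tt.braid hx.1 hw hxw) (h.tt.sq e he.1)
          hx.2.2 he.2.2 hdw ha.2.1.2.2.symm (ha.2.2.2 w hw hew hdw hwd) hew hxe hwe.symm
        exact k3 (ha.2.2.2 _ (h.tt.cj_mem ha.2.1.1 (h.tt.cj_mem hx.1 (h.tt.cj_mem hw
          (h.tt.cj_mem hd (h.tt.cj_mem ha.2.1.1 (h.tt.cj_mem hx.1 he.1)))))) k2 k1 k4)
  have heq : link D d = link D a :=
    Set.eq_of_subset_of_ncard_le hsub (link_ncard_eq h.tt h.isClass hd ha.2.1.1).ge (Set.toFinite _)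
  have := h.tt.link_inj h.sol hd ha.2.1.1 heq
  exact ha.2.2.1 (this ▸ Commute.refl d)

/-! ### Counting fixed points modulo 3 -/

theorem commute_of_commute_mul (hD : IsTT D) {x a b : G} (hx : x ∈ D) (ha : a ∈ D) (hb : b ∈ D)
    (hne : a ≠ b) (h : Commute x (a * b)) : Commute x a ∧ Commute x b := by
  have sx := hD.sq x hx
  have hab : x * a * x * (x * b * x) = a * b := by
    rw [show x * a * x * (x * b * x) = x * a * (x * x) * b * x by group, sx, mul_one, mul_assoc x a b,
      h.eq, mul_assoc, sx, mul_one]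
  have key : ∀ u : G, Commute x u → x * u * x = u := fun u hu => by
    rw [hu.eq, mul_assoc, sx, mul_one]
  have key' : ∀ u : G, x * u * x = u → Commute x u := fun u hu => by
    show x * u = u * x
    calc x * u = x * u * x * x := by rw [mul_assoc _ x x, sx, mul_one]
      _ = u * x := by rw [hu]
  by_cases hxa : Commute x a
  · rw [key a hxa] at hab
    exact ⟨hxa, key' b (mul_left_cancel hab)⟩
  by_cases hxb : Commute x b
  · rw [key b hxb] at hab
    exact absurd (key' a (mul_right_cancel hab)) hxa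
  exfalso
  rw [hD.braid hx ha hxa, hD.braid hx hb hxb] at hab
  have h1 : x * (a * b) * x * b = b := mul_left_cancel (a := a) (by
    calc a * (x * (a * b) * x * b) = a * x * a * (b * x * b) := by group
      _ = a * b := hab)
  rw [h.eq, mul_assoc (a * b) x x, sx, mul_one, mul_assoc, hD.sq b hb, mul_one] at h1
  exact hne h1

/-- A 3-group acting by conjugation. -/
theorem modEq_fixed [Finite G] (P : Subgroup G) (hP : IsPGroup 3 P) (S : Set G)
    (hS : ∀ p ∈ P, ∀ x ∈ S, p * x * p⁻¹ ∈ S) :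
    S.ncard ≡ {x | x ∈ S ∧ ∀ p ∈ P, Commute p x}.ncard [MOD 3] := by
  haveI : Fact (Nat.Prime 3) := ⟨Nat.prime_three⟩
  letI : MulAction P S :=
    { smul := fun p x => ⟨p * x * (p : G)⁻¹, hS p p.2 x x.2⟩
      one_smul := fun x => Subtype.ext (show ((1 : P) : G) * x * ((1 : P) : G)⁻¹ = x by simp)
      mul_smul := fun p q x => Subtype.ext (show ((p * q : P) : G) * x * ((p * q : P) : G)⁻¹ =
        p * (q * x * (q : G)⁻¹) * (p : G)⁻¹ by rw [Subgroup.coe_mul]; group) }
  have h := hP.card_modEq_card_fixedPoints S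
  rw [Nat.card_coe_set_eq] at h
  have e : Nat.card (MulAction.fixedPoints P S) = {x | x ∈ S ∧ ∀ p ∈ P, Commute p x}.ncard := by
    rw [← Nat.card_coe_set_eq]
    refine Nat.card_congr
      { toFun := fun x => ⟨x.1.1, x.1.2, fun p hp => ?_⟩
        invFun := fun x => ⟨⟨x.1, x.2.1⟩, fun p => Subtype.ext ?_⟩
        left_inv := fun x => rfl
        right_inv := fun x => rfl }
    · exact mul_inv_eq_iff_eq_mul.1 (congrArg Subtype.val (x.2 ⟨p, hp⟩))
    · show (p : G) * x.1 * (p : G)⁻¹ = x.1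
      rw [(x.2.2 p p.2).eq, mul_inv_cancel_right]
  rwa [e] at h

theorem isPGroup_zpowers_mul [Finite G] (hD : IsTT D) {a b : G} (ha : a ∈ D) (hb : b ∈ D)
    (hab : ¬ Commute a b) : IsPGroup 3 (zpowers (a * b)) := by
  haveI : Fact (Nat.Prime 3) := ⟨Nat.prime_three⟩
  refine IsPGroup.of_card (n := 1) ?_
  rw [Nat.card_zpowers, pow_one]
  refine orderOf_eq_prime (pow_three_eq_one (hD.sq a ha) (hD.sq b hb) (hD.braid ha hb hab)) fun e => hab ?_
  rw [(eq_inv_of_mul_eq_one_left e).trans (inv_eq_self (hD.sq b hb))]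

/-- Two non-commuting members have at most one common neighbour. -/
theorem no_square [Finite G] (h : FischerHyp D) {d₀ e₀ f₀ : G} (hd₀ : d₀ ∈ D)
    (hG : Good D d₀ e₀ f₀) {d a e f : G} (hd : d ∈ D) (ha : a ∈ D) (hda : ¬ Commute d a)
    (hed : e ∈ link D d) (hea : e ∈ link D a) (hfd : f ∈ link D d) (hfa : f ∈ link D a) : e = f := by
  haveI : Fact (Nat.Prime 3) := ⟨Nat.prime_three⟩
  by_contra hef
  have hw : ∀ d ∈ D, ∀ e ∈ link D d, ∀ y ∈ link D d, e ≠ y → ¬ Commute e y :=
    fun d hd e he y hy hne hc => hne (no_triangle h hd₀ hG hd he hy hc).symm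
  have hnef := hw d hd e hed f hfd hef
  -- `|D| ≡ 1`
  have hone : D.ncard ≡ 1 [MOD 3] := by
    obtain ⟨S, hS⟩ : ∃ S, S = (Subtype.val : ↥(closure (link D d)) → G) ⁻¹' link D d := ⟨_, rfl⟩
    have hW : IsW1 S := by
      subst hS
      refine ⟨fun u hu => Subtype.ext (h.tt.sq _ hu.1), fun u hu v hv => Subtype.ext ?_, fun u hu v hv => ?_⟩
      · show (u : G) * v * u = v * u * v
        by_cases huv : (u : G) = v
        · rw [huv]
        · exact h.tt.braid hu.1 hv.1 (hw d hd _ hu _ hv huv)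
      · show (u : G) * v * u ∈ link D d
        have := link_conj h.tt (u : G) (show (v : G) ∈ link D d from hv)
        rwa [show (u : G) * d * (u : G)⁻¹ = d by rw [← hu.2.2.eq, mul_inv_cancel_right], h.tt.inv_eq hu.1]
          at this
    have hgen : closure S = ⊤ := hS ▸ Subgroup.closure_closure_coe_preimage
    obtain ⟨P, hP⟩ : ∃ P, P = (Cfsg.pCore 3 ↥(closure (link D d))).map (closure (link D d)).subtype :=
      ⟨_, rfl⟩
    have hPp : IsPGroup 3 P := hP ▸ (CfsgLib.Cores.isPGroup_pCore 3).map _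
    refine (modEq_fixed P hPp D fun p _ x hx => h.tt.conj p x hx).trans ?_
    have hmem : ∀ u ∈ link D d, ∀ v ∈ link D d, u * v ∈ P := fun u hu v hv => hP ▸
      mem_map_of_mem _ (hW.mul_mem_pCore hgen (a := ⟨u, subset_closure hu⟩) (b := ⟨v, subset_closure hv⟩)
        (hS ▸ hu) (hS ▸ hv))
    have : {x | x ∈ D ∧ ∀ p ∈ P, Commute p x} = {d} := by
      refine Set.eq_singleton_iff_unique_mem.2 ⟨⟨hd, fun p hp => ?_⟩, fun x hx => ?_⟩
      · have hle : closure (link D d) ≤ centralizer ({d} : Set G) := by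
          rw [closure_le]
          exact fun u hu => mem_centralizer_singleton_iff.2 hu.2.2.symm.eq
        rw [hP] at hp
        obtain ⟨p', -, rfl⟩ := hp
        exact mem_centralizer_singleton_iff.1 (hle p'.2)
      · obtain ⟨hxD, hxP⟩ := hx
        have hpair := fun u hu v hv (huv : u ≠ v) =>
          commute_of_commute_mul h.tt hxD (hu : u ∈ link D d).1 (hv : v ∈ link D d).1 huv
            (hxP _ (hmem u hu v hv)).symm
        have hall : ∀ u ∈ link D d, Commute x u := by
          intro u hu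
          by_cases hue : u = e
          · exact hue ▸ (hpair e hed f hfd hef).1
          · exact (hpair u hu e hed hue).1
        by_contra hxd
        by_cases hxl : x ∈ link D d
        · have h1 : x = e := by_contra fun hne => hw d hd x hxl e hed hne (hall e hed)
          have h2 : x = f := by_contra fun hne => hw d hd x hxl f hfd hne (hall f hfd)
          exact hef (h1.symm.trans h2)
        · have hsub : link D d ⊆ link D x := fun u hu => ⟨hu.1, fun e' => hxl (e' ▸ hu), hall u hu⟩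
          exact hxd (h.tt.link_inj h.sol hd hxD (Set.eq_of_subset_of_ncard_le hsub
            (link_ncard_eq h.tt h.isClass hd hxD).ge (Set.toFinite _))).symm
    rw [this, Set.ncard_singleton]
  -- fixed points of `d * a`
  obtain ⟨T, hT⟩ : ∃ T, T = link D d ∩ link D a := ⟨_, rfl⟩
  have hDT : D.ncard ≡ T.ncard [MOD 3] := by
    refine (modEq_fixed _ (isPGroup_zpowers_mul h.tt hd ha hda) D fun p _ x hx => h.tt.conj p x hx).trans ?_
    have : {x | x ∈ D ∧ ∀ p ∈ zpowers (d * a), Commute p x} = T := by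
      ext x
      rw [hT]
      refine ⟨fun ⟨hxD, hx⟩ => ?_, fun ⟨h1, h2⟩ => ⟨h1.1, fun p hp => ?_⟩⟩
      · obtain ⟨k1, k2⟩ := commute_of_commute_mul h.tt hxD hd ha (fun e' => hda (e' ▸ Commute.refl d))
          (hx _ (mem_zpowers _)).symm
        exact ⟨⟨hxD, fun e' => hda (e' ▸ k2), k1.symm⟩, ⟨hxD, fun e' => hda (e' ▸ k1).symm, k2.symm⟩⟩
      · obtain ⟨m, rfl⟩ := mem_zpowers_iff.1 hp
        exact ((h1.2.2.mul_left h2.2.2).zpow_left m)
    rw [this]
  -- fixed points of `e * f` on `T`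
  have hT0 : T.ncard ≡ 0 [MOD 3] := by
    have hTinv : ∀ p ∈ zpowers (e * f), ∀ x ∈ T, p * x * p⁻¹ ∈ T := by
      intro p hp x hx
      obtain ⟨m, rfl⟩ := mem_zpowers_iff.1 hp
      rw [hT] at hx ⊢
      have h1 : ((e * f) ^ m) * d * ((e * f) ^ m)⁻¹ = d := by
        rw [(((hed.2.2.mul_right hfd.2.2).symm).zpow_left m).eq, mul_inv_cancel_right]
      have h2 : ((e * f) ^ m) * a * ((e * f) ^ m)⁻¹ = a := by
        rw [(((hea.2.2.mul_right hfa.2.2).symm).zpow_left m).eq, mul_inv_cancel_right]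
      exact ⟨h1 ▸ link_conj h.tt _ hx.1, h2 ▸ link_conj h.tt _ hx.2⟩
    refine (modEq_fixed _ (isPGroup_zpowers_mul h.tt hed.1 hfd.1 hnef) T hTinv).trans ?_
    have : {x | x ∈ T ∧ ∀ p ∈ zpowers (e * f), Commute p x} = ∅ := by
      refine Set.eq_empty_iff_forall_notMem.2 fun x ⟨hxT, hx⟩ => ?_
      rw [hT] at hxT
      obtain ⟨k1, k2⟩ := commute_of_commute_mul h.tt hxT.1.1 hed.1 hfd.1 hef (hx _ (mem_zpowers _)).symm
      have h1 : x = e := by_contra fun hne => hw d hd x hxT.1 e hed hne k1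
      have h2 : x = f := by_contra fun hne => hw d hd x hxT.1 f hfd hne k2
      exact hef (h1.symm.trans h2)
    rw [this, Set.ncard_empty]
  have := (hone.symm.trans hDT).trans hT0
  simp [Nat.ModEq] at this

/-- Each link is a line. -/
theorem link_three [Finite G] (h : FischerHyp D) {d₀ e₀ f₀ : G} (hd₀ : d₀ ∈ D)
    (hG : Good D d₀ e₀ f₀) {d : G} (hd : d ∈ D) :
    ∃ e f, e ∈ link D d ∧ f ∈ link D d ∧ ¬ Commute e f ∧ ∀ u ∈ link D d, u = e ∨ u = f ∨ u = e * f * e := by
  obtain ⟨g, hg⟩ := h.isClass d₀ hd₀ d hd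
  have hG' := hg ▸ hG.conj h.tt g
  obtain ⟨e, hedef⟩ : ∃ e, e = g * e₀ * g⁻¹ := ⟨_, rfl⟩
  obtain ⟨f, hfdef⟩ : ∃ f, f = g * f₀ * g⁻¹ := ⟨_, rfl⟩
  rw [← hedef, ← hfdef] at hG'
  obtain ⟨he, hf, hnef, -⟩ := hG'
  have hw : ∀ d ∈ D, ∀ e ∈ link D d, ∀ y ∈ link D d, e ≠ y → ¬ Commute e y :=
    fun d hd e he y hy hne hc => hne (no_triangle h hd₀ hG hd he hy hc).symm
  refine ⟨e, f, he, hf, hnef, fun x hx => ?_⟩
  by_contra! hcon
  obtain ⟨hxe, hxf, hxg⟩ := hcon
  obtain ⟨a, ha, had⟩ : ∃ a ∈ link D e, a ≠ d := by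
    obtain ⟨k, hk⟩ := h.isClass d hd e he.1
    by_cases h1 : k * e * k⁻¹ = d
    · refine ⟨k * f * k⁻¹, by have := link_conj h.tt k hf; rwa [hk] at this, fun h2 => hnef ?_⟩
      rw [show e = f from by
        have := h1.trans h2.symm
        simpa using this]
    · exact ⟨k * e * k⁻¹, by have := link_conj h.tt k he; rwa [hk] at this, h1⟩
  have hda : ¬ Commute d a := hw e he.1 d (link_symm hd he) a ha had.symm
  have hea : e ∈ link D a := link_symm he.1 ha
  have hno : ∀ u ∈ link D d, u ≠ e → ¬ Commute a u := fun u hu hue hc =>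
    hue (no_square h hd₀ hG hd ha.1 hda hu ⟨hu.1, fun e' => hda (e' ▸ hu.2.2), hc⟩ he hea)
  have hfx : ¬ Commute f x := hw d hd f hf x hx hxf.symm
  have sd := h.tt.sq d hd
  have sa := h.tt.sq a ha.1
  have sf := h.tt.sq f hf.1
  have sx := h.tt.sq x hx.1
  have hbxf := h.tt.braid hx.1 hf.1 fun hh => hfx hh.symm
  obtain ⟨p, hp⟩ : ∃ p, p = cj x f := ⟨_, rfl⟩
  have hpl : p ∈ link D d := by
    refine hp ▸ ⟨h.tt.cj_mem hx.1 hf.1, fun e' => ?_, ?_⟩
    · rw [← cj_fix sx hx.2.2.symm] at e'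
      exact hf.2.1 (cj_inj sx e')
    · exact (hx.2.2.mul_right hf.2.2).mul_right hx.2.2
  have hpe : p ≠ e := by
    intro e'
    refine hxg ?_
    have h1 : cj f x = e := by rw [← e', hp]; exact hbxf.symm
    have h2 : cj f e = x := by rw [← h1, cj_invol sf]
    rw [← h2]
    exact h.tt.braid hf.1 he.1 fun hh => hnef hh.symm
  have hap := hno p hpl hpe
  have haf := hno f hf fun e' => hnef (e' ▸ Commute.refl f)
  have hax := hno x hx hxe
  have hadc : cj a d = cj d a := (h.tt.braid hd ha.1 hda).symm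
  have hafc : cj a f = cj f a := h.tt.braid ha.1 hf.1 haf
  have haxc : cj a x = cj x a := h.tt.braid ha.1 hx.1 hax
  obtain ⟨w, hwdef⟩ : ∃ w, w = cj a (cj d (cj f (cj a x))) := ⟨_, rfl⟩
  have hwD : w ∈ D :=
    hwdef ▸ h.tt.cj_mem ha.1 (h.tt.cj_mem hd (h.tt.cj_mem hf.1 (h.tt.cj_mem ha.1 hx.1)))
  have k1 : Commute f w := by
    rw [hwdef, com_move sa, hafc, com_move sd, cj_comm hf.2.2, com_cj sf, ← hadc, com_cj sa]
    exact hx.2.2
  have k2 : Commute x w := by
    rw [hwdef, com_move sa, haxc, com_move sd, cj_comm hx.2.2, ← com_move sx, ← cj_conj, ← hp,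
      show cj p a = cj a p from h.tt.braid hpl.1 ha.1 fun hh => hap hh.symm, ← hadc, com_cj sa]
    exact hpl.2.2
  have hwd : w ≠ d := fun e' => by
    have h1 := congrArg (cj a) e'
    rw [hwdef, cj_invol sa, hadc] at h1
    have h2 := congrArg (cj f) (cj_inj sd h1)
    rw [cj_invol sf, ← hafc] at h2
    exact hxf (cj_inj sa h2)
  by_cases hdw : Commute d w
  · have h1 : w = f := by_contra fun hne => hw d hd w ⟨hwD, hwd, hdw⟩ f hf hne k1.symm
    exact hfx (h1 ▸ k2).symm
  · exact hxf (no_square h hd₀ hG hd hwD hdw hf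
      ⟨hf.1, fun e' => hdw (e' ▸ hf.2.2), k1.symm⟩ hx ⟨hx.1, fun e' => hdw (e' ▸ hx.2.2), k2.symm⟩).symm

/-! ### The conclusion -/

theorem sThree_solvable : Group.IsSolvable (Equiv.Perm (Fin 3)) := by
  have hc : ∀ a b : Equiv.Perm (Fin 3), Equiv.Perm.sign a = 1 → Equiv.Perm.sign b = 1 → a * b = b * a := by
    decide
  haveI : Group.IsSolvable ↥(Equiv.Perm.sign (α := Fin 3)).ker :=
    isSolvable_of_comm fun a b => Subtype.ext (hc a b a.2 b.2)
  haveI : Group.IsSolvable ℤˣ := isSolvable_of_comm fun a b => mul_comm a b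
  exact solvable_of_ker_le_range (Equiv.Perm.sign (α := Fin 3)).ker.subtype Equiv.Perm.sign
    (by rw [range_subtype])

theorem link_sub_zpowers {e f : G} (hse : e * e = 1) (hsf : f * f = 1) {u v : G}
    (hu : u = e ∨ u = f ∨ u = e * f * e) (hv : v = e ∨ v = f ∨ v = e * f * e) :
    u * v ∈ zpowers (e * f) := by
  have hi : (e * f)⁻¹ = f * e := by rw [mul_inv_rev, inv_eq_self hse, inv_eq_self hsf]
  have hm : e * f ∈ zpowers (e * f) := mem_zpowers _
  have hm' : f * e ∈ zpowers (e * f) := hi ▸ inv_mem hm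
  have h1 : (1 : G) ∈ zpowers (e * f) := one_mem _
  rcases hu with rfl | rfl | rfl <;> rcases hv with rfl | rfl | rfl
  · rwa [hse]
  · exact hm
  · rwa [show u * (u * f * u) = (u * u) * f * u by group, hse, one_mul]
  · exact hm'
  · rwa [hsf]
  · rw [show u * (e * u * e) = (u * e) * (u * e) by group]
    exact mul_mem hm' hm'
  · rwa [show v * f * v * v = v * f * (v * v) by group, hse, mul_one]
  · rw [show e * v * e * v = (e * v) * (e * v) by group]
    exact mul_mem hm hm
  · rwa [show e * f * e * (e * f * e) = e * f * (e * e) * f * e by group, hse, mul_one, mul_assoc e f f,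
      hsf, mul_one, hse]

theorem link_ncard_le [Finite G] (h : FischerHyp D) {d₀ e₀ f₀ : G} (hd₀ : d₀ ∈ D)
    (hG : Good D d₀ e₀ f₀) {d : G} (hd : d ∈ D) : (link D d).ncard ≤ 3 := by
  obtain ⟨e, f, -, -, -, hall⟩ := link_three h hd₀ hG hd
  refine le_trans (Set.ncard_le_ncard (fun u hu => ?_) (Set.toFinite ({e, f, e * f * e} : Set G))) ?_
  · rcases hall u hu with rfl | rfl | rfl <;> simp
  · exact (Set.ncard_insert_le _ _).trans
      (Nat.succ_le_succ ((Set.ncard_insert_le _ _).trans (by rw [Set.ncard_singleton])))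

/-- A 3-element fixing two commuting members is trivial. -/
theorem three_eq_one [Finite G] (h : FischerHyp D) {d₀ e₀ f₀ : G} (hd₀ : d₀ ∈ D)
    (hG : Good D d₀ e₀ f₀) {d e k : G} (hd : d ∈ D) (he : e ∈ link D d) (hk : Odd (orderOf k))
    (hkd : Commute k d) (hke : Commute k e) : k = 1 := by
  have hlink : ∀ u ∈ D, Commute k u → ∀ v ∈ link D u, Commute k v → ∀ w ∈ link D u, Commute k w := by
    intro u hu hku v hv hkv w hw
    have hfixv : k * v * k⁻¹ = v := by rw [hkv.eq, mul_inv_cancel_right]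
    have hmem : ∀ z ∈ link D u, k * z * k⁻¹ ∈ link D u := fun z hz => by
      have := link_conj h.tt k hz
      rwa [hku.eq, mul_inv_cancel_right] at this
    by_contra hkw
    obtain ⟨w', hw'⟩ : ∃ z, z = k * w * k⁻¹ := ⟨_, rfl⟩
    obtain ⟨w'', hw''⟩ : ∃ z, z = k * w' * k⁻¹ := ⟨_, rfl⟩
    have hw'l : w' ∈ link D u := hw' ▸ hmem w hw
    have hw''l : w'' ∈ link D u := hw'' ▸ hmem w' hw'l
    have inj : ∀ {x y : G}, k * x * k⁻¹ = k * y * k⁻¹ → x = y := fun hxy => by simpa using hxy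
    have n1 : w' ≠ w := fun e' => hkw (mul_inv_eq_iff_eq_mul.1 (hw' ▸ e'))
    have n2 : v ≠ w := fun e' => hkw (e' ▸ hkv)
    have n3 : v ≠ w' := fun e' => n2 (inj (hfixv.trans (e'.trans hw')))
    have n4 : v ≠ w'' := fun e' => n3 (inj (hfixv.trans (e'.trans hw'')))
    have n5 : w'' ≠ w' := fun e' => n1 (inj ((hw''.symm.trans e').trans hw'))
    have n6 : w'' ≠ w := fun e' => by
      have h2 : Commute (k ^ 2) w := by
        refine mul_inv_eq_iff_eq_mul.1 ?_
        calc k ^ 2 * w * (k ^ 2)⁻¹ = k * (k * w * k⁻¹) * k⁻¹ := by rw [pow_two]; group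
          _ = w := by rw [← hw', ← hw'', e']
      obtain ⟨m, hm⟩ := hk
      have h3 : (k ^ 2) ^ (m + 1) = k := by
        rw [← pow_mul, show 2 * (m + 1) = orderOf k + 1 by omega, pow_succ, pow_orderOf_eq_one, one_mul]
      exact hkw (h3 ▸ h2.pow_left (m + 1))
    have h4 : ({v, w, w', w''} : Set G).ncard = 4 := by
      rw [Set.ncard_insert_of_notMem (by simp [n2, n3, n4]),
        Set.ncard_insert_of_notMem (by simp [n1.symm, n6.symm]),
        Set.ncard_insert_of_notMem (by simp [n5.symm]), Set.ncard_singleton]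
    have h5 : ({v, w, w', w''} : Set G).ncard ≤ (link D u).ncard :=
      Set.ncard_le_ncard (by rintro z (rfl | rfl | rfl | rfl) <;> assumption) (Set.toFinite _)
    have := link_ncard_le h hd₀ hG hu
    omega
  have hall : ∀ b ∈ comp D Commute d, Commute k b ∧ ∃ v ∈ link D b, Commute k v := by
    intro b hb
    induction hb with
    | refl => exact ⟨hkd, e, he, hke⟩
    | @tail u w _ hr ih =>
      by_cases hwu : w = u
      · exact hwu ▸ ih
      · obtain ⟨hku, v, hv, hkv⟩ := ih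
        have hwl : w ∈ link D u := ⟨hr.2.1, hwu, hr.2.2⟩
        exact ⟨hlink u hr.1 hku v hv hkv w hwl, u, link_symm hr.1 hwl, hku⟩
  have hcent : k ∈ center G := mem_center_iff.2 fun y => by
    have hle : closure D ≤ centralizer ({k} : Set G) := by
      rw [closure_le]
      exact fun b hb => mem_centralizer_singleton_iff.2
        (hall b (h.tt.comp_eq_comp h.gen h.perf h.isClass hb hd ▸ mem_comp_self D Commute b)).1.symm.eq
    exact mem_centralizer_singleton_iff.1 (hle (h.gen ▸ mem_top y))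
  rwa [h.sol (center G) inferInstance (isSolvable_of_comm fun a b => Subtype.ext (mem_center_iff.1 b.2 a)),
    mem_bot] at hcent

/-- The local hypothesis of `LocalSymThree`. -/
theorem localHyp [Finite G] (h : FischerHyp D) (h3 : Cfsg.IsThreeTranspositionSet D) {d₀ e₀ f₀ : G}
    (hd₀ : d₀ ∈ D) (hG : Good D d₀ e₀ f₀) : LocalSymThree.Hyp D := by
  haveI : Fact (Nat.Prime 3) := ⟨Nat.prime_three⟩
  refine ⟨h3, h.tt.conj, fun d hd => ?_, fun d hd => ?_⟩
  · obtain ⟨e, f, he, hf, hnef, hall⟩ := link_three h hd₀ hG hd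
    have hse := h.tt.sq e he.1
    have hsf := h.tt.sq f hf.1
    have hef3 := pow_three_eq_one hse hsf (h.tt.braid he.1 hf.1 hnef)
    show Nonempty (↥(closure (link D d)) ≃* Equiv.Perm (Fin 3))
    obtain ⟨H, hH⟩ : ∃ H, H = closure (link D d) := ⟨_, rfl⟩
    have heH : e ∈ H := hH ▸ subset_closure he
    have hfH : f ∈ H := hH ▸ subset_closure hf
    have hle : (H : Set G) ⊆ closure ({e, f} : Set G) := by
      rw [hH]
      refine (closure_le _).2 fun u hu => ?_
      have h1 : e ∈ closure ({e, f} : Set G) := subset_closure (by simp)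
      have h2 : f ∈ closure ({e, f} : Set G) := subset_closure (by simp)
      rcases hall u hu with rfl | rfl | rfl
      exacts [h1, h2, mul_mem (mul_mem h1 h2) h1]
    have hc6 : Nat.card H ≤ 6 := by
      obtain ⟨hfin, hcard⟩ := RadicalFiftyFour.pair_card hse hsf hef3
      exact le_trans (le_of_eq (Nat.card_coe_set_eq _)) ((Set.ncard_le_ncard hle hfin).trans hcard)
    have h2 : 2 ∣ Nat.card H := by
      have : orderOf (⟨e, heH⟩ : H) = 2 := by
        rw [Subgroup.orderOf_mk]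
        exact orderOf_eq_prime (by rw [pow_two, hse]) (h.tt.ne_one e he.1)
      exact this ▸ orderOf_dvd_natCard _
    have h3' : 3 ∣ Nat.card H := by
      have : orderOf (⟨e * f, mul_mem heH hfH⟩ : H) = 3 := by
        rw [Subgroup.orderOf_mk]
        refine orderOf_eq_prime hef3 fun e' => hnef ?_
        rw [(eq_inv_of_mul_eq_one_left e').trans (inv_eq_self hsf)]
      exact this ▸ orderOf_dvd_natCard _
    have hA : Nat.card H = 6 := by
      have : 0 < Nat.card H := Nat.card_pos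
      omega
    rw [← hH]
    refine Affine54.iso_perm_three hA (a := ⟨e, heH⟩) (b := ⟨f, hfH⟩) (Subtype.ext hse)
      (fun e' => h.tt.ne_one e he.1 (congrArg Subtype.val e')) (Subtype.ext hef3) (Subtype.ext hsf)
      fun e' => hnef ?_
    rw [show e = f from congrArg Subtype.val e']
  · obtain ⟨e, f, he, hf, hnef, hall⟩ := link_three h hd₀ hG hd
    obtain ⟨C, hC⟩ : ∃ C, C = centralizer ({d} : Set G) := ⟨_, rfl⟩
    rw [← hC]
    have hmemC : ∀ {u : G}, u ∈ link D d → u ∈ C := fun hu =>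
      hC ▸ mem_centralizer_singleton_iff.2 hu.2.2.symm.eq
    have hcomC : ∀ c ∈ C, Commute c d := fun c hc => mem_centralizer_singleton_iff.1 (hC ▸ hc)
    have hstab : ∀ c ∈ C, ∀ u ∈ link D d, c * u * c⁻¹ ∈ link D d := fun c hc u hu => by
      have := link_conj h.tt c hu
      rwa [(hcomC c hc).eq, mul_inv_cancel_right] at this
    obtain ⟨z, hz⟩ : ∃ z : C, z = ⟨e * f, mul_mem (hmemC he) (hmemC hf)⟩ := ⟨_, rfl⟩
    have hzG : ∀ c : C, (c : G) ∈ zpowers (e * f) → c ∈ zpowers z := by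
      intro c hc
      obtain ⟨m, hm⟩ := mem_zpowers_iff.1 hc
      exact mem_zpowers_iff.2 ⟨m, Subtype.ext (by rw [hz]; simpa using hm)⟩
    haveI hZn : (zpowers z).Normal := ⟨fun n hn c => by
      obtain ⟨m, rfl⟩ := mem_zpowers_iff.1 hn
      rw [← conj_zpow]
      refine zpow_mem (hzG _ ?_) m
      rw [hz]
      show (c : G) * (e * f) * (c : G)⁻¹ ∈ zpowers (e * f)
      rw [show (c : G) * (e * f) * (c : G)⁻¹ = (c * e * (c : G)⁻¹) * (c * f * (c : G)⁻¹) by group]
      exact link_sub_zpowers (h.tt.sq e he.1) (h.tt.sq f hf.1) (hall _ (hstab c c.2 e he))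
        (hall _ (hstab c c.2 f hf))⟩
    have hz3 : orderOf z = 3 := by
      rw [hz, Subgroup.orderOf_mk]
      refine orderOf_eq_prime (pow_three_eq_one (h.tt.sq e he.1) (h.tt.sq f hf.1)
        (h.tt.braid he.1 hf.1 hnef)) fun e' => hnef ?_
      rw [(eq_inv_of_mul_eq_one_left e').trans (inv_eq_self (h.tt.sq f hf.1))]
    have hle : zpowers z ≤ Cfsg.pCore 3 C :=
      CfsgLib.Cores.le_pCore (IsPGroup.of_card (G := zpowers z) (n := 1) (by rw [Nat.card_zpowers, hz3, pow_one]))
    have hge : Nat.card (Cfsg.pCore 3 C) ≤ (link D d).ncard := by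
      rw [← Nat.card_coe_set_eq]
      refine Nat.card_le_card_of_injective
        (fun k : Cfsg.pCore 3 C => (⟨(k : G) * e * (k : G)⁻¹, hstab _ k.1.2 e he⟩ : link D d)) ?_
      intro k l hkl
      have hkl' : (k : G) * e * (k : G)⁻¹ = l * e * (l : G)⁻¹ := congrArg Subtype.val hkl
      obtain ⟨m, hm⟩ : ∃ m : Cfsg.pCore 3 C, m = l⁻¹ * k := ⟨_, rfl⟩
      have hmG : (m : G) = (l : G)⁻¹ * k := by rw [hm]; rfl
      have hme : Commute (m : G) e := by
        refine mul_inv_eq_iff_eq_mul.1 ?_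
        rw [hmG, show (l : G)⁻¹ * k * e * ((l : G)⁻¹ * k)⁻¹ = (l : G)⁻¹ * (k * e * (k : G)⁻¹) * l by group,
          hkl']
        group
      have hodd : Odd (orderOf (m : G)) := by
        obtain ⟨n, hn⟩ := (IsPGroup.iff_orderOf.1 (CfsgLib.Cores.isPGroup_pCore (G := C) 3)) m
        rw [Subgroup.orderOf_coe, Subgroup.orderOf_coe, hn]
        exact Odd.pow (by decide)
      have h1 := three_eq_one h hd₀ hG hd he hodd (hcomC _ m.1.2) hme
      rw [hmG, inv_mul_eq_one] at h1
      exact Subtype.ext (Subtype.ext h1.symm)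
    have h1 := Subgroup.card_le_of_le hle
    rw [Nat.card_zpowers, hz3] at h1
    have := link_ncard_le h hd₀ hG hd
    omega

/-- Fischer: an odd core of the local group which is not central forces degree 5. -/
theorem iso_perm_five [Finite G] (h : FischerHyp D) (h3 : Cfsg.IsThreeTranspositionSet D) {d : G}
    (hd : d ∈ D)
    (hN : ¬ Cfsg.oddCore ↥(closure (link D d)) ≤ center ↥(closure (link D d))) :
    Nonempty (G ≃* Equiv.Perm (Fin 5)) := by
  obtain ⟨e, f, hG⟩ := exists_good h.tt hN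
  have e0 : ↥(closure D) ≃* G := (MulEquiv.subgroupCongr h.gen).trans Subgroup.topEquiv
  rcases (localHyp h h3 hd hG).main ⟨d, hd⟩ with ⟨⟨φ⟩⟩ | ⟨⟨φ⟩⟩
  · exact ⟨e0.symm.trans φ⟩
  exfalso
  haveI := sThree_solvable
  haveI : Group.IsSolvable G :=
    solvable_of_solvable_injective (f := (e0.symm.trans φ).toMonoidHom) (e0.symm.trans φ).injective
  have htop := h.sol ⊤ inferInstance inferInstance
  exact h.tt.ne_one d hd (mem_bot.1 (htop ▸ mem_top d))

end CfsgLib.ThreeTransp.OddCoreLink
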