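import Cfsg.Agent.Lib.ThreeTransp.Core
import Cfsg.Agent.Lib.Cores.Basic

/-!
# Classes of 3-transpositions acting quadratically on a module in characteristic two

For a member `a` write `A = a - 1`. The hypotheses are `A B = 0` for commuting distinct members and
`A B A = A` for non-commuting ones; they hold for the action on an elementary abelian normal
2-subgroup.
-/

set_option autoImplicit false

namespace CfsgLib.ThreeTransp.OperatorCore

open CfsgLib.ThreeTransp

variable {Q M : Type*} [Group Q] [AddCommGroup M] [DistribMulAction Q M]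

/-- The operator `a - 1` (in characteristic two). -/
def dl (a : Q) (v : M) : M := a • v + v

/-- Membership in the image of `a - 1`. -/
def InIm (a : Q) (u : M) : Prop := ∃ v : M, u = dl a v

/-- The product of three members, squared. -/
def zeta (d b a : Q) : Q := d * b * a * (d * b * a)

theorem dl_add (a : Q) (u v : M) : dl a (u + v) = dl a u + dl a v := by
  simp only [dl, smul_add]; abel

theorem dl_zero (a : Q) : dl a (0 : M) = 0 := by simp [dl]

theorem InIm.smul {a : Q} {u : M} (g : Q) (h : InIm a u) : InIm (g * a * g⁻¹) (g • u) := by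
  obtain ⟨v, rfl⟩ := h
  exact ⟨g • v, by simp [dl, smul_add, mul_smul]⟩

theorem InIm.add {a : Q} {u v : M} (hu : InIm a u) (hv : InIm a v) : InIm a (u + v) := by
  obtain ⟨x, rfl⟩ := hu
  obtain ⟨y, rfl⟩ := hv
  exact ⟨x + y, (dl_add a x y).symm⟩

/-- The hypotheses on a class acting on the module. -/
structure Op (Q M : Type*) [Group Q] [AddCommGroup M] [DistribMulAction Q M] (D : Set Q) :
    Prop where
  tt : IsTT D
  gen : Subgroup.closure D = ⊤
  two : ∀ v : M, v + v = 0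
  faithful : ∀ q : Q, (∀ v : M, q • v = v) → q = 1
  core : Cfsg.pCore 2 Q = ⊥
  com : ∀ a ∈ D, ∀ b ∈ D, a ≠ b → Commute a b → ∀ v : M, dl a (dl b v) = 0
  non : ∀ a ∈ D, ∀ b ∈ D, ¬Commute a b → ∀ v : M, dl a (dl b (dl a v)) = dl a v

theorem eq_one_of_four {x y : Q} (hxy : Commute x y) (hy : y ^ 3 = 1) (hx : x ^ 3 = 1)
    (two : ∀ v : M, v + v = 0) (faithful : ∀ q : Q, (∀ v : M, q • v = v) → q = 1)
    (h1 : ∀ v : M, x • v = v → y • v = v) (h2 : ∀ v : M, (x * y) • v = v → y • v = v)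
    (h3 : ∀ v : M, (x * y ^ 2) • v = v → y • v = v) : y = 1 := by
  refine faithful y fun v => ?_
  have hsum : ∀ g : Q, g ^ 3 = 1 → g • (v + g • v + g ^ 2 • v) = v + g • v + g ^ 2 • v := by
    intro g hg
    rw [smul_add, smul_add, ← mul_smul, ← mul_smul, ← pow_two, ← pow_succ', hg, one_smul]
    abel
  have hxy3 : (x * y) ^ 3 = 1 := by rw [hxy.mul_pow, hx, hy, one_mul]
  have hxyy3 : (x * y ^ 2) ^ 3 = 1 := by
    rw [(hxy.pow_right 2).mul_pow, hx, ← pow_mul, show 2 * 3 = 3 * 2 from rfl, pow_mul, hy,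
      one_pow, one_mul]
  have a0 := hsum y hy
  have a1 := h1 _ (hsum x hx)
  have a2 := h2 _ (hsum _ hxy3)
  have a3 := h3 _ (hsum _ hxyy3)
  have e2 : (x * y) ^ 2 = x ^ 2 * y ^ 2 := hxy.mul_pow 2
  have hy4 : (y ^ 2) ^ 2 = y := by
    rw [← pow_mul, show 2 * 2 = 3 + 1 from rfl, pow_add, hy, one_mul, pow_one]
  have e3 : (x * y ^ 2) ^ 2 = x ^ 2 * y := by rw [(hxy.pow_right 2).mul_pow, hy4]
  have a4 : y • ((v + y • v + y ^ 2 • v) + x • (v + y • v + y ^ 2 • v) +
      x ^ 2 • (v + y • v + y ^ 2 • v)) = (v + y • v + y ^ 2 • v) +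
      x • (v + y • v + y ^ 2 • v) + x ^ 2 • (v + y • v + y ^ 2 • v) := by
    rw [smul_add, smul_add, ← mul_smul y x, ← mul_smul y (x ^ 2), ← hxy.eq,
      ← (hxy.pow_left 2).eq, mul_smul x y, mul_smul (x ^ 2) y, a0]
  have key : v = (v + y • v + y ^ 2 • v) + (v + x • v + x ^ 2 • v) +
      (v + (x * y) • v + (x * y) ^ 2 • v) +
      (v + (x * y ^ 2) • v + (x * y ^ 2) ^ 2 • v) +
      ((v + y • v + y ^ 2 • v) + x • (v + y • v + y ^ 2 • v) +
      x ^ 2 • (v + y • v + y ^ 2 • v)) := by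
    rw [e2, e3, smul_add, smul_add, smul_add, smul_add, mul_smul, mul_smul, mul_smul, mul_smul]
    calc v = v + ((v + v) + (v + v) + (y • v + y • v) + (y ^ 2 • v + y ^ 2 • v) +
          (x • v + x • v) + (x • y • v + x • y • v) + (x • y ^ 2 • v + x • y ^ 2 • v) +
          (x ^ 2 • v + x ^ 2 • v) + (x ^ 2 • y • v + x ^ 2 • y • v) +
          (x ^ 2 • y ^ 2 • v + x ^ 2 • y ^ 2 • v)) := by simp only [two, add_zero]
      _ = _ := by abel
  rw [key, smul_add, smul_add, smul_add, smul_add, a0, a1, a2, a3, a4]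

namespace Op

variable {D : Set Q} (h : Op Q M D)
include h

theorem eq_of_add_eq_zero {u v : M} (e : u + v = 0) : u = v := by
  have e' := congrArg (· + v) e
  simpa [add_assoc, h.two] using e'

theorem neg_eq (v : M) : -v = v := neg_eq_of_add_eq_zero_right (h.two v)

theorem dl_eq_zero_iff {a : Q} {v : M} : dl a v = 0 ↔ a • v = v :=
  ⟨fun e => h.eq_of_add_eq_zero e, fun e => by rw [dl, e, h.two]⟩

theorem smul_eq (a : Q) (v : M) : a • v = v + dl a v := by
  rw [dl, add_comm (a • v), ← add_assoc, h.two, zero_add]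

theorem dl_dl {a : Q} (ha : a ∈ D) (v : M) : dl a (dl a v) = 0 := by
  simp only [dl, smul_add, ← mul_smul, h.tt.sq a ha, one_smul]
  calc v + a • v + (a • v + v) = (v + v) + (a • v + a • v) := by abel
    _ = 0 := by rw [h.two, h.two, add_zero]

theorem dl_inIm {a b : Q} (ha : a ∈ D) (hb : b ∈ D) (hc : Commute a b) {u : M} (hu : InIm a u) :
    dl b u = 0 := by
  obtain ⟨v, rfl⟩ := hu
  rcases eq_or_ne b a with rfl | hne
  · exact h.dl_dl ha v
  · exact h.com b hb a ha hne hc.symm v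

theorem inIm_eq_zero {a b : Q} (ha : a ∈ D) (hb : b ∈ D) (hc : ¬Commute a b) {u : M}
    (hu : InIm a u) (hf : dl b u = 0) : u = 0 := by
  obtain ⟨v, rfl⟩ := hu
  rw [← h.non a ha b hb hc v, hf, dl_zero]

theorem commute_iff_fix {a b : Q} (ha : a ∈ D) (hb : b ∈ D) {u : M} (hu : InIm a u) (h0 : u ≠ 0) :
    Commute a b ↔ dl b u = 0 :=
  ⟨fun hc => h.dl_inIm ha hb hc hu, fun hf => by
    by_contra hc; exact h0 (h.inIm_eq_zero ha hb hc hu hf)⟩

/-- Two members whose root groups meet are equal. -/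
theorem twins [Finite Q] {a b : Q} (ha : a ∈ D) (hb : b ∈ D) {u : M} (hua : InIm a u)
    (hub : InIm b u) (h0 : u ≠ 0) : a = b := by
  have hp : perp D a = perp D b := by
    ext e
    constructor
    · rintro ⟨he, hc⟩
      exact ⟨he, (h.commute_iff_fix hb he hub h0).2 ((h.commute_iff_fix ha he hua h0).1 hc)⟩
    · rintro ⟨he, hc⟩
      exact ⟨he, (h.commute_iff_fix ha he hua h0).2 ((h.commute_iff_fix hb he hub h0).1 hc)⟩
  haveI := h.tt.keyKer_normal h.tt.equivariant_perp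
  have := CfsgLib.Cores.le_pCore h.tt.perpKer_isPGroup (mul_mem_keyKer ha hb hp)
  rw [h.core, Subgroup.mem_bot] at this
  rw [← h.tt.inv_eq hb]
  exact eq_inv_of_mul_eq_one_left this

/-- A fixed point of a product of two non-commuting members is fixed by both. -/
theorem fix_of_mul {d b : Q} (hd : d ∈ D) (hb : b ∈ D) (hc : ¬Commute d b) {v : M}
    (hv : (d * b) • v = v) : dl d v = 0 ∧ dl b v = 0 := by
  have e : dl d v = dl b v := by
    have e' : b • v = d • v := by
      conv_rhs => rw [← hv, mul_smul, ← mul_smul, h.tt.sq d hd, one_smul]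
    rw [dl, dl, e']
  have h0 : dl d v = 0 :=
    h.inIm_eq_zero hd hb hc ⟨v, rfl⟩ (by rw [e]; exact h.dl_dl hb v)
  exact ⟨h0, e ▸ h0⟩

/-- A fixed point of `d b`, whose image under `a` is also fixed, is fixed by `a`. -/
theorem fix_third {d b a : Q} (hd : d ∈ D) (hb : b ∈ D) (ha : a ∈ D) (hdb : ¬Commute d b)
    (had : ¬Commute a d) {v : M} (hv : (d * b) • v = v) (hv' : (d * b) • (a • v) = a • v) :
    dl a v = 0 := by
  refine h.inIm_eq_zero ha hd had ⟨v, rfl⟩ ?_
  have hsum : (d * b) • dl a v = dl a v := by rw [dl, smul_add, hv, hv']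
  exact (h.fix_of_mul hd hb hdb hsum).1

theorem inv_mul {d b : Q} (hd : d ∈ D) (hb : b ∈ D) : (d * b)⁻¹ = b * d := by
  rw [mul_inv_rev, h.tt.inv_eq hd, h.tt.inv_eq hb]

theorem zeta_rot {d b a : Q} (hd : d ∈ D) (hb : b ∈ D) (ha : a ∈ D) (hdb : ¬Commute d b)
    (hda : ¬Commute d a) (hdbab : ¬Commute d (b * a * b)) : zeta d b a = zeta b a d := by
  have sd := h.tt.sq d hd
  have sb := h.tt.sq b hb
  have sa := h.tt.sq a ha
  have e1 := h.tt.braid hd hb hdb
  have e2 := h.tt.braid hd ha hda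
  have h3 : (d * (b * a * b)) ^ 3 = 1 :=
    pow_three_eq_one sd (h.tt.sq _ (h.tt.cj_mem hb ha)) (h.tt.braid hd (h.tt.cj_mem hb ha) hdbab)
  have key : zeta d b a * ((d * a * b) * (d * a * b)) = 1 := by
    calc zeta d b a * ((d * a * b) * (d * a * b))
        = d * b * a * d * b * (a * d * a) * b * d * a * b := by simp only [zeta, mul_assoc]
      _ = d * b * a * d * b * (d * a * d) * b * d * a * b := by rw [e2]
      _ = d * b * a * (d * b * d) * a * (d * b * d) * a * b := by simp only [mul_assoc]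
      _ = d * b * a * (b * d * b) * a * (b * d * b) * a * b := by rw [e1]
      _ = (d * (b * a * b)) ^ 3 := by simp only [pow_succ, pow_zero, one_mul, mul_assoc]
      _ = 1 := h3
  rw [eq_inv_of_mul_eq_one_left key]
  simp only [zeta, mul_inv_rev, h.tt.inv_eq hd, h.tt.inv_eq hb, h.tt.inv_eq ha, mul_assoc]

/-- The hypotheses on a triangle. -/
def Tri (_h : Op Q M D) (d b a : Q) : Prop :=
  d ∈ D ∧ b ∈ D ∧ a ∈ D ∧ ¬Commute d b ∧ ¬Commute d a ∧ ¬Commute b a ∧ ¬Commute a (d * b * d)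

theorem Tri.rot {d b a : Q} (t : h.Tri d b a) : h.Tri b a d := by
  obtain ⟨hd, hb, ha, hdb, hda, hba, hac⟩ := t
  refine ⟨hb, ha, hd, hba, fun c => hdb c.symm, fun c => hda c.symm, ?_⟩
  intro c
  rw [h.tt.braid hd hb hdb] at hac
  apply hac
  have c' := (Commute.conj_iff b).mpr c
  rw [h.tt.inv_eq hb] at c'
  have e : b * (b * a * b) * b = a := by
    simp only [mul_assoc, cancel₂ (h.tt.sq b hb), h.tt.sq b hb, mul_one]
  rw [e] at c'
  exact c'.symm

theorem zeta_eq_rot {d b a : Q} (t : h.Tri d b a) : zeta d b a = zeta b a d := by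
  have t' := Tri.rot h t
  exact h.zeta_rot t.1 t.2.1 t.2.2.1 t.2.2.2.1 t.2.2.2.2.1 t'.2.2.2.2.2.2

theorem zeta_commute {d b a : Q} (t : h.Tri d b a) : Commute (zeta d b a) d := by
  have sd := h.tt.sq d t.1
  have e1 : zeta b a d * d = b * a * d * b * a := by simp only [zeta, mul_assoc, sd, mul_one]
  have e2 : d * zeta d b a = b * a * d * b * a := by simp only [zeta, mul_assoc, cancel₂ sd]
  show _ * d = d * _
  rw [e2, h.zeta_eq_rot t, e1]

theorem zeta_commute₃ {d b a : Q} (t : h.Tri d b a) :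
    Commute (zeta d b a) d ∧ Commute (zeta d b a) b ∧ Commute (zeta d b a) a := by
  refine ⟨h.zeta_commute t, ?_, ?_⟩
  · rw [h.zeta_eq_rot t]; exact h.zeta_commute (Tri.rot h t)
  · rw [h.zeta_eq_rot t, h.zeta_eq_rot (Tri.rot h t)]
    exact h.zeta_commute (Tri.rot h (Tri.rot h t))

theorem conj_mul {d b a : Q} (hd : d ∈ D) (hb : b ∈ D) :
    a * (d * b) * a = (d * b)⁻¹ * zeta d b a := by
  rw [h.inv_mul hd hb]
  simp only [zeta, mul_assoc, cancel₂ (h.tt.sq d hd), cancel₂ (h.tt.sq b hb)]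

theorem zeta_pow {d b a : Q} (t : h.Tri d b a) : zeta d b a ^ 3 = 1 := by
  obtain ⟨c1, c2, -⟩ := h.zeta_commute₃ t
  obtain ⟨hd, hb, ha, hdb, -⟩ := t
  have hx : (d * b) ^ 3 = 1 :=
    pow_three_eq_one (h.tt.sq d hd) (h.tt.sq b hb) (h.tt.braid hd hb hdb)
  have hc : Commute (d * b)⁻¹ (zeta d b a) := (c1.mul_right c2).symm.inv_left
  have e := congrArg (· ^ 3) (h.conj_mul (a := a) hd hb)
  simp only [hc.mul_pow, inv_pow, hx, inv_one, one_mul] at e
  rw [← e]
  conv_lhs => rw [show a * (d * b) * a = a * (d * b) * a⁻¹ by rw [h.tt.inv_eq ha]]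
  rw [conj_pow, hx, mul_one, mul_inv_cancel]

/-- The key step on a triangle: if `ζ` fixes `v` then so does the third member. -/
theorem tri_fix {d b a : Q} (t : h.Tri d b a) {v : M} (hv : (d * b) • v = v)
    (hz : zeta d b a • v = v) : dl a v = 0 := by
  obtain ⟨c1, c2, c3⟩ := h.zeta_commute₃ t
  obtain ⟨hd, hb, ha, hdb, hda, -⟩ := t
  have hz' : zeta d b a • (a • v) = a • v := by rw [← mul_smul, c3.eq, mul_smul, hz]
  have hx' : (a * (d * b) * a) • (a • v) = a • v := by
    rw [← mul_smul, mul_assoc, h.tt.sq a ha, mul_one, mul_smul, hv]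
  rw [h.conj_mul hd hb, mul_smul, hz', inv_smul_eq_iff] at hx'
  exact h.fix_third hd hb ha hdb (fun c => hda c.symm) hv hx'.symm

/-- There is no triangle with trivial `ζ`. -/
theorem zeta_ne_one {d b a : Q} (t : h.Tri d b a) : zeta d b a ≠ 1 := by
  intro hz
  have fixes : ∀ p q r : Q, h.Tri p q r → zeta p q r = 1 → ∀ v : M, (p * q) • v = v →
      p • v = v ∧ q • v = v ∧ r • v = v := by
    intro p q r t' hz' v hv
    have h3 := h.tri_fix t' hv (by rw [hz', one_smul])
    obtain ⟨h1, h2⟩ := h.fix_of_mul t'.1 t'.2.1 t'.2.2.2.1 hv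
    exact ⟨h.dl_eq_zero_iff.1 h1, h.dl_eq_zero_iff.1 h2, h.dl_eq_zero_iff.1 h3⟩
  have t1 := Tri.rot h t
  have t2 := Tri.rot h t1
  have hz1 : zeta b a d = 1 := by rw [← h.zeta_eq_rot t]; exact hz
  have hz2 : zeta a d b = 1 := by rw [← h.zeta_eq_rot t1]; exact hz1
  have f0 := fixes d b a t hz
  have f1 := fixes b a d t1 hz1
  have f2 := fixes a d b t2 hz2
  obtain ⟨hd, hb, ha, hdb, hda, hba, hac⟩ := t
  have sd := h.tt.sq d hd
  have sb := h.tt.sq b hb
  have hc := h.tt.cj_mem hd hb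
  have hinv : d * b * a = a * (b * d) := by
    rw [zeta] at hz
    have := eq_inv_of_mul_eq_one_left hz
    rw [mul_inv_rev, h.inv_mul hd hb, h.tt.inv_eq ha] at this
    exact this
  have e1 : (d * b) * (a * (d * b * d)) = a * d := by
    rw [← mul_assoc, hinv]
    simp only [mul_assoc, cancel₂ sd, cancel₂ sb]
  have e2 : (a * (d * b * d)) * (d * b) = a * d := by
    simp only [mul_assoc, cancel₂ sd, sb, mul_one]
  have hy : (a * (d * b * d)) ^ 3 = 1 :=
    pow_three_eq_one (h.tt.sq a ha) (h.tt.sq _ hc) (h.tt.braid ha hc hac)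
  have hx : (d * b) ^ 3 = 1 := pow_three_eq_one sd sb (h.tt.braid hd hb hdb)
  have e3 : (d * b) * (a * (d * b * d)) ^ 2 = b * a := by
    have hyi : (a * (d * b * d)) ^ 2 = (a * (d * b * d))⁻¹ :=
      eq_inv_of_mul_eq_one_left (by rw [← pow_succ]; exact hy)
    rw [hyi, h.inv_mul ha hc]
    conv_lhs => rw [h.tt.braid hd hb hdb]
    simp only [mul_assoc]
    rw [cancel₂ sb (d * (b * a))] at *
    rw [← mul_assoc d d, sd, one_mul]
  have fixy : ∀ v : M, d • v = v ∧ b • v = v ∧ a • v = v → (a * (d * b * d)) • v = v := by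
    rintro v ⟨x1, x2, x3⟩
    simp only [mul_smul, x1, x2, x3]
  have hone := eq_one_of_four (x := d * b) (y := a * (d * b * d)) (e1.trans e2.symm) hy hx h.two
    h.faithful (fun v hv => fixy v (f0 v hv))
    (fun v hv => by
      rw [e1] at hv
      obtain ⟨x3, x1, x2⟩ := f2 v hv
      exact fixy v ⟨x1, x2, x3⟩)
    (fun v hv => by
      rw [e3] at hv
      obtain ⟨x2, x3, x1⟩ := f1 v hv
      exact fixy v ⟨x1, x2, x3⟩)
  apply hac
  rw [eq_inv_of_mul_eq_one_left hone, h.tt.inv_eq hc]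

end Op

end CfsgLib.ThreeTransp.OperatorCore
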