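import Cfsg.Agent.Lib.ThreeTransp.OperatorTwoClasses
import Cfsg.Prelude.Def_Local
import Cfsg.Prelude.Def_Transfer
import Cfsg.Agent.Lib.Cores.Components

/-!
# Uniqueness of the class of 3-transpositions over an elementary abelian 2-radical
-/

set_option autoImplicit false

namespace CfsgLib.ThreeTransp.OperatorCore

open CfsgLib.ThreeTransp

namespace Op

variable {Q M : Type*} [Group Q] [AddCommGroup M] [DistribMulAction Q M] {D : Set Q}
  (h : Op Q M D)
include h

/-- A compatible family of cosets has a fixed representative. -/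
theorem fixed_of_coset [Finite Q] (P : Q → M → Prop)
    (hconj : ∀ (g q : Q) (z : M), q ∈ D → P q z → P (g * q * g⁻¹) (g • z))
    (hadd : ∀ (q : Q) (z z' : M), q ∈ D → P q z → P q z' → InIm q (z + z'))
    {d b : Q} (hd : d ∈ D) (hb : b ∈ D) (hnc : ¬Commute d b) {z : M} (hzd : P d z) (hzb : P b z)
    (h1 : dl d z = 0) (h2 : dl b z = 0) : ∀ g : Q, g • z = z := by
  have hdz : d • z = z := h.dl_eq_zero_iff.1 h1
  have hc := h.tt.cj_mem hd hb
  have hzc : P (d * b * d) z := by
    have := hconj d b z hb hzb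
    rwa [h.tt.inv_eq hd, hdz] at this
  have side : ∀ q ∈ D, P q z → ∀ a ∈ D, Commute a q → dl q z = 0 → dl a z = 0 := by
    intro q hq hPq a ha hc hfq
    by_contra h0
    have hP : P q (a • z) := by
      have := hconj a q z hq hPq
      rwa [show a * q * a⁻¹ = q by rw [hc.eq, mul_inv_cancel_right]] at this
    have := h.twins ha hq ⟨z, rfl⟩ (hadd q (a • z) z hq hP hPq) h0
    exact h0 (this ▸ hfq)
  have uniq : ∀ z' : M, P d z' → P b z' → dl b z' = 0 → z' = z := by
    intro z' e1 e2 e3
    refine h.eq_of_add_eq_zero (h.inIm_eq_zero hd hb hnc (hadd d z' z hd e1 hzd) ?_)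
    rw [dl_add, e3, h2, add_zero]
  have hDfix : ∀ a ∈ D, a • z = z := by
    intro a ha
    refine h.dl_eq_zero_iff.1 ?_
    by_cases c1 : Commute a d
    · exact side d hd hzd a ha c1 h1
    by_cases c2 : Commute a b
    · exact side b hb hzb a ha c2 h2
    by_cases c3 : Commute a (d * b * d)
    · refine side _ hc hzc a ha c3 ?_
      rw [h.dl_eq_zero_iff, mul_smul, mul_smul, hdz, h.dl_eq_zero_iff.1 h2, hdz]
    have t : h.Tri d b a := ⟨hd, hb, ha, hnc, fun c => c1 c.symm, fun c => c2 c.symm, c3⟩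
    obtain ⟨k1, k2, -⟩ := h.zeta_commute₃ t
    refine h.tri_fix t (by rw [mul_smul, h.dl_eq_zero_iff.1 h2, hdz]) (uniq _ ?_ ?_ ?_)
    · have := hconj (zeta d b a) d z hd hzd
      rwa [k1.eq, mul_inv_cancel_right] at this
    · have := hconj (zeta d b a) b z hb hzb
      rwa [k2.eq, mul_inv_cancel_right] at this
    · rw [h.dl_eq_zero_iff, ← mul_smul, ← k2.eq, mul_smul, h.dl_eq_zero_iff.1 h2]
  intro g
  have hg : g ∈ Subgroup.closure D := by rw [h.gen]; exact Subgroup.mem_top g
  induction hg using Subgroup.closure_induction with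
  | mem x hx => exact hDfix x hx
  | one => exact one_smul Q z
  | mul x y _ _ hx hy => rw [mul_smul, hy, hx]
  | inv x _ hx => rw [inv_smul_eq_iff, hx]

end Op

theorem uniqueClass_of_hom {G Q M : Type*} [Group G] [Finite G] [Group Q] [Finite Q]
    [AddCommGroup M] [DistribMulAction Q M] (π : G →* Q) (em : M → G) (hinj : Function.Injective em)
    (hemadd : ∀ u v, em (u + v) = em u * em v)
    (hemsmul : ∀ g v, em (π g • v) = g * em v * g⁻¹)
    (hker : ∀ g g' : G, π g = π g' → ∃ p, g' = g * em p) (hsur : Function.Surjective π)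
    (two : ∀ v : M, v + v = 0) (faithful : ∀ q : Q, (∀ v : M, q • v = v) → q = 1)
    (core : Cfsg.pCore 2 Q = ⊥) (hfix : ∀ z : M, (∀ q : Q, q • z = z) → z = 0)
    {D : Set G} (hD : Cfsg.IsThreeTranspositionClass D) {E : Set G}
    (hE : Cfsg.IsThreeTranspositionClass E) : E = D := by
  have em0 : em 0 = 1 := by
    have := hemadd 0 0
    rw [add_zero] at this
    exact mul_eq_left.1 this.symm
  have emsq : ∀ v, em v * em v = 1 := fun v => by rw [← hemadd, two, em0]
  have eminv : ∀ v, (em v)⁻¹ = em v := fun v => inv_eq_self (emsq v)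
  have emker : ∀ v, π (em v) = 1 := by
    intro v
    refine faithful _ fun w => hinj ?_
    rw [hemsmul, mul_inv_eq_iff_eq_mul, ← hemadd, ← hemadd, add_comm]
  have hsq2 : ∀ (d : G) (w : M), d * d = 1 → (d * em w) * (d * em w) = 1 → π d • w = w := by
    intro d w hd hw
    apply hinj
    rw [hemsmul, inv_eq_self hd]
    have := eq_inv_of_mul_eq_one_left (by simpa [mul_assoc] using hw : d * em w * d * em w = 1)
    rwa [eminv] at this
  have cube : ∀ (g : G) (t : M), g ^ 3 = 1 → (g * em t) ^ 3 = 1 →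
      t + π g • t + π g⁻¹ • t = 0 := by
    intro g t hg ht
    apply hinj
    rw [hemadd, hemadd, hemsmul, hemsmul, em0, inv_inv]
    have hg2 : g * g = g⁻¹ := by
      refine eq_inv_of_mul_eq_one_left ?_
      rw [← hg, pow_succ, pow_two]
    calc em t * (g * em t * g⁻¹) * (g⁻¹ * em t * g)
        = em t * (g * em t * g⁻¹) * ((g * g) * em t * (g * g)⁻¹) := by rw [hg2, inv_inv]
      _ = em t * ((g * em t) ^ 3 * (em t)⁻¹ * (g ^ 3)⁻¹) := by
          simp only [pow_succ, pow_zero, one_mul, mul_inv_rev]; group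
      _ = 1 := by rw [ht, hg, one_mul, inv_one, mul_one, eminv, emsq]
  have main : ∀ S : Set G, Cfsg.IsThreeTranspositionClass S →
      Op Q M (π '' S) ∧ ∀ d ∈ S, ∀ p : M, d * em p ∈ S → InIm (π d) p := by
    intro S hS
    have tt := isTT_of_class hS
    obtain ⟨-, ⟨s₀, hs₀, hcl⟩, hgen⟩ := hS
    have hne : ∀ d ∈ S, π d ≠ 1 := by
      intro d hd h1
      have hall : ∀ s ∈ S, π s = 1 := by
        intro s hs
        rw [hcl] at hd hs
        obtain ⟨g, rfl⟩ := isConj_iff.1 ((show IsConj s₀ d from hd).symm.trans hs)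
        rw [map_mul, map_mul, h1, mul_one, ← map_mul, mul_inv_cancel, map_one]
      have htriv : ∀ g : G, π g = 1 := fun g => by
        have hle : Subgroup.closure S ≤ π.ker := (Subgroup.closure_le _).2 hall
        rw [hgen] at hle
        exact hle (Subgroup.mem_top g)
      have hM : ∀ v : M, v = 0 := fun v => hfix v fun q => by
        obtain ⟨g, rfl⟩ := hsur q
        rw [htriv, one_smul]
      obtain ⟨p, hp⟩ := hker 1 d (by rw [map_one, h1])
      rw [hM p, em0, one_mul] at hp
      exact tt.ne_one d hd hp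
    have tt' : IsTT (π '' S) := by
      refine ⟨?_, ?_, ?_, ?_⟩
      · rintro _ ⟨d, hd, rfl⟩; rw [← map_mul, tt.sq d hd, map_one]
      · rintro _ ⟨d, hd, rfl⟩; exact hne d hd
      · rintro _ ⟨d, hd, rfl⟩ _ ⟨b, hb, rfl⟩
        rcases tt.cond d hd b hb with hc | hc
        · exact Or.inl (hc.map π)
        · exact Or.inr (by rw [← map_mul, ← map_mul, ← map_mul, ← map_mul, hc])
      · rintro g _ ⟨d, hd, rfl⟩
        obtain ⟨g', rfl⟩ := hsur g
        exact ⟨g' * d * g'⁻¹, tt.conj g' d hd, by rw [map_mul, map_mul, map_inv]⟩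
    have lift_comm : ∀ d ∈ S, ∀ b ∈ S, π d ≠ π b → Commute (π d) (π b) → Commute d b := by
      intro d hd b hb hdb hc
      by_contra hn
      apply hdb
      have h3 : (π d * π b) ^ 3 = 1 := by
        rw [← map_mul, ← map_pow, pow_three_eq_one (tt.sq d hd) (tt.sq b hb) (tt.braid hd hb hn),
          map_one]
      have h2 : (π d * π b) ^ 2 = 1 := by
        rw [hc.mul_pow, pow_two, pow_two, ← map_mul, ← map_mul, tt.sq d hd, tt.sq b hb, map_one,
          one_mul]
      rw [pow_succ, h2, one_mul] at h3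
      rw [eq_inv_of_mul_eq_one_left h3, ← map_inv, inv_eq_self (tt.sq b hb)]
    have base : ∀ d ∈ S, ∀ b ∈ S, ¬Commute (π d) (π b) → ∀ w : M, d * em w ∈ S →
        dl (π d) (dl (π b) w) = w := by
      intro d hd b hb hn w hw
      have hn1 : ¬Commute b d := fun c => hn (c.map π).symm
      have hdw : π d • w = w := hsq2 d w (tt.sq d hd) (tt.sq _ hw)
      have hn2 : ¬Commute b (d * em w) := fun c => hn (by
        have := c.map π
        rw [map_mul, emker, mul_one] at this
        exact this.symm)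
      have h1 := cube (b * d) w
        (pow_three_eq_one (tt.sq b hb) (tt.sq d hd) (tt.braid hb hd hn1)) (by
          rw [mul_assoc]
          exact pow_three_eq_one (tt.sq b hb) (tt.sq _ hw) (tt.braid hb hw hn2))
      rw [mul_inv_rev, tt.inv_eq hd, tt.inv_eq hb, map_mul, map_mul, mul_smul, mul_smul, hdw] at h1
      calc dl (π d) (dl (π b) w) = π d • π b • w + π d • w + (π b • w + w) := by
            rw [dl, dl, smul_add]
        _ = (w + π b • w + π d • π b • w) + w := by rw [hdw]; abel
        _ = w := by rw [h1, zero_add]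
    have conj_eq : ∀ d ∈ S, ∀ v : M, em v * d * (em v)⁻¹ = d * em (dl (π d) v) := by
      intro d hd v
      rw [dl, hemadd, hemsmul, eminv, tt.inv_eq hd]
      simp only [← mul_assoc, tt.sq d hd, one_mul]
    refine ⟨⟨tt', ?_, two, faithful, core, ?_, ?_⟩, ?_⟩
    · rw [← MonoidHom.map_closure, hgen, Subgroup.map_top_of_surjective π hsur]
    · rintro _ ⟨d, hd, rfl⟩ _ ⟨b, hb, rfl⟩ hdb hc v
      have hb' : b * em (dl (π b) v) ∈ S := by
        rw [← conj_eq b hb]; exact tt.conj _ b hb
      have c1 := lift_comm d hd b hb hdb hc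
      have c2 : Commute d (b * em (dl (π b) v)) :=
        lift_comm d hd _ hb' (by rwa [map_mul, emker, mul_one]) (by rwa [map_mul, emker, mul_one])
      have c3 : Commute d (em (dl (π b) v)) := by
        have := c1.mul_right c2
        rwa [← mul_assoc, tt.sq b hb, one_mul] at this
      have hfixd : π d • dl (π b) v = dl (π b) v := by
        apply hinj
        rw [hemsmul, c3.eq, mul_inv_cancel_right]
      show π d • dl (π b) v + dl (π b) v = 0
      rw [hfixd, two]
    · rintro _ ⟨d, hd, rfl⟩ _ ⟨b, hb, rfl⟩ hn v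
      exact base d hd b hb hn _ (by rw [← conj_eq d hd]; exact tt.conj _ d hd)
    · intro d hd p hp
      obtain ⟨_, ⟨b, hb, rfl⟩, hn⟩ : ∃ q ∈ π '' S, ¬Commute (π d) q := by
        by_contra hne'
        push Not at hne'
        have hcl' : Subgroup.closure (π '' S) ≤ Subgroup.centralizer ({π d} : Set Q) :=
          (Subgroup.closure_le _).2 fun q hq =>
            Subgroup.mem_centralizer_singleton_iff.2 (hne' q hq).symm.eq
        rw [← MonoidHom.map_closure, hgen, Subgroup.map_top_of_surjective π hsur] at hcl'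
        have hcen : π d ∈ Subgroup.center Q := Subgroup.mem_center_iff.2 fun g =>
          Subgroup.mem_centralizer_singleton_iff.1 (hcl' (Subgroup.mem_top g))
        haveI : (Subgroup.zpowers (π d)).Normal := ⟨fun n hn g => by
          have := Subgroup.mem_center_iff.1 (Subgroup.zpowers_le.2 hcen hn)
          rw [this g, mul_inv_cancel_right]
          exact hn⟩
        have hp2 : IsPGroup 2 (Subgroup.zpowers (π d)) := by
          rintro ⟨x, k, rfl⟩
          refine ⟨1, Subtype.ext ?_⟩
          simp only [pow_one, Subgroup.coe_pow, Subgroup.coe_one]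
          rw [← zpow_natCast, ← zpow_mul, mul_comm, zpow_mul]
          simp [pow_two, ← map_mul, tt.sq d hd]
        have := CfsgLib.Cores.le_pCore hp2 (Subgroup.mem_zpowers (π d))
        rw [core, Subgroup.mem_bot] at this
        exact hne d hd this
      exact ⟨_, (base d hd b hb hn p hp).symm⟩
  obtain ⟨hDo, hDc⟩ := main D hD
  obtain ⟨hEo, hEc⟩ := main E hE
  have ttD := isTT_of_class hD
  have ttE := isTT_of_class hE
  obtain ⟨-, ⟨d₀, hd₀, hclD⟩, -⟩ := hD
  obtain ⟨-, ⟨e₀, he₀, hclE⟩, -⟩ := hE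
  -- every member has a translate in the other class
  have hex : ∀ d ∈ D, ∃ w, d * em w ∈ E := by
    intro d hd
    obtain ⟨d₁, hd₁, e₁⟩ := hDo.mem_of_mem hEo ⟨e₀, he₀, rfl⟩
    obtain ⟨g, hg⟩ : ∃ g, g * d₁ * g⁻¹ = d := by
      rw [hclD] at hd hd₁
      exact isConj_iff.1 ((show IsConj d₀ d₁ from hd₁).symm.trans hd)
    obtain ⟨w, hw⟩ := hker d₁ e₀ e₁
    refine ⟨π g • w, ?_⟩
    rw [hemsmul, ← hg]
    have := ttE.conj g e₀ he₀
    rw [hw] at this
    simpa [mul_assoc] using this
  let P : Q → M → Prop := fun q z =>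
    ∃ d ∈ D, π d = q ∧ ∃ w, d * em w ∈ E ∧ InIm q (w + z)
  have hconj : ∀ (g q : Q) (z : M), q ∈ π '' D → P q z → P (g * q * g⁻¹) (g • z) := by
    rintro g _ z - ⟨d, hd, rfl, w, hw, him⟩
    obtain ⟨g, rfl⟩ := hsur g
    refine ⟨g * d * g⁻¹, ttD.conj g d hd, by rw [map_mul, map_mul, map_inv], π g • w, ?_, ?_⟩
    · rw [hemsmul]
      simpa [mul_assoc] using ttE.conj g _ hw
    · rw [← smul_add]
      exact him.smul (π g)
  have hadd : ∀ (q : Q) (z z' : M), q ∈ π '' D → P q z → P q z' → InIm q (z + z') := by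
    rintro _ z z' - ⟨d, hd, rfl, w, hw, him⟩ ⟨d', hd', e', w', hw', him'⟩
    obtain ⟨p, rfl⟩ := hker d d' e'.symm
    have hp : InIm (π d) p := hDc d hd p hd'
    have hE' : InIm (π d) (w + p + w') := by
      have e1 : d * em w * em (w + p + w') = d * em p * em w' := by
        rw [hemadd, hemadd, mul_assoc d (em w), ← mul_assoc (em w), ← mul_assoc (em w), emsq,
          one_mul, mul_assoc]
      have := hEc (d * em w) hw (w + p + w') (by rw [e1]; exact hw')
      rwa [map_mul, emker, mul_one] at this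
    have htot := ((him.add him').add hE').add hp
    rw [show w + z + (w' + z') + (w + p + w') + p = z + z' + ((w + w) + (w' + w') + (p + p)) by
      abel] at htot
    simpa only [two, add_zero] using htot
  -- a non-commuting pair
  obtain ⟨d, hd, b, hb, hn⟩ : ∃ d ∈ D, ∃ b ∈ D, ¬Commute (π d) (π b) := by
    by_contra hne
    push Not at hne
    have := hDo.eq_one_of_central (ω := π d₀) (hDo.tt.sq _ ⟨d₀, hd₀, rfl⟩) (by
      rintro _ ⟨b, hb, rfl⟩; exact hne d₀ hd₀ b hb)
    exact hDo.tt.ne_one _ ⟨d₀, hd₀, rfl⟩ this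
  obtain ⟨w, hw⟩ := hex d hd
  obtain ⟨u, hu⟩ := hex b hb
  have hdw : π d • w = w := hsq2 d w (ttD.sq d hd) (ttE.sq _ hw)
  have hbu : π b • u = u := hsq2 b u (ttD.sq b hb) (ttE.sq _ hu)
  have hn' : ¬Commute d b := fun c => hn (c.map π)
  have hnE : ¬Commute (d * em w) (b * em u) := fun c => hn (by
    have := c.map π
    rwa [map_mul, map_mul, emker, emker, mul_one, mul_one] at this)
  have hsum := cube (d * b) (π b • w + u)
    (pow_three_eq_one (ttD.sq d hd) (ttD.sq b hb) (ttD.braid hd hb hn')) (by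
      have e1 : d * b * em (π b • w + u) = d * em w * (b * em u) := by
        rw [hemadd, hemsmul, ttD.inv_eq hb]
        simp only [mul_assoc, cancel₂ (ttD.sq b hb)]
      rw [e1]
      exact pow_three_eq_one (ttE.sq _ hw) (ttE.sq _ hu) (ttE.braid hw hu hnE))
  rw [mul_inv_rev, ttD.inv_eq hd, ttD.inv_eq hb, map_mul, map_mul, mul_smul, mul_smul,
    smul_add, smul_add, smul_add, smul_add, hbu, ← mul_smul (π b) (π b), ← map_mul, ttD.sq b hb,
    map_one, one_smul, hdw] at hsum
  have hbr : π b • π d • π b • w = π d • π b • w := by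
    rw [← mul_smul, ← mul_smul, ← map_mul, ← map_mul, ← ttD.braid hd hb hn', map_mul, map_mul,
      mul_smul, mul_smul, hdw]
  rw [hbr] at hsum
  have k1 : w + dl (π d) (dl (π b) w) = w + π b • w + π d • π b • w := by
    rw [dl, dl, smul_add, hdw]
    calc w + (π d • π b • w + w + (π b • w + w))
        = w + π b • w + π d • π b • w + (w + w) := by abel
      _ = _ := by rw [two, add_zero]
  have k2 : u + dl (π b) (dl (π d) u) = u + π d • u + π b • π d • u := by
    rw [dl, dl, smul_add, hbu]
    calc u + (π b • π d • u + u + (π d • u + u))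
        = u + π d • u + π b • π d • u + (u + u) := by abel
      _ = _ := by rw [two, add_zero]
  have hz : w + dl (π d) (dl (π b) w) = u + dl (π b) (dl (π d) u) := by
    refine hDo.eq_of_add_eq_zero ?_
    rw [k1, k2, ← hsum]
    abel
  set z := w + dl (π d) (dl (π b) w) with hzdef
  have hzd : P (π d) z := ⟨d, hd, rfl, w, hw, ⟨dl (π b) w, by
    rw [hzdef, ← add_assoc, two, zero_add]⟩⟩
  have hzb : P (π b) z := ⟨b, hb, rfl, u, hu, ⟨dl (π d) u, by
    rw [hz, ← add_assoc, two, zero_add]⟩⟩
  have z1 : dl (π d) z = 0 := by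
    rw [hzdef, dl_add, hDo.dl_dl ⟨d, hd, rfl⟩, add_zero, hDo.dl_eq_zero_iff, hdw]
  have z2 : dl (π b) z = 0 := by
    rw [hz, dl_add, hDo.dl_dl ⟨b, hb, rfl⟩, add_zero, hDo.dl_eq_zero_iff, hbu]
  have hz0 := hfix z (hDo.fixed_of_coset P hconj hadd ⟨d, hd, rfl⟩ ⟨b, hb, rfl⟩ hn hzd hzb z1 z2)
  obtain ⟨d', hd', hπ, w', hw', v, hv⟩ := hzd
  rw [hz0, add_zero] at hv
  have hin : d' * em w' ∈ D := by
    rw [hv, ← hπ, dl, hemadd, hemsmul, ttD.inv_eq hd']
    simp only [← mul_assoc, ttD.sq d' hd', one_mul]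
    have := ttD.conj (em v) d' hd'
    rwa [eminv] at this
  rw [hclE] at hw'
  rw [hclD] at hin
  rw [hclE, hclD]
  exact (isConj_iff_conjugatesOf_eq.1 (show IsConj e₀ _ from hw')).trans
    (isConj_iff_conjugatesOf_eq.1 (show IsConj d₀ _ from hin)).symm

theorem unique_class {G : Type*} [Group G] [Finite G] {D : Set G}
    (hD : Cfsg.IsThreeTranspositionClass D) (hZ : Subgroup.center G = ⊥)
    (hF : Cfsg.generalizedFittingSubgroup G = Cfsg.pCore 2 G)
    (hV : Cfsg.IsElementaryAbelian 2 (Cfsg.pCore 2 G)) :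
    ∀ E : Set G, Cfsg.IsThreeTranspositionClass E → E = D := by
  intro E hE
  set V := Cfsg.pCore 2 G with hVdef
  haveI hN : V.Normal := inferInstance
  haveI := hV.1
  have hcomm : ∀ a b : V, a * b = b * a := mul_comm'
  letI : CommGroup V := { (inferInstance : Group V) with mul_comm := hcomm }
  let c : G →* MulAut V := MulAut.conjNormal
  have hc : ∀ n : G, n ∈ V → c n = 1 := by
    intro n hn
    ext ⟨v, hv⟩
    show n * v * n⁻¹ = v
    rw [show n * v = v * n from congrArg Subtype.val (hcomm ⟨n, hn⟩ ⟨v, hv⟩),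
      mul_inv_cancel_right]
  let ψ : G ⧸ V →* MulAut V := QuotientGroup.lift V c hc
  let act : DistribMulAction (G ⧸ V) (Additive V) :=
    { smul := fun q v => Additive.ofMul (ψ q (Additive.toMul v))
      one_smul := fun v => by
        show Additive.ofMul (ψ 1 (Additive.toMul v)) = v
        rw [map_one]; rfl
      mul_smul := fun p q v => by
        show Additive.ofMul (ψ (p * q) (Additive.toMul v)) = _
        rw [map_mul]; rfl
      smul_zero := fun q => by
        show Additive.ofMul (ψ q (Additive.toMul (0 : Additive V))) = 0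
        rw [toMul_zero, map_one]; rfl
      smul_add := fun q u v => by
        show Additive.ofMul (ψ q (Additive.toMul (u + v))) = _
        rw [toMul_add, map_mul]; rfl }
  refine uniqueClass_of_hom (M := Additive V) (QuotientGroup.mk' V)
    (fun v => ((Additive.toMul v : V) : G)) (fun u v e => Subtype.ext e)
    (fun _ _ => rfl) (fun g v => rfl) ?_ (QuotientGroup.mk'_surjective V) ?_ ?_ ?_ ?_ hD hE
  · intro g g' e
    exact ⟨Additive.ofMul ⟨g⁻¹ * g', QuotientGroup.eq.1 e⟩, by simp⟩
  · intro v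
    apply Additive.toMul.injective
    apply Subtype.ext
    show ((Additive.toMul v : V) : G) * (Additive.toMul v : V) = 1
    rw [← pow_two]
    exact hV.2 _ (Additive.toMul v).2
  · intro q hq
    obtain ⟨g, rfl⟩ := QuotientGroup.mk'_surjective V q
    have hgc : g ∈ Subgroup.centralizer (V : Set G) := by
      rw [Subgroup.mem_centralizer_iff]
      intro x hx
      have e : g * x * g⁻¹ = x :=
        congrArg Subtype.val (congrArg Additive.toMul (hq (Additive.ofMul ⟨x, hx⟩)))
      exact (mul_inv_eq_iff_eq_mul.1 e).symm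
    have := CfsgLib.Cores.centralizer_generalizedFittingSubgroup_le (G := G)
    rw [hF] at this
    exact (QuotientGroup.eq_one_iff g).2 (this hgc)
  · exact CfsgLib.Cores.pCore_quotient_self 2
  · intro z hz
    have hzc : ((Additive.toMul z : V) : G) ∈ Subgroup.center G := by
      rw [Subgroup.mem_center_iff]
      intro g
      have e : g * ((Additive.toMul z : V) : G) * g⁻¹ = (Additive.toMul z : V) :=
        congrArg Subtype.val (congrArg Additive.toMul (hz (QuotientGroup.mk' V g)))
      exact mul_inv_eq_iff_eq_mul.1 e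
    rw [hZ, Subgroup.mem_bot] at hzc
    apply Additive.toMul.injective
    exact Subtype.ext hzc

end CfsgLib.ThreeTransp.OperatorCore
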