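import Cfsg.Agent.Lib.ThreeTransp.OperatorCore

/-!
# Two classes acting quadratically coincide
-/

set_option autoImplicit false

namespace CfsgLib.ThreeTransp.OperatorCore

open CfsgLib.ThreeTransp

variable {Q M : Type*} [Group Q] [AddCommGroup M] [DistribMulAction Q M]

theorem dl_smul_conj (g a : Q) (v : M) : dl (g * a * g⁻¹) (g • v) = g • dl a v := by
  simp [dl, smul_add, mul_smul]

namespace Op

variable {D E : Set Q} (h : Op Q M D)
include h

theorem eq_one_of_central [Finite Q] {ω : Q} (h2 : ω * ω = 1) (hc : ∀ d ∈ D, Commute ω d) :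
    ω = 1 := by
  have hcen : ω ∈ Subgroup.center Q := by
    rw [Subgroup.mem_center_iff]
    intro g
    have hg : g ∈ Subgroup.centralizer ({ω} : Set Q) := by
      have hle : Subgroup.closure D ≤ Subgroup.centralizer ({ω} : Set Q) := by
        rw [Subgroup.closure_le]
        intro d hd
        rw [SetLike.mem_coe, Subgroup.mem_centralizer_singleton_iff]
        exact (hc d hd).symm.eq
      rw [h.gen] at hle
      exact hle (Subgroup.mem_top g)
    exact Subgroup.mem_centralizer_singleton_iff.1 hg
  haveI : (Subgroup.zpowers ω).Normal := ⟨fun n hn g => by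
    have := Subgroup.zpowers_le.2 hcen hn
    rw [Subgroup.mem_center_iff] at this
    rw [this g, mul_assoc, mul_inv_cancel, mul_one]
    exact hn⟩
  have hp : IsPGroup 2 (Subgroup.zpowers ω) := by
    rintro ⟨x, k, rfl⟩
    refine ⟨1, Subtype.ext ?_⟩
    simp only [pow_one, Subgroup.coe_pow, Subgroup.coe_one]
    rw [← zpow_natCast, ← zpow_mul, mul_comm, zpow_mul]
    simp [pow_two, h2]
  have := CfsgLib.Cores.le_pCore hp (Subgroup.mem_zpowers ω)
  rwa [h.core, Subgroup.mem_bot] at this

theorem dl_conj {a b : Q} (ha : a ∈ D) (v : M) :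
    dl (a * b * a) v = dl b v + dl a (dl b v) + dl b (dl a v) + dl a (dl b (dl a v)) := by
  have e : dl (a * b * a) v = a • dl b (a • v) := by
    conv_lhs => rw [show v = a • (a • v) by rw [← mul_smul, h.tt.sq a ha, one_smul]]
    have := dl_smul_conj a b (a • v)
    rwa [h.tt.inv_eq ha] at this
  rw [e, h.smul_eq a, h.smul_eq a v, dl_add, dl_add]
  abel

/-- The projection onto the commutator space of `d b`. -/
def proj (_h : Op Q M D) (d b : Q) (v : M) : M := dl d (dl b v) + dl b (dl d v)

theorem proj_left {d b : Q} (hd : d ∈ D) (hb : b ∈ D) (hc : ¬Commute d b) {u : M}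
    (hu : InIm d u) : h.proj d b u = u := by
  obtain ⟨v, rfl⟩ := hu
  rw [proj, h.non d hd b hb hc v, h.dl_dl hd, dl_zero, add_zero]

theorem proj_right {d b : Q} (hd : d ∈ D) (hb : b ∈ D) (hc : ¬Commute d b) {u : M}
    (hu : InIm b u) : h.proj d b u = u := by
  obtain ⟨v, rfl⟩ := hu
  rw [proj, h.non b hb d hd (fun c => hc c.symm) v, h.dl_dl hb, dl_zero, zero_add]

theorem proj_third {d b : Q} (hd : d ∈ D) (hb : b ∈ D) (hc : ¬Commute d b) {u : M}
    (hu : InIm (d * b * d) u) : h.proj d b u = u := by
  obtain ⟨v, rfl⟩ := hu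
  have padd : ∀ x y : M, h.proj d b (x + y) = h.proj d b x + h.proj d b y := by
    intro x y; simp only [proj, dl_add]; abel
  rw [h.dl_conj hd, padd, padd, padd, h.proj_right hd hb hc ⟨_, rfl⟩,
    h.proj_left hd hb hc ⟨_, rfl⟩, h.proj_right hd hb hc ⟨_, rfl⟩,
    h.proj_left hd hb hc ⟨_, rfl⟩]

theorem proj_eq_zero {d b : Q} {v : M} (h1 : dl d v = 0) (h2 : dl b v = 0) :
    h.proj d b v = 0 := by
  rw [proj, h1, h2, dl_zero, dl_zero, add_zero]

/-- The sum over the powers of `d b`. -/
theorem sum_three {d b : Q} (v : M) :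
    v + (d * b) • v + (b * d) • v = v + h.proj d b v := by
  rw [mul_smul, mul_smul, h.smul_eq b v, h.smul_eq d v, h.smul_eq d (v + dl b v),
    h.smul_eq b (v + dl d v), proj, dl_add, dl_add]
  calc v + (v + dl b v + (dl d v + dl d (dl b v))) + (v + dl d v + (dl b v + dl b (dl d v)))
      = v + (dl d (dl b v) + dl b (dl d v)) + ((v + v) + (dl b v + dl b v) + (dl d v + dl d v)) := by
        abel
    _ = _ := by simp only [h.two, add_zero]

variable (h' : Op Q M E)
include h'

theorem proj_eq_proj {d b f e : Q} (hd : d ∈ D) (hb : b ∈ D) (hf : f ∈ E) (he : e ∈ E)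
    (hx : d * b = f * e) (v : M) : h.proj d b v = h'.proj f e v := by
  have e1 := h.sum_three (d := d) (b := b) v
  rw [← h.inv_mul hd hb, hx, h'.inv_mul hf he, h'.sum_three] at e1
  exact (add_left_cancel e1).symm

/-- `d` and `d ^ e` do not commute unless equal. -/
theorem not_commute_conj [Finite Q] {d e : Q} (hd : d ∈ D) (he : e ∈ E) (hde : ¬Commute d e) :
    ¬Commute d (e * d * e) := by
  intro hc
  have sd := h.tt.sq d hd
  have se := h'.tt.sq e he
  have hb : e * d * e ∈ D := by
    have := h.tt.conj e d hd; rwa [h'.tt.inv_eq he] at this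
  have hf : d * e * d ∈ E := by
    have := h'.tt.conj d e he; rwa [h.tt.inv_eq hd] at this
  have hne : d ≠ e * d * e := by
    intro e'
    apply hde
    show d * e = e * d
    conv_lhs => rw [e']
    simp only [mul_assoc, se, mul_one]
  have hne' : d * e * d ≠ e := by
    intro e'
    apply hde
    show d * e = e * d
    conv_rhs => rw [← e']
    simp only [mul_assoc, sd, mul_one]
  have hx : d * (e * d * e) = (d * e * d) * e := by simp only [mul_assoc]
  have hc' : Commute (d * e * d) e := by
    have h1 : (d * (e * d * e)) * (d * (e * d * e)) = 1 := by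
      rw [hc.symm.mul_mul_mul_comm, sd, h.tt.sq _ hb, one_mul]
    rw [hx] at h1
    have h2 := eq_inv_of_mul_eq_one_left h1
    rw [mul_inv_rev, h'.tt.inv_eq he, h'.tt.inv_eq hf] at h2
    exact h2
  have eB : ∀ v : M, dl (e * d * e) v = dl d v + dl e (dl d v) + dl d (dl e v) +
      dl e (dl d (dl e v)) := fun v => h'.dl_conj he v
  have eF : ∀ v : M, dl (d * e * d) v = dl e v + dl d (dl e v) + dl e (dl d v) +
      dl d (dl e (dl d v)) := fun v => h.dl_conj hd v
  have key : ∀ v : M, dl e (dl d (dl e v)) = dl d (dl e (dl d v)) := by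
    intro v
    have e1 : (d * (e * d * e)) • v = ((d * e * d) * e) • v := by rw [hx]
    rw [mul_smul d (e * d * e), mul_smul (d * e * d) e, h.smul_eq (e * d * e) v,
      h.smul_eq d (v + _), h.smul_eq e v, h.smul_eq (d * e * d) (v + _), dl_add, dl_add,
      h.com d hd _ hb hne hc, h'.com _ hf e he hne' hc', add_zero, add_zero,
      eB, eF] at e1
    have e2 : (v + (dl d v + dl e (dl d v) + dl d (dl e v) + dl e (dl d (dl e v))) + dl d v) +
        (v + dl e v + (dl e v + dl d (dl e v) + dl e (dl d v) + dl d (dl e (dl d v)))) = 0 := by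
      rw [e1, h.two]
    have e3 : dl e (dl d (dl e v)) + dl d (dl e (dl d v)) + ((v + v) + (dl d v + dl d v) +
        (dl e v + dl e v) + (dl e (dl d v) + dl e (dl d v)) +
        (dl d (dl e v) + dl d (dl e v))) = 0 := by
      rw [← e2]; abel
    simp only [h.two, add_zero] at e3
    exact h.eq_of_add_eq_zero e3
  have ded : ∀ v : M, dl d (dl e (dl d v)) = 0 := by
    intro v
    have e1 := h.com d hd _ hb hne hc v
    rw [eB, dl_add, dl_add, dl_add, h.dl_dl hd, h.dl_dl hd, key, h.dl_dl hd, zero_add,
      add_zero, add_zero] at e1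
    exact e1
  have hde0 : ∀ v : M, dl d (dl e v) = 0 := by
    intro v
    by_contra h0
    have hfix : dl e (dl d (dl e v)) = 0 := by rw [key, ded]
    have hI : InIm (e * d * e) (dl d (dl e v)) := by
      have := InIm.smul e (⟨_, rfl⟩ : InIm d (dl d (dl e v)))
      rwa [h'.tt.inv_eq he, h.smul_eq e, hfix, add_zero] at this
    exact hne (h.twins hd hb ⟨_, rfl⟩ hI h0)
  have hed0 : ∀ v : M, dl e (dl d v) = 0 := by
    intro v
    by_contra h0
    have hI : InIm (d * e * d) (dl e (dl d v)) := by
      have := InIm.smul d (⟨_, rfl⟩ : InIm e (dl e (dl d v)))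
      rwa [h.tt.inv_eq hd, h.smul_eq d (dl e (dl d v)), ded, add_zero] at this
    exact hne' (h'.twins hf he hI ⟨_, rfl⟩ h0)
  refine hne ((eq_inv_of_mul_eq_one_left (h.faithful _ fun v => ?_)).trans (h.tt.inv_eq hb))
  rw [mul_smul]
  have : dl (e * d * e) v = dl d v := by
    rw [eB, hed0, hde0, dl_zero, add_zero, add_zero, add_zero]
  rw [h.smul_eq (e * d * e) v, this, ← h.smul_eq d v, ← mul_smul, sd, one_smul]

/-- For `d` not commuting with `e`, the image of `e - 1` is seen in the triangle of `d`. -/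
theorem proj_inIm [Finite Q] {d e : Q} (hd : d ∈ D) (he : e ∈ E) (hde : ¬Commute d e) :
    (∀ v : M, h.proj d (e * d * e) v = h'.proj (d * e * d) e v) ∧
      ∀ u : M, InIm e u → h.proj d (e * d * e) u = u := by
  have hb : e * d * e ∈ D := by
    have := h.tt.conj e d hd; rwa [h'.tt.inv_eq he] at this
  have hf : d * e * d ∈ E := by
    have := h'.tt.conj d e he; rwa [h.tt.inv_eq hd] at this
  have hx : d * (e * d * e) = (d * e * d) * e := by simp only [mul_assoc]
  have hp := h.proj_eq_proj h' hd hb hf he hx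
  refine ⟨hp, fun u hu => ?_⟩
  rw [hp]
  refine h'.proj_right hf he ?_ hu
  intro hc
  apply h.not_commute_conj h' hd he hde
  have h1 : ((d * e * d) * e) * ((d * e * d) * e) = 1 := by
    rw [hc.symm.mul_mul_mul_comm, h'.tt.sq _ hf, h'.tt.sq e he, one_mul]
  rw [← hx] at h1
  have h2 := eq_inv_of_mul_eq_one_left h1
  rw [h.inv_mul hd hb] at h2
  exact h2

theorem exists_meet [Finite Q] {d e : Q} (hd : d ∈ D) (he : e ∈ E) (hde : ¬Commute d e) :
    ∃ u : M, u ≠ 0 ∧ InIm (d * (e * d * e) * d) u ∧ InIm e u := by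
  have hb : e * d * e ∈ D := by
    have := h.tt.conj e d hd; rwa [h'.tt.inv_eq he] at this
  have hnc := h.not_commute_conj h' hd he hde
  have hcm := h.tt.cj_mem hd hb
  set c := d * (e * d * e) * d with hcdef
  have hec : e * c * e⁻¹ = c := by
    rw [h'.tt.inv_eq he]
    conv_rhs => rw [hcdef, h.tt.braid hd hb hnc]
    rw [hcdef]
    simp only [mul_assoc, cancel₂ (h'.tt.sq e he), h'.tt.sq e he, mul_one]
  obtain ⟨v, hv⟩ : ∃ v : M, dl c v ≠ 0 := by
    by_contra hne
    push Not at hne
    exact h.tt.ne_one c hcm (h.faithful c fun v => h.dl_eq_zero_iff.1 (hne v))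
  by_cases h0 : dl e (dl c v) = 0
  · obtain ⟨hp, -⟩ := h.proj_inIm h' hd he hde
    have e1 := hp (dl c v)
    rw [h.proj_third hd hb hnc ⟨v, rfl⟩, Op.proj, h0, dl_zero, zero_add] at e1
    exact ⟨dl c v, hv, ⟨v, rfl⟩, ⟨_, e1⟩⟩
  · refine ⟨dl e (dl c v), h0, ?_, ⟨_, rfl⟩⟩
    refine InIm.add ?_ ⟨v, rfl⟩
    have := InIm.smul e (⟨v, rfl⟩ : InIm c (dl c v))
    rwa [hec] at this

/-- Commuting sets of a member of `D` and a member of `E` with meeting root groups. -/
theorem commute_of_meet [Finite Q] {c e g : Q} (hc : c ∈ D) (he : e ∈ E) (hg : g ∈ D) {u : M}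
    (huc : InIm c u) (hue : InIm e u) (h0 : u ≠ 0) (hcg : Commute c g) : Commute e g := by
  have hfix : g • u = u := h.dl_eq_zero_iff.1 (h.dl_inIm hc hg hcg huc)
  have hI : InIm (g * e * g⁻¹) u := by
    have := hue.smul g; rwa [hfix] at this
  have hge : g * e * g⁻¹ = e := h'.twins (h'.tt.conj g e he) he hI hue h0
  exact (mul_inv_eq_iff_eq_mul.1 hge).symm

/-- The third point of every triangle of `e` is the same member `c`. -/
theorem third_eq [Finite Q] {c e d : Q} (hc : c ∈ D) (he : e ∈ E) {u : M} (huc : InIm c u)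
    (hue : InIm e u) (h0 : u ≠ 0) (hd : d ∈ D) (hde : ¬Commute d e) :
    d * (e * d * e) * d = c := by
  have se := h'.tt.sq e he
  have sd := h.tt.sq d hd
  have hec : Commute e c := h.commute_of_meet h' hc he hc huc hue h0 (Commute.refl c)
  have hdc : ¬Commute c d := fun x => hde (h.commute_of_meet h' hc he hd huc hue h0 x).symm
  obtain ⟨hp, hpim⟩ := h.proj_inIm h' hd he hde
  have hb : e * d * e ∈ D := by
    have := h.tt.conj e d hd; rwa [h'.tt.inv_eq he] at this
  have hnc := h.not_commute_conj h' hd he hde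
  have hbe : ¬Commute (e * d * e) e := by
    intro x
    apply hde
    have x' := x.eq
    simp only [mul_assoc, cancel₂ se, se, mul_one] at x'
    exact x'.symm
  have hbc : ¬Commute c (e * d * e) := fun x =>
    hbe (h.commute_of_meet h' hc he hb huc hue h0 x).symm
  set b := e * d * e with hbdef
  have hc' := h.tt.cj_mem hd hb
  by_cases hcc : Commute c (d * b * d)
  · have hu2 : InIm (d * c * d) (u + dl d u) := by
      have := huc.smul d
      rwa [h.tt.inv_eq hd, h.smul_eq] at this
    have hcm : Commute (d * c * d) b := by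
      have x := (Commute.conj_iff d).mpr hcc
      rw [h.tt.inv_eq hd] at x
      have e' : d * (d * b * d) * d = b := by simp only [mul_assoc, cancel₂ sd, sd, mul_one]
      rwa [e'] at x
    have hB : dl b u = dl b (dl d u) := by
      have := h.dl_inIm (h.tt.cj_mem hd hc) hb hcm hu2
      rw [dl_add] at this
      exact h.eq_of_add_eq_zero this
    have hv : dl d (u + dl d u + dl b (dl d u)) = 0 ∧ dl b (u + dl d u + dl b (dl d u)) = 0 := by
      constructor
      · rw [dl_add, dl_add, h.dl_dl hd, h.non d hd b hb hnc, add_zero, h.two]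
      · rw [dl_add, dl_add, h.dl_dl hb, hB, h.two, add_zero]
    have hz : u + dl d u + dl b (dl d u) = 0 := by
      have e1 := h.proj_eq_zero (d := d) (b := b) hv.1 hv.2
      have padd : ∀ x y : M, h.proj d b (x + y) = h.proj d b x + h.proj d b y := by
        intro x y; simp only [Op.proj, dl_add]; abel
      rwa [padd, padd, hpim u hue, h.proj_left hd hb hnc ⟨_, rfl⟩,
        h.proj_right hd hb hnc ⟨_, rfl⟩] at e1
    have hu' : u = b • dl d u := by
      rw [h.smul_eq b]
      rw [add_assoc] at hz
      exact h.eq_of_add_eq_zero hz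
    have hI : InIm (b * d * b⁻¹) u := by
      rw [hu']
      exact InIm.smul b ⟨u, rfl⟩
    rw [h.tt.inv_eq hb, ← h.tt.braid hd hb hnc] at hI
    exact h.twins hc' hc hI huc h0
  · exfalso
    have t : h.Tri d b c := ⟨hd, hb, hc, hnc, fun x => hdc x.symm, fun x => hbc x.symm, hcc⟩
    obtain ⟨c1, c2, -⟩ := h.zeta_commute₃ t
    set z := zeta d b c with hzdef
    have hf : d * e * d ∈ E := by
      have := h'.tt.conj d e he; rwa [h.tt.inv_eq hd] at this
    have hfe : ¬Commute (d * e * d) e := by
      intro x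
      apply hnc
      have h1 : ((d * e * d) * e) * ((d * e * d) * e) = 1 := by
        rw [x.symm.mul_mul_mul_comm, h'.tt.sq _ hf, se, one_mul]
      have hx : d * b = (d * e * d) * e := by simp only [hbdef, mul_assoc]
      rw [← hx] at h1
      have h2 := eq_inv_of_mul_eq_one_left h1
      rw [h.inv_mul hd hb] at h2
      exact h2
    have hez : e * z * e = z⁻¹ := by
      have e1 : e * z * e = zeta b d c := by
        have e2 : e * z * e = (e * d * e) * (e * b * e) * (e * c * e) *
            ((e * d * e) * (e * b * e) * (e * c * e)) := by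
          simp only [hzdef, zeta, mul_assoc, cancel₂ se]
        rw [e2]
        have x1 : e * b * e = d := by simp only [hbdef, mul_assoc, cancel₂ se, se, mul_one]
        have x2 : e * c * e = c := by rw [hec.eq, mul_assoc, se, mul_one]
        rw [x1, x2, ← hbdef]
        rfl
      rw [e1, hzdef, h.zeta_eq_rot t, h.zeta_eq_rot (Op.Tri.rot h t)]
      simp only [zeta, mul_inv_rev, h.tt.inv_eq hd, h.tt.inv_eq hb, h.tt.inv_eq hc, mul_assoc]
    have hz3 : z ^ 3 = 1 := h.zeta_pow t
    have fixz : ∀ v : M, (d * b) • v = v → z • v = v := by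
      intro v hv
      have efix : ∀ w : M, (d * b) • w = w → e • w = w := by
        intro w hw
        have hx : d * b = (d * e * d) * e := by simp only [hbdef, mul_assoc]
        rw [hx] at hw
        exact h'.dl_eq_zero_iff.1 (h'.fix_of_mul hf he hfe hw).2
      have hzv : (d * b) • (z • v) = z • v := by
        rw [← mul_smul, ← (c1.mul_right c2).eq, mul_smul, hv]
      have e1 := efix _ hzv
      have e2 : z⁻¹ • v = z • v := by
        rw [← hez, mul_smul, efix v hv, mul_smul, e1]
      rw [inv_smul_eq_iff, ← mul_smul] at e2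
      calc z • v = z • ((z * z) • v) := by rw [← e2]
        _ = v := by rw [← mul_smul, ← mul_assoc, ← pow_two, ← pow_succ, hz3, one_smul]
    have hfix' : ∀ v : M, (c * (d * b) * c) • v = v → z • v = v := by
      intro v hv
      have h1 : (d * b) • (c • v) = c • v := by
        conv_rhs => rw [← hv]
        simp only [← mul_smul, mul_assoc, cancel₂ (h.tt.sq c hc)]
      have h2 := fixz _ h1
      rw [← mul_smul, (h.zeta_commute₃ t).2.2.eq, mul_smul] at h2
      exact MulAction.injective c h2
    have hfix'' : ∀ v : M, ((d * b) * z) • v = v → z • v = v := by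
      intro v hv
      have h1 : (c * (d * b) * c) • (d • v) = d • v := by
        rw [h.conj_mul hd hb, ← hzdef, h.inv_mul hd hb, ← mul_smul]
        conv_rhs => rw [← hv, ← mul_smul]
        congr 1
        rw [mul_assoc (b * d), c1.eq]
        simp only [mul_assoc, cancel₂ sd]
      have h2 := hfix' _ h1
      rw [← mul_smul, c1.eq, mul_smul] at h2
      exact MulAction.injective d h2
    have hx3 : (d * b) ^ 3 = 1 :=
      pow_three_eq_one sd (h.tt.sq b hb) (h.tt.braid hd hb hnc)
    have hone : z = 1 := by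
      refine eq_one_of_four (x := d * b) ((c1.mul_right c2).symm) hz3 hx3 h.two h.faithful fixz
        hfix'' ?_
      intro v hv
      apply hfix'
      have zi : (z ^ 2)⁻¹ = z :=
        inv_eq_of_mul_eq_one_right (by rw [← pow_succ, hz3])
      have hcz : Commute (d * b)⁻¹ z := ((c1.mul_right c2).symm).inv_left
      rw [h.conj_mul hd hb, ← hzdef,
        show (d * b)⁻¹ * z = (d * b * z ^ 2)⁻¹ by rw [mul_inv_rev (d * b) (z ^ 2), zi]; exact hcz.eq,
        inv_smul_eq_iff, hv]
    exact h.zeta_ne_one t hone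

/-- The two classes meet. -/
theorem mem_of_mem [Finite Q] {e : Q} (he : e ∈ E) : e ∈ D := by
  have se := h'.tt.sq e he
  obtain ⟨d₀, hd₀, hde₀⟩ : ∃ d ∈ D, ¬Commute d e := by
    by_contra hne
    push Not at hne
    exact h'.tt.ne_one e he (h.eq_one_of_central se fun d hd => (hne d hd).symm)
  obtain ⟨u, h0, huc, hue⟩ := h.exists_meet h' hd₀ he hde₀
  have hb₀ : e * d₀ * e ∈ D := by
    have := h.tt.conj e d₀ hd₀; rwa [h'.tt.inv_eq he] at this
  set c := d₀ * (e * d₀ * e) * d₀ with hcdef
  have hc : c ∈ D := h.tt.cj_mem hd₀ hb₀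
  have sc := h.tt.sq c hc
  have hec : Commute e c := h.commute_of_meet h' hc he hc huc hue h0 (Commute.refl c)
  have hne : ∀ d ∈ D, ¬Commute c d → ¬Commute d e := by
    intro d hd hcd hde
    have hdu : d • u ≠ 0 := fun x => h0 (by
      have := congrArg (d • ·) x
      simpa [← mul_smul, h.tt.sq d hd] using this)
    have hI1 : InIm (d * c * d⁻¹) (d • u) := huc.smul d
    have hI2 : InIm e (d • u) := by
      have := hue.smul d
      rwa [show d * e * d⁻¹ = e by rw [hde.eq, mul_inv_cancel_right]] at this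
    have e1 := h.third_eq h' (h.tt.conj d c hc) he hI1 hI2 hdu hd₀ hde₀
    rw [← hcdef] at e1
    exact hcd (mul_inv_eq_iff_eq_mul.1 e1.symm).symm
  have hω : e * c = 1 := by
    refine h.eq_one_of_central (by rw [hec.symm.mul_mul_mul_comm, se, sc, one_mul]) fun d hd => ?_
    by_cases hcd : Commute c d
    · exact (h.commute_of_meet h' hc he hd huc hue h0 hcd).mul_left hcd
    · have hde := hne d hd hcd
      have e1 := h.third_eq h' hc he huc hue h0 hd hde
      have hcdc : c * d * c = e * d * e := by
        rw [← h.tt.braid hd hc (fun x => hcd x.symm), ← e1]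
        simp only [mul_assoc, cancel₂ (h.tt.sq d hd), h.tt.sq d hd, mul_one]
      show e * c * d = d * (e * c)
      calc e * c * d = e * (c * d * c) * c := by simp only [mul_assoc, sc, mul_one]
        _ = e * (e * d * e) * c := by rw [hcdc]
        _ = d * (e * c) := by simp only [mul_assoc, cancel₂ se]
  rw [eq_inv_of_mul_eq_one_left hω, h.tt.inv_eq hc]
  exact hc

end Op

end CfsgLib.ThreeTransp.OperatorCore
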